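import Mathlib
import Groth.Prelude.Def_CInt

/-!
# helper68: L2 for helper33's S3843 (flat modules commute with `g`-torsion)
-/

set_option autoImplicit false
universe u

open TensorProduct AlgebraicGeometry CategoryTheory TopologicalSpace

namespace Groth.Agent.Lib.Helper68.SDL2

variable {A : Type u} [CommRing A]

theorem L2 (M : Type u) [AddCommGroup M] [Module A M] [Module.Flat A M] (P : Type u)
    [AddCommGroup P] [Module A P] (g : A) :
    Function.Injective (LinearMap.rTensor M (LinearMap.ker (LinearMap.lsmul A P g)).subtype) ∧
    ∀ t : P ⊗[A] M, g • t = 0 →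
      ∃ t' : (LinearMap.ker (LinearMap.lsmul A P g)) ⊗[A] M,
        LinearMap.rTensor M (LinearMap.ker (LinearMap.lsmul A P g)).subtype t' = t := by
  refine ⟨Module.Flat.rTensor_preserves_injective_linearMap _ (Submodule.subtype_injective _), ?_⟩
  intro t ht
  have hex : Function.Exact (LinearMap.ker (LinearMap.lsmul A P g)).subtype
      (LinearMap.lsmul A P g) := by
    intro x
    constructor
    · intro hx
      exact ⟨⟨x, hx⟩, rfl⟩
    · rintro ⟨y, rfl⟩
      exact y.2
  have hex' := Module.Flat.rTensor_exact M hex
  have key : ∀ t : P ⊗[A] M, LinearMap.rTensor M (LinearMap.lsmul A P g) t = g • t := by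
    intro t
    induction t using TensorProduct.induction_on with
    | zero => simp
    | tmul x y => simp [TensorProduct.smul_tmul']
    | add x y hx hy => rw [map_add, smul_add, hx, hy]
  have : LinearMap.rTensor M (LinearMap.lsmul A P g) t = 0 := by
    rw [key, ht]
  exact (hex' t).mp this

end Groth.Agent.Lib.Helper68.SDL2
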