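import Groth.Agent.Lib.Helper68.RightDerivedLES
import Mathlib.Algebra.Homology.HomotopyCategory.Acyclic
import Mathlib.Algebra.Homology.HomotopyCategory.MappingCone
import Mathlib.Algebra.Homology.HomotopyCategory.Triangulated
import Mathlib.Algebra.Homology.Embedding.CochainComplex
import Mathlib.Algebra.Homology.HomotopyCategory.Plus

/-! Leray's acyclicity lemma, the homological algebra core: a left exact additive functor `F`
sends bounded below acyclic complexes with `F`-acyclic terms to acyclic complexes, and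
quasi-isomorphisms between bounded below complexes with `F`-acyclic terms to quasi-isomorphisms. -/

set_option autoImplicit false
universe v u v' u'

open CategoryTheory Category Limits

namespace Groth.Agent.Lib.Helper68.LerayAcyclic

open Groth.Agent.Lib.Helper68.RightDerivedLES

section Cone

variable {C : Type u} [Category.{v} C] [Abelian C]

open CochainComplex in
/-- a morphism of cochain complexes is a quasi-isomorphism iff its mapping cone is acyclic -/
lemma quasiIso_iff_acyclic_mappingCone {K L : CochainComplex C ℤ} (φ : K ⟶ L) :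
    QuasiIso φ ↔ (mappingCone φ).Acyclic := by
  have h1 := (HomotopyCategory.subcategoryAcyclic C).trW_iff_of_distinguished _
      (HomotopyCategory.mappingCone_triangleh_distinguished φ)
  have h2 := HomotopyCategory.quotient_obj_mem_subcategoryAcyclic_iff_acyclic (mappingCone φ)
  rw [← HomologicalComplex.mem_quasiIso_iff, ← HomotopyCategory.quotient_map_mem_quasiIso_iff,
    HomotopyCategory.quasiIso_eq_trW_subcategoryAcyclic]
  exact h1.trans h2

end Cone

variable {C : Type u} [Category.{v} C] [Abelian C] [HasInjectiveResolutions C]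
variable {D : Type u'} [Category.{v'} D] [Abelian D] (F : C ⥤ D) [F.Additive]

open CochainComplex in
/-- the terms of the mapping cone of a morphism between complexes with `F`-acyclic terms are
`F`-acyclic -/
lemma isZero_rightDerived_mappingCone_X {K L : CochainComplex C ℤ} (φ : K ⟶ L) (i : ℕ)
    (hK : ∀ m, IsZero ((F.rightDerived i).obj (K.X m)))
    (hL : ∀ m, IsZero ((F.rightDerived i).obj (L.X m))) (m : ℤ) :
    IsZero ((F.rightDerived i).obj ((mappingCone φ).X m)) := by
  rw [IsZero.iff_id_eq_zero, ← CategoryTheory.Functor.map_id, ← mappingCone.id_X φ m (m + 1) rfl,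
    Functor.map_add, Functor.map_comp, Functor.map_comp,
    (hK (m + 1)).eq_of_tgt ((F.rightDerived i).map ((mappingCone.fst φ).1.v m (m + 1) rfl)) 0,
    (hL m).eq_of_tgt ((F.rightDerived i).map ((mappingCone.snd φ).v m m (add_zero m))) 0,
    zero_comp, zero_comp, add_zero]

variable [PreservesFiniteLimits F]

/-- a left exact functor sends a short exact sequence whose left term has no `R¹F` to an
epimorphism on the right -/
lemma epi_map_g {S : ShortComplex C} (hS : S.ShortExact)
    (h : IsZero ((F.rightDerived 1).obj S.X₁)) : Epi (F.map S.g) := by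
  have h0 : Epi ((F.rightDerived 0).map S.g) := (exact₃ F hS 0).epi_f (h.eq_of_tgt _ _)
  have e : F.map S.g = F.rightDerivedZeroIsoSelf.inv.app _ ≫ (F.rightDerived 0).map S.g ≫
      F.rightDerivedZeroIsoSelf.hom.app _ := by simp
  rw [e]
  infer_instance

variable (M : CochainComplex C ℤ)

/-- the short complex `cycles m ⟶ X m ⟶ X (m+1)` -/
noncomputable abbrev scCyc (m : ℤ) : ShortComplex C :=
  ShortComplex.mk (M.iCycles m) (M.d m (m + 1)) (by simp)

lemma scCyc_exact (m : ℤ) : (scCyc M m).Exact :=
  ShortComplex.exact_of_f_is_kernel _ (M.cyclesIsKernel m (m + 1) (by simp))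

/-- the short complex `cycles m ⟶ X m ⟶ cycles (m+1)` -/
noncomputable abbrev sesCyc (m : ℤ) : ShortComplex C :=
  ShortComplex.mk (M.iCycles m) (M.toCycles m (m + 1)) (by
    rw [← cancel_mono (M.iCycles (m + 1)), assoc, HomologicalComplex.toCycles_i, zero_comp,
      HomologicalComplex.iCycles_d])

lemma sesCyc_shortExact (hM : M.Acyclic) (m : ℤ) : (sesCyc M m).ShortExact := by
  have hex : (sesCyc M m).Exact := by
    let φ : sesCyc M m ⟶ scCyc M m :=
      { τ₁ := 𝟙 _
        τ₂ := 𝟙 _
        τ₃ := M.iCycles (m + 1)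
        comm₁₂ := by simp
        comm₂₃ := by simp }
    have h1 : Epi φ.τ₁ := by dsimp [φ]; infer_instance
    have h2 : IsIso φ.τ₂ := by dsimp [φ]; infer_instance
    have h3 : Mono φ.τ₃ := by dsimp [φ]; infer_instance
    exact (ShortComplex.exact_iff_of_epi_of_isIso_of_mono φ).2 (scCyc_exact M m)
  have hepi : Epi (M.toCycles m (m + 1)) := by
    have h := (M.exactAt_iff' m (m + 1) (m + 1 + 1) (by simp) (by simp)).1 (hM (m + 1))
    have e := M.toCycles_cyclesIsoSc'_hom m (m + 1) (m + 1 + 1) (by simp) (by simp)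
    have h1 : Epi (M.toCycles m (m + 1) ≫
        (M.cyclesIsoSc' m (m + 1) (m + 1 + 1) (by simp) (by simp)).hom) := by
      rw [e]
      exact h.epi_toCycles
    have h2 : Epi ((M.toCycles m (m + 1) ≫
        (M.cyclesIsoSc' m (m + 1) (m + 1 + 1) (by simp) (by simp)).hom) ≫
        (M.cyclesIsoSc' m (m + 1) (m + 1 + 1) (by simp) (by simp)).inv) := epi_comp _ _
    rwa [assoc, Iso.hom_inv_id, comp_id] at h2
  exact ShortComplex.ShortExact.mk' hex inferInstance hepi


lemma isZero_cycles_of_isZero (m : ℤ) (h : IsZero (M.X m)) : IsZero (M.cycles m) :=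
  IsZero.of_mono (M.iCycles m) h

/-- cycles of a bounded-below acyclic complex with `F`-acyclic terms are `F`-acyclic -/
lemma isZero_rightDerived_cycles_aux (hM : M.Acyclic) (n₀ : ℤ) [M.IsStrictlyGE n₀]
    (hX : ∀ (m : ℤ) (i : ℕ), 0 < i → IsZero ((F.rightDerived i).obj (M.X m))) :
    ∀ (k : ℕ) (m : ℤ), m = n₀ - 1 + k → ∀ (i : ℕ), 0 < i →
      IsZero ((F.rightDerived i).obj (M.cycles m)) := by
  intro k
  induction k with
  | zero =>
    intro m hm i _
    exact Functor.map_isZero _ (isZero_cycles_of_isZero M m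
      (M.isZero_of_isStrictlyGE n₀ m (by lia)))
  | succ k ih =>
    intro m hm i hi
    obtain rfl : m = (n₀ - 1 + k) + 1 := by rw [hm]; push_cast; lia
    exact isZero_right F (sesCyc_shortExact M hM (n₀ - 1 + k)) i (hX _ i hi)
      (ih _ rfl (i + 1) (Nat.succ_pos i))

lemma isZero_rightDerived_cycles (hM : M.Acyclic) (n₀ : ℤ) [M.IsStrictlyGE n₀]
    (hX : ∀ (m : ℤ) (i : ℕ), 0 < i → IsZero ((F.rightDerived i).obj (M.X m)))
    (m : ℤ) (i : ℕ) (hi : 0 < i) : IsZero ((F.rightDerived i).obj (M.cycles m)) := by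
  by_cases hm : m < n₀
  · exact Functor.map_isZero _ (isZero_cycles_of_isZero M m
      (M.isZero_of_isStrictlyGE n₀ m hm))
  · exact isZero_rightDerived_cycles_aux F M hM n₀ hX (m - n₀ + 1).toNat m
      (by rw [Int.toNat_of_nonneg (by lia)]; lia) i hi

/-- **Leray's acyclicity lemma** (acyclic complexes): a left exact functor sends a bounded below
acyclic complex with `F`-acyclic terms to an acyclic complex. -/
theorem acyclic_map (hM : M.Acyclic) (n₀ : ℤ) [M.IsStrictlyGE n₀]
    (hX : ∀ (m : ℤ) (i : ℕ), 0 < i → IsZero ((F.rightDerived i).obj (M.X m))) :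
    ((F.mapHomologicalComplex (ComplexShape.up ℤ)).obj M).Acyclic := by
  intro m'
  obtain ⟨m, rfl⟩ : ∃ m, m' = m + 1 := ⟨m' - 1, by lia⟩
  rw [HomologicalComplex.exactAt_iff' _ m (m + 1) (m + 1 + 1) (by simp) (by simp)]
  have hepi : Epi (F.map (M.toCycles m (m + 1))) :=
    epi_map_g F (sesCyc_shortExact M hM m) (isZero_rightDerived_cycles F M hM n₀ hX m 1 one_pos)
  let ψ : ShortComplex.mk (M.d m (m + 1)) (M.d (m + 1) (m + 1 + 1)) (M.d_comp_d _ _ _) ⟶
      scCyc M (m + 1) :=
    { τ₁ := M.toCycles m (m + 1)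
      τ₂ := 𝟙 (M.X (m + 1))
      τ₃ := 𝟙 (M.X (m + 1 + 1))
      comm₁₂ := by
        dsimp
        rw [HomologicalComplex.toCycles_i, comp_id]
      comm₂₃ := by
        dsimp
        rw [id_comp, comp_id] }
  have h1 : Epi (F.mapShortComplex.map ψ).τ₁ := hepi
  have h2 : IsIso (F.mapShortComplex.map ψ).τ₂ :=
    inferInstanceAs (IsIso (F.map (𝟙 (M.X (m + 1)))))
  have h3 : Mono (F.mapShortComplex.map ψ).τ₃ :=
    inferInstanceAs (Mono (F.map (𝟙 (M.X (m + 1 + 1)))))
  have h4 : ((scCyc M (m + 1)).map F).Exact :=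
    (scCyc_exact M (m + 1)).map_of_mono_of_preservesKernel F inferInstance inferInstance
  exact (ShortComplex.exact_iff_of_epi_of_isIso_of_mono (F.mapShortComplex.map ψ)).2 h4

/-- **Leray's acyclicity lemma** (quasi-isomorphisms): a left exact functor sends a
quasi-isomorphism between bounded below complexes with `F`-acyclic terms to a
quasi-isomorphism. -/
theorem quasiIso_map {K L : CochainComplex C ℤ} (φ : K ⟶ L) (hφ : QuasiIso φ) (a b : ℤ)
    [K.IsStrictlyGE a] [L.IsStrictlyGE b]
    (hK : ∀ (m : ℤ) (i : ℕ), 0 < i → IsZero ((F.rightDerived i).obj (K.X m)))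
    (hL : ∀ (m : ℤ) (i : ℕ), 0 < i → IsZero ((F.rightDerived i).obj (L.X m))) :
    QuasiIso ((F.mapHomologicalComplex (ComplexShape.up ℤ)).map φ) := by
  rw [quasiIso_iff_acyclic_mappingCone]
  have h1 : (CochainComplex.mappingCone φ).Acyclic := (quasiIso_iff_acyclic_mappingCone φ).1 hφ
  have : (CochainComplex.mappingCone φ).IsStrictlyGE (min (a - 1) b) :=
    CochainComplex.isStrictlyGE_mappingCone φ a b _ (by simp) (by simp)
  have h2 := acyclic_map F (CochainComplex.mappingCone φ) h1 (min (a - 1) b)
    (fun m i hi => isZero_rightDerived_mappingCone_X F φ i (fun m => hK m i hi)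
      (fun m => hL m i hi) m)
  intro m
  exact (h2 m).of_iso (CochainComplex.mappingCone.mapHomologicalComplexIso φ F)

end Groth.Agent.Lib.Helper68.LerayAcyclic
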