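import Groth.Agent.Lib.Helper68.InjLift

/-! A short complex admitting a resolution by a short exact sequence of injective resolutions
is short exact. -/

set_option autoImplicit false
universe v u

open CategoryTheory Category Limits

namespace Groth.Agent.Lib.Helper68.InjLift

open Groth.Agent.Lib.Helper68.InjHorseshoe

variable {C : Type u} [Category.{v} C] [Abelian C] {S : ShortComplex C} (T : RDer.SESRes S)

include T in
lemma mono_f_of_sesRes : Mono S.f := by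
  have h : Mono (S.f ≫ coaug T.I₂) := by
    rw [← coaug_f]
    infer_instance
  exact mono_of_mono S.f (coaug T.I₂)

include T in
lemma exact_of_sesRes : S.Exact := by
  rw [ShortComplex.exact_iff_exact_up_to_refinements]
  intro A z hz
  have h1 : (z ≫ coaug T.I₂) ≫ T.g.f 0 = 0 := by
    rw [assoc, coaug_g, reassoc_of% hz, zero_comp]
  have h2 : z ≫ coaug T.I₂ = (z ≫ coaug T.I₂ ≫ r T 0) ≫ T.f.f 0 := by
    have := congrArg (fun t => (z ≫ coaug T.I₂) ≫ t) (r_f_add_g_s T 0)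
    simp only [Preadditive.comp_add, comp_id] at this
    rw [← assoc (z ≫ coaug T.I₂) (T.g.f 0), h1, zero_comp, add_zero] at this
    rw [← this]
    simp only [assoc]
  have h3 : (z ≫ coaug T.I₂ ≫ r T 0) ≫ T.I₁.cocomplex.d 0 1 = 0 := by
    rw [← cancel_mono (T.f.f 1), assoc, ← f_d, ← assoc, ← h2, assoc, coaug_d, comp_zero,
      zero_comp]
  let b := (coaug_exact T.I₁).lift (z ≫ coaug T.I₂ ≫ r T 0) h3
  have hb : b ≫ coaug T.I₁ = z ≫ coaug T.I₂ ≫ r T 0 := (coaug_exact T.I₁).lift_f _ _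
  refine ⟨A, 𝟙 A, inferInstance, b, ?_⟩
  rw [id_comp, ← cancel_mono (coaug T.I₂), assoc, ← coaug_f, ← assoc, hb]
  exact h2

include T in
lemma epi_g_of_sesRes : Epi S.g := by
  rw [epi_iff_surjective_up_to_refinements]
  intro A x₃
  obtain ⟨y, hy_def⟩ : ∃ y, y = x₃ ≫ coaug T.I₃ ≫ s T 0 := ⟨_, rfl⟩
  have hy : y ≫ T.g.f 0 = x₃ ≫ coaug T.I₃ := by
    simp only [hy_def, assoc, s_g, comp_id]
  have h1 : (y ≫ T.I₂.cocomplex.d 0 1) ≫ T.g.f 1 = 0 := by
    rw [assoc, d_g, reassoc_of% hy, coaug_d, comp_zero]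
  obtain ⟨c, hc_def⟩ : ∃ c, c = y ≫ T.I₂.cocomplex.d 0 1 ≫ r T 1 := ⟨_, rfl⟩
  have hc : y ≫ T.I₂.cocomplex.d 0 1 = c ≫ T.f.f 1 := by
    have := congrArg (fun t => (y ≫ T.I₂.cocomplex.d 0 1) ≫ t) (r_f_add_g_s T 1)
    simp only [Preadditive.comp_add, comp_id] at this
    rw [← assoc (y ≫ T.I₂.cocomplex.d 0 1) (T.g.f 1), h1, zero_comp, add_zero] at this
    rw [← this]
    simp only [hc_def, assoc]
  have h2 : c ≫ T.I₁.cocomplex.d 1 2 = 0 := by
    rw [← cancel_mono (T.f.f 2), assoc, ← f_d, ← assoc, ← hc, assoc,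
      HomologicalComplex.d_comp_d, comp_zero, zero_comp]
  obtain ⟨A₁, π₁, hπ₁, e, he⟩ := (T.I₁.exact_succ 0).exact_up_to_refinements c h2
  dsimp at e he
  have h3 : (π₁ ≫ y - e ≫ T.f.f 0) ≫ T.I₂.cocomplex.d 0 1 = 0 := by
    rw [Preadditive.sub_comp, assoc, assoc, f_d, hc, ← assoc π₁, he, assoc, sub_self]
  obtain ⟨A₂, π₂, hπ₂, x₂, hx₂⟩ := (coaug_exact T.I₂).exact_up_to_refinements _ h3
  dsimp at x₂ hx₂
  refine ⟨A₂, π₂ ≫ π₁, inferInstance, x₂, ?_⟩
  have h4 : (x₂ ≫ S.g) ≫ coaug T.I₃ = (π₂ ≫ (π₁ ≫ y - e ≫ T.f.f 0)) ≫ T.g.f 0 := by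
    rw [hx₂, assoc, assoc, coaug_g]
  rw [← cancel_mono (coaug T.I₃), h4]
  simp only [assoc, Preadditive.sub_comp, Preadditive.comp_sub, f_g, comp_zero, sub_zero, hy]

include T in
/-- a short complex with a resolution by a short exact sequence of injective resolutions is
short exact -/
theorem shortExact_of_sesRes : S.ShortExact :=
  have := mono_f_of_sesRes T
  have := epi_g_of_sesRes T
  ShortComplex.ShortExact.mk (exact_of_sesRes T)

end Groth.Agent.Lib.Helper68.InjLift
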