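import Groth.Agent.Lib.Helper68.InjLES
import Groth.Agent.Lib.Helper68.InjLift4

/-! The long exact sequence of right derived functors computed from a resolution of a short
exact sequence, and the existence of the connecting morphisms of right derived functors. -/

set_option autoImplicit false
universe v u v' u'

open CategoryTheory Category Limits

namespace Groth.Agent.Lib.Helper68.InjLES

open Groth.Agent.Lib.Helper68.InjHorseshoe Groth.Agent.Lib.Helper68.InjLift

variable {C : Type u} [Category.{v} C] [Abelian C] [HasInjectiveResolutions C]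
  {D : Type u'} [Category.{v'} D] [Abelian D] (F : C ⥤ D) [F.Additive]
  {S : ShortComplex C} (T : RDer.SESRes S)

/-- the mapped short exact sequence of complexes -/
noncomputable abbrev mapSC : ShortComplex (CochainComplex D ℕ) :=
  T.cx.map (F.mapHomologicalComplex (ComplexShape.up ℕ))

/-- comparison isomorphism -/
noncomputable def iso₁ (n : ℕ) : (F.rightDerived n).obj S.X₁ ≅ (mapSC F T).X₁.homology n :=
  T.I₁.isoRightDerivedObj F n

/-- comparison isomorphism -/
noncomputable def iso₂ (n : ℕ) : (F.rightDerived n).obj S.X₂ ≅ (mapSC F T).X₂.homology n :=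
  T.I₂.isoRightDerivedObj F n

/-- comparison isomorphism -/
noncomputable def iso₃ (n : ℕ) : (F.rightDerived n).obj S.X₃ ≅ (mapSC F T).X₃.homology n :=
  T.I₃.isoRightDerivedObj F n

@[reassoc]
lemma sq₁ (n : ℕ) : (F.rightDerived n).map S.f ≫ (iso₂ F T n).hom =
    (iso₁ F T n).hom ≫ HomologicalComplex.homologyMap (mapSC F T).f n :=
  InjectiveResolution.isoRightDerivedObj_hom_naturality S.f T.I₁ T.I₂ T.f (coaug_f T) F n

@[reassoc]
lemma sq₂ (n : ℕ) : (F.rightDerived n).map S.g ≫ (iso₃ F T n).hom =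
    (iso₂ F T n).hom ≫ HomologicalComplex.homologyMap (mapSC F T).g n :=
  InjectiveResolution.isoRightDerivedObj_hom_naturality S.g T.I₂ T.I₃ T.g (coaug_g T) F n

lemma delta_eq (n₀ n₁ : ℕ) (h : n₀ + 1 = n₁) : T.delta F n₀ n₁ h =
    (iso₃ F T n₀).hom ≫ (T.map_shortExact F).δ n₀ n₁ h ≫ (iso₁ F T n₁).inv := rfl

include T in
lemma exact₂ (n : ℕ) :
    (ShortComplex.mk ((F.rightDerived n).map S.f) ((F.rightDerived n).map S.g)
      (by rw [← Functor.map_comp, S.zero, Functor.map_zero])).Exact :=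
  (ShortComplex.exact_iff_of_iso (ShortComplex.isoMk (iso₁ F T n)
    (iso₂ F T n) (iso₃ F T n)
    (sq₁ F T n).symm (sq₂ F T n).symm)).mpr
    ((T.map_shortExact F).homology_exact₂ n)

lemma comp_delta (n₀ n₁ : ℕ) (h : n₀ + 1 = n₁) :
    (F.rightDerived n₀).map S.g ≫ T.delta F n₀ n₁ h = 0 := by
  rw [delta_eq, sq₂_assoc, (T.map_shortExact F).comp_δ_assoc, zero_comp, comp_zero]

lemma delta_comp (n₀ n₁ : ℕ) (h : n₀ + 1 = n₁) :
    T.delta F n₀ n₁ h ≫ (F.rightDerived n₁).map S.f = 0 := by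
  rw [delta_eq, ← cancel_mono (iso₂ F T n₁).hom]
  simp only [assoc, zero_comp]
  rw [sq₁, Iso.inv_hom_id_assoc, (T.map_shortExact F).δ_comp, comp_zero]

lemma exact₃ (n₀ n₁ : ℕ) (h : n₀ + 1 = n₁) :
    (ShortComplex.mk ((F.rightDerived n₀).map S.g) (T.delta F n₀ n₁ h)
      (comp_delta F T n₀ n₁ h)).Exact :=
  (ShortComplex.exact_iff_of_iso (ShortComplex.isoMk
    (iso₂ F T n₀) (iso₃ F T n₀) (iso₁ F T n₁)
    (sq₂ F T n₀).symm (by simp [delta_eq]))).mpr
    ((T.map_shortExact F).homology_exact₃ n₀ n₁ h)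

lemma exact₁ (n₀ n₁ : ℕ) (h : n₀ + 1 = n₁) :
    (ShortComplex.mk (T.delta F n₀ n₁ h) ((F.rightDerived n₁).map S.f)
      (delta_comp F T n₀ n₁ h)).Exact :=
  (ShortComplex.exact_iff_of_iso (ShortComplex.isoMk
    (iso₃ F T n₀) (iso₁ F T n₁) (iso₂ F T n₁)
    (by simp [delta_eq]) (sq₁ F T n₁).symm)).mpr
    ((T.map_shortExact F).homology_exact₁ n₀ n₁ h)

end Groth.Agent.Lib.Helper68.InjLES
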