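import Groth.Agent.Lib.Helper68.LeftDerivedLES2
import Groth.Agent.Lib.Helper85.Flat
import Mathlib.CategoryTheory.Monoidal.Tor
import Mathlib.Algebra.Category.ModuleCat.Monoidal.Closed
import Mathlib.Algebra.Category.ModuleCat.Projective
import Mathlib.Algebra.Homology.ShortComplex.ModuleCat

/-! Toolkit for Mathlib's `Tor` on `ModuleCat R` (left derived in the SECOND variable). -/

set_option autoImplicit false
universe u

open CategoryTheory MonoidalCategory Limits

namespace Groth.Agent.Lib.Helper68.TorMod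

open Groth.Agent.Lib.Helper68

variable {R : Type u} [CommRing R]

/-- the functor `M ⊗ -` on `ModuleCat R` -/
noncomputable abbrev tF (M : ModuleCat.{u} R) : ModuleCat.{u} R ⥤ ModuleCat.{u} R :=
  (tensoringLeft (ModuleCat.{u} R)).obj M

lemma tor_obj (M N : ModuleCat.{u} R) (n : ℕ) :
    ((Tor (ModuleCat.{u} R) n).obj M).obj N = ((tF M).leftDerived n).obj N := rfl

instance (M : ModuleCat.{u} R) : PreservesFiniteColimits (tF M) :=
  inferInstanceAs (PreservesFiniteColimits (tensorLeft M))

section SES

variable {A B C : Type u} [AddCommGroup A] [AddCommGroup B] [AddCommGroup C]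
  [Module R A] [Module R B] [Module R C]

/-- a pair of composable linear maps with zero composite, as a short complex -/
noncomputable abbrev sc (f : A →ₗ[R] B) (g : B →ₗ[R] C) (h : Function.Exact f g) :
    ShortComplex (ModuleCat.{u} R) :=
  ShortComplex.mk (ModuleCat.ofHom f) (ModuleCat.ofHom g) (by
    ext x
    simp [h.apply_apply_eq_zero])

lemma sc_shortExact (f : A →ₗ[R] B) (g : B →ₗ[R] C) (h : Function.Exact f g)
    (hf : Function.Injective f) (hg : Function.Surjective g) : (sc f g h).ShortExact :=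
  ModuleCat.shortComplex_shortExact _ h hf hg

lemma tF_map_hom (M : ModuleCat.{u} R) (f : A →ₗ[R] B) :
    ((tF M).map (ModuleCat.ofHom f)).hom = f.lTensor M :=
  ModuleCat.hom_whiskerLeft M (ModuleCat.ofHom f)

lemma mono_tF_map_iff (M : ModuleCat.{u} R) (f : A →ₗ[R] B) :
    Mono ((tF M).map (ModuleCat.ofHom f)) ↔ Function.Injective (f.lTensor M) := by
  rw [ModuleCat.mono_iff_injective]
  show Function.Injective ((tF M).map (ModuleCat.ofHom f)).hom ↔ _
  rw [tF_map_hom]

omit [AddCommGroup A] [AddCommGroup B] [AddCommGroup C] [Module R A] [Module R B] [Module R C] in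
lemma linearEquiv_ker_of_mono_exact {X Y Z : ModuleCat.{u} R} (d : X ⟶ Y) (k : Y ⟶ Z)
    (w : d ≫ k = 0) (hd : Mono d) (hex : (ShortComplex.mk d k w).Exact) :
    Nonempty (X ≃ₗ[R] LinearMap.ker k.hom) := by
  have hinj : Function.Injective d.hom := (ModuleCat.mono_iff_injective _).mp hd
  have hrange : LinearMap.range d.hom = LinearMap.ker k.hom := hex.moduleCat_range_eq_ker
  exact ⟨(LinearEquiv.ofInjective d.hom hinj).trans (LinearEquiv.ofEq _ _ hrange)⟩

theorem tF_one_linearEquiv_ker_aux (M : ModuleCat.{u} R) (f : A →ₗ[R] B) (g : B →ₗ[R] C)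
    (h : Function.Exact f g) (hf : Function.Injective f) (hg : Function.Surjective g)
    (hB : IsZero (((tF M).leftDerived 1).obj (ModuleCat.of R B))) :
    Nonempty ((((tF M).leftDerived 1).obj (ModuleCat.of R C)) ≃ₗ[R]
      LinearMap.ker ((tF M).map (ModuleCat.ofHom f)).hom) := by
  have hS := sc_shortExact f g h hf hg
  exact linearEquiv_ker_of_mono_exact (LeftDerivedLES.δ₀ (tF M) hS)
    ((tF M).map (ModuleCat.ofHom f)) (LeftDerivedLES.δ₀_map_f (tF M) hS)
    (LeftDerivedLES.mono_δ₀ (tF M) hS hB) (LeftDerivedLES.exact_δ₀ (tF M) hS)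

theorem tF_one_linearEquiv_ker (M : ModuleCat.{u} R) (f : A →ₗ[R] B) (g : B →ₗ[R] C)
    (h : Function.Exact f g) (hf : Function.Injective f) (hg : Function.Surjective g)
    (hB : IsZero (((tF M).leftDerived 1).obj (ModuleCat.of R B))) :
    Nonempty ((((tF M).leftDerived 1).obj (ModuleCat.of R C)) ≃ₗ[R]
      LinearMap.ker (f.lTensor M)) := by
  obtain ⟨e⟩ := tF_one_linearEquiv_ker_aux M f g h hf hg hB
  exact ⟨e.trans (LinearEquiv.ofEq _ _ (congrArg LinearMap.ker (tF_map_hom M f)))⟩

/-- `Tor₁(M, C) ≃ ker (M ⊗ A → M ⊗ B)` for a short exact sequence `0 → A → B → C → 0`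
with `Tor₁(M, B) = 0`. -/
theorem tor_one_linearEquiv_ker (M : ModuleCat.{u} R) (f : A →ₗ[R] B) (g : B →ₗ[R] C)
    (h : Function.Exact f g) (hf : Function.Injective f) (hg : Function.Surjective g)
    (hB : IsZero (((Tor (ModuleCat.{u} R) 1).obj M).obj (ModuleCat.of R B))) :
    Nonempty ((((Tor (ModuleCat.{u} R) 1).obj M).obj (ModuleCat.of R C)) ≃ₗ[R]
      LinearMap.ker (f.lTensor M)) :=
  tF_one_linearEquiv_ker M f g h hf hg hB

theorem isIso_tF_one_map (M : ModuleCat.{u} R) (f : A →ₗ[R] B) (g : B →ₗ[R] C)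
    (h : Function.Exact f g) (hf : Function.Injective f) (hg : Function.Surjective g)
    (hA : IsZero (((tF M).leftDerived 1).obj (ModuleCat.of R A)))
    (hinj : Function.Injective (f.lTensor M)) :
    IsIso (((tF M).leftDerived 1).map (ModuleCat.ofHom g)) := by
  have hS := sc_shortExact f g h hf hg
  have hm : Mono ((tF M).map (sc f g h).f) := (mono_tF_map_iff M f).mpr hinj
  have h1 := LeftDerivedLES.isIso_map_g_one (tF M) hS hA hm
  exact h1

/-- `Tor₁(M, B) → Tor₁(M, C)` is an isomorphism for a short exact sequence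
`0 → A → B → C → 0` with `Tor₁(M, A) = 0` and `M ⊗ A → M ⊗ B` injective. -/
theorem isIso_tor_one_map (M : ModuleCat.{u} R) (f : A →ₗ[R] B) (g : B →ₗ[R] C)
    (h : Function.Exact f g) (hf : Function.Injective f) (hg : Function.Surjective g)
    (hA : IsZero (((Tor (ModuleCat.{u} R) 1).obj M).obj (ModuleCat.of R A)))
    (hinj : Function.Injective (f.lTensor M)) :
    IsIso (((Tor (ModuleCat.{u} R) 1).obj M).map (ModuleCat.ofHom g)) :=
  isIso_tF_one_map M f g h hf hg hA hinj

theorem isZero_tF_one_of_injective (M : ModuleCat.{u} R) (f : A →ₗ[R] B) (g : B →ₗ[R] C)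
    (h : Function.Exact f g) (hf : Function.Injective f) (hg : Function.Surjective g)
    (hB : IsZero (((tF M).leftDerived 1).obj (ModuleCat.of R B)))
    (hinj : Function.Injective (f.lTensor M)) :
    IsZero (((tF M).leftDerived 1).obj (ModuleCat.of R C)) := by
  have hS := sc_shortExact f g h hf hg
  have hm : Mono ((tF M).map (sc f g h).f) := (mono_tF_map_iff M f).mpr hinj
  have h1 := LeftDerivedLES.isZero_one_right (tF M) hS hB hm
  exact h1

/-- `Tor₁(M, C) = 0` for a short exact sequence `0 → A → B → C → 0` with `Tor₁(M, B) = 0` and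
`M ⊗ A → M ⊗ B` injective. -/
theorem isZero_tor_one_of_injective (M : ModuleCat.{u} R) (f : A →ₗ[R] B) (g : B →ₗ[R] C)
    (h : Function.Exact f g) (hf : Function.Injective f) (hg : Function.Surjective g)
    (hB : IsZero (((Tor (ModuleCat.{u} R) 1).obj M).obj (ModuleCat.of R B)))
    (hinj : Function.Injective (f.lTensor M)) :
    IsZero (((Tor (ModuleCat.{u} R) 1).obj M).obj (ModuleCat.of R C)) :=
  isZero_tF_one_of_injective M f g h hf hg hB hinj

theorem isZero_tF_succ_succ (M : ModuleCat.{u} R) (f : A →ₗ[R] B) (g : B →ₗ[R] C)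
    (h : Function.Exact f g) (hf : Function.Injective f) (hg : Function.Surjective g) (n : ℕ)
    (hB : IsZero (((tF M).leftDerived (n + 2)).obj (ModuleCat.of R B)))
    (hA : IsZero (((tF M).leftDerived (n + 1)).obj (ModuleCat.of R A))) :
    IsZero (((tF M).leftDerived (n + 2)).obj (ModuleCat.of R C)) := by
  have hS := sc_shortExact f g h hf hg
  have h1 := LeftDerivedLES.isZero_right (tF M) hS (n + 1) hB hA
  exact h1

/-- dimension shifting: `Tor_{n+2}(M, C) = 0` when `Tor_{n+2}(M, B) = 0 = Tor_{n+1}(M, A)`. -/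
theorem isZero_tor_succ_succ (M : ModuleCat.{u} R) (f : A →ₗ[R] B) (g : B →ₗ[R] C)
    (h : Function.Exact f g) (hf : Function.Injective f) (hg : Function.Surjective g) (n : ℕ)
    (hB : IsZero (((Tor (ModuleCat.{u} R) (n + 2)).obj M).obj (ModuleCat.of R B)))
    (hA : IsZero (((Tor (ModuleCat.{u} R) (n + 1)).obj M).obj (ModuleCat.of R A))) :
    IsZero (((Tor (ModuleCat.{u} R) (n + 2)).obj M).obj (ModuleCat.of R C)) :=
  isZero_tF_succ_succ M f g h hf hg n hB hA

end SES

/-- `Tor_{n+1}(M, N) = 0` for `N` free (or projective). -/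
lemma isZero_tor_succ_of_projective (M : ModuleCat.{u} R) (N : Type u) [AddCommGroup N]
    [Module R N] [Module.Projective R N] (n : ℕ) :
    IsZero (((Tor (ModuleCat.{u} R) (n + 1)).obj M).obj (ModuleCat.of R N)) :=
  isZero_Tor_succ_of_projective _ _ _ n

/-- `Tor_{n+1}(M, N) = 0` for `N` flat. -/
theorem isZero_tor_succ_of_flat (M : ModuleCat.{u} R) (n : ℕ) :
    ∀ (N : Type u) [AddCommGroup N] [Module R N] [Module.Flat R N],
      IsZero (((Tor (ModuleCat.{u} R) (n + 1)).obj M).obj (ModuleCat.of R N)) := by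
  induction n with
  | zero =>
    intro N _ _ _
    let g : (N →₀ R) →ₗ[R] N := Finsupp.linearCombination R id
    have hg : Function.Surjective g := Finsupp.linearCombination_id_surjective R N
    have hex : Function.Exact (LinearMap.ker g).subtype g := LinearMap.exact_subtype_ker_map g
    have hinj := LinearMap.lTensor_injective_of_exact_of_flat (M := LinearMap.ker g) g hg
        (LinearMap.ker g).subtype (Submodule.subtype_injective _) hex M
    exact isZero_tor_one_of_injective (A := LinearMap.ker g) M (LinearMap.ker g).subtype g hex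
      (Submodule.subtype_injective _) hg (isZero_tor_succ_of_projective M (N →₀ R) 0) hinj
  | succ n ih =>
    intro N _ _ _
    let g : (N →₀ R) →ₗ[R] N := Finsupp.linearCombination R id
    have hg : Function.Surjective g := Finsupp.linearCombination_id_surjective R N
    have hex : Function.Exact (LinearMap.ker g).subtype g := LinearMap.exact_subtype_ker_map g
    have hK : Module.Flat R (LinearMap.ker g) :=
      Helper85.flat_of_exact_of_flat (K := LinearMap.ker g) (LinearMap.ker g).subtype g
        (Submodule.subtype_injective _) hg hex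
    exact isZero_tor_succ_succ (A := LinearMap.ker g) M (LinearMap.ker g).subtype g hex
      (Submodule.subtype_injective _) hg n (isZero_tor_succ_of_projective M (N →₀ R) (n + 1))
      (ih (LinearMap.ker g))

end Groth.Agent.Lib.Helper68.TorMod
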