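import Groth.Agent.Lib.Helper68.FunctorSES2
import Groth.Agent.Lib.Helper68.TorMod
import Mathlib.RingTheory.Flat.CategoryTheory

/-! The long exact sequence of Mathlib's `Tor` on `ModuleCat R` in the FIRST variable
(the one that is not derived), natural in the second variable. -/

set_option autoImplicit false
universe u

open CategoryTheory Limits MonoidalCategory

namespace Groth.Agent.Lib.Helper68.TorFirst

open Groth.Agent.Lib.Helper68 Groth.Agent.Lib.Helper68.TorMod

variable {R : Type u} [CommRing R]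

instance tensorRight_preservesFiniteColimits (N : ModuleCat.{u} R) :
    PreservesFiniteColimits (tensorRight N) :=
  preservesFiniteColimits_of_natIso (BraidedCategory.tensorLeftIsoTensorRight N)

variable {S : ShortComplex (ModuleCat.{u} R)} (hS : S.ShortExact)

include hS in
/-- `S.X₁ ⊗ - ⟶ S.X₂ ⊗ - ⟶ S.X₃ ⊗ -` is short exact on projective (flat) modules -/
theorem exactOnProj : FunctorSES.ExactOnProj
    ((tensoringLeft (ModuleCat.{u} R)).map S.f) ((tensoringLeft (ModuleCat.{u} R)).map S.g) where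
  zero := by
    rw [← Functor.map_comp, S.zero]
    ext X : 2
    exact MonoidalPreadditive.zero_whiskerRight
  shortExact P _ := by
    have : Module.Projective R P := inferInstance
    have : Module.Flat R P := inferInstance
    exact hS.map_of_exact (tensorRight P)

/-- the first-variable connecting morphism `Tor_{n+1}(X₃, N) ⟶ Tor_n(X₁, N)` -/
noncomputable def δ (N : ModuleCat.{u} R) (n : ℕ) :
    ((Tor (ModuleCat.{u} R) (n + 1)).obj S.X₃).obj N ⟶ ((Tor (ModuleCat.{u} R) n).obj S.X₁).obj N :=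
  FunctorSES.δ (exactOnProj hS) N n

/-- naturality in the second variable -/
theorem δ_natural {N N' : ModuleCat.{u} R} (g : N ⟶ N') (n : ℕ) :
    ((Tor (ModuleCat.{u} R) (n + 1)).obj S.X₃).map g ≫ δ hS N' n =
      δ hS N n ≫ ((Tor (ModuleCat.{u} R) n).obj S.X₁).map g :=
  FunctorSES.δ_natural (exactOnProj hS) g n

variable (N : ModuleCat.{u} R) (n : ℕ)

@[reassoc (attr := simp)]
lemma map_g_δ : ((Tor (ModuleCat.{u} R) (n + 1)).map S.g).app N ≫ δ hS N n = 0 :=
  FunctorSES.app_δ (exactOnProj hS) N n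

@[reassoc (attr := simp)]
lemma δ_map_f : δ hS N n ≫ ((Tor (ModuleCat.{u} R) n).map S.f).app N = 0 :=
  FunctorSES.δ_app (exactOnProj hS) N n

include hS in
@[reassoc]
lemma map_f_map_g : ((Tor (ModuleCat.{u} R) n).map S.f).app N ≫
    ((Tor (ModuleCat.{u} R) n).map S.g).app N = 0 :=
  FunctorSES.app_comp_app' (exactOnProj hS) N n

/-- exactness of `Tor_n(X₁,N) ⟶ Tor_n(X₂,N) ⟶ Tor_n(X₃,N)` -/
theorem exact₂ : (ShortComplex.mk (((Tor (ModuleCat.{u} R) n).map S.f).app N)
    (((Tor (ModuleCat.{u} R) n).map S.g).app N) (map_f_map_g hS N n)).Exact :=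
  FunctorSES.exact₂ (exactOnProj hS) N n

/-- exactness of `Tor_{n+1}(X₂,N) ⟶ Tor_{n+1}(X₃,N) ⟶ Tor_n(X₁,N)` -/
theorem exact₃ : (ShortComplex.mk (((Tor (ModuleCat.{u} R) (n + 1)).map S.g).app N)
    (δ hS N n) (map_g_δ hS N n)).Exact :=
  FunctorSES.exact₃ (exactOnProj hS) N n

/-- exactness of `Tor_{n+1}(X₃,N) ⟶ Tor_n(X₁,N) ⟶ Tor_n(X₂,N)` -/
theorem exact₁ : (ShortComplex.mk (δ hS N n)
    (((Tor (ModuleCat.{u} R) n).map S.f).app N) (δ_map_f hS N n)).Exact :=
  FunctorSES.exact₁ (exactOnProj hS) N n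

lemma mono_δ (h2 : IsZero (((Tor (ModuleCat.{u} R) (n + 1)).obj S.X₂).obj N)) :
    Mono (δ hS N n) :=
  FunctorSES.mono_δ (exactOnProj hS) N n h2

lemma epi_δ (h2 : IsZero (((Tor (ModuleCat.{u} R) n).obj S.X₂).obj N)) :
    Epi (δ hS N n) :=
  FunctorSES.epi_δ (exactOnProj hS) N n h2

lemma isIso_δ (h2 : IsZero (((Tor (ModuleCat.{u} R) (n + 1)).obj S.X₂).obj N))
    (h2' : IsZero (((Tor (ModuleCat.{u} R) n).obj S.X₂).obj N)) : IsIso (δ hS N n) :=
  FunctorSES.isIso_δ (exactOnProj hS) N n h2 h2'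

omit hS in
/-- `Tor_{n+1}(M, N) = 0` when the first variable `M` is flat -/
theorem isZero_tor_succ_of_flat_left (M : ModuleCat.{u} R) [Module.Flat R M] :
    IsZero (((Tor (ModuleCat.{u} R) (n + 1)).obj M).obj N) := by
  let Q : ProjectiveResolution N := projectiveResolution N
  refine IsZero.of_iso ?_ (Q.isoLeftDerivedObj (tF M) (n + 1))
  have h := Q.complex_exactAt_succ n
  show IsZero ((((tF M).mapHomologicalComplex _).obj Q.complex).homology (n + 1))
  rw [← HomologicalComplex.exactAt_iff_isZero_homology]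
  rw [HomologicalComplex.exactAt_iff] at h ⊢
  exact h.map (tensorLeft M)

end Groth.Agent.Lib.Helper68.TorFirst
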