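import Groth.Agent.Lib.Helper68.TorFreeLeft

/-! An additive functor on `ModuleCat R` that preserves filtered colimits and kills `X` kills
`ι →₀ X`; more generally for natural transformations. -/

set_option autoImplicit false
universe u v' u'

open CategoryTheory Limits

namespace Groth.Agent.Lib.Helper68.FinsuppColim

open Groth.Agent.Lib.Helper68 Groth.Agent.Lib.Helper68.TorFreeLeft

variable {R : Type u} [CommRing R] {X : Type u} [AddCommGroup X] [Module R X] {ι : Type u}
variable {D : Type u'} [Category.{v'} D] [Preadditive D] {G G' : ModuleCat.{u} R ⥤ D}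
  [G.Additive] (θ : G ⟶ G') (hX : θ.app (ModuleCat.of R X) = 0)

include hX in
lemma app_sub_eq_zero (T : Finset ι) : θ.app (sub R X ι T) = 0 := by
  have h1 : G.map (𝟙 (sub R X ι T)) ≫ θ.app (sub R X ι T) = 0 := by
    rw [← sum_ev_inc T, Functor.map_sum, Preadditive.sum_comp]
    apply Finset.sum_eq_zero
    intro t _
    rw [Functor.map_comp, Category.assoc, θ.naturality (inc T t), ← Category.assoc, hX,
      comp_zero, zero_comp]
  rw [CategoryTheory.Functor.map_id, Category.id_comp] at h1
  exact h1

include hX in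
/-- if `θ` vanishes on `X` then it vanishes on `ι →₀ X` -/
theorem app_finsupp_eq_zero [PreservesColimitsOfShape (Finset ι) G] :
    θ.app (ModuleCat.of R (ι →₀ X)) = 0 := by
  obtain ⟨hc⟩ := nonempty_isColimit_cocone R X ι
  have hc' : IsColimit (G.mapCocone (cocone R X ι)) := isColimitOfPreserves _ hc
  show θ.app (cocone R X ι).pt = 0
  apply hc'.hom_ext
  intro T
  rw [comp_zero]
  have hn := θ.naturality
    (show sub R X ι T ⟶ ModuleCat.of R (ι →₀ X) from (cocone R X ι).ι.app T)
  rw [app_sub_eq_zero θ hX T, zero_comp] at hn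
  exact hn

omit hX in
/-- if `G` kills `X` then it kills `ι →₀ X` -/
theorem isZero_obj_finsupp [PreservesColimitsOfShape (Finset ι) G]
    (h : IsZero (G.obj (ModuleCat.of R X))) : IsZero (G.obj (ModuleCat.of R (ι →₀ X))) := by
  rw [IsZero.iff_id_eq_zero]
  have := app_finsupp_eq_zero (ι := ι) (𝟙 G) (by
    rw [NatTrans.id_app]
    exact (IsZero.iff_id_eq_zero _).mp h)
  rwa [NatTrans.id_app] at this

end Groth.Agent.Lib.Helper68.FinsuppColim
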