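import Groth.Agent.Lib.Helper68.FilteredMod
import Mathlib.Algebra.Category.ModuleCat.Adjunctions
import Mathlib.Algebra.Homology.ShortComplex.ModuleCat
import Mathlib.Algebra.Category.ModuleCat.Projective

/-! The functorial free cover `0 → K(N) → F(N) → N → 0` of a module, with `F(N) = N →₀ R`;
the functors `F` and `K` preserve filtered colimits. -/

set_option autoImplicit false
universe u

open CategoryTheory Limits

namespace Groth.Agent.Lib.Helper68.FreeCover

variable (R : Type u) [CommRing R]

/-- the free module on the underlying set, as a functor -/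
noncomputable abbrev Ff : ModuleCat.{u} R ⥤ ModuleCat.{u} R :=
  forget (ModuleCat.{u} R) ⋙ ModuleCat.free R

/-- the canonical surjection `F(N) → N` -/
noncomputable abbrev ε : Ff R ⟶ 𝟭 (ModuleCat.{u} R) := (ModuleCat.adj R).counit

variable {R}

lemma ε_freeMk (N : ModuleCat.{u} R) (x : N) :
    (ε R).app N (ModuleCat.freeMk x) = x := by
  simp [ε, ModuleCat.adj]

lemma ε_surjective (N : ModuleCat.{u} R) : Function.Surjective ((ε R).app N) :=
  fun x => ⟨ModuleCat.freeMk x, ε_freeMk N x⟩

variable (R)

/-- the kernel of `F(N) → N`, as a functor -/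
noncomputable def Kf : ModuleCat.{u} R ⥤ ModuleCat.{u} R where
  obj N := ModuleCat.of R (LinearMap.ker ((ε R).app N).hom)
  map {N N'} g := ModuleCat.ofHom
    (LinearMap.restrict ((Ff R).map g).hom (p := LinearMap.ker ((ε R).app N).hom)
      (q := LinearMap.ker ((ε R).app N').hom) (by
        intro x hx
        rw [LinearMap.mem_ker] at hx ⊢
        have := ConcreteCategory.congr_hom ((ε R).naturality g) x
        simp only [Functor.id_obj, Functor.id_map] at this
        change ((ε R).app N') (((Ff R).map g) x) = 0
        change ((ε R).app N) x = 0 at hx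
        rw [show ((ε R).app N') (((Ff R).map g) x) = g (((ε R).app N) x) from this, hx, map_zero]))
  map_id N := by
    ext x
    show ((Ff R).map (𝟙 N)) x.1 = x.1
    rw [(Ff R).map_id]
    rfl
  map_comp f g := by
    ext x
    show ((Ff R).map (f ≫ g)) x.1 = (Ff R).map g ((Ff R).map f x.1)
    rw [(Ff R).map_comp]
    rfl

/-- the inclusion `K(N) → F(N)` -/
noncomputable def Kι : Kf R ⟶ Ff R where
  app N := ModuleCat.ofHom (LinearMap.ker ((ε R).app N).hom).subtype
  naturality N N' g := by
    ext x
    rfl

variable {R}

lemma Kι_injective (N : ModuleCat.{u} R) : Function.Injective ((Kι R).app N) :=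
  Subtype.val_injective

lemma ε_Kι (N : ModuleCat.{u} R) (x : (Kf R).obj N) : (ε R).app N ((Kι R).app N x) = 0 :=
  x.2

lemma exists_of_ε_eq_zero (N : ModuleCat.{u} R) (y : (Ff R).obj N) (h : (ε R).app N y = 0) :
    ∃ x : (Kf R).obj N, (Kι R).app N x = y :=
  ⟨⟨y, h⟩, rfl⟩

/-- the functorial short exact sequence `0 → K(N) → F(N) → N → 0` -/
noncomputable def sc (N : ModuleCat.{u} R) : ShortComplex (ModuleCat.{u} R) :=
  ShortComplex.mk ((Kι R).app N) ((ε R).app N) (by
    ext x
    exact ε_Kι N x)

lemma sc_shortExact (N : ModuleCat.{u} R) : (sc N).ShortExact := by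
  apply ModuleCat.shortComplex_shortExact
  · intro y
    constructor
    · intro h
      exact exists_of_ε_eq_zero N y h
    · rintro ⟨x, rfl⟩
      exact ε_Kι N x
  · exact Kι_injective N
  · exact ε_surjective N

/-- functoriality of the short exact sequence -/
noncomputable def scMap {N N' : ModuleCat.{u} R} (g : N ⟶ N') : sc N ⟶ sc N' where
  τ₁ := (Kf R).map g
  τ₂ := (Ff R).map g
  τ₃ := g
  comm₁₂ := (Kι R).naturality g
  comm₂₃ := (ε R).naturality g

instance (N : ModuleCat.{u} R) : Module.Free R ((Ff R).obj N) :=
  inferInstanceAs (Module.Free R (N →₀ R))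

instance (N : ModuleCat.{u} R) : Projective ((Ff R).obj N) := by
  have : Module.Projective R ((Ff R).obj N) := inferInstance
  exact (IsProjective.iff_projective ((Ff R).obj N)).mp this

section Colim

variable {J : Type u} [SmallCategory J] [IsFiltered J]

instance : PreservesColimitsOfShape J (Ff R) := by
  have : PreservesColimitsOfShape J (forget (ModuleCat.{u} R)) :=
    PreservesFilteredColimitsOfSize.preserves_filtered_colimits J
  have : PreservesColimitsOfShape J (ModuleCat.free R) :=
    (ModuleCat.adj R).leftAdjoint_preservesColimits.preservesColimitsOfShape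
  infer_instance

instance : PreservesColimitsOfShape J (Kf R) := by
  constructor
  intro D
  exact FilteredMod.preservesColimit_of_kernel D (Kι R) (ε R) Kι_injective ε_Kι
    exists_of_ε_eq_zero

end Colim

end Groth.Agent.Lib.Helper68.FreeCover
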