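import Mathlib.CategoryTheory.Abelian.LeftDerived
import Mathlib.CategoryTheory.Monoidal.Tor

/-! The left derived functors of an additive functor are additive. -/

set_option autoImplicit false
universe v u v' u'

open CategoryTheory Category Limits

namespace Groth.Agent.Lib.Helper68.LeftDerivedAdditive

variable {C : Type u} [Category.{v} C] [Abelian C] [HasProjectiveResolutions C]
variable {D : Type u'} [Category.{v'} D] [Abelian D] (F : C ⥤ D) [F.Additive]

/-- `LₙF` is an additive functor. -/
instance leftDerived_additive (n : ℕ) : (F.leftDerived n).Additive where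
  map_add {X Y f₁ f₂} := by
    let P := projectiveResolution X
    let Q := projectiveResolution Y
    let g₁ := ProjectiveResolution.lift f₁ P Q
    let g₂ := ProjectiveResolution.lift f₂ P Q
    have w₁ : g₁ ≫ Q.π = P.π ≫ (ChainComplex.single₀ C).map f₁ :=
      ProjectiveResolution.lift_commutes f₁ P Q
    have w₂ : g₂ ≫ Q.π = P.π ≫ (ChainComplex.single₀ C).map f₂ :=
      ProjectiveResolution.lift_commutes f₂ P Q
    have w : (g₁ + g₂) ≫ Q.π = P.π ≫ (ChainComplex.single₀ C).map (f₁ + f₂) := by
      rw [Preadditive.add_comp, w₁, w₂, Functor.map_add, Preadditive.comp_add]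
    rw [F.leftDerived_map_eq n f₁ g₁ w₁, F.leftDerived_map_eq n f₂ g₂ w₂,
      F.leftDerived_map_eq n (f₁ + f₂) (g₁ + g₂) w, Functor.map_add, Preadditive.add_comp,
      Preadditive.comp_add]

end Groth.Agent.Lib.Helper68.LeftDerivedAdditive
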