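import Groth.Agent.Lib.Helper68.Horseshoe6

/-! The long exact sequence of left derived functors `F.leftDerived n` of an additive functor
between abelian categories (the source having projective resolutions), for a short exact
sequence in the source. The connecting morphism `δ` depends on chosen resolutions
(no naturality statement is provided). -/

set_option autoImplicit false
universe v u v' u'

open CategoryTheory Category Limits

namespace Groth.Agent.Lib.Helper68.LeftDerivedLES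

open Groth.Agent.Lib.Helper68.Horseshoe

variable {C : Type u} [Category.{v} C] [Abelian C] [HasProjectiveResolutions C]
variable {D : Type u'} [Category.{v'} D] [Abelian D] (F : C ⥤ D) [F.Additive]
variable {S : ShortComplex C} (hS : S.ShortExact)

include hS in
lemma map_f_map_g (n : ℕ) : (F.leftDerived n).map S.f ≫ (F.leftDerived n).map S.g = 0 :=
  Horseshoe.map_f_map_g F hS (projectiveResolution S.X₁) (projectiveResolution S.X₃) n

/-- exactness of `LₙF(X₁) ⟶ LₙF(X₂) ⟶ LₙF(X₃)` -/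
theorem exact₂ (n : ℕ) :
    (ShortComplex.mk ((F.leftDerived n).map S.f) ((F.leftDerived n).map S.g)
      (map_f_map_g F hS n)).Exact :=
  exact₂_aux F hS (projectiveResolution S.X₁) (projectiveResolution S.X₃) n

/-- the connecting morphism `Lₙ₊₁F(X₃) ⟶ LₙF(X₁)` -/
noncomputable def δ (n : ℕ) : (F.leftDerived (n + 1)).obj S.X₃ ⟶ (F.leftDerived n).obj S.X₁ :=
  deltaAux F hS (projectiveResolution S.X₁) (projectiveResolution S.X₃) n

@[reassoc (attr := simp)]
lemma map_g_δ (n : ℕ) : (F.leftDerived (n + 1)).map S.g ≫ δ F hS n = 0 :=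
  map_g_deltaAux F hS _ _ n

@[reassoc (attr := simp)]
lemma δ_map_f (n : ℕ) : δ F hS n ≫ (F.leftDerived n).map S.f = 0 :=
  deltaAux_map_f F hS _ _ n

/-- exactness of `Lₙ₊₁F(X₂) ⟶ Lₙ₊₁F(X₃) ⟶ LₙF(X₁)` -/
theorem exact₃ (n : ℕ) :
    (ShortComplex.mk ((F.leftDerived (n + 1)).map S.g) (δ F hS n) (map_g_δ F hS n)).Exact :=
  exact₃_aux F hS _ _ n

/-- exactness of `Lₙ₊₁F(X₃) ⟶ LₙF(X₁) ⟶ LₙF(X₂)` -/
theorem exact₁ (n : ℕ) :
    (ShortComplex.mk (δ F hS n) ((F.leftDerived n).map S.f) (δ_map_f F hS n)).Exact :=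
  exact₁_aux F hS _ _ n

include hS in
/-- `L₀F(X₂) ⟶ L₀F(X₃)` is an epimorphism -/
theorem epi_map_g_zero : Epi ((F.leftDerived 0).map S.g) :=
  epi_aux F hS (projectiveResolution S.X₁) (projectiveResolution S.X₃)

/-- `δ` is a monomorphism when `Lₙ₊₁F(X₂) = 0`. -/
lemma mono_δ (n : ℕ) (h : IsZero ((F.leftDerived (n + 1)).obj S.X₂)) : Mono (δ F hS n) :=
  (exact₃ F hS n).mono_g (h.eq_of_src _ _)

/-- `δ` is an epimorphism when `LₙF(X₂) = 0`. -/
lemma epi_δ (n : ℕ) (h : IsZero ((F.leftDerived n).obj S.X₂)) : Epi (δ F hS n) :=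
  (exact₁ F hS n).epi_f (h.eq_of_tgt _ _)

/-- dimension shifting: `δ` is an isomorphism when `Lₙ₊₁F(X₂) = 0 = LₙF(X₂)`. -/
lemma isIso_δ (n : ℕ) (h : IsZero ((F.leftDerived (n + 1)).obj S.X₂))
    (h' : IsZero ((F.leftDerived n).obj S.X₂)) : IsIso (δ F hS n) := by
  have := mono_δ F hS n h
  have := epi_δ F hS n h'
  exact isIso_of_mono_of_epi _

include hS in
/-- the middle term vanishes when both ends do -/
lemma isZero_mid (n : ℕ) (h₁ : IsZero ((F.leftDerived n).obj S.X₁))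
    (h₃ : IsZero ((F.leftDerived n).obj S.X₃)) : IsZero ((F.leftDerived n).obj S.X₂) :=
  (exact₂ F hS n).isZero_of_both_zeros (h₁.eq_of_src _ _) (h₃.eq_of_tgt _ _)

include hS in
/-- the right term vanishes when `Lₙ₊₁F(X₂) = 0 = LₙF(X₁)` -/
lemma isZero_right (n : ℕ) (h₂ : IsZero ((F.leftDerived (n + 1)).obj S.X₂))
    (h₁ : IsZero ((F.leftDerived n).obj S.X₁)) : IsZero ((F.leftDerived (n + 1)).obj S.X₃) :=
  (exact₃ F hS n).isZero_of_both_zeros (h₂.eq_of_src _ _) (h₁.eq_of_tgt _ _)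

include hS in
/-- the left term vanishes when `Lₙ₊₁F(X₃) = 0 = LₙF(X₂)` -/
lemma isZero_left (n : ℕ) (h₃ : IsZero ((F.leftDerived (n + 1)).obj S.X₃))
    (h₂ : IsZero ((F.leftDerived n).obj S.X₂)) : IsZero ((F.leftDerived n).obj S.X₁) :=
  (exact₁ F hS n).isZero_of_both_zeros (h₃.eq_of_src _ _) (h₂.eq_of_tgt _ _)

end Groth.Agent.Lib.Helper68.LeftDerivedLES
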