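import Groth.Agent.Lib.Helper68.ProjLift3
import Groth.Agent.Lib.Helper68.LeftDerivedLES
import Mathlib.Algebra.Homology.HomologySequenceLemmas

/-! Naturality (hence independence of the resolution) of the connecting morphisms of left
derived functors computed from projective resolutions of short exact sequences. -/

set_option autoImplicit false
universe v u v' u'

open CategoryTheory Category Limits

namespace Groth.Agent.Lib.Helper68.ProjLES

open Groth.Agent.Lib.Helper68.Horseshoe Groth.Agent.Lib.Helper68.ProjSES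
  Groth.Agent.Lib.Helper68.ProjLift

variable {C : Type u} [Category.{v} C] [Abelian C] [HasProjectiveResolutions C]
  {D : Type u'} [Category.{v'} D] [Abelian D] (F : C ⥤ D) [F.Additive]

lemma delta_comp_iso {S : ShortComplex C} (T : PSESRes S) (n : ℕ) :
    T.delta F n ≫ (T.P₁.isoLeftDerivedObj F n).hom =
      (T.P₃.isoLeftDerivedObj F (n + 1)).hom ≫ (T.map_shortExact F).δ (n + 1) n (rel_succ n) := by
  simp only [PSESRes.delta, assoc]
  erw [Iso.inv_hom_id, comp_id]
  rfl

/-- naturality of the connecting morphism computed from resolutions -/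
theorem delta_natural {S S' : ShortComplex C} (hS' : S'.ShortExact) (T : PSESRes S)
    (T' : PSESRes S') (φ : S ⟶ S') (n : ℕ) :
    (F.leftDerived (n + 1)).map φ.τ₃ ≫ T'.delta F n =
      T.delta F n ≫ (F.leftDerived n).map φ.τ₁ := by
  let φ₁ := ProjectiveResolution.lift φ.τ₁ T.P₁ T'.P₁
  let φ₃ := ProjectiveResolution.lift φ.τ₃ T.P₃ T'.P₃
  have hφ₁ : φ₁.f 0 ≫ aug T'.P₁ = aug T.P₁ ≫ φ.τ₁ :=
    ProjectiveResolution.lift_commutes_zero _ _ _
  have hφ₃ : φ₃.f 0 ≫ aug T'.P₃ = aug T.P₃ ≫ φ.τ₃ :=
    ProjectiveResolution.lift_commutes_zero _ _ _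
  obtain ⟨φ₂, h12, h23⟩ := exists_mid hS' T T' φ φ₁ hφ₁ φ₃ hφ₃
  let Φ : T.cx ⟶ T'.cx := ShortComplex.homMk φ₁ φ₂ φ₃ h12.symm h23
  let ΦG := (F.mapHomologicalComplex (ComplexShape.down ℕ)).mapShortComplex.map Φ
  have nat := HomologicalComplex.HomologySequence.δ_naturality ΦG (T.map_shortExact F)
    (T'.map_shortExact F) (n + 1) n (rel_succ n)
  have e3 : (F.leftDerived (n + 1)).map φ.τ₃ ≫ (T'.P₃.isoLeftDerivedObj F (n + 1)).hom =
      (T.P₃.isoLeftDerivedObj F (n + 1)).hom ≫
      (HomologicalComplex.homologyFunctor D (ComplexShape.down ℕ) (n + 1)).map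
        ((F.mapHomologicalComplex (ComplexShape.down ℕ)).map φ₃) :=
    ProjectiveResolution.isoLeftDerivedObj_hom_naturality φ.τ₃ T.P₃ T'.P₃ φ₃ hφ₃ F (n + 1)
  have e1 : (F.leftDerived n).map φ.τ₁ ≫ (T'.P₁.isoLeftDerivedObj F n).hom =
      (T.P₁.isoLeftDerivedObj F n).hom ≫
      (HomologicalComplex.homologyFunctor D (ComplexShape.down ℕ) n).map
        ((F.mapHomologicalComplex (ComplexShape.down ℕ)).map φ₁) :=
    ProjectiveResolution.isoLeftDerivedObj_hom_naturality φ.τ₁ T.P₁ T'.P₁ φ₁ hφ₁ F n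
  obtain ⟨δT, hδT⟩ : ∃ d : (HomologicalComplex.homologyFunctor D (ComplexShape.down ℕ) (n + 1)).obj
      ((F.mapHomologicalComplex (ComplexShape.down ℕ)).obj T.P₃.complex) ⟶
      (HomologicalComplex.homologyFunctor D (ComplexShape.down ℕ) n).obj
      ((F.mapHomologicalComplex (ComplexShape.down ℕ)).obj T.P₁.complex),
      d = (T.map_shortExact F).δ (n + 1) n (rel_succ n) := ⟨_, rfl⟩
  obtain ⟨δT', hδT'⟩ : ∃ d : (HomologicalComplex.homologyFunctor D (ComplexShape.down ℕ) (n + 1)).obj
      ((F.mapHomologicalComplex (ComplexShape.down ℕ)).obj T'.P₃.complex) ⟶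
      (HomologicalComplex.homologyFunctor D (ComplexShape.down ℕ) n).obj
      ((F.mapHomologicalComplex (ComplexShape.down ℕ)).obj T'.P₁.complex),
      d = (T'.map_shortExact F).δ (n + 1) n (rel_succ n) := ⟨_, rfl⟩
  have nat' : (HomologicalComplex.homologyFunctor D (ComplexShape.down ℕ) (n + 1)).map
        ((F.mapHomologicalComplex (ComplexShape.down ℕ)).map φ₃) ≫ δT' = δT ≫
      (HomologicalComplex.homologyFunctor D (ComplexShape.down ℕ) n).map
        ((F.mapHomologicalComplex (ComplexShape.down ℕ)).map φ₁) := by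
    subst hδT hδT'
    exact nat.symm
  have hT : T.delta F n ≫ (T.P₁.isoLeftDerivedObj F n).hom =
      (T.P₃.isoLeftDerivedObj F (n + 1)).hom ≫ δT := by
    subst hδT
    exact delta_comp_iso F T n
  have hT' : T'.delta F n ≫ (T'.P₁.isoLeftDerivedObj F n).hom =
      (T'.P₃.isoLeftDerivedObj F (n + 1)).hom ≫ δT' := by
    subst hδT'
    exact delta_comp_iso F T' n
  rw [← cancel_mono (T'.P₁.isoLeftDerivedObj F n).hom, assoc, assoc, hT', reassoc_of% e3,
    nat', e1, reassoc_of% hT]

/-- independence of the resolution -/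
theorem delta_eq_delta {S : ShortComplex C} (hS : S.ShortExact) (T T' : PSESRes S) (n : ℕ) :
    T.delta F n = T'.delta F n := by
  have := delta_natural F hS T T' (𝟙 S) n
  simpa using this.symm

end Groth.Agent.Lib.Helper68.ProjLES

namespace Groth.Agent.Lib.Helper68.LeftDerivedLES

open Groth.Agent.Lib.Helper68.Horseshoe Groth.Agent.Lib.Helper68.ProjSES

variable {C : Type u} [Category.{v} C] [Abelian C] [HasProjectiveResolutions C]
variable {D : Type u'} [Category.{v'} D] [Abelian D] (F : C ⥤ D) [F.Additive]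
variable {S : ShortComplex C} (hS : S.ShortExact)

/-- the connecting morphism is the one computed from the horseshoe resolution -/
lemma δ_eq_horseshoe (n : ℕ) : δ F hS n =
    (horseshoe hS (projectiveResolution S.X₁) (projectiveResolution S.X₃)).delta F n := rfl

/-- the connecting morphism is computed by any resolution of the sequence -/
lemma δ_eq (T : PSESRes S) (n : ℕ) : δ F hS n = T.delta F n := by
  rw [δ_eq_horseshoe]
  exact ProjLES.delta_eq_delta F hS _ T n

/-- naturality of the connecting morphism -/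
theorem δ_natural {S' : ShortComplex C} (hS' : S'.ShortExact) (φ : S ⟶ S') (n : ℕ) :
    (F.leftDerived (n + 1)).map φ.τ₃ ≫ δ F hS' n = δ F hS n ≫ (F.leftDerived n).map φ.τ₁ := by
  rw [δ_eq_horseshoe, δ_eq_horseshoe]
  exact ProjLES.delta_natural F hS' _ _ φ n

end Groth.Agent.Lib.Helper68.LeftDerivedLES
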