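import Groth.Agent.Lib.Helper68.TorMod

/-! More on Mathlib's `Tor` on `ModuleCat R`: surjectivity of `Tor₁(M, B) → Tor₁(M, C)`. -/

set_option autoImplicit false
universe v u v' u'

open CategoryTheory Category Limits MonoidalCategory

namespace Groth.Agent.Lib.Helper68.LeftDerivedLES

variable {C : Type u} [Category.{v} C] [Abelian C] [HasProjectiveResolutions C]
variable {D : Type u'} [Category.{v'} D] [Abelian D] (F : C ⥤ D) [F.Additive]
variable {S : ShortComplex C} (hS : S.ShortExact)
variable [PreservesFiniteColimits F]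

include hS in
/-- `L₁F(g)` is an epimorphism iff `F(f)` is a monomorphism. -/
lemma epi_map_g_one_iff : Epi ((F.leftDerived 1).map S.g) ↔ Mono (F.map S.f) := by
  constructor
  · intro hepi
    have h0 : δ₀ F hS = 0 := by
      rw [← cancel_epi ((F.leftDerived 1).map S.g), map_g_δ₀, comp_zero]
    exact (exact_δ₀ F hS).mono_g h0
  · intro hmono
    have h0 : δ₀ F hS = 0 := by
      rw [← cancel_mono (F.map S.f), δ₀_map_f, zero_comp]
    exact (exact_map_g_δ₀ F hS).epi_f h0

end Groth.Agent.Lib.Helper68.LeftDerivedLES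

namespace Groth.Agent.Lib.Helper68.TorMod

variable {R : Type u} [CommRing R]
variable {A B C : Type u} [AddCommGroup A] [AddCommGroup B] [AddCommGroup C]
  [Module R A] [Module R B] [Module R C]

theorem epi_tF_one_map_iff (M : ModuleCat.{u} R) (f : A →ₗ[R] B) (g : B →ₗ[R] C)
    (h : Function.Exact f g) (hf : Function.Injective f) (hg : Function.Surjective g) :
    Epi (((tF M).leftDerived 1).map (ModuleCat.ofHom g)) ↔
      Function.Injective (f.lTensor M) := by
  have hS := sc_shortExact f g h hf hg
  have h1 := LeftDerivedLES.epi_map_g_one_iff (tF M) hS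
  rw [← mono_tF_map_iff]
  exact h1

/-- `Tor₁(M, B) → Tor₁(M, C)` is an epimorphism iff `M ⊗ A → M ⊗ B` is injective, for a short
exact sequence `0 → A → B → C → 0`. -/
theorem epi_tor_one_map_iff (M : ModuleCat.{u} R) (f : A →ₗ[R] B) (g : B →ₗ[R] C)
    (h : Function.Exact f g) (hf : Function.Injective f) (hg : Function.Surjective g) :
    Epi (((Tor (ModuleCat.{u} R) 1).obj M).map (ModuleCat.ofHom g)) ↔
      Function.Injective (f.lTensor M) :=
  epi_tF_one_map_iff M f g h hf hg

end Groth.Agent.Lib.Helper68.TorMod
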