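import Groth.Agent.Lib.Helper68.ProjLES
import Groth.Agent.Lib.Helper68.TorMod2

/-! Naturality of the low-degree connecting morphism of left derived functors, and a vanishing
criterion for maps on `Tor₁` over `ModuleCat R`. -/

set_option autoImplicit false
universe v u v' u'

open CategoryTheory Category Limits MonoidalCategory

namespace Groth.Agent.Lib.Helper68.LeftDerivedLES

variable {C : Type u} [Category.{v} C] [Abelian C] [HasProjectiveResolutions C]
variable {D : Type u'} [Category.{v'} D] [Abelian D] (F : C ⥤ D) [F.Additive]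
variable [PreservesFiniteColimits F]
variable {S S' : ShortComplex C} (hS : S.ShortExact) (hS' : S'.ShortExact)

/-- naturality of `δ₀ : L₁F(X₃) ⟶ F(X₁)` -/
theorem δ₀_natural (φ : S ⟶ S') :
    (F.leftDerived 1).map φ.τ₃ ≫ δ₀ F hS' = δ₀ F hS ≫ F.map φ.τ₁ := by
  unfold δ₀
  rw [← assoc, δ_natural F hS hS' φ 0, assoc, assoc,
    F.leftDerivedZeroIsoSelf.hom.naturality φ.τ₁]

end Groth.Agent.Lib.Helper68.LeftDerivedLES

namespace Groth.Agent.Lib.Helper68.TorMod

variable {R : Type u} [CommRing R]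
variable {A B C A' B' C' : Type u} [AddCommGroup A] [AddCommGroup B] [AddCommGroup C]
  [Module R A] [Module R B] [Module R C] [AddCommGroup A'] [AddCommGroup B'] [AddCommGroup C']
  [Module R A'] [Module R B'] [Module R C']

theorem tF_one_map_eq_zero (M : ModuleCat.{u} R) (f : A →ₗ[R] B) (g : B →ₗ[R] C)
    (h : Function.Exact f g) (hf : Function.Injective f) (hg : Function.Surjective g)
    (f' : A' →ₗ[R] B') (g' : B' →ₗ[R] C')
    (h' : Function.Exact f' g') (hf' : Function.Injective f') (hg' : Function.Surjective g')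
    (a : A →ₗ[R] A') (b : B →ₗ[R] B') (c : C →ₗ[R] C')
    (hab : b ∘ₗ f = f' ∘ₗ a) (hbc : c ∘ₗ g = g' ∘ₗ b)
    (hB' : IsZero (((tF M).leftDerived 1).obj (ModuleCat.of R B')))
    (hker : ∀ y, f.lTensor M y = 0 → a.lTensor M y = 0) :
    ((tF M).leftDerived 1).map (ModuleCat.ofHom c) = 0 := by
  have hS := sc_shortExact f g h hf hg
  have hS' := sc_shortExact f' g' h' hf' hg'
  let φ : sc f g h ⟶ sc f' g' h' :=
    { τ₁ := ModuleCat.ofHom a
      τ₂ := ModuleCat.ofHom b
      τ₃ := ModuleCat.ofHom c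
      comm₁₂ := by
        show ModuleCat.ofHom a ≫ ModuleCat.ofHom f' = ModuleCat.ofHom f ≫ ModuleCat.ofHom b
        rw [← ModuleCat.ofHom_comp, ← ModuleCat.ofHom_comp, hab]
      comm₂₃ := by
        show ModuleCat.ofHom b ≫ ModuleCat.ofHom g' = ModuleCat.ofHom g ≫ ModuleCat.ofHom c
        rw [← ModuleCat.ofHom_comp, ← ModuleCat.ofHom_comp, hbc] }
  have hmono : Mono (LeftDerivedLES.δ₀ (tF M) hS') := LeftDerivedLES.mono_δ₀ (tF M) hS' hB'
  have hnat := LeftDerivedLES.δ₀_natural (tF M) hS hS' φ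
  have hz : LeftDerivedLES.δ₀ (tF M) hS ≫ (tF M).map (ModuleCat.ofHom a) = 0 := by
    ext x
    have h1 : ((tF M).map (ModuleCat.ofHom f)).hom ((LeftDerivedLES.δ₀ (tF M) hS).hom x) = 0 := by
      have := LeftDerivedLES.δ₀_map_f (tF M) hS
      have h2 := congrArg (fun t => t.hom x) this
      simpa using h2
    rw [tF_map_hom] at h1
    have h3 := hker _ h1
    rw [← tF_map_hom] at h3
    simpa using h3
  have h4 : ((tF M).leftDerived 1).map (ModuleCat.ofHom c) ≫ LeftDerivedLES.δ₀ (tF M) hS' = 0 := by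
    have : ((tF M).leftDerived 1).map φ.τ₃ ≫ LeftDerivedLES.δ₀ (tF M) hS' = 0 := by
      rw [hnat]
      exact hz
    exact this
  rw [← cancel_mono (LeftDerivedLES.δ₀ (tF M) hS'), h4, zero_comp]

/-- a vanishing criterion for the map induced on `Tor₁(M, -)` by a morphism of short exact
sequences: it vanishes when `Tor₁(M, B') = 0` and `M ⊗ A → M ⊗ A'` kills the kernel of
`M ⊗ A → M ⊗ B`. -/
theorem tor_one_map_eq_zero (M : ModuleCat.{u} R) (f : A →ₗ[R] B) (g : B →ₗ[R] C)
    (h : Function.Exact f g) (hf : Function.Injective f) (hg : Function.Surjective g)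
    (f' : A' →ₗ[R] B') (g' : B' →ₗ[R] C')
    (h' : Function.Exact f' g') (hf' : Function.Injective f') (hg' : Function.Surjective g')
    (a : A →ₗ[R] A') (b : B →ₗ[R] B') (c : C →ₗ[R] C')
    (hab : b ∘ₗ f = f' ∘ₗ a) (hbc : c ∘ₗ g = g' ∘ₗ b)
    (hB' : IsZero (((Tor (ModuleCat.{u} R) 1).obj M).obj (ModuleCat.of R B')))
    (hker : ∀ y, f.lTensor M y = 0 → a.lTensor M y = 0) :
    ((Tor (ModuleCat.{u} R) 1).obj M).map (ModuleCat.ofHom c) = 0 :=
  tF_one_map_eq_zero M f g h hf hg f' g' h' hf' hg' a b c hab hbc hB' hker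

end Groth.Agent.Lib.Helper68.TorMod
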