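import Groth.Agent.Lib.Helper68.FreeCover
import Groth.Agent.Lib.Helper68.TorMod3

/-! `N ↦ Tor_p(M, N)` preserves filtered colimits. -/

set_option autoImplicit false
universe u

open CategoryTheory Limits MonoidalCategory

namespace Groth.Agent.Lib.Helper68.TorColimRight

open Groth.Agent.Lib.Helper68 Groth.Agent.Lib.Helper68.TorMod Groth.Agent.Lib.Helper68.FreeCover

variable {R : Type u} [CommRing R] (M : ModuleCat.{u} R)

/-- the connecting morphisms of the functorial free cover, as a natural transformation -/
noncomputable def δNat (p : ℕ) :
    (tF M).leftDerived (p + 1) ⟶ Kf R ⋙ (tF M).leftDerived p where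
  app N := LeftDerivedLES.δ (tF M) (sc_shortExact N) p
  naturality N N' g :=
    LeftDerivedLES.δ_natural (tF M) (sc_shortExact N) (sc_shortExact N') (scMap g) p

variable {J : Type u} [SmallCategory J] [IsFiltered J]

theorem preserves_leftDerived (p : ℕ) :
    PreservesColimitsOfShape J ((tF M).leftDerived p) := by
  induction p with
  | zero =>
    have : PreservesColimitsOfShape J (tF M) :=
      inferInstanceAs (PreservesColimitsOfShape J (tensorLeft M))
    exact preservesColimitsOfShape_of_natIso (tF M).leftDerivedZeroIsoSelf.symm
  | succ p ih =>
    constructor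
    intro D
    have h1 : PreservesColimit D (Kf R ⋙ (tF M).leftDerived p) := inferInstance
    have h2 : PreservesColimit D (Ff R ⋙ (tF M).leftDerived p) := inferInstance
    refine FilteredMod.preservesColimit_of_kernel D (δNat M p)
      (Functor.whiskerRight (Kι R) ((tF M).leftDerived p)) ?_ ?_ ?_
    · intro N
      have hz : IsZero (((tF M).leftDerived (p + 1)).obj ((Ff R).obj N)) :=
        Functor.isZero_leftDerived_obj_projective_succ _ _ _
      have := LeftDerivedLES.mono_δ (tF M) (sc_shortExact N) p hz
      exact (ModuleCat.mono_iff_injective _).mp this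
    · intro N x
      have := LeftDerivedLES.δ_map_f (tF M) (sc_shortExact N) p
      exact ConcreteCategory.congr_hom this x
    · intro N y hy
      have hex := LeftDerivedLES.exact₁ (tF M) (sc_shortExact N) p
      rw [ShortComplex.moduleCat_exact_iff] at hex
      exact hex y hy

end Groth.Agent.Lib.Helper68.TorColimRight
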