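import Groth.Agent.Lib.Helper68.DimShiftTor
import Groth.Agent.Lib.Helper68.FinsuppColim
import Groth.Agent.Lib.Helper68.TorColimRight
import Groth.Agent.Lib.Helper68.FreeCover
import Groth.Agent.Lib.Helper68.TorMod
import Groth.Agent.Lib.Helper68.ProjLES
import Groth.Agent.Lib.Helper68.LeftDerivedAdditive
import Mathlib.Algebra.Category.ModuleCat.ChangeOfRings
import Groth.Prelude.Def_DRing2

/-! Base change for `Tor` under Tor-vanishing: if `Tor_q^A(P, A') = 0` for `q ≥ 1` then
`Tor_n^A(P, res X) ≅ res Tor_n^{A'}(A' ⊗_A P, X)` naturally in the `A'`-module `X`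
(dimension shifting along the functorial free cover). -/

set_option autoImplicit false
universe u

open CategoryTheory Limits MonoidalCategory Category TensorProduct

namespace Groth.Agent.Lib.Helper68.TorBaseChange

open Groth.Agent.Lib.Helper68 Groth.Agent.Lib.Helper68.TorMod Groth.Agent.Lib.Helper68.FreeCover

variable {A A' : Type u} [CommRing A] [CommRing A'] [Algebra A A']

variable (A A') in
/-- restriction of scalars -/
noncomputable abbrev res : ModuleCat.{u} A' ⥤ ModuleCat.{u} A :=
  ModuleCat.restrictScalars (algebraMap A A')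

instance (X : ModuleCat.{u} A') : IsScalarTower A A' ((res A A').obj X) where
  smul_assoc a a' x := by
    show (a • a') • (show X from x) = algebraMap A A' a • (a' • (show X from x))
    rw [Algebra.smul_def, mul_smul]

variable (P : ModuleCat.{u} A)

/-- the base change of `P` -/
noncomputable abbrev P' : ModuleCat.{u} A' := ModuleCat.of A' (A' ⊗[A] P)

section nu

variable (X : ModuleCat.{u} A')

/-- `P ⊗_A X ≃ (A' ⊗_A P) ⊗_{A'} X` -/
noncomputable def nuEquiv :
    ↑((tF P).obj ((res A A').obj X)) ≃ₗ[A] ↑((res A A').obj ((tF (P' (A' := A') P)).obj X)) where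
  toFun z := TensorProduct.comm A' ((res A A').obj X) (A' ⊗[A] P)
    ((TensorProduct.AlgebraTensorModule.cancelBaseChange A A' A' ((res A A').obj X) P).symm
      (TensorProduct.comm A P ((res A A').obj X) z))
  map_add' x y := by
    rw [map_add, map_add, map_add]
    rfl
  map_smul' a z := by
    rw [map_smul]
    have h1 : ∀ w : ↑((res A A').obj X) ⊗[A] ↑P, a • w = algebraMap A A' a • w :=
      fun w => (algebraMap_smul A' a w).symm
    rw [h1, map_smul, map_smul]
    rfl
  invFun w := (TensorProduct.comm A P ((res A A').obj X)).symm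
    (TensorProduct.AlgebraTensorModule.cancelBaseChange A A' A' ((res A A').obj X) P
      ((TensorProduct.comm A' ((res A A').obj X) (A' ⊗[A] P)).symm w))
  left_inv z := by simp
  right_inv w := by simp

lemma nuEquiv_tmul (p : P) (x : X) :
    nuEquiv P X (p ⊗ₜ[A] (show ↑((res A A').obj X) from x)) =
      (show ↑((res A A').obj ((tF (P' (A' := A') P)).obj X)) from
        (((1 : A') ⊗ₜ[A] p) ⊗ₜ[A'] x : (A' ⊗[A] P) ⊗[A'] X)) := rfl

/-- `P ⊗_A res(-) ≅ res((A' ⊗_A P) ⊗_{A'} -)` -/
noncomputable def nu : res A A' ⋙ tF P ≅ tF (P' (A' := A') P) ⋙ res A A' :=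
  NatIso.ofComponents (fun X => (nuEquiv P X).toModuleIso) (by
    intro X Y g
    apply ModuleCat.hom_ext
    apply TensorProduct.ext'
    intro p x
    show nuEquiv P Y (((tF P).map ((res A A').map g)).hom (p ⊗ₜ[A] x)) =
      ((res A A').map ((tF (P' (A' := A') P)).map g)).hom (nuEquiv P X (p ⊗ₜ[A] x))
    have h1 : ((tF P).map ((res A A').map g)).hom (p ⊗ₜ[A] x) =
      p ⊗ₜ[A] (show ↑((res A A').obj Y) from g.hom x) := rfl
    rw [h1, nuEquiv_tmul, nuEquiv_tmul]
    rfl)

end nu


instance : (res A A').Additive := inferInstance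
instance : PreservesFiniteLimits (res A A') := inferInstance
instance : PreservesFiniteColimits (res A A') := inferInstance
noncomputable instance : (res A A').PreservesHomology := Functor.preservesHomologyOfExact _

/-- `X ↦ Tor_n^A(P, res X)` -/
noncomputable abbrev U (n : ℕ) : ModuleCat.{u} A' ⥤ ModuleCat.{u} A :=
  res A A' ⋙ (tF P).leftDerived n

/-- `X ↦ res Tor_n^{A'}(A' ⊗_A P, X)` -/
noncomputable abbrev V (n : ℕ) : ModuleCat.{u} A' ⥤ ModuleCat.{u} A :=
  (tF (P' (A' := A') P)).leftDerived n ⋙ res A A'

/-- the restriction of the free cover sequence is short exact -/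
lemma hres (X : ModuleCat.{u} A') : ((FreeCover.sc X).map (res A A')).ShortExact :=
  (sc_shortExact X).map_of_exact (res A A')

instance (N : ModuleCat.{u} A') : Projective (FreeCover.sc N).X₂ :=
  inferInstanceAs (Projective ((Ff A').obj N))

/-- dimension shifting for `V` -/
noncomputable def shiftV (n : ℕ) : DimShift (Kι A') (V (A' := A') P n) (V P (n + 1)) where
  d X := (res A A').map (LeftDerivedLES.δ (tF (P' (A' := A') P)) (sc_shortExact X) n)
  natural {X Y} g := by
    show (res A A').map _ ≫ (res A A').map _ = (res A A').map _ ≫ (res A A').map _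
    rw [← Functor.map_comp, ← Functor.map_comp]
    congr 1
    exact LeftDerivedLES.δ_natural (tF (P' (A' := A') P)) (sc_shortExact X) (sc_shortExact Y)
      (scMap g) n
  mono X := by
    have : Mono (LeftDerivedLES.δ (tF (P' (A' := A') P)) (sc_shortExact X) n) :=
      LeftDerivedLES.mono_δ _ _ n (Functor.isZero_leftDerived_obj_projective_succ _ _ _)
    exact @Functor.map_mono _ _ _ _ (res A A') _ _ _ _ this
  zero X := by
    have h := LeftDerivedLES.δ_map_f (tF (P' (A' := A') P)) (sc_shortExact X) n
    have h2 := congrArg (res A A').map h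
    rw [Functor.map_comp, Functor.map_zero] at h2
    exact h2
  exact X := (LeftDerivedLES.exact₁ (tF (P' (A' := A') P)) (sc_shortExact X) n).map (res A A')


/-- `res (ι →₀ A') ≅ ι →₀ A'` -/
noncomputable def resFinsuppIso (ι : Type u) :
    (res A A').obj (ModuleCat.of A' (ι →₀ A')) ≅ ModuleCat.of A (ι →₀ A') :=
  LinearEquiv.toModuleIso
    (show ↑((res A A').obj (ModuleCat.of A' (ι →₀ A'))) ≃ₗ[A] (ι →₀ A') from
    { toFun := fun v => v
      invFun := fun v => v
      left_inv := fun _ => rfl
      right_inv := fun _ => rfl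
      map_add' := fun _ _ => rfl
      map_smul' := by
        intro a v
        have key : ∀ w : ι →₀ A', algebraMap A A' a • w = a • w := by
          intro w
          ext i
          rw [Finsupp.smul_apply, Finsupp.smul_apply, smul_eq_mul, Algebra.smul_def]
        exact key v })

variable (hP : ∀ q : ℕ, 0 < q → IsZero (((tF P).leftDerived q).obj (ModuleCat.of A A')))

include hP in
lemma isZero_U_free (n : ℕ) (X : ModuleCat.{u} A') :
    IsZero (((tF P).leftDerived (n + 1)).obj ((res A A').obj ((Ff A').obj X))) := by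
  have : PreservesColimitsOfShape (Finset ↑X) ((tF P).leftDerived (n + 1)) :=
    TorColimRight.preserves_leftDerived P (n + 1)
  have h := FinsuppColim.isZero_obj_finsupp (ι := ↑X) (G := (tF P).leftDerived (n + 1))
    (hP (n + 1) n.succ_pos)
  exact IsZero.of_iso h (((tF P).leftDerived (n + 1)).mapIso (resFinsuppIso (A := A) (A' := A') ↑X))

/-- dimension shifting for `U` -/
noncomputable def shiftU (n : ℕ) : DimShift (Kι A') (U (A' := A') P n) (U P (n + 1)) where
  d X := LeftDerivedLES.δ (tF P) (hres X) n
  natural {X Y} g := LeftDerivedLES.δ_natural (tF P) (hres X) (hres Y)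
      ((res A A').mapShortComplex.map (scMap g)) n
  mono X := LeftDerivedLES.mono_δ (tF P) (hres X) n (isZero_U_free P hP n X)
  zero X := LeftDerivedLES.δ_map_f (tF P) (hres X) n
  exact X := LeftDerivedLES.exact₁ (tF P) (hres X) n


/-- the base case -/
noncomputable def baseIso : U (A' := A') P 0 ≅ V P 0 :=
  Functor.isoWhiskerLeft (res A A') (tF P).leftDerivedZeroIsoSelf ≪≫ nu P ≪≫
    (Functor.isoWhiskerRight (tF (P' (A' := A') P)).leftDerivedZeroIsoSelf (res A A')).symm

/-- **Base change for Tor** under Tor-vanishing, as a natural isomorphism. -/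
noncomputable def mainIso : ∀ n : ℕ, (U (A' := A') P n ≅ V P n)
  | 0 => baseIso P
  | n + 1 => DimShift.iso (shiftU P hP n) (shiftV P n) (mainIso n)

end Groth.Agent.Lib.Helper68.TorBaseChange

namespace Groth.Agent.Lib.Helper68.TorBaseChange

open Groth.Agent.Lib.Helper68 Groth.Agent.Lib.Helper68.TorMod

variable {A A' : Type u} [CommRing A] [CommRing A'] [Algebra A A']

/-- `Q'` as an `A`-module is the restriction of scalars of `Q'` as an `A'`-module -/
noncomputable def ofResIso (Q' : Type u) [AddCommGroup Q'] [Module A' Q'] [Module A Q']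
    [IsScalarTower A A' Q'] :
    ModuleCat.of A Q' ≅ (res A A').obj (ModuleCat.of A' Q') :=
  LinearEquiv.toModuleIso
    (show Q' ≃ₗ[A] ↑((res A A').obj (ModuleCat.of A' Q')) from
    { toFun := fun v => v
      invFun := fun v => v
      left_inv := fun _ => rfl
      right_inv := fun _ => rfl
      map_add' := fun _ _ => rfl
      map_smul' := by
        intro a v
        exact (algebraMap_smul A' a v).symm })

theorem exists_semilinear_bijective (P : Type u) [AddCommGroup P] [Module A P]
    (Q' : Type u) [AddCommGroup Q'] [Module A' Q'] [Module A Q'] [IsScalarTower A A' Q']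
    (hP : ∀ q : ℕ, 0 < q → Subsingleton (DRing.Tor A q P A')) (n : ℕ) :
    ∃ φ : DRing.Tor A n P Q' →ₛₗ[algebraMap A A'] DRing.Tor A' n (TensorProduct A A' P) Q',
      Function.Bijective φ := by
  have hP' : ∀ q : ℕ, 0 < q →
      IsZero (((tF (ModuleCat.of A P)).leftDerived q).obj (ModuleCat.of A A')) := by
    intro q hq
    have h : Subsingleton ↑(((tF (ModuleCat.of A P)).leftDerived q).obj (ModuleCat.of A A')) :=
      hP q hq
    exact ModuleCat.isZero_of_subsingleton _
  let e1 : ((tF (ModuleCat.of A P)).leftDerived n).obj (ModuleCat.of A Q') ≅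
      (U (A' := A') (ModuleCat.of A P) n).obj (ModuleCat.of A' Q') :=
    ((tF (ModuleCat.of A P)).leftDerived n).mapIso (ofResIso Q')
  let e2 : (U (A' := A') (ModuleCat.of A P) n).obj (ModuleCat.of A' Q') ≅
      (V (A' := A') (ModuleCat.of A P) n).obj (ModuleCat.of A' Q') :=
    (mainIso (ModuleCat.of A P) hP' n).app (ModuleCat.of A' Q')
  let e : DRing.Tor A n P Q' ≃ₗ[A]
      ↑((V (A' := A') (ModuleCat.of A P) n).obj (ModuleCat.of A' Q')) :=
    (e1 ≪≫ e2).toLinearEquiv
  refine ⟨{ toFun := fun x => e x
            map_add' := fun x y => map_add e x y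
            map_smul' := ?_ }, e.bijective⟩
  intro a x
  exact map_smul e a x

end Groth.Agent.Lib.Helper68.TorBaseChange
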