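import Groth.Agent.Lib.Helper68.LeftDerivedLES

/-! Low-degree consequences of the long exact sequence of left derived functors for a
right exact functor. -/

set_option autoImplicit false
universe v u v' u'

open CategoryTheory Category Limits

namespace Groth.Agent.Lib.Helper68.LeftDerivedLES

variable {C : Type u} [Category.{v} C] [Abelian C] [HasProjectiveResolutions C]
variable {D : Type u'} [Category.{v'} D] [Abelian D] (F : C ⥤ D) [F.Additive]
variable {S : ShortComplex C} (hS : S.ShortExact)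

include hS in
/-- `Lₙ₊₁F(g)` is an isomorphism when `Lₙ₊₁F(X₁) = 0` and `LₙF(f)` is a monomorphism. -/
lemma isIso_map_g (n : ℕ) (h₁ : IsZero ((F.leftDerived (n + 1)).obj S.X₁))
    (hm : Mono ((F.leftDerived n).map S.f)) : IsIso ((F.leftDerived (n + 1)).map S.g) := by
  have hmono : Mono ((F.leftDerived (n + 1)).map S.g) :=
    (exact₂ F hS (n + 1)).mono_g (h₁.eq_of_src _ _)
  have hδ : δ F hS n = 0 := by
    rw [← cancel_mono ((F.leftDerived n).map S.f), δ_map_f, zero_comp]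
  have hepi : Epi ((F.leftDerived (n + 1)).map S.g) :=
    (exact₃ F hS n).epi_f hδ
  exact isIso_of_mono_of_epi _

variable [PreservesFiniteColimits F]

lemma mono_leftDerived_zero_map_iff {X Y : C} (f : X ⟶ Y) :
    Mono ((F.leftDerived 0).map f) ↔ Mono (F.map f) := by
  have h := F.leftDerivedZeroIsoSelf.hom.naturality f
  constructor
  · intro _
    have : F.map f = (F.leftDerivedZeroIsoSelf.inv.app X ≫ (F.leftDerived 0).map f) ≫
        F.leftDerivedZeroIsoSelf.hom.app Y := by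
      rw [assoc, h, ← assoc, ← NatTrans.comp_app, Iso.inv_hom_id, NatTrans.id_app, id_comp]
    rw [this]
    infer_instance
  · intro _
    have : (F.leftDerived 0).map f = (F.leftDerivedZeroIsoSelf.hom.app X ≫ F.map f) ≫
        F.leftDerivedZeroIsoSelf.inv.app Y := by
      rw [← h, assoc, ← NatTrans.comp_app, Iso.hom_inv_id, NatTrans.id_app, comp_id]
    rw [this]
    infer_instance

/-- the connecting morphism `L₁F(X₃) ⟶ F(X₁)` -/
noncomputable def δ₀ : (F.leftDerived 1).obj S.X₃ ⟶ F.obj S.X₁ :=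
  δ F hS 0 ≫ F.leftDerivedZeroIsoSelf.hom.app S.X₁

@[reassoc (attr := simp)]
lemma δ₀_map_f : δ₀ F hS ≫ F.map S.f = 0 := by
  unfold δ₀
  rw [assoc, ← F.leftDerivedZeroIsoSelf.hom.naturality S.f, δ_map_f_assoc, zero_comp]

@[reassoc (attr := simp)]
lemma map_g_δ₀ : (F.leftDerived 1).map S.g ≫ δ₀ F hS = 0 := by
  unfold δ₀
  rw [map_g_δ_assoc, zero_comp]

/-- exactness of `L₁F(X₃) ⟶ F(X₁) ⟶ F(X₂)` -/
theorem exact_δ₀ : (ShortComplex.mk (δ₀ F hS) (F.map S.f) (δ₀_map_f F hS)).Exact := by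
  refine ShortComplex.exact_of_iso ?_ (exact₁ F hS 0)
  refine ShortComplex.isoMk (Iso.refl _)
    (F.leftDerivedZeroIsoSelf.app S.X₁) (F.leftDerivedZeroIsoSelf.app S.X₂) ?_ ?_
  · dsimp [δ₀]
    rw [id_comp]
  · dsimp
    exact (F.fromLeftDerivedZero.naturality S.f).symm

/-- exactness of `L₁F(X₂) ⟶ L₁F(X₃) ⟶ F(X₁)` -/
theorem exact_map_g_δ₀ :
    (ShortComplex.mk ((F.leftDerived 1).map S.g) (δ₀ F hS) (map_g_δ₀ F hS)).Exact := by
  refine ShortComplex.exact_of_iso ?_ (exact₃ F hS 0)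
  refine ShortComplex.isoMk (Iso.refl _) (Iso.refl _)
    (F.leftDerivedZeroIsoSelf.app S.X₁) ?_ ?_
  · dsimp
    rw [id_comp, comp_id]
  · dsimp [δ₀]
    rw [id_comp]

lemma mono_δ₀ (h : IsZero ((F.leftDerived 1).obj S.X₂)) : Mono (δ₀ F hS) :=
  (exact_map_g_δ₀ F hS).mono_g (h.eq_of_src _ _)

include hS in
/-- `L₁F(g)` is an isomorphism when `L₁F(X₁) = 0` and `F(f)` is a monomorphism. -/
lemma isIso_map_g_one (h₁ : IsZero ((F.leftDerived 1).obj S.X₁)) (hm : Mono (F.map S.f)) :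
    IsIso ((F.leftDerived 1).map S.g) :=
  isIso_map_g F hS 0 h₁ ((mono_leftDerived_zero_map_iff F S.f).mpr hm)

include hS in
/-- `L₁F(X₃) = 0` when `L₁F(X₂) = 0` and `F(f)` is a monomorphism. -/
lemma isZero_one_right (h₂ : IsZero ((F.leftDerived 1).obj S.X₂)) (hm : Mono (F.map S.f)) :
    IsZero ((F.leftDerived 1).obj S.X₃) := by
  have := mono_δ₀ F hS h₂
  have h0 : δ₀ F hS = 0 := by
    rw [← cancel_mono (F.map S.f), δ₀_map_f, zero_comp]
  rw [IsZero.iff_id_eq_zero, ← cancel_mono (δ₀ F hS), h0, comp_zero, comp_zero]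

end Groth.Agent.Lib.Helper68.LeftDerivedLES
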