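import Mathlib
import Groth.Prelude.Def_Magnet4
import Groth.Agent.Lib.Helper5.AMonPts
import Groth.Agent.Lib.Helper18.MonPts
import Groth.Agent.Lib.Helper18.AffLine.Defs
import Groth.Agent.Lib.Helper18.AffLine.Diag

/-!
# helper68: base change squares for `T₀ ◁ f` in `Over S` (for helper18's S18959)
-/

set_option autoImplicit false
universe u

open CategoryTheory CategoryTheory.Limits MonoidalCategory CartesianMonoidalCategory MonObj
  AlgebraicGeometry Opposite
open Magnet Groth.Agent.Lib.Helper18.AffLine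

namespace Groth.Agent.Lib.Helper68.ALBC

theorem isPullback_snd_fst_left {S : Scheme.{u}} (T₀ Y : Over S) :
    IsPullback (snd T₀ Y).left (fst T₀ Y).left Y.hom T₀.hom := by
  have h := (IsPullback.of_hasPullback T₀.hom Y.hom).flip
  exact h

theorem isPullback_whiskerLeft_left {S : Scheme.{u}} (T₀ : Over S) {X Y : Over S} (f : X ⟶ Y) :
    IsPullback (T₀ ◁ f).left (snd T₀ X).left (snd T₀ Y).left f.left := by
  have hX := (isPullback_snd_fst_left T₀ X).flip
  have hY := (isPullback_snd_fst_left T₀ Y).flip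
  have e1 : (T₀ ◁ f).left ≫ (fst T₀ Y).left = (fst T₀ X).left := by
    rw [← Over.comp_left, whiskerLeft_fst]
  have e2 : f.left ≫ Y.hom = X.hom := Over.w f
  have p : (T₀ ◁ f).left ≫ (snd T₀ Y).left = (snd T₀ X).left ≫ f.left := by
    rw [← Over.comp_left, ← Over.comp_left, whiskerLeft_snd]
  refine IsPullback.of_right ?_ p hY
  rw [e1, e2]
  exact hX

end Groth.Agent.Lib.Helper68.ALBC
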