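import Mathlib
import Groth.Prelude.Def_Magnet4
import Groth.Agent.Lib.Helper5.AMonPts
import Groth.Agent.Lib.Helper18.MonPts
import Groth.Agent.Lib.Helper18.AffLine.Defs
import Groth.Agent.Lib.Helper18.AffLine.Diag
import Groth.Agent.Lib.Helper68.ALBC

/-!
# helper68: fpqc descent of étaleness / surjectivity along `T₀ ◁ -` (for helper18's S18959)
-/

set_option autoImplicit false
universe u

open CategoryTheory CategoryTheory.Limits MonoidalCategory CartesianMonoidalCategory MonObj
  AlgebraicGeometry Opposite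
open Magnet Groth.Agent.Lib.Helper18.AffLine

namespace Groth.Agent.Lib.Helper68.ALDESC

open Groth.Agent.Lib.Helper68.ALBC

theorem etale_of_whiskerLeft {S : Scheme.{u}} {T₀ X Y : Over S} (f : X ⟶ Y)
    [Flat T₀.hom] [Surjective T₀.hom] [QuasiCompact T₀.hom]
    (h : Etale (T₀ ◁ f).left) : Etale f.left := by
  have h2 := (isPullback_snd_fst_left T₀ Y).flip
  have h1 := isPullback_whiskerLeft_left T₀ f
  have hs : Surjective (snd T₀ Y).left :=
    MorphismProperty.of_isPullback (P := @Surjective) h2 inferInstance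
  have hfl : Flat (snd T₀ Y).left :=
    MorphismProperty.of_isPullback (P := @Flat) h2 inferInstance
  have hqc : QuasiCompact (snd T₀ Y).left :=
    MorphismProperty.of_isPullback (P := @QuasiCompact) h2 inferInstance
  exact MorphismProperty.DescendsAlong.of_isPullback (P := @Etale)
    (Q := @Surjective ⊓ @Flat ⊓ @QuasiCompact) h1 ⟨⟨hs, hfl⟩, hqc⟩ h

theorem surjective_of_whiskerLeft {S : Scheme.{u}} {T₀ X Y : Over S} (f : X ⟶ Y)
    [Surjective T₀.hom] (h : Surjective (T₀ ◁ f).left) : Surjective f.left := by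
  have h2 := (isPullback_snd_fst_left T₀ Y).flip
  have h1 := isPullback_whiskerLeft_left T₀ f
  have hs : Surjective (snd T₀ Y).left :=
    MorphismProperty.of_isPullback (P := @Surjective) h2 inferInstance
  constructor
  intro y
  obtain ⟨y', hy'⟩ := hs.surj y
  obtain ⟨x', hx'⟩ := h.surj y'
  refine ⟨(snd T₀ X).left x', ?_⟩
  rw [← Scheme.Hom.comp_apply, ← h1.w, Scheme.Hom.comp_apply, hx', hy']

end Groth.Agent.Lib.Helper68.ALDESC
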