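import Mathlib

open CategoryTheory Abelian IsLocalRing

universe u

namespace Groth.Agent.Lib.Helper68.S18639L3

/-- The short complex `0 → J → R → R ⧸ J → 0` of `R`-modules. -/
noncomputable def sc {R : Type u} [CommRing R] (J : Ideal R) : ShortComplex (ModuleCat.{u} R) :=
  ShortComplex.mk (ModuleCat.ofHom (J.subtype : ↥J →ₗ[R] R))
    (ModuleCat.ofHom (Submodule.mkQ J : R →ₗ[R] R ⧸ J)) (by
      ext x
      exact Ideal.Quotient.eq_zero_iff_mem.2 x.2)

lemma sc_shortExact {R : Type u} [CommRing R] (J : Ideal R) : (sc J).ShortExact := by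
  have hex : (sc J).Exact := by
    rw [ShortComplex.moduleCat_exact_iff]
    intro x hx
    have hx' : (Ideal.Quotient.mk J) (show R from x) = 0 := hx
    exact ⟨⟨x, Ideal.Quotient.eq_zero_iff_mem.1 hx'⟩, rfl⟩
  have : Mono (sc J).f := by
    rw [ModuleCat.mono_iff_injective]
    exact Subtype.val_injective
  have : Epi (sc J).g := by
    rw [ModuleCat.epi_iff_surjective]
    exact Submodule.mkQ_surjective J
  exact ShortComplex.ShortExact.mk hex

theorem ext_one_subsingleton_of_baer {R : Type u} [CommRing R] (J : Ideal R) (Z : Type u)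
    [AddCommGroup Z] [Module R Z]
    (hB : ∀ h : ↥J →ₗ[R] Z, ∃ z : Z, ∀ r : ↥J, h r = (r : R) • z) :
    Subsingleton (Ext.{u} (ModuleCat.of R (R ⧸ J)) (ModuleCat.of R Z) 1) := by
  refine subsingleton_of_forall_eq 0 fun x => ?_
  have hS := sc_shortExact J
  -- the image of x in Ext^1(R, Z) vanishes since R is projective
  have : Projective (sc J).X₂ := by
    change Projective (ModuleCat.of R R)
    exact ModuleCat.projective_of_free (Module.Free.chooseBasis R R) 
  have hx3 : (Ext.mk₀ (sc J).g).comp (show Ext.{u} (sc J).X₃ (ModuleCat.of R Z) 1 from x)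
      (zero_add 1) = 0 := Ext.eq_zero_of_projective _
  obtain ⟨y, hy⟩ := Ext.contravariant_sequence_exact₃ hS (ModuleCat.of R Z)
    (show Ext.{u} (sc J).X₃ (ModuleCat.of R Z) 1 from x) hx3 (n₀ := 0) (by norm_num)
  -- y is a morphism J → Z, which extends to R by the Baer hypothesis
  obtain ⟨h, rfl⟩ := (Ext.mk₀_bijective _ _).2 y
  obtain ⟨z, hz⟩ := hB h.hom
  let gz : (sc J).X₂ ⟶ ModuleCat.of R Z :=
    ModuleCat.ofHom ((LinearMap.toSpanSingleton R Z z : R →ₗ[R] Z))
  have hfac : h = (sc J).f ≫ gz := by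
    ext r
    exact hz r
  have : x = 0 := by
    change (show Ext.{u} (sc J).X₃ (ModuleCat.of R Z) 1 from x) = 0
    rw [← hy, hfac, ← Ext.mk₀_comp_mk₀, ← Ext.comp_assoc_of_second_deg_zero,
      hS.extClass_comp, Ext.zero_comp]
  exact this

end Groth.Agent.Lib.Helper68.S18639L3
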