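import Groth.Prelude.Def_Wider
import Mathlib.Algebra.Homology.DerivedCategory.TStructure
import Mathlib.Algebra.Homology.DerivedCategory.FullyFaithful
import Mathlib.Algebra.Homology.DerivedCategory.Ext.Basic
import Mathlib.Algebra.Category.ModuleCat.Projective
import Mathlib.CategoryTheory.Abelian.Projective.Dimension

set_option autoImplicit false
universe u
open CategoryTheory
attribute [local instance] HasDerivedCategory.standard

namespace Groth.Agent.Lib.Helper68.DualBasic

open DerivedCategory

variable (A : Type u) [CommRing A]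

/-- No maps from a module in degree 0 to a negative shift of a module in degree 0. -/
lemma subsingleton_hom_neg (M N : ModuleCat.{u} A) (i : ℤ) (hi : i < 0) :
    Subsingleton ((singleFunctor (ModuleCat.{u} A) 0).obj M ⟶
      ((singleFunctor (ModuleCat.{u} A) 0).obj N)⟦i⟧) := by
  refine ⟨fun f g => ?_⟩
  have hN : (((singleFunctor (ModuleCat.{u} A) 0).obj N)⟦i⟧).IsGE (-i) :=
    TStructure.t.isGE_shift _ 0 i (-i) (by omega)
  rw [TStructure.t.zero_of_isLE_of_isGE f 0 (-i) (by omega) inferInstance hN,
    TStructure.t.zero_of_isLE_of_isGE g 0 (-i) (by omega) inferInstance hN]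

lemma subsingleton_hom_iff_ext (M N : ModuleCat.{u} A) (m : ℕ) :
    Subsingleton ((singleFunctor (ModuleCat.{u} A) 0).obj M ⟶
      ((singleFunctor (ModuleCat.{u} A) 0).obj N)⟦(m : ℤ)⟧) ↔
    Subsingleton (Abelian.Ext.{u} M N m) :=
  (Abelian.Ext.homEquiv (X := M) (Y := N) (n := m)).subsingleton_congr.symm

lemma subsingleton_hom_of_ext (M N : ModuleCat.{u} A) (i : ℤ)
    (h : ∀ m : ℕ, (m : ℤ) = i → Subsingleton (Abelian.Ext.{u} M N m)) :
    Subsingleton ((singleFunctor (ModuleCat.{u} A) 0).obj M ⟶
      ((singleFunctor (ModuleCat.{u} A) 0).obj N)⟦i⟧) := by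
  rcases lt_or_ge i 0 with hi | hi
  · exact subsingleton_hom_neg A M N i hi
  · obtain ⟨m, rfl⟩ := Int.eq_ofNat_of_zero_le hi
    exact (subsingleton_hom_iff_ext A M N m).mpr (h m rfl)


lemma finite_HD_single (N : Type u) [AddCommGroup N] [Module A N] [Module.Finite A N] (i : ℤ) :
    Module.Finite A (Dual.HD A (Dual.inD A N) i) := by
  by_cases hi : i = 0
  · subst hi
    let e := ((singleFunctorCompHomologyFunctorIso (ModuleCat.{u} A) 0).app
      (ModuleCat.of A N)).toLinearEquiv
    have hN : Module.Finite A ((𝟭 (ModuleCat.{u} A)).obj (ModuleCat.of A N)) :=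
      inferInstanceAs (Module.Finite A N)
    exact Module.Finite.equiv e.symm
  · have hz : Limits.IsZero ((homologyFunctor (ModuleCat.{u} A) i).obj (Dual.inD A N)) := by
      rcases lt_or_gt_of_ne hi with h | h
      · exact isZero_of_isGE _ 0 i h
      · exact isZero_of_isLE _ 0 i h
    have : Subsingleton ((homologyFunctor (ModuleCat.{u} A) i).obj (Dual.inD A N)) :=
      ModuleCat.subsingleton_of_isZero hz
    infer_instance

lemma toEnd_bijective_self :
    Function.Bijective (fun a : A => a • (CategoryStruct.id (Dual.inD A A))) := by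
  have h1 : Function.Bijective (fun a : A => a • (CategoryStruct.id (ModuleCat.of A A))) := by
    constructor
    · intro a b hab
      have := congrArg (fun f => f.hom (1 : A)) hab
      simpa using this
    · intro f
      refine ⟨f.hom (1 : A), ?_⟩
      ext
      simp
  have h2 : Function.Bijective
      ((singleFunctor (ModuleCat.{u} A) 0).map (X := ModuleCat.of A A) (Y := ModuleCat.of A A)) :=
    ⟨(singleFunctor (ModuleCat.{u} A) 0).map_injective, (singleFunctor (ModuleCat.{u} A) 0).map_surjective⟩
  have h3 : (fun a : A => a • (CategoryStruct.id (Dual.inD A A))) =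
      ((singleFunctor (ModuleCat.{u} A) 0).map (X := ModuleCat.of A A) (Y := ModuleCat.of A A)) ∘
        (fun a : A => a • (CategoryStruct.id (ModuleCat.of A A))) := by
    funext a
    simp [Functor.map_smul]
  rw [h3]
  exact h2.comp h1


theorem isDualizing_self_of_hasInjectiveDimensionLT [IsNoetherianRing A] (n : ℕ)
    [HasInjectiveDimensionLT (ModuleCat.of A A) n] : Dual.IsDualizing A (Dual.inD A A) where
  isNoetherianRing := inferInstance
  finite_injective_dimension := ⟨0, (n : ℤ) - 1, fun M _ _ i hi => by
    apply subsingleton_hom_of_ext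
    intro m hm
    have hnm : n ≤ m := by omega
    exact HasInjectiveDimensionLT.subsingleton _ n m hnm _⟩
  finite_cohomology := finite_HD_single A A
  toEnd_bijective := toEnd_bijective_self A
  ext_self_subsingleton := fun i hi => by
    apply subsingleton_hom_of_ext
    intro m hm
    have h1m : 1 ≤ m := by omega
    exact HasProjectiveDimensionLT.subsingleton _ 1 m h1m _

theorem exists_hasInjectiveDimensionLT_of_isDualizing_self
    (h : Dual.IsDualizing A (Dual.inD A A)) :
    ∃ n : ℕ, HasInjectiveDimensionLT (ModuleCat.of A A) n := by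
  obtain ⟨a, b, hab⟩ := h.finite_injective_dimension
  refine ⟨(b + 1).toNat, HasInjectiveDimensionLT.mk (fun i hi Y e => ?_)⟩
  have hs := hab Y (i : ℤ) (Or.inr (by omega))
  have : Subsingleton (Abelian.Ext.{u} Y (ModuleCat.of A A) i) :=
    (subsingleton_hom_iff_ext A Y (ModuleCat.of A A) i).mp hs
  exact Subsingleton.elim _ _

end Groth.Agent.Lib.Helper68.DualBasic
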