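import Groth.Agent.Lib.Helper68.InjLES2
import Mathlib.Algebra.Homology.ShortComplex.ExactFunctor

/-! The long exact sequence of right derived functors `F.rightDerived n` of an additive functor
between abelian categories (the source having injective resolutions), for a short exact
sequence in the source; the connecting morphism `δ` is the one computed from any resolution of
the sequence (`RDer.SESRes.delta`), and it is natural. -/

set_option autoImplicit false
universe v u v' u'

open CategoryTheory Category Limits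

namespace Groth.Agent.Lib.Helper68.RightDerivedLES

open Groth.Agent.Lib.Helper68.InjHorseshoe Groth.Agent.Lib.Helper68.InjLES

variable {C : Type u} [Category.{v} C] [Abelian C] [HasInjectiveResolutions C]
variable {D : Type u'} [Category.{v'} D] [Abelian D] (F : C ⥤ D) [F.Additive]
variable {S : ShortComplex C} (hS : S.ShortExact)

/-- the chosen resolution of a short exact sequence -/
noncomputable def res : RDer.SESRes S :=
  sesRes hS (injectiveResolution S.X₁) (injectiveResolution S.X₃)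

lemma map_f_map_g (n : ℕ) : (F.rightDerived n).map S.f ≫ (F.rightDerived n).map S.g = 0 := by
  rw [← Functor.map_comp, S.zero, Functor.map_zero]

include hS in
/-- exactness of `RⁿF(X₁) ⟶ RⁿF(X₂) ⟶ RⁿF(X₃)` -/
theorem exact₂ (n : ℕ) :
    (ShortComplex.mk ((F.rightDerived n).map S.f) ((F.rightDerived n).map S.g)
      (map_f_map_g F n)).Exact :=
  InjLES.exact₂ F (res hS) n

/-- the connecting morphism `RⁿF(X₃) ⟶ Rⁿ⁺¹F(X₁)` -/
noncomputable def δ (n : ℕ) : (F.rightDerived n).obj S.X₃ ⟶ (F.rightDerived (n + 1)).obj S.X₁ :=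
  (res hS).delta F n (n + 1) rfl

/-- the connecting morphism is computed by any resolution of the sequence -/
lemma δ_eq (T : RDer.SESRes S) (n : ℕ) : δ F hS n = T.delta F n (n + 1) rfl :=
  delta_eq_delta F hS _ T n (n + 1) rfl

/-- naturality of the connecting morphism -/
lemma δ_natural {S' : ShortComplex C} (hS' : S'.ShortExact) (φ : S ⟶ S') (n : ℕ) :
    (F.rightDerived n).map φ.τ₃ ≫ δ F hS' n = δ F hS n ≫ (F.rightDerived (n + 1)).map φ.τ₁ :=
  delta_natural F hS _ _ φ n (n + 1) rfl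

@[reassoc (attr := simp)]
lemma map_g_δ (n : ℕ) : (F.rightDerived n).map S.g ≫ δ F hS n = 0 :=
  comp_delta F _ n (n + 1) rfl

@[reassoc (attr := simp)]
lemma δ_map_f (n : ℕ) : δ F hS n ≫ (F.rightDerived (n + 1)).map S.f = 0 :=
  delta_comp F _ n (n + 1) rfl

/-- exactness of `RⁿF(X₂) ⟶ RⁿF(X₃) ⟶ Rⁿ⁺¹F(X₁)` -/
theorem exact₃ (n : ℕ) :
    (ShortComplex.mk ((F.rightDerived n).map S.g) (δ F hS n) (map_g_δ F hS n)).Exact :=
  InjLES.exact₃ F _ n (n + 1) rfl

/-- exactness of `RⁿF(X₃) ⟶ Rⁿ⁺¹F(X₁) ⟶ Rⁿ⁺¹F(X₂)` -/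
theorem exact₁ (n : ℕ) :
    (ShortComplex.mk (δ F hS n) ((F.rightDerived (n + 1)).map S.f) (δ_map_f F hS n)).Exact :=
  InjLES.exact₁ F _ n (n + 1) rfl

include hS in
/-- `R⁰F(X₁) ⟶ R⁰F(X₂)` is a monomorphism -/
theorem mono_map_f_zero : Mono ((F.rightDerived 0).map S.f) := by
  have := ((res hS).map_shortExact F).mono_f
  have h1 : Mono (HomologicalComplex.homologyMap (mapSC F (res hS)).f 0) :=
    HomologicalComplex.mono_homologyMap_of_mono_of_not_rel _ 0 (by simp)
  have h2 := sq₁ F (res hS) 0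
  have h3 : Mono ((F.rightDerived 0).map S.f ≫ (iso₂ F (res hS) 0).hom) := by
    rw [h2]
    infer_instance
  exact mono_of_mono _ (iso₂ F (res hS) 0).hom

/-- `R⁰F` is left exact -/
instance preservesFiniteLimits_rightDerived_zero : PreservesFiniteLimits (F.rightDerived 0) := by
  rw [Functor.preservesFiniteLimits_iff_forall_exact_map_and_mono]
  intro S hS
  exact ⟨exact₂ F hS 0, mono_map_f_zero F hS⟩

/-- `δ` is a monomorphism when `RⁿF(X₂) = 0`. -/
lemma mono_δ (n : ℕ) (h : IsZero ((F.rightDerived n).obj S.X₂)) : Mono (δ F hS n) :=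
  (exact₃ F hS n).mono_g (h.eq_of_src _ _)

/-- `δ` is an epimorphism when `Rⁿ⁺¹F(X₂) = 0`. -/
lemma epi_δ (n : ℕ) (h : IsZero ((F.rightDerived (n + 1)).obj S.X₂)) : Epi (δ F hS n) :=
  (exact₁ F hS n).epi_f (h.eq_of_tgt _ _)

/-- dimension shifting: `δ` is an isomorphism when `RⁿF(X₂) = 0 = Rⁿ⁺¹F(X₂)`. -/
lemma isIso_δ (n : ℕ) (h : IsZero ((F.rightDerived n).obj S.X₂))
    (h' : IsZero ((F.rightDerived (n + 1)).obj S.X₂)) : IsIso (δ F hS n) := by
  have := mono_δ F hS n h
  have := epi_δ F hS n h'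
  exact isIso_of_mono_of_epi _

include hS in
/-- the middle term vanishes when both ends do -/
lemma isZero_mid (n : ℕ) (h₁ : IsZero ((F.rightDerived n).obj S.X₁))
    (h₃ : IsZero ((F.rightDerived n).obj S.X₃)) : IsZero ((F.rightDerived n).obj S.X₂) :=
  (exact₂ F hS n).isZero_of_both_zeros (h₁.eq_of_src _ _) (h₃.eq_of_tgt _ _)

include hS in
/-- the right term vanishes when `RⁿF(X₂) = 0 = Rⁿ⁺¹F(X₁)` -/
lemma isZero_right (n : ℕ) (h₂ : IsZero ((F.rightDerived n).obj S.X₂))
    (h₁ : IsZero ((F.rightDerived (n + 1)).obj S.X₁)) : IsZero ((F.rightDerived n).obj S.X₃) :=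
  (exact₃ F hS n).isZero_of_both_zeros (h₂.eq_of_src _ _) (h₁.eq_of_tgt _ _)

include hS in
/-- the left term vanishes when `RⁿF(X₃) = 0 = Rⁿ⁺¹F(X₂)` -/
lemma isZero_left (n : ℕ) (h₃ : IsZero ((F.rightDerived n).obj S.X₃))
    (h₂ : IsZero ((F.rightDerived (n + 1)).obj S.X₂)) :
    IsZero ((F.rightDerived (n + 1)).obj S.X₁) :=
  (exact₁ F hS n).isZero_of_both_zeros (h₃.eq_of_src _ _) (h₂.eq_of_tgt _ _)

end Groth.Agent.Lib.Helper68.RightDerivedLES
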