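import Groth.Agent.Lib.Helper68.FunFldRes

/-! Valuation helper lemmas and constants modulo two places. -/

set_option autoImplicit false
open FunFld Polynomial

namespace Groth.Agent.Lib.Helper68.FunFldRes

variable {k K : Type*} [Field k] [Field K] [Algebra k K]


section val
variable {Γ : Type*} [LinearOrderedCommGroupWithZero Γ] (v : Valuation K Γ)

lemma v_le_of_sub_lt {x d : K} (h : v (x - d) < 1) (hd : v d ≤ 1) : v x ≤ 1 := by
  have : x = (x - d) + d := by ring
  rw [this]
  exact (v.map_add _ _).trans (max_le h.le hd)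

lemma v_lt_iff_of_sub_lt {x d : K} (h : v (x - d) < 1) : v x < 1 ↔ v d < 1 := by
  constructor
  · intro hx
    have : d = x - (x - d) := by ring
    rw [this]
    exact (v.map_sub _ _).trans_lt (max_lt hx h)
  · intro hd
    have : x = (x - d) + d := by ring
    rw [this]
    exact (v.map_add _ _).trans_lt (max_lt h hd)

lemma v_div_sub_lt {a b A B : K} (hb : v b = 1) (hB : v B = 1) (hA : v A ≤ 1)
    (h1 : v (a - A) < 1) (h2 : v (b - B) < 1) : v (a / b - A / B) < 1 := by
  have hb0 : b ≠ 0 := by
    rintro rfl; simp at hb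
  have hB0 : B ≠ 0 := by
    rintro rfl; simp at hB
  have : a / b - A / B = ((a - A) * B - A * (b - B)) / (b * B) := by
    field_simp
    ring
  rw [this, map_div₀, map_mul, hb, hB, one_mul, div_one]
  refine (v.map_sub _ _).trans_lt (max_lt ?_ ?_)
  · rw [map_mul, hB, mul_one]; exact h1
  · rw [map_mul]
    calc v A * v (b - B) ≤ 1 * v (b - B) := by gcongr
      _ = v (b - B) := one_mul _
      _ < 1 := h2

end val

lemma const_lt_one_iff (P : Place k K) (d : k) : P.1 (algebraMap k K d) < 1 ↔ d = 0 := by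
  constructor
  · intro h
    by_contra hd
    rw [val_const P hd] at h
    exact lt_irrefl _ h
  · rintro rfl
    simp

lemma key_adjoin (P Q : Place k K) (s : Set K)
    (hs : ∀ x ∈ s, ∃ c : k, P.1 (x - algebraMap k K c) < 1 ∧ Q.1 (x - algebraMap k K c) < 1)
    {x : K} (hx : x ∈ Algebra.adjoin k s) :
    ∃ d : k, P.1 (x - algebraMap k K d) < 1 ∧ Q.1 (x - algebraMap k K d) < 1 := by
  induction hx using Algebra.adjoin_induction with
  | mem x hx => exact hs x hx
  | algebraMap r => exact ⟨r, by simp, by simp⟩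
  | add x y _ _ hx hy =>
    obtain ⟨d1, h1, h1'⟩ := hx
    obtain ⟨d2, h2, h2'⟩ := hy
    refine ⟨d1 + d2, ?_, ?_⟩
    · have : x + y - algebraMap k K (d1 + d2) = (x - algebraMap k K d1) + (y - algebraMap k K d2) := by
        rw [map_add]; ring
      rw [this]
      exact (P.1.map_add _ _).trans_lt (max_lt h1 h2)
    · have : x + y - algebraMap k K (d1 + d2) = (x - algebraMap k K d1) + (y - algebraMap k K d2) := by
        rw [map_add]; ring
      rw [this]
      exact (Q.1.map_add _ _).trans_lt (max_lt h1' h2')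
  | mul x y _ _ hx hy =>
    obtain ⟨d1, h1, h1'⟩ := hx
    obtain ⟨d2, h2, h2'⟩ := hy
    have e : x * y - algebraMap k K (d1 * d2) =
        (x - algebraMap k K d1) * y + algebraMap k K d1 * (y - algebraMap k K d2) := by
      rw [map_mul]; ring
    refine ⟨d1 * d2, ?_, ?_⟩
    · rw [e]
      refine (P.1.map_add _ _).trans_lt (max_lt ?_ ?_)
      · rw [map_mul]
        have hy1 : P.1 y ≤ 1 := v_le_of_sub_lt P.1 h2 (P.2.1 d2)
        calc P.1 (x - algebraMap k K d1) * P.1 y ≤ P.1 (x - algebraMap k K d1) * 1 := by gcongr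
          _ = _ := mul_one _
          _ < 1 := h1
      · rw [map_mul]
        calc P.1 (algebraMap k K d1) * P.1 (y - algebraMap k K d2)
            ≤ 1 * P.1 (y - algebraMap k K d2) := by gcongr; exact P.2.1 d1
          _ = _ := one_mul _
          _ < 1 := h2
    · rw [e]
      refine (Q.1.map_add _ _).trans_lt (max_lt ?_ ?_)
      · rw [map_mul]
        have hy1 : Q.1 y ≤ 1 := v_le_of_sub_lt Q.1 h2' (Q.2.1 d2)
        calc Q.1 (x - algebraMap k K d1) * Q.1 y ≤ Q.1 (x - algebraMap k K d1) * 1 := by gcongr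
          _ = _ := mul_one _
          _ < 1 := h1'
      · rw [map_mul]
        calc Q.1 (algebraMap k K d1) * Q.1 (y - algebraMap k K d2)
            ≤ 1 * Q.1 (y - algebraMap k K d2) := by gcongr; exact Q.2.1 d1
          _ = _ := one_mul _
          _ < 1 := h2'

end Groth.Agent.Lib.Helper68.FunFldRes
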