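import Groth.Prelude.Def_W4bk4goldsch23FF
import Mathlib.RingTheory.AlgebraicIndependent.TranscendenceBasis
import Mathlib.RingTheory.Valuation.Integral
import Mathlib.FieldTheory.IsAlgClosed.Basic
import Mathlib.FieldTheory.IntermediateField.Adjoin.Algebra

/-! Function fields of one variable over an algebraically closed constant field:
every element integral at a place is congruent to a constant (`exists_const`),
plus small valuation lemmas. -/

set_option autoImplicit false
open FunFld Polynomial

namespace Groth.Agent.Lib.Helper68.FunFldRes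

variable {k K : Type*} [Field k] [Field K] [Algebra k K]


lemma val_const (P : Place k K) {c : k} (hc : c ≠ 0) : P.1 (algebraMap k K c) = 1 := by
  refine le_antisymm (P.2.1 c) ?_
  have h1 := P.2.1 c⁻¹
  have h2 : P.1 (algebraMap k K c) * P.1 (algebraMap k K c⁻¹) = 1 := by
    rw [← map_mul, ← map_mul, mul_inv_cancel₀ hc, map_one, map_one]
  calc (1 : WithZero (Multiplicative ℤ)) = _ := h2.symm
    _ ≤ P.1 (algebraMap k K c) * 1 := by gcongr
    _ = _ := mul_one _

/-- integer subalgebra -/
def intSub (P : Place k K) : Subalgebra k K :=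
  { P.1.integer.toSubsemiring with
    algebraMap_mem' := fun c => P.2.1 c }

lemma mem_intSub (P : Place k K) (x : K) : x ∈ intSub P ↔ P.1 x ≤ 1 := Iff.rfl

lemma val_aeval_le (P : Place k K) {y : K} (hy : P.1 y ≤ 1) (f : k[X]) : P.1 (aeval y f) ≤ 1 := by
  have h1 : Algebra.adjoin k {y} ≤ intSub P := Algebra.adjoin_le (by
    intro z hz
    rw [Set.mem_singleton_iff] at hz
    subst hz
    exact hy)
  exact h1 (aeval_mem_adjoin_singleton k y)


open scoped IntermediateField.algebraAdjoinAdjoin in
lemma isAlgebraic_adjoin_of_transcendental (hK : IsFunctionField k K) {y : K}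
    (hy : Transcendental k y) : Algebra.IsAlgebraic (Algebra.adjoin k ({y} : Set K)) K := by
  obtain ⟨⟨x, hx, hfin⟩, -⟩ := hK
  have h1 : Algebra.IsAlgebraic (IntermediateField.adjoin k ({x} : Set K)) K :=
    Algebra.IsAlgebraic.of_finite _ _
  have h2 : Algebra.IsAlgebraic (Algebra.adjoin k ({x} : Set K)) K :=
    Algebra.IsAlgebraic.trans (Algebra.adjoin k ({x} : Set K))
      (IntermediateField.adjoin k ({x} : Set K)) K
  have h3 : Algebra.trdeg k K ≤ 1 := by
    have := Algebra.IsAlgebraic.trdeg_le_cardinalMk k ({x} : Set K)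
    simpa using this
  have hy' : AlgebraicIndependent k (fun _ : PUnit => y) := by
    rwa [algebraicIndependent_unique_type_iff]
  have h4 : IsTranscendenceBasis k (fun _ : PUnit => y) :=
    hy'.isTranscendenceBasis_of_trdeg_le_of_finite (by simpa using h3)
  have h5 := h4.isAlgebraic
  have : Set.range (fun _ : PUnit => y) = {y} := by
    ext z; simp [eq_comm]
  rwa [this] at h5


lemma val_le_one_of_isIntegral (P : Place k K) (B : Subalgebra k K) (hB : B ≤ intSub P) {z : K}
    (hz : IsIntegral B z) : P.1 z ≤ 1 := by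
  let φ : B →+* P.1.integer :=
    { toFun := fun b => ⟨b.1, hB b.2⟩
      map_one' := rfl
      map_mul' := fun _ _ => rfl
      map_zero' := rfl
      map_add' := fun _ _ => rfl }
  have hcomp : (algebraMap P.1.integer K).comp φ = algebraMap B K := rfl
  have h1 : (algebraMap P.1.integer K).IsIntegralElem z := by
    apply RingHom.IsIntegralElem.of_comp (f := φ)
    rw [hcomp]
    exact hz
  exact (Valuation.integer.integers P.1).mem_of_integral h1

lemma all_le_one (hK : IsFunctionField k K) (P : Place k K) {y : K} (hy : P.1 y ≤ 1)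
    (hyt : Transcendental k y) (hall : ∀ f : k[X], f ≠ 0 → 1 ≤ P.1 (aeval y f)) (t : K) :
    P.1 t ≤ 1 := by
  have halg := isAlgebraic_adjoin_of_transcendental hK hyt
  obtain ⟨b, hb0, hbint⟩ := (halg.isAlgebraic t).exists_integral_multiple
  have hB : Algebra.adjoin k ({y} : Set K) ≤ intSub P := Algebra.adjoin_le (by
    intro z hz
    rw [Set.mem_singleton_iff] at hz
    subst hz
    exact hy)
  have h1 : P.1 (b • t) ≤ 1 := val_le_one_of_isIntegral P _ hB hbint
  have hbmem : (b : K) ∈ (aeval (R := k) y).range := by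
    rw [← Algebra.adjoin_singleton_eq_range_aeval]; exact b.2
  obtain ⟨f, hf⟩ := hbmem
  have hf0 : f ≠ 0 := by
    rintro rfl
    apply hb0
    ext
    rw [← hf]; simp
  have h2 : P.1 (b : K) = 1 := by
    rw [← hf]
    exact le_antisymm (val_aeval_le P hy f) (hall f hf0)
  have h3 : b • t = (b : K) * t := rfl
  rw [h3, map_mul, h2, one_mul] at h1
  exact h1


lemma exists_root_val [IsAlgClosed k] (P : Place k K) {y : K} (hy : P.1 y ≤ 1) :
    ∀ (n : ℕ) (f : k[X]), f.natDegree = n → f ≠ 0 → P.1 (aeval y f) < 1 →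
      ∃ c : k, P.1 (y - algebraMap k K c) < 1 := by
  intro n
  induction n with
  | zero =>
    intro f hdeg hf0 hlt
    exfalso
    rw [Polynomial.eq_C_of_natDegree_eq_zero hdeg] at hlt hf0
    rw [aeval_C] at hlt
    have : f.coeff 0 ≠ 0 := by
      intro h; apply hf0; rw [h, C_0]
    rw [val_const P this] at hlt
    exact lt_irrefl _ hlt
  | succ n ih =>
    intro f hdeg hf0 hlt
    have hdeg' : f.degree ≠ 0 := by
      rw [Polynomial.degree_eq_natDegree hf0, hdeg]
      exact_mod_cast Nat.succ_ne_zero n
    obtain ⟨c, hc⟩ := IsAlgClosed.exists_root f hdeg'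
    obtain ⟨g, hg⟩ := Polynomial.dvd_iff_isRoot.mpr hc
    by_cases h1 : P.1 (y - algebraMap k K c) < 1
    · exact ⟨c, h1⟩
    · have hg0 : g ≠ 0 := by
        rintro rfl; apply hf0; rw [hg, mul_zero]
      have hgdeg : g.natDegree = n := by
        have := congrArg Polynomial.natDegree hg
        rw [Polynomial.natDegree_mul (Polynomial.X_sub_C_ne_zero c) hg0,
          Polynomial.natDegree_X_sub_C, hdeg] at this
        omega
      apply ih g hgdeg hg0
      rw [hg, map_mul, map_mul] at hlt
      have h2 : (aeval y) (X - C c) = y - algebraMap k K c := by simp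
      rw [h2] at hlt
      have h3 : P.1 (y - algebraMap k K c) = 1 := by
        refine le_antisymm ?_ (not_lt.mp h1)
        exact (P.1.map_sub _ _).trans (max_le hy (P.2.1 c))
      rwa [h3, one_mul] at hlt

lemma exists_const (hK : IsFunctionField k K) [IsAlgClosed k] (P : Place k K) {y : K}
    (hy : P.1 y ≤ 1) : ∃ c : k, P.1 (y - algebraMap k K c) < 1 := by
  by_cases hyk : y ∈ Set.range (algebraMap k K)
  · obtain ⟨c, rfl⟩ := hyk
    exact ⟨c, by simp⟩
  have hyt : Transcendental k y := fun halg => hyk (hK.2 y halg)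
  by_contra hcon
  have hall : ∀ f : k[X], f ≠ 0 → 1 ≤ P.1 (aeval y f) := by
    intro f hf0
    by_contra hlt
    exact hcon (exists_root_val P hy _ f rfl hf0 (not_le.mp hlt))
  have hle := all_le_one hK P hy hyt hall
  obtain ⟨t, ht⟩ := P.2.2 (WithZero.exp 1)
  have := hle t
  rw [ht] at this
  have h2 : (1 : WithZero (Multiplicative ℤ)) < WithZero.exp 1 := by
    rw [← WithZero.exp_zero, WithZero.exp_lt_exp]; norm_num
  exact absurd this (not_le.mpr h2)

end Groth.Agent.Lib.Helper68.FunFldRes
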