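import Mathlib.CategoryTheory.Abelian.Injective.Ext
import Mathlib.CategoryTheory.Abelian.RightDerived
import Mathlib.Algebra.Homology.ShortComplex.Ab
import Mathlib.Algebra.Homology.ShortComplex.HomologicalComplex
import Mathlib.GroupTheory.QuotientGroup.Basic
import Mathlib.CategoryTheory.Preadditive.Yoneda.Limits

/-! `Ext` groups as right derived functors of `Hom`. -/

set_option autoImplicit false
universe w v u

open CategoryTheory Category Limits Abelian

namespace Groth.Agent.Lib.Helper68.ExtRD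

variable {𝒜 : Type u} [Category.{v} 𝒜] [Abelian 𝒜] [HasInjectiveResolutions 𝒜] [HasExt.{w} 𝒜]
  (H : 𝒜 ⥤ AddCommGrpCat.{w}) [H.Additive] (P : 𝒜)
  (θ : ∀ Y : 𝒜, H.obj Y ≃+ (P ⟶ Y))
  (hθ : ∀ {Y Y' : 𝒜} (f : Y ⟶ Y') (x : H.obj Y), θ Y' (H.map f x) = θ Y x ≫ f)

section

variable {Y : 𝒜} (I : InjectiveResolution Y) (k : ℕ)

/-- the short complex computing the cohomology in degree `k + 1` -/
noncomputable abbrev Sk : ShortComplex AddCommGrpCat.{w} :=
  ShortComplex.mk (H.map (I.cocomplex.d k (k + 1))) (H.map (I.cocomplex.d (k + 1) (k + 2)))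
    (by rw [← H.map_comp, I.cocomplex.d_comp_d, H.map_zero])

/-- the group of cocycles -/
noncomputable abbrev Zk : AddSubgroup (H.obj (I.cocomplex.X (k + 1))) :=
  AddMonoidHom.ker (H.map (I.cocomplex.d (k + 1) (k + 2))).hom

include hθ in
lemma θ_comp_d_eq_zero (x : Zk H I k) :
    θ _ x.1 ≫ I.cocomplex.d (k + 1) (k + 2) = 0 := by
  have h : (H.map (I.cocomplex.d (k + 1) (k + 2))).hom x.1 = 0 := x.2
  have h2 := hθ (I.cocomplex.d (k + 1) (k + 2)) x.1
  rw [← h2]
  change θ _ ((H.map (I.cocomplex.d (k + 1) (k + 2))).hom x.1) = 0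
  rw [h, map_zero]

/-- the class map from cocycles to `Ext` -/
noncomputable def φ : Zk H I k →+ Ext P Y (k + 1) where
  toFun x := I.extMk (θ _ x.1) (k + 2) rfl (θ_comp_d_eq_zero H P θ hθ I k x)
  map_zero' := by
    have h : θ (I.cocomplex.X (k + 1)) ((0 : Zk H I k) : H.obj (I.cocomplex.X (k + 1))) = 0 :=
      map_zero _
    simp only [h]
    exact I.extMk_zero (k + 2) rfl
  map_add' a b := by
    rw [I.add_extMk]
    congr 1
    exact map_add (θ (I.cocomplex.X (k + 1))) a.1 b.1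

include hθ in
lemma φ_surjective : Function.Surjective (φ H P θ hθ I k) := by
  intro α
  obtain ⟨g, hg, rfl⟩ := I.extMk_surjective α (k + 2) rfl
  have hx : (θ _).symm g ∈ Zk H I k := by
    rw [AddMonoidHom.mem_ker]
    apply (θ _).injective
    have h2 := hθ (I.cocomplex.d (k + 1) (k + 2)) ((θ _).symm g)
    rw [AddEquiv.apply_symm_apply, hg] at h2
    rw [map_zero]
    exact h2
  refine ⟨⟨(θ _).symm g, hx⟩, ?_⟩
  simp only [φ, AddMonoidHom.coe_mk, ZeroHom.coe_mk]
  congr 1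
  exact (θ _).apply_symm_apply g

include hθ in
lemma φ_ker : (φ H P θ hθ I k).ker = AddMonoidHom.range (Sk H I k).abToCycles := by
  ext x
  rw [AddMonoidHom.mem_ker, AddMonoidHom.mem_range]
  simp only [φ, AddMonoidHom.coe_mk, ZeroHom.coe_mk]
  rw [I.extMk_eq_zero_iff _ (k + 2) rfl _ k rfl]
  constructor
  · rintro ⟨g, hg⟩
    refine ⟨(θ _).symm g, ?_⟩
    apply Subtype.ext
    apply (θ _).injective
    rw [← hg]
    have h2 := hθ (I.cocomplex.d k (k + 1)) ((θ _).symm g)
    rw [AddEquiv.apply_symm_apply] at h2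
    exact h2
  · rintro ⟨y, rfl⟩
    exact ⟨θ _ y, (hθ (I.cocomplex.d k (k + 1)) y).symm⟩

end

include hθ in
/-- `Ext^{k+1}(P, Y)` is the `(k+1)`-st right derived functor of `H ≅ Hom(P, -)` -/
theorem nonempty_iso_succ (Y : 𝒜) (k : ℕ) :
    Nonempty ((H.rightDerived (k + 1)).obj Y ≅ AddCommGrpCat.of (Ext P Y (k + 1))) := by
  let I := injectiveResolution Y
  let K := (H.mapHomologicalComplex _).obj I.cocomplex
  let e1 : (H.rightDerived (k + 1)).obj Y ≅ K.homology (k + 1) := I.isoRightDerivedObj H (k + 1)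
  let e2 : K.homology (k + 1) ≅ (Sk H I k).homology :=
    K.homologyIsoSc' k (k + 1) (k + 2) (by simp) (by simp)
  let e3 := (Sk H I k).abHomologyIso
  let e4 : (AddMonoidHom.ker (Sk H I k).g.hom ⧸ AddMonoidHom.range (Sk H I k).abToCycles) ≃+
      Ext P Y (k + 1) :=
    (QuotientAddGroup.quotientAddEquivOfEq (φ_ker H P θ hθ I k).symm).trans
      (QuotientAddGroup.quotientKerEquivOfSurjective _ (φ_surjective H P θ hθ I k))
  exact ⟨e1 ≪≫ e2 ≪≫ e3 ≪≫ e4.toAddCommGrpIso⟩

include hθ in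
/-- `Ext^n(P, Y)` is the `n`-th right derived functor of `H ≅ Hom(P, -)` -/
theorem nonempty_iso [PreservesFiniteLimits H] (Y : 𝒜) (n : ℕ) :
    Nonempty ((H.rightDerived n).obj Y ≅ AddCommGrpCat.of (Ext P Y n)) := by
  cases n with
  | zero =>
    exact ⟨H.rightDerivedZeroIsoSelf.app Y ≪≫
      ((θ Y).trans Ext.addEquiv₀.symm).toAddCommGrpIso⟩
  | succ k => exact nonempty_iso_succ H P θ hθ Y k

end Groth.Agent.Lib.Helper68.ExtRD
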