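import Groth.Agent.Lib.Helper68.GSSDer6

set_option autoImplicit false
universe w v v' v'' u u' u''

open CategoryTheory Category Limits Pretriangulated ComposableArrows
open scoped ZeroObject

namespace Groth.Agent.Lib.Helper68.GSSDer

/-- **The Grothendieck spectral sequence**, with the abutment transported to any family of objects
`H''` isomorphic to `R^n(T ⋙ S)(A)` in degrees `n ≥ 0` and zero in negative degrees. -/
theorem exists_spectralSequence_of_iso
    {C : Type u} [Category.{v} C] [Abelian C] [HasInjectiveResolutions C]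
    {C' : Type u'} [Category.{v'} C'] [Abelian C'] [HasInjectiveResolutions C']
    {C'' : Type u''} [Category.{v''} C''] [Abelian C'']
    (T : C ⥤ C') [T.Additive] (S : C' ⥤ C'') [S.Additive] [PreservesFiniteLimits S]
    (hT : ∀ Q : C, Injective Q → ∀ q : ℕ, 0 < q → IsZero ((S.rightDerived q).obj (T.obj Q)))
    (A : C) (H'' : ℤ → C'')
    (e' : ∀ n : ℤ, 0 ≤ n → (((T ⋙ S).rightDerived n.toNat).obj A ≅ H'' n))
    (h0 : ∀ n : ℤ, n < 0 → IsZero (H'' n)) :
    ∃ (E : E₂CohomologicalSpectralSequence C'') (a : SpSeq.Abutment E H''),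
      (∀ n, a.IsFinite n) ∧ SpSeq.IsBounded E ∧
      ∀ p q : ℤ, Nonempty ((E.page 2 le_rfl).X (p, q) ≅
        (if 0 ≤ p ∧ 0 ≤ q then
          (S.rightDerived p.toNat).obj ((T.rightDerived q.toNat).obj A) else 0)) := by
  letI : HasDerivedCategory C' := HasDerivedCategory.standard C'
  haveI : EnoughInjectives C' := enoughInjectives_of_hasInjectiveResolutions
  let J := injectiveResolution A
  let K : CochainComplex.Plus C' :=
    plusMk ((T.mapHomologicalComplex (ComplexShape.up ℤ)).obj J.cochainComplex) 0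
  let X := DerivedCategory.Plus.Q.obj K
  haveI : X.IsGE 0 := by
    rw [← DerivedCategory.Plus.isGE_ι_obj_iff]
    exact DerivedCategory.TStructure.t.isGE_of_iso (ιQIso K).symm 0
  let Y := hyperSpectralObject S X
  have hK : ∀ (j : ℤ) (i : ℕ), 0 < i → IsZero ((S.rightDerived i).obj (K.obj.X j)) :=
    fun j i hi => hT _ (inferInstanceAs (Injective (J.cochainComplex.X j))) i hi
  have e : ∀ n, GSSConv.Hinf Y n ≅ H'' n := by
    intro n
    by_cases hn : 0 ≤ n
    · exact (nonempty_shiftIsoOfAcyclic S n K 0 hK).some ≪≫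
        homologyMapCochainComplexIso (T ⋙ S) J n n.toNat (Int.toNat_of_nonneg hn) ≪≫ e' n hn
    · exact (GSSConv.isZero_Hinf_of_neg Y n (by lia)).iso (h0 n (by lia))
  obtain ⟨a, ha, hb⟩ := GSSConv.exists_abutment Y e
  refine ⟨Y.E₂SpectralSequence, a, ha, hb, ?_⟩
  intro p q
  by_cases hpq : 0 ≤ p ∧ 0 ≤ q
  · rw [if_pos hpq]
    obtain ⟨hp, hq⟩ := hpq
    let W := ((tP (C' := C')).truncGE q).obj (((tP (C' := C')).truncLT (q + 1)).obj X)
    haveI : W.IsGE q := (tP (C' := C')).isGE_eTruncGE_obj_obj q (q : EInt) le_rfl _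
    haveI : (tP (C' := C')).IsLE (((tP (C' := C')).truncLT (q + 1)).obj X) q :=
      (tP (C' := C')).isLE_eTruncLT_obj_obj q ((q + 1 : ℤ) : EInt) le_rfl X
    haveI : W.IsLE q :=
      inferInstanceAs ((tP (C' := C')).IsLE (((tP (C' := C')).eTruncGE.obj (q : EInt)).obj
        (((tP (C' := C')).truncLT (q + 1)).obj X)) q)
    obtain ⟨e1⟩ := nonempty_iso_single W q
    let e2 : (Hq q).obj W ≅ (T.rightDerived q.toNat).obj A :=
      HqTruncIso X q (q + 1) rfl ≪≫ HqQIso q K ≪≫
        homologyMapCochainComplexIso T J q q.toNat (Int.toNat_of_nonneg hq)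
    obtain ⟨e3⟩ := nonempty_shift_single S ((T.rightDerived q.toNat).obj A) q (p + q) p.toNat
      (by rw [Int.toNat_of_nonneg hp]; lia)
    exact ⟨GSSConv.pageTwoIso Y p q ≪≫
      ((Φ S).shift (p + q)).mapIso
        (e1 ≪≫ (DerivedCategory.Plus.singleFunctor C' q).mapIso e2) ≪≫ e3⟩
  · rw [if_neg hpq]
    have : p < 0 ∨ q < 0 := by lia
    rcases this with h | h
    · exact ⟨(GSSConv.isZero_page_of_fst_neg Y 2 le_rfl p q h).isoZero⟩
    · exact ⟨(GSSConv.isZero_page_of_snd_neg Y 2 le_rfl p q h).isoZero⟩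

end Groth.Agent.Lib.Helper68.GSSDer

namespace Groth.Agent.Lib.Helper68.GSSDer

/-- **The Grothendieck spectral sequence.** -/
theorem exists_spectralSequence
    {C : Type u} [Category.{v} C] [Abelian C] [HasInjectiveResolutions C]
    {C' : Type u'} [Category.{v'} C'] [Abelian C'] [HasInjectiveResolutions C']
    {C'' : Type u''} [Category.{v''} C''] [Abelian C'']
    (T : C ⥤ C') [T.Additive] (S : C' ⥤ C'') [S.Additive] [PreservesFiniteLimits S]
    (hT : ∀ Q : C, Injective Q → ∀ q : ℕ, 0 < q → IsZero ((S.rightDerived q).obj (T.obj Q)))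
    (A : C) :
    ∃ (E : E₂CohomologicalSpectralSequence C'')
      (a : SpSeq.Abutment E
        (fun n : ℤ => if 0 ≤ n then ((T ⋙ S).rightDerived n.toNat).obj A else 0)),
      (∀ n, a.IsFinite n) ∧ SpSeq.IsBounded E ∧
      ∀ p q : ℤ, Nonempty ((E.page 2 le_rfl).X (p, q) ≅
        (if 0 ≤ p ∧ 0 ≤ q then
          (S.rightDerived p.toNat).obj ((T.rightDerived q.toNat).obj A) else 0)) :=
  exists_spectralSequence_of_iso T S hT A _
    (fun n hn => eqToIso (by rw [if_pos hn]))
    (fun n hn => by rw [if_neg (by lia)]; exact isZero_zero _)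

end Groth.Agent.Lib.Helper68.GSSDer
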