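import Groth.Agent.Lib.Helper68.LerayAcyclic

/-! Transfer of acyclicity along a left exact functor sending injectives to acyclic objects. -/

set_option autoImplicit false
universe v₁ v₂ v₃ u₁ u₂ u₃

open CategoryTheory Category Limits

namespace Groth.Agent.Lib.Helper68.AcycTransfer

open Groth.Agent.Lib.Helper68.RightDerivedLES Groth.Agent.Lib.Helper68.LerayAcyclic

variable {𝒜 : Type u₁} [Category.{v₁} 𝒜] [Abelian 𝒜] [EnoughInjectives 𝒜]
  {ℬ : Type u₂} [Category.{v₂} ℬ] [Abelian ℬ] [HasInjectiveResolutions ℬ]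
  {𝒞 : Type u₃} [Category.{v₃} 𝒞] [Abelian 𝒞]
  (T : 𝒜 ⥤ ℬ) [T.Additive] [PreservesFiniteLimits T]
  (Γ : ℬ ⥤ 𝒞) [Γ.Additive] [PreservesFiniteLimits Γ]
  (Γ' : 𝒜 ⥤ 𝒞) [Γ'.Additive] [PreservesFiniteLimits Γ']
  (e : T ⋙ Γ ≅ Γ')

/-- the cokernel of the embedding into an injective -/
noncomputable abbrev Qc (F : 𝒜) : 𝒜 := cokernel (Injective.ι F)

/-- the short exact sequence `F → I → I/F` with `I` injective -/
noncomputable abbrev injSeq (F : 𝒜) : ShortComplex 𝒜 :=
  ShortComplex.mk (Injective.ι F) (cokernel.π (Injective.ι F)) (cokernel.condition _)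

lemma injSeq_shortExact (F : 𝒜) : (injSeq F).ShortExact :=
  ShortComplex.ShortExact.mk' (ShortComplex.exact_cokernel _) inferInstance inferInstance

/-- the hypothesis on `F` -/
def P (F : 𝒜) : Prop :=
  (∀ q : ℕ, IsZero ((T.rightDerived (q + 1)).obj F)) ∧
    ∀ q : ℕ, IsZero ((Γ'.rightDerived (q + 1)).obj F)

lemma P_cokernel (F : 𝒜) (hF : P T Γ' F) : P T Γ' (Qc F) := by
  refine ⟨fun q => ?_, fun q => ?_⟩
  · exact isZero_right T (injSeq_shortExact F) (q + 1)
      (Functor.isZero_rightDerived_obj_injective_succ T q _) (hF.1 (q + 1))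
  · exact isZero_right Γ' (injSeq_shortExact F) (q + 1)
      (Functor.isZero_rightDerived_obj_injective_succ Γ' q _) (hF.2 (q + 1))

/-- the image under `T` of the sequence `F → I → I/F` -/
noncomputable abbrev mapSeq (F : 𝒜) : ShortComplex ℬ :=
  ShortComplex.mk (T.map (Injective.ι F)) (T.map (cokernel.π (Injective.ι F)))
    (by rw [← T.map_comp, cokernel.condition, T.map_zero])

lemma mapSeq_shortExact (F : 𝒜) (hF : P T Γ' F) : (mapSeq T F).ShortExact := by
  have hS := injSeq_shortExact F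
  have h1 : (mapSeq T F).Exact :=
    hS.exact.map_of_mono_of_preservesKernel T inferInstance inferInstance
  have h2 : Mono (mapSeq T F).f := inferInstanceAs (Mono (T.map (Injective.ι F)))
  have h3 : Epi (mapSeq T F).g := epi_map_g T hS (hF.1 0)
  exact ShortComplex.ShortExact.mk' h1 h2 h3

include e in
theorem isZero_rightDerived_comp
    (hT : ∀ I : 𝒜, Injective I → ∀ q : ℕ, IsZero ((Γ.rightDerived (q + 1)).obj (T.obj I)))
    (q : ℕ) : ∀ (F : 𝒜), P T Γ' F → IsZero ((Γ.rightDerived (q + 1)).obj (T.obj F)) := by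
  induction q with
  | zero =>
    intro F hF
    have hS := injSeq_shortExact F
    have hTS := mapSeq_shortExact T Γ' F hF
    have hepi' : Epi (Γ'.map (cokernel.π (Injective.ι F))) := epi_map_g Γ' hS (hF.2 0)
    have hepi : Epi (Γ.map (T.map (cokernel.π (Injective.ι F)))) := by
      have h := e.hom.naturality (cokernel.π (Injective.ι F))
      have h' : Γ.map (T.map (cokernel.π (Injective.ι F))) =
          e.hom.app _ ≫ Γ'.map (cokernel.π (Injective.ι F)) ≫ e.inv.app _ := by
        rw [← reassoc_of% h]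
        simp
      rw [h']
      infer_instance
    have hepi0 : Epi ((Γ.rightDerived 0).map (T.map (cokernel.π (Injective.ι F)))) := by
      have e0 : (Γ.rightDerived 0).map (T.map (cokernel.π (Injective.ι F))) =
          Γ.rightDerivedZeroIsoSelf.hom.app _ ≫ Γ.map (T.map (cokernel.π (Injective.ι F))) ≫
            Γ.rightDerivedZeroIsoSelf.inv.app _ := by
        have := Γ.rightDerivedZeroIsoSelf.hom.naturality (T.map (cokernel.π (Injective.ι F)))
        rw [← reassoc_of% this]
        simp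
      rw [e0]
      infer_instance
    have hδ : δ Γ hTS 0 = 0 := (exact₃ Γ hTS 0).epi_f_iff.1 hepi0
    have hepiδ : Epi (δ Γ hTS 0) := epi_δ Γ hTS 0 (hT _ inferInstance 0)
    rw [IsZero.iff_id_eq_zero, ← cancel_epi (δ Γ hTS 0), comp_id, comp_zero]
    exact hδ
  | succ q ih =>
    intro F hF
    have hTS := mapSeq_shortExact T Γ' F hF
    exact isZero_left Γ hTS (q + 1) (ih _ (P_cokernel T Γ' F hF)) (hT _ inferInstance (q + 1))

end Groth.Agent.Lib.Helper68.AcycTransfer
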