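import Groth.Agent.Lib.Helper4.QcGen.Defs

set_option autoImplicit false
set_option linter.style.haveILetI false

/-!
# QA1 for S0948 (helper68, for helper4): basic facts on `CovBy` / `SCoh`.
-/

namespace Groth.Agent.Lib.Helper68.QcGenA1

universe u

open CategoryTheory Limits Opposite Simplicial Groth.Agent.Lib.Helper4.QcGen
open Groth.Agent.Lib.Helper28

variable {C : Type u} [SmallCategory C] {J : GrothendieckTopology C} {S : Set (Sheaf J (Type u))}

lemma scoh_of_mem (h : Hyp S) {K : Sheaf J (Type u)} (hK : K ∈ S) : SCoh S K := by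
  refine ⟨⟨K, 𝟙 K, hK, inferInstance⟩, ?_⟩
  intro K' a b hK'
  obtain ⟨K'', g, hK'', hg⟩ := h.h4 K' hK' K hK a b
  exact ⟨K'', g, hK'', hg⟩

lemma scoh_terminal (h : Hyp S) : SCoh S (⊤_ (Sheaf J (Type u))) := by
  obtain ⟨K, hK, hepi⟩ := h.h1
  refine ⟨⟨K, terminal.from K, hK, hepi⟩, ?_⟩
  intro K' a b hK'
  have hab : a = b := Subsingleton.elim _ _
  haveI : IsIso (equalizer.ι a b) := equalizer.ι_of_eq hab
  exact ⟨K', inv (equalizer.ι a b), hK', inferInstance⟩

lemma exists_refinement (h : Hyp S) {T F : Sheaf J (Type u)} (hT : CovBy S T) (g : F ⟶ T)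
    [Epi g] : ∃ (K' : Sheaf J (Type u)) (k : K' ⟶ F), K' ∈ S ∧ Epi (k ≫ g) := by
  obtain ⟨K₀, π, hK₀, hπ⟩ := hT
  haveI := hπ
  haveI : Epi (pullback.fst π g) := TotAcyc.epi_pullback_fst J π g
  obtain ⟨K', k', hK', hk'⟩ := h.h2 (pullback π g) K₀ (pullback.fst π g) hK₀ inferInstance
  refine ⟨K', k' ≫ pullback.snd π g, hK', ?_⟩
  haveI := hk'
  have e : (k' ≫ pullback.snd π g) ≫ g = (k' ≫ pullback.fst π g) ≫ π := by
    rw [Category.assoc, Category.assoc, pullback.condition]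
  rw [e]
  exact epi_comp _ _

end Groth.Agent.Lib.Helper68.QcGenA1
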