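import Groth.Agent.Lib.Helper4.QcGen.Defs
import Groth.Agent.Lib.Helper28.TopColim

set_option autoImplicit false

/-!
# QC3 for S0948 (helper68, for helper4): transfer of the compactness statements from sheaves of sets
to abelian sheaves along the free/forgetful adjunction `G ⊣ Uf`.
-/

namespace Groth.Agent.Lib.Helper68.QcGenC3

universe u

open CategoryTheory Limits Opposite Simplicial Groth.Agent.Lib.Helper4.QcGen
open Groth.Agent.Lib.Helper28

variable {C : Type u} [SmallCategory C] {J : GrothendieckTopology C} {S : Set (Sheaf J (Type u))}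
variable {I : Type u} [SmallCategory I] [IsFiltered I]

instance preservesColimit_Uf (M : I ⥤ Sheaf J AddCommGrpCat.{u}) :
    PreservesColimit M (TotAcyc.Uf J) :=
  TopColim.preservesColimit_Φ M

lemma exists_factor_G (M : I ⥤ Sheaf J AddCommGrpCat.{u}) {T : Sheaf J (Type u)}
    (hfac : ∀ (φ : T ⟶ colimit (M ⋙ TotAcyc.Uf J)), ∃ (k : I)
      (ψ : T ⟶ (M ⋙ TotAcyc.Uf J).obj k), ψ ≫ colimit.ι (M ⋙ TotAcyc.Uf J) k = φ)
    (x : (TotAcyc.G J).obj T ⟶ colimit M) :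
    ∃ (k : I) (y : (TotAcyc.G J).obj T ⟶ M.obj k), y ≫ colimit.ι M k = x := by
  let adj := TotAcyc.adjG J
  let iso := preservesColimitIso (TotAcyc.Uf J) M
  obtain ⟨k, ψ, hψ⟩ := hfac ((adj.homEquiv T (colimit M)) x ≫ iso.hom)
  refine ⟨k, (adj.homEquiv T (M.obj k)).symm ψ, ?_⟩
  apply (adj.homEquiv T (colimit M)).injective
  rw [Adjunction.homEquiv_naturality_right, Equiv.apply_symm_apply]
  have h1 : (TotAcyc.Uf J).map (colimit.ι M k) = colimit.ι (M ⋙ TotAcyc.Uf J) k ≫ iso.inv :=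
    (ι_preservesColimitIso_inv (TotAcyc.Uf J) M k).symm
  rw [h1, ← Category.assoc, hψ, Category.assoc, iso.hom_inv_id, Category.comp_id]

lemma exists_eq_zero_G (M : I ⥤ Sheaf J AddCommGrpCat.{u}) {T : Sheaf J (Type u)}
    (heq : ∀ {k : I} (f g : T ⟶ (M ⋙ TotAcyc.Uf J).obj k),
      f ≫ colimit.ι (M ⋙ TotAcyc.Uf J) k = g ≫ colimit.ι (M ⋙ TotAcyc.Uf J) k →
      ∃ (k' : I) (c : k ⟶ k'), f ≫ (M ⋙ TotAcyc.Uf J).map c = g ≫ (M ⋙ TotAcyc.Uf J).map c)
    (k : I) (y : (TotAcyc.G J).obj T ⟶ M.obj k) (hy : y ≫ colimit.ι M k = 0) :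
    ∃ (k' : I) (g : k ⟶ k'), y ≫ M.map g = 0 := by
  let adj := TotAcyc.adjG J
  let iso := preservesColimitIso (TotAcyc.Uf J) M
  have h1 : colimit.ι (M ⋙ TotAcyc.Uf J) k = (TotAcyc.Uf J).map (colimit.ι M k) ≫ iso.hom :=
    (ι_preservesColimitIso_hom (TotAcyc.Uf J) M k).symm
  have key : (adj.homEquiv T (M.obj k)) y ≫ colimit.ι (M ⋙ TotAcyc.Uf J) k =
      (adj.homEquiv T (M.obj k)) 0 ≫ colimit.ι (M ⋙ TotAcyc.Uf J) k := by
    rw [h1, ← Category.assoc, ← Category.assoc, ← Adjunction.homEquiv_naturality_right,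
      ← Adjunction.homEquiv_naturality_right, hy, zero_comp]
  obtain ⟨k', c, hc⟩ := heq _ _ key
  refine ⟨k', c, ?_⟩
  apply (adj.homEquiv T (M.obj k')).injective
  have h2 : (M ⋙ TotAcyc.Uf J).map c = (TotAcyc.Uf J).map (M.map c) := rfl
  rw [h2, ← Adjunction.homEquiv_naturality_right, ← Adjunction.homEquiv_naturality_right,
    zero_comp] at hc
  exact hc

end Groth.Agent.Lib.Helper68.QcGenC3
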