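import Groth.Agent.Lib.Helper68.EdgeOutIso

set_option autoImplicit false
universe v₁ v₂ v₃ u₁ u₂ u₃

open CategoryTheory Category Limits HomologicalComplex

namespace Groth.Agent.Lib.Helper68.EdgeOutIso

section NatBounded

variable {B : Type u₂} [Category.{v₂} B] [Abelian B] [HasInjectiveResolutions B]
  {C : Type u₃} [Category.{v₃} C] [Abelian C]
  {Ψ : B ⥤ C} [Ψ.Additive] {K : CochainComplex B ℕ}

/-- a zero object is acyclic -/
lemma Acyc.of_isZero {M : B} (h : IsZero M) : Acyc Ψ M := fun _ =>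
  Functor.map_isZero _ h

/-- bounded version of `acyc_cycles`: only the cohomology in degrees `< n` is assumed acyclic -/
theorem acyc_cycles_lt (hK : ∀ i, Acyc Ψ (K.X i)) (n : ℕ)
    (hH : ∀ i, i < n → Acyc Ψ (K.homology i)) :
    ∀ i, i < n → Acyc Ψ (K.cycles i) ∧ Acyc Ψ (bd K (i + 1))
  | 0, h0n => by
    have h0 : Acyc Ψ (K.cycles 0) := (hH 0 h0n).of_iso K.isoHomologyπ₀.symm
    refine ⟨h0, ?_⟩
    let S2 : ShortComplex B := ShortComplex.mk (kernel.ι (toBd K 0)) (toBd K 0) (kernel.condition _)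
    have hS2 : S2.ShortExact :=
      { exact := ShortComplex.exact_of_f_is_kernel _ (kernelIsKernel _)
        mono_f := by dsimp [S2]; infer_instance
        epi_g := epi_toBd K 0 }
    exact acyc_right hS2 (h0.of_iso (kernelToBdIso K 0).symm) (hK 0)
  | i + 1, hin => by
    obtain ⟨_, hb⟩ := acyc_cycles_lt hK n hH i (by lia)
    let S1 : ShortComplex B := ShortComplex.mk (kernel.ι (K.homologyπ (i + 1))) (K.homologyπ (i + 1))
      (kernel.condition _)
    have hS1 : S1.ShortExact :=
      { exact := ShortComplex.exact_of_f_is_kernel _ (kernelIsKernel _)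
        mono_f := by dsimp [S1]; infer_instance
        epi_g := by dsimp [S1]; infer_instance }
    have hz : Acyc Ψ (K.cycles (i + 1)) := acyc_mid hS1 hb (hH (i + 1) hin)
    refine ⟨hz, ?_⟩
    let S2 : ShortComplex B := ShortComplex.mk (kernel.ι (toBd K (i + 1))) (toBd K (i + 1))
      (kernel.condition _)
    have hS2 : S2.ShortExact :=
      { exact := ShortComplex.exact_of_f_is_kernel _ (kernelIsKernel _)
        mono_f := by dsimp [S2]; infer_instance
        epi_g := epi_toBd K (i + 1) }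
    exact acyc_right hS2 (hz.of_iso (kernelToBdIso K (i + 1)).symm) (hK (i + 1))

variable [PreservesFiniteLimits Ψ]

/-- the comparison `H^n(Ψ K) ⟶ Ψ(H^n K)` is an isomorphism when the terms of `K` are `Ψ`-acyclic and
the cohomology of `K` in degrees `< n` is `Ψ`-acyclic (e.g. zero) -/
theorem isIso_homologyComparison_of_acyc_lt (hK : ∀ i, Acyc Ψ (K.X i)) (n : ℕ)
    (hH : ∀ i, i < n → Acyc Ψ (K.homology i)) : IsIso (RDer.homologyComparison Ψ K n) := by
  cases n with
  | zero =>
    refine isIso_homologyComparison Ψ K 0 0 (by simp) ?_ ?_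
    · have h0 : K.toCycles 0 0 = 0 := by
        rw [← cancel_mono (K.iCycles 0), K.toCycles_i, zero_comp]
        exact K.shape _ _ (by simp)
      exact (hK 0 0).of_iso ((Ψ.rightDerived 1).mapIso (kernelIsoOfEq h0 ≪≫ kernelZeroIsoSource))
    · haveI : IsIso (K.homologyπ 0) := K.isIso_homologyπ _ 0 rfl (by simp)
      have hz : IsZero (kernel (K.homologyπ 0)) := by
        rw [IsZero.iff_id_eq_zero, ← cancel_mono (kernel.ι (K.homologyπ 0)),
          ← cancel_mono (K.homologyπ 0)]
        simp
      exact Functor.map_isZero _ hz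
  | succ i =>
    obtain ⟨hz, hb⟩ := acyc_cycles_lt hK (i + 1) hH i (by lia)
    refine isIso_homologyComparison Ψ K (i + 1) i (by simp) ?_ ?_
    · exact (hz 0).of_iso ((Ψ.rightDerived 1).mapIso (kernelToCyclesIso K (i + 1) i (by simp)))
    · exact hb 0

end NatBounded

section EdgeBounded

variable {A : Type u₁} [Category.{v₁} A] [Abelian A] [HasInjectiveResolutions A]
  {B : Type u₂} [Category.{v₂} B] [Abelian B] [HasInjectiveResolutions B]
  {C : Type u₃} [Category.{v₃} C] [Abelian C]

/-- **The second edge map in the lowest nonzero degree is an isomorphism**: if `Φ` sends injectives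
to `Ψ`-acyclic objects and `R^i Φ X = 0` for `i < n`, then `R^n(Φ ⋙ Ψ) X ⟶ Ψ (R^n Φ X)` is an
isomorphism. -/
theorem isIso_edgeOut_of_isZero_lt (Φ : A ⥤ B) [Φ.Additive] (Ψ : B ⥤ C) [Ψ.Additive]
    [PreservesFiniteLimits Ψ]
    (X : A) (h1 : ∀ I : A, Injective I → Acyc Ψ (Φ.obj I)) (n : ℕ)
    (h2 : ∀ i : ℕ, i < n → IsZero ((Φ.rightDerived i).obj X)) :
    IsIso (RDer.edgeOut Φ Ψ n X) := by
  let K := (Φ.mapHomologicalComplex (ComplexShape.up ℕ)).obj (injectiveResolution X).cocomplex
  have hK : ∀ i, Acyc Ψ (K.X i) := fun i => h1 _ ((injectiveResolution X).injective i)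
  have hH : ∀ i, i < n → Acyc Ψ (K.homology i) := fun i hi =>
    Acyc.of_isZero ((h2 i hi).of_iso ((injectiveResolution X).isoRightDerivedObj Φ i).symm)
  have h : IsIso (RDer.homologyComparison Ψ
      ((Φ.mapHomologicalComplex (ComplexShape.up ℕ)).obj (injectiveResolution X).cocomplex) n) :=
    isIso_homologyComparison_of_acyc_lt hK n hH
  have h3 : IsIso (Ψ.map ((injectiveResolution X).isoRightDerivedObj Φ n).inv) :=
    Functor.map_isIso Ψ _
  unfold RDer.edgeOut
  exact IsIso.comp_isIso' inferInstance (IsIso.comp_isIso' h h3)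

end EdgeBounded

end Groth.Agent.Lib.Helper68.EdgeOutIso
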