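import Groth.Agent.Lib.Helper68.ExtRD
import Groth.Agent.Lib.Helper68.GSSDer7
import Groth.Agent.Lib.Helper53.SitePush
import Groth.Prelude.Def_CohCx
import Groth.Prelude.Def_SpSeq
import Groth.Agent.S6174

/-! The spectral sequence of a covering on a site (Cartan–Leray), as a Grothendieck
spectral sequence for `Sh(C, J) ⥤ PSh(C) ⥤ Ab`. -/

set_option autoImplicit false
universe u

open CategoryTheory Opposite Limits Abelian

namespace Groth.Agent.Lib.Helper68.CovSS

open Groth.Agent.Lib.Helper53.SiteCoh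

variable {C : Type u} [SmallCategory C] (J : GrothendieckTopology C)

/-- forget the sheaf condition: abelian sheaves for `J` as sheaves for the trivial topology -/
noncomputable def T : Sheaf J AddCommGrpCat.{u} ⥤
    Sheaf (⊥ : GrothendieckTopology C) AddCommGrpCat.{u} :=
  sheafToPresheaf J AddCommGrpCat.{u} ⋙ (sheafBotEquivalence AddCommGrpCat.{u}).inverse

instance : (sheafBotEquivalence (C := C) AddCommGrpCat.{u}).inverse.Additive where
  map_add := by
    intros
    rfl

instance : (T J).Additive := by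
  unfold T
  infer_instance

/-- the left adjoint of `T`: sheafification -/
noncomputable def adjT :
    sheafToPresheaf (⊥ : GrothendieckTopology C) AddCommGrpCat.{u} ⋙
      presheafToSheaf J AddCommGrpCat.{u} ⊣ T J :=
  (sheafBotEquivalence AddCommGrpCat.{u}).toAdjunction.comp
    (sheafificationAdjunction J AddCommGrpCat.{u})

instance : PreservesFiniteLimits (T J) := by
  have := (adjT J).rightAdjoint_preservesLimits
  infer_instance

instance injective_T (Q : Sheaf J AddCommGrpCat.{u}) [Injective Q] : Injective ((T J).obj Q) :=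
  Injective.injective_of_adjoint (adjT J) Q

instance : PreservesFiniteColimits
    (sheafToPresheaf (⊥ : GrothendieckTopology C) AddCommGrpCat.{u}) :=
  inferInstanceAs (PreservesFiniteColimits (sheafBotEquivalence (C := C) AddCommGrpCat.{u}).functor)

/-- `R^q T (M)` is the presheaf `U ↦ H^q(U, M)` -/
theorem nonempty_rightDerived_T_iso (M : Sheaf J AddCommGrpCat.{u}) (q : ℕ) :
    Nonempty (((T J).rightDerived q).obj M ≅
      (⟨Sheaf.cohomologyPresheaf.{u} M q, Presheaf.isSheaf_bot _⟩ :
        Sheaf (⊥ : GrothendieckTopology C) AddCommGrpCat.{u})) := by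
  let I := injectiveResolution M
  let ι₀ := sheafToPresheaf (⊥ : GrothendieckTopology C) AddCommGrpCat.{u}
  let ι := sheafToPresheaf J AddCommGrpCat.{u}
  let e1 : ((T J).rightDerived q).obj M ≅
      (((T J).mapHomologicalComplex _).obj I.cocomplex).homology q := I.isoRightDerivedObj (T J) q
  let e2 : ι₀.obj ((((T J).mapHomologicalComplex _).obj I.cocomplex).homology q) ≅
      ((ι₀.mapHomologicalComplex _).obj (((T J).mapHomologicalComplex _).obj I.cocomplex)).homology q :=
    (mapHomologyIsoOfExact ι₀ _ q).symm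
  let e2' : (ι₀.mapHomologicalComplex _).obj (((T J).mapHomologicalComplex _).obj I.cocomplex) ≅
      (ι.mapHomologicalComplex _).obj I.cocomplex :=
    HomologicalComplex.Hom.isoOfComponents (fun n => Iso.refl _) (fun i j _ => by
      simp only [Iso.refl_hom, Category.comp_id, Category.id_comp]
      rfl)
  let e3 : ((ι.mapHomologicalComplex _).obj I.cocomplex).homology q ≅ (ι.rightDerived q).obj M :=
    (I.isoRightDerivedObj ι q).symm
  obtain ⟨e4⟩ := nonempty_rightDerived_sheafToPresheaf_iso J M q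
  exact ⟨(fullyFaithfulSheafToPresheaf _ _).preimageIso
    (ι₀.mapIso e1 ≪≫ e2 ≪≫ (HomologicalComplex.homologyFunctor _ _ q).mapIso e2' ≪≫ e3 ≪≫ e4)⟩

section S

variable (K : Sheaf (⊥ : GrothendieckTopology C) (Type u))

/-- the free abelian presheaf on `K` -/
noncomputable abbrev ZK : Sheaf (⊥ : GrothendieckTopology C) AddCommGrpCat.{u} :=
  (presheafToSheaf (⊥ : GrothendieckTopology C) AddCommGrpCat.{u}).obj
    (K.obj ⋙ AddCommGrpCat.free.{u})

/-- `Hom(ℤ[K], -)` on presheaves -/
noncomputable abbrev S : Sheaf (⊥ : GrothendieckTopology C) AddCommGrpCat.{u} ⥤ AddCommGrpCat.{u} :=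
  preadditiveCoyoneda.obj (op (ZK K))

theorem nonempty_rightDerived_S_iso (N : Sheaf (⊥ : GrothendieckTopology C) AddCommGrpCat.{u})
    (p : ℕ) :
    Nonempty (((S K).rightDerived p).obj N ≅ AddCommGrpCat.of (CohCx.HK K N p)) :=
  ExtRD.nonempty_iso (S K) (ZK K) (fun _ => AddEquiv.refl _) (fun _ _ => rfl) N p

lemma isZero_rightDerived_S_T (Q : Sheaf J AddCommGrpCat.{u}) [Injective Q] (q : ℕ) (hq : 0 < q) :
    IsZero (((S K).rightDerived q).obj ((T J).obj Q)) := by
  obtain ⟨q, rfl⟩ : ∃ q', q = q' + 1 := ⟨q - 1, by lia⟩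
  exact Functor.isZero_rightDerived_obj_injective_succ _ _ _

end S

section Cover

variable {J} {X : C} (R : Sieve X) (hR : R ∈ J X)

include hR in
lemma W_free_functorInclusion :
    J.W (A := AddCommGrpCat.{u})
      (Functor.whiskerRight R.functorInclusion AddCommGrpCat.free.{u}) := by
  intro Z hZ
  have h1 := (AddCommGrpCat.adj.{u}.whiskerRight Cᵒᵖ).map_comp_bijective_iff R.functorInclusion Z
  refine h1.2 ?_
  rw [Function.bijective_iff_existsUnique]
  have hZ' : Presieve.IsSheafFor (Z ⋙ forget AddCommGrpCat.{u}) R.arrows :=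
    ((isSheaf_iff_isSheaf_of_type _ _).1
      ((Presheaf.isSheaf_iff_isSheaf_forget J Z (forget AddCommGrpCat.{u})).1 hZ)) R hR
  exact Presieve.isSheafFor_iff_yonedaSheafCondition.1 hZ'

/-- the free abelian sheaf on a covering sieve of `X` is the free abelian sheaf on `X` -/
noncomputable def freeIso :
    (presheafToSheaf J AddCommGrpCat.{u}).obj (R.functor ⋙ AddCommGrpCat.free.{u}) ≅ freeSh J X :=
  haveI : IsIso ((presheafToSheaf J AddCommGrpCat.{u}).map
      (Functor.whiskerRight R.functorInclusion AddCommGrpCat.free.{u})) :=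
    (J.W_iff _).1 (W_free_functorInclusion R hR)
  asIso ((presheafToSheaf J AddCommGrpCat.{u}).map
      (Functor.whiskerRight R.functorInclusion AddCommGrpCat.free.{u}))

/-- precomposition with an isomorphism, additively -/
def precompAddEquiv {𝒜 : Type*} [Category 𝒜] [Preadditive 𝒜] {A B : 𝒜} (e : B ≅ A) (M : 𝒜) :
    (A ⟶ M) ≃+ (B ⟶ M) where
  toFun g := e.hom ≫ g
  invFun g := e.inv ≫ g
  left_inv g := by simp
  right_inv g := by simp
  map_add' g g' := by simp

/-- the sieve as a sheaf of sets for the trivial topology -/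
abbrev RK : Sheaf (⊥ : GrothendieckTopology C) (Type u) := ⟨R.functor, Presheaf.isSheaf_bot _⟩

/-- sections over `X` as morphisms out of the free presheaf on a covering sieve -/
noncomputable def θ (M : Sheaf J AddCommGrpCat.{u}) :
    (T J ⋙ S (RK R)).obj M ≃+ (freeSh J X ⟶ M) :=
  (((sheafificationAdjunction (⊥ : GrothendieckTopology C) AddCommGrpCat.{u}).homAddEquiv
      (R.functor ⋙ AddCommGrpCat.free.{u}) ((T J).obj M)).trans
    ((sheafificationAdjunction J AddCommGrpCat.{u}).homAddEquiv
      (R.functor ⋙ AddCommGrpCat.free.{u}) M).symm).trans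
    (precompAddEquiv (freeIso R hR).symm M)

lemma θ_naturality {M M' : Sheaf J AddCommGrpCat.{u}} (f : M ⟶ M')
    (x : (T J ⋙ S (RK R)).obj M) :
    θ R hR M' ((T J ⋙ S (RK R)).map f x) = θ R hR M x ≫ f := by
  change (freeIso R hR).symm.hom ≫
      ((sheafificationAdjunction J AddCommGrpCat.{u}).homEquiv _ M').symm
        ((sheafificationAdjunction (⊥ : GrothendieckTopology C) AddCommGrpCat.{u}).homEquiv _
          ((T J).obj M') (x ≫ (T J).map f)) =
    ((freeIso R hR).symm.hom ≫
      ((sheafificationAdjunction J AddCommGrpCat.{u}).homEquiv _ M).symm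
        ((sheafificationAdjunction (⊥ : GrothendieckTopology C) AddCommGrpCat.{u}).homEquiv _
          ((T J).obj M) x)) ≫ f
  rw [Adjunction.homEquiv_naturality_right, Category.assoc,
    ← Adjunction.homEquiv_naturality_right_symm]
  rfl

end Cover

open CohSite in
/-- **The spectral sequence of a covering** (Cartan–Leray). -/
theorem covering_spectralSequence [HasPullbacks C]
    (M : Sheaf J AddCommGrpCat.{u}) {X : C} {ι : Type u} (Y : ι → Over X)
    (hY : Sieve.ofArrows (fun i => (Y i).left) (fun i => (Y i).hom) ∈ J X) :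
    ∃ (E : E₂CohomologicalSpectralSequence AddCommGrpCat.{u})
      (a : SpSeq.Abutment E (fun n : ℤ =>
        if 0 ≤ n then AddCommGrpCat.of (CohSite.HU M n.toNat X) else AddCommGrpCat.of PUnit.{u + 1})),
      (∀ n, a.IsFinite n) ∧ SpSeq.IsBounded E ∧
      ∀ p q : ℤ, Nonempty ((E.page 2 le_rfl).X (p, q) ≅
        (if 0 ≤ p ∧ 0 ≤ q then CohCx.cechH (M.cohomologyPresheaf q.toNat) Y p.toNat
         else AddCommGrpCat.of PUnit.{u + 1})) := by
  let R := Sieve.ofArrows (fun i => (Y i).left) (fun i => (Y i).hom)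
  have hT : ∀ Q : Sheaf J AddCommGrpCat.{u}, Injective Q → ∀ q : ℕ, 0 < q →
      IsZero (((S (RK R)).rightDerived q).obj ((T J).obj Q)) :=
    fun Q hQ q hq => isZero_rightDerived_S_T J (RK R) Q q hq
  obtain ⟨E, a, ha, hb, hE⟩ := Groth.Agent.Lib.Helper68.GSSDer.exists_spectralSequence_of_iso
    (T J) (S (RK R)) hT M
    (fun n : ℤ => if 0 ≤ n then AddCommGrpCat.of (CohSite.HU M n.toNat X)
        else AddCommGrpCat.of PUnit.{u + 1})
    (fun n hn => (ExtRD.nonempty_iso (T J ⋙ S (RK R)) (freeSh J X) (θ R hY)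
      (fun f x => θ_naturality R hY f x) M n.toNat).some ≪≫ eqToIso (by rw [if_pos hn]; rfl))
    (fun n hn => by
      rw [if_neg (by lia)]
      exact AddCommGrpCat.isZero_of_subsingleton _)
  refine ⟨E, a, ha, hb, fun p q => ?_⟩
  obtain ⟨e⟩ := hE p q
  by_cases hpq : 0 ≤ p ∧ 0 ≤ q
  · rw [if_pos hpq] at e ⊢
    obtain ⟨e1⟩ := nonempty_rightDerived_T_iso J M q.toNat
    obtain ⟨e2⟩ := nonempty_rightDerived_S_iso (RK R)
      ⟨Sheaf.cohomologyPresheaf.{u} M q.toNat, Presheaf.isSheaf_bot _⟩ p.toNat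
    obtain ⟨e3⟩ := Groth.Agent.S6174.result (Sheaf.cohomologyPresheaf.{u} M q.toNat) Y p.toNat
    exact ⟨e ≪≫ ((S (RK R)).rightDerived p.toNat).mapIso e1 ≪≫ e2 ≪≫ e3.symm⟩
  · rw [if_neg hpq] at e ⊢
    exact ⟨e ≪≫ (isZero_zero _).iso (AddCommGrpCat.isZero_of_subsingleton _)⟩

end Groth.Agent.Lib.Helper68.CovSS
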