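import Groth.Agent.Lib.Helper68.InjModAcyclic
import Groth.Agent.Lib.Helper68.ExtRD
import Groth.Agent.Lib.Helper68.GSSDer7
import Groth.Agent.Lib.Helper42.DeltaExt
import Groth.Agent.Lib.Helper42.DeltaRDer
import Groth.Agent.Lib.Helper42.ModSheaf
import Groth.Prelude.Def_SpSeq
import Groth.Agent.Lib.Helper68.CovSS

/-! The local-to-global Ext spectral sequence on a ringed site. -/

set_option autoImplicit false
universe u

open CategoryTheory Category Limits Opposite ModSite Abelian
open scoped ZeroObject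

namespace Groth.Agent.Lib.Helper68.LocGlobExt

open Groth.Agent.Lib.Helper42.TensorSheaf Groth.Agent.Lib.Helper42.TensorColim
open Groth.Agent.Lib.Helper42.Flat Groth.Agent.Lib.Helper42.Proj
open Groth.Agent.Lib.Helper42.DeltaFun Groth.Agent.Lib.Helper42.DeltaExt
open Groth.Agent.Lib.Helper42.DeltaRDer
open Groth.Agent.Lib.Helper68.InjModAcyclic

section

variable {𝒜 : Type*} [Category 𝒜] [Abelian 𝒜] [HasExt.{u} 𝒜]

/-- `Hom(P, -) ≅ Ext^0(P, -)` -/
noncomputable def ext0Iso (P : 𝒜) : preadditiveCoyoneda.obj (op P) ≅ extFunctorObj.{u} P 0 :=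
  NatIso.ofComponents (fun A => (Ext.addEquiv₀ (X := P) (Y := A)).symm.toAddCommGrpIso) (by
    intro A A' f
    ext x
    exact (Ext.mk₀_comp_mk₀ x f).symm)

end

variable {C : Type u} [SmallCategory C] {J : GrothendieckTopology C} (O : Sheaf J CommRingCat.{u})

/-- the constant sheaf `ℤ` -/
noncomputable abbrev Zc : Sheaf J AddCommGrpCat.{u} :=
  (constantSheaf J AddCommGrpCat.{u}).obj (AddCommGrpCat.of (ULift.{u} ℤ))

/-- global sections of the underlying abelian sheaf -/
noncomputable def S : Mod O ⥤ AddCommGrpCat.{u} :=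
  SheafOfModules.toSheaf (ringSh O) ⋙ preadditiveCoyoneda.obj (op (Zc (J := J)))

instance : (S O).Additive := by
  unfold S
  infer_instance

instance : PreservesFiniteLimits (S O) := by
  unfold S
  infer_instance

section FreePt

/-- the terminal presheaf of sets -/
abbrev pt : Cᵒᵖ ⥤ Type u := (Functor.const Cᵒᵖ).obj PUnit.{u + 1}

/-- the free `O`-module on the terminal presheaf -/
noncomputable abbrev freePt : Mod O :=
  (shf O).obj ((PresheafOfModules.free _).obj (pt (C := C)))

/-- morphisms out of `O[*]` are global sections -/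
noncomputable def freePtHomEquiv (X : Mod O) : (freePt O ⟶ X) ≃ X.sections :=
  ((adjS O).homEquiv _ X).trans
    (((PresheafOfModules.freeAdjunction _).homEquiv (pt (C := C)) _).trans
      ((((fgt O).obj X).presheaf ⋙ forget _).sectionsEquivHom PUnit.{u + 1}).symm)

lemma freePtHomEquiv_comp {X X' : Mod O} (h : freePt O ⟶ X) (f : X ⟶ X') :
    freePtHomEquiv O X' (h ≫ f) = SheafOfModules.sectionsMap f (freePtHomEquiv O X h) := by
  unfold freePtHomEquiv
  simp only [Equiv.trans_apply]
  rw [Adjunction.homEquiv_naturality_right, Adjunction.homEquiv_naturality_right]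
  rfl

/-- `O[*] ≅ O` -/
noncomputable def freePtIso : freePt O ≅ ModSite.unit O :=
  Functor.CorepresentableBy.uniqueUpToIso
    (F := SheafOfModules.sectionsFunctor (ringSh O))
    { homEquiv := fun {X} => freePtHomEquiv O X
      homEquiv_comp := fun f h => freePtHomEquiv_comp O h f }
    { homEquiv := fun {X} => X.unitHomEquiv
      homEquiv_comp := fun f h => SheafOfModules.unitHomEquiv_comp_apply h f }

end FreePt

section Theta

variable (M : Mod O) [HasSheafHom M]

open Groth.Agent.Lib.Helper68.HomFree Groth.Agent.Lib.Helper68.CovSS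

/-- `O[*] ⊗ M ≅ M` -/
noncomputable def lftPtIso : (Lft O M).obj (pt (C := C)) ≅ M :=
  (tensR O M).mapIso (freePtIso O) ≪≫ (tensLUnitIso O).app M

/-- global sections of `Hom_O(M, X)` are the morphisms `M ⟶ X` -/
noncomputable def θ (X : Mod O) : (sheafHom M ⋙ S O).obj X ≃+ (M ⟶ X) :=
  ((precompAddEquiv (constIso (J := J)) (toAb ((sheafHom M).obj X))).trans
    (eAdd O M X (pt (C := C)))).trans (precompAddEquiv (lftPtIso O M).symm X)

lemma θ_naturality {X X' : Mod O} (f : X ⟶ X') (x : (sheafHom M ⋙ S O).obj X) :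
    θ O M X' ((sheafHom M ⋙ S O).map f x) = θ O M X x ≫ f := by
  change (lftPtIso O M).symm.hom ≫ e O M X' pt ((constIso (J := J)).hom ≫
      (x ≫ (SheafOfModules.toSheaf (ringSh O)).map ((sheafHom M).map f))) =
    ((lftPtIso O M).symm.hom ≫ e O M X pt ((constIso (J := J)).hom ≫ x)) ≫ f
  rw [← Category.assoc, e_naturality_right, Category.assoc]

end Theta

variable [HasInjectiveResolutions (Mod O)]

/-- `R^n Γ(C, -) ≅ H^n(C, -)`, the derived functors being taken on `O`-modules -/
noncomputable def RSIso (n : ℕ) :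
    (S O).rightDerived n ≅
      SheafOfModules.toSheaf (ringSh O) ⋙ extFunctorObj.{u} (Zc (J := J)) n :=
  haveI : EnoughInjectives (Mod O) :=
    Groth.Agent.Lib.Helper68.GSSDer.enoughInjectives_of_hasInjectiveResolutions
  DeltaFunctor.isoOfZero (A := ofRightDerived (S O))
    (B := (ofExt (Zc (J := J))).precomp (SheafOfModules.toSheaf (ringSh O)))
    (ofRightDerived_eff _)
    (by
      intro I _ n
      have := subsingleton_H_of_isTotallyAcyclic (toAb I)
        (isTotallyAcyclic_toAb_of_injective O I) n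
      exact AddCommGrpCat.isZero_of_subsingleton (AddCommGrpCat.of (Sheaf.H.{u} (toAb I) (n + 1))))
    ((S O).rightDerivedZeroIsoSelf ≪≫
      Functor.isoWhiskerLeft (SheafOfModules.toSheaf (ringSh O)) (ext0Iso (Zc (J := J)))) n


/-- **The local-to-global Ext spectral sequence** on a ringed site, with the abutment
transported to any family isomorphic to the global Ext groups. -/
theorem locGlobExt_gen (M N : Mod O) [HasSheafHom M] [HasExt.{u} (Mod O)]
    (H'' : ℤ → AddCommGrpCat.{u})
    (e' : ∀ n : ℤ, 0 ≤ n → (AddCommGrpCat.of (Abelian.Ext.{u} M N n.toNat) ≅ H'' n))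
    (h0 : ∀ n : ℤ, n < 0 → IsZero (H'' n)) :
    ∃ (E : E₂CohomologicalSpectralSequence AddCommGrpCat.{u}) (a : SpSeq.Abutment E H''),
      (∀ n : ℤ, a.IsFinite n) ∧ SpSeq.IsBounded E ∧
      ∀ p q : ℤ, Nonempty ((E.page 2 le_rfl).X (p, q) ≅
        (if 0 ≤ p ∧ 0 ≤ q then
          AddCommGrpCat.of (ModSite.HC O ((ModSite.extSh M q.toNat).obj N) p.toNat)
          else 0)) := by
  have hT : ∀ Q : Mod O, Injective Q → ∀ q : ℕ, 0 < q →
      IsZero (((S O).rightDerived q).obj ((sheafHom M).obj Q)) := by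
    intro Q hQ q hq
    obtain ⟨q, rfl⟩ : ∃ q', q = q' + 1 := ⟨q - 1, by lia⟩
    refine IsZero.of_iso ?_ ((RSIso O (q + 1)).app ((sheafHom M).obj Q))
    have := subsingleton_H_of_isTotallyAcyclic (toAb ((sheafHom M).obj Q))
      (Groth.Agent.Lib.Helper68.SheafHomFlasque.isTotallyAcyclic_sheafHom O M Q) q
    exact AddCommGrpCat.isZero_of_subsingleton
      (AddCommGrpCat.of (Sheaf.H.{u} (toAb ((sheafHom M).obj Q)) (q + 1)))
  obtain ⟨E, a, ha, hb, hE⟩ := Groth.Agent.Lib.Helper68.GSSDer.exists_spectralSequence_of_iso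
    (sheafHom M) (S O) hT N H''
    (fun n hn => (ExtRD.nonempty_iso (sheafHom M ⋙ S O) M (θ O M)
      (fun f x => θ_naturality O M f x) N n.toNat).some ≪≫ e' n hn) h0
  refine ⟨E, a, ha, hb, fun p q => ?_⟩
  obtain ⟨e⟩ := hE p q
  by_cases hpq : 0 ≤ p ∧ 0 ≤ q
  · rw [if_pos hpq] at e ⊢
    exact ⟨e ≪≫ (RSIso O p.toNat).app ((ModSite.extSh M q.toNat).obj N)⟩
  · rw [if_neg hpq] at e ⊢
    exact ⟨e⟩

/-- **The local-to-global Ext spectral sequence** on a ringed site. -/
theorem locGlobExt (M N : Mod O) [HasSheafHom M] [HasExt.{u} (Mod O)] :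
    ∃ (E : E₂CohomologicalSpectralSequence AddCommGrpCat.{u})
      (a : SpSeq.Abutment E (fun n : ℤ =>
        if 0 ≤ n then AddCommGrpCat.of (Abelian.Ext.{u} M N n.toNat)
        else AddCommGrpCat.of PUnit.{u + 1})),
      (∀ n : ℤ, a.IsFinite n) ∧ SpSeq.IsBounded E ∧
      ∀ p q : ℤ, Nonempty ((E.page 2 le_rfl).X (p, q) ≅
        (if 0 ≤ p ∧ 0 ≤ q then
          AddCommGrpCat.of (ModSite.HC O ((ModSite.extSh M q.toNat).obj N) p.toNat)
          else AddCommGrpCat.of PUnit.{u + 1})) := by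
  obtain ⟨E, a, ha, hb, hE⟩ := locGlobExt_gen O M N
    (fun n : ℤ => if 0 ≤ n then AddCommGrpCat.of (Abelian.Ext.{u} M N n.toNat)
        else AddCommGrpCat.of PUnit.{u + 1})
    (fun n hn => eqToIso (by rw [if_pos hn]))
    (fun n hn => by
      rw [if_neg (by lia)]
      exact AddCommGrpCat.isZero_of_subsingleton _)
  refine ⟨E, a, ha, hb, fun p q => ?_⟩
  obtain ⟨e⟩ := hE p q
  by_cases hpq : 0 ≤ p ∧ 0 ≤ q
  · rw [if_pos hpq] at e ⊢
    exact ⟨e⟩
  · rw [if_neg hpq] at e ⊢
    exact ⟨e ≪≫ (isZero_zero _).iso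
      (AddCommGrpCat.isZero_of_subsingleton (AddCommGrpCat.of PUnit.{u + 1}))⟩

end Groth.Agent.Lib.Helper68.LocGlobExt
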