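import Groth.Agent.Lib.Helper68.GSSDer3

set_option autoImplicit false
universe w v v'' u u''

open CategoryTheory Category Limits Pretriangulated ComposableArrows

namespace Groth.Agent.Lib.Helper68.GSSDer

section bridge

variable {A : Type u} [Category.{v} A] [Abelian A]

lemma enoughInjectives_of_hasInjectiveResolutions [HasInjectiveResolutions A] :
    EnoughInjectives A where
  presentation X := by
    let I := injectiveResolution X
    have h : Mono (I.ι.f 0) := inferInstance
    exact ⟨{ J := I.cocomplex.X 0, injective := inferInstance, f := I.ι.f 0, mono := h }⟩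

variable [HasInjectiveResolutions A]
  {B : Type u''} [Category.{v''} B] [Abelian B] (F : A ⥤ B) [F.Additive]

/-- `F` commutes with the extension of an injective resolution to `ℤ` -/
noncomputable def gamIso {M : A} (I : InjectiveResolution M) :
    (F.mapHomologicalComplex (ComplexShape.up ℤ)).obj (I.cocomplex.extend ComplexShape.embeddingUpNat) ≅
      ((F.mapHomologicalComplex (ComplexShape.up ℕ)).obj I.cocomplex).extend
        ComplexShape.embeddingUpNat :=
  asIso (Groth.Agent.S6624.gam F ComplexShape.embeddingUpNat I.cocomplex)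

/-- the cohomology of `F` applied to the `ℤ`-indexed version of an injective resolution computes
the right derived functors -/
noncomputable def homologyMapCochainComplexIso {M : A} (I : InjectiveResolution M) (n : ℤ) (k : ℕ)
    (h : (k : ℤ) = n) :
    ((F.mapHomologicalComplex (ComplexShape.up ℤ)).obj I.cochainComplex).homology n ≅
      (F.rightDerived k).obj M :=
  (HomologicalComplex.homologyFunctor B (ComplexShape.up ℤ) n).mapIso (gamIso F I) ≪≫
    ((F.mapHomologicalComplex (ComplexShape.up ℕ)).obj I.cocomplex).extendHomologyIso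
      ComplexShape.embeddingUpNat (j := k) (j' := n) h ≪≫
    (I.isoRightDerivedObj F k).symm

lemma isZero_homologyMapCochainComplex {M : A} (I : InjectiveResolution M) (n : ℤ) (hn : n < 0) :
    IsZero (((F.mapHomologicalComplex (ComplexShape.up ℤ)).obj I.cochainComplex).homology n) := by
  have : CochainComplex.IsStrictlyGE
      ((F.mapHomologicalComplex (ComplexShape.up ℤ)).obj I.cochainComplex) 0 := inferInstance
  exact (CochainComplex.exactAt_of_isGE
    ((F.mapHomologicalComplex (ComplexShape.up ℤ)).obj I.cochainComplex) 0 n hn).isZero_homology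

end bridge

variable {C' : Type u} [Category.{v} C'] [Abelian C'] [HasDerivedCategory.{w} C']

lemma isIso_Q_map_of_quasiIso {K L : CochainComplex.Plus C'} (f : K ⟶ L) (hf : QuasiIso f.hom) :
    IsIso (DerivedCategory.Plus.Q.map f) := by
  refine Localization.inverts DerivedCategory.Plus.Qh (HomotopyCategory.Plus.quasiIso C') _ ?_
  change HomotopyCategory.quasiIso C' (ComplexShape.up ℤ)
    ((HomotopyCategory.quotient C' (ComplexShape.up ℤ)).map f.hom)
  rw [HomotopyCategory.quotient_map_mem_quasiIso_iff, HomologicalComplex.mem_quasiIso_iff]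
  exact hf

end Groth.Agent.Lib.Helper68.GSSDer

namespace Groth.Agent.Lib.Helper68.GSSDer

variable {C' : Type u} [Category.{v} C'] [Abelian C'] [HasDerivedCategory.{w} C']
variable [EnoughInjectives C']
variable {C'' : Type u''} [Category.{v''} C''] [Abelian C''] (S : C' ⥤ C'') [S.Additive]
  [PreservesFiniteLimits S]

/-- hypercohomology can be computed with bounded below complexes with `S`-acyclic terms -/
lemma nonempty_shiftIsoOfAcyclic (n : ℤ) (K : CochainComplex.Plus C') (m : ℤ)
    [K.obj.IsStrictlyGE m]
    (hK : ∀ (j : ℤ) (i : ℕ), 0 < i → IsZero ((S.rightDerived i).obj (K.obj.X j))) :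
    Nonempty (((Φ S).shift n).obj (DerivedCategory.Plus.Q.obj K) ≅
      ((S.mapHomologicalComplex (ComplexShape.up ℤ)).obj K.obj).homology n) := by
  obtain ⟨L, hL, i, hi⟩ := CochainComplex.Plus.exists_quasiIso_injective K m
  have hi' : QuasiIso i.hom := hi
  haveI := isIso_Q_map_of_quasiIso i hi'
  have e1 := shiftIsoOfCochain S n L (DerivedCategory.Plus.Q.obj K)
    (asIso (DerivedCategory.Plus.Q.map i)).symm
  haveI : CochainComplex.IsStrictlyGE
      (((InjectiveObject.ι C').mapCochainComplexPlus.obj L).obj) m :=
    inferInstanceAs (CochainComplex.IsStrictlyGE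
      (((InjectiveObject.ι C').mapHomologicalComplex (ComplexShape.up ℤ)).obj L.obj) m)
  have hq : QuasiIso ((S.mapHomologicalComplex (ComplexShape.up ℤ)).map i.hom) := by
    refine LerayAcyclic.quasiIso_map S i.hom hi' m m hK ?_
    intro j k hk
    obtain ⟨k, rfl⟩ : ∃ k', k = k' + 1 := ⟨k - 1, by lia⟩
    haveI : Injective ((((InjectiveObject.ι C').mapCochainComplexPlus.obj L).obj).X j) :=
      (L.obj.X j).property
    exact Functor.isZero_rightDerived_obj_injective_succ S k _
  have e2 := asIso (HomologicalComplex.homologyMap
    ((S.mapHomologicalComplex (ComplexShape.up ℤ)).map i.hom) n)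
  exact ⟨e1 ≪≫ e2.symm⟩

end Groth.Agent.Lib.Helper68.GSSDer
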