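import Groth.Agent.Lib.Helper68.SuppFlasqueB

set_option autoImplicit false
universe u

open CategoryTheory Category Limits Opposite Abelian ModSite

namespace Groth.Agent.Lib.Helper68.SuppFlasque

open Groth.Agent.Lib.Helper42.TensorSheaf Groth.Agent.Lib.Helper42.RestrTensor
open Groth.Agent.Lib.Helper42.DeltaFun Groth.Agent.Lib.Helper42.DeltaExt
open Groth.Agent.Lib.Helper42.DeltaRDer Groth.Agent.Lib.Helper42.ModSheaf
open Groth.Agent.Lib.Helper42
open Groth.Agent.Lib.Helper68.HomFree (LZ)
open Groth.Agent.Lib.Helper68.SuppGlob Groth.Agent.Lib.Helper68.LocGlobExt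
open Groth.Agent.Lib.Helper68.InjModAcyclic
open Groth.Agent.Lib.Helper68.RightDerivedLES Groth.Agent.Lib.Helper68.LerayAcyclic
open Groth.Agent.Lib.Helper68.AcycTransfer (injSeq injSeq_shortExact Qc)

section General

universe v₁ v₂ u₁ u₂

variable {𝒜 : Type u₁} [Category.{v₁} 𝒜] [Abelian 𝒜] [EnoughInjectives 𝒜]
  {ℬ : Type u₂} [Category.{v₂} ℬ] [Abelian ℬ]
  (G : 𝒜 ⥤ ℬ) [G.Additive] [PreservesFiniteLimits G]

/-- dimension shifting along a class of objects on which `G` is exact -/
theorem isZero_rightDerived_succ_of_class (𝒯 : 𝒜 → Prop)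
    (h1 : ∀ F, 𝒯 F → 𝒯 (Qc F))
    (h2 : ∀ F, 𝒯 F → Epi (G.map (cokernel.π (Injective.ι F)))) (q : ℕ) :
    ∀ F : 𝒜, 𝒯 F → IsZero ((G.rightDerived (q + 1)).obj F) := by
  induction q with
  | zero =>
    intro F hF
    have hS := injSeq_shortExact F
    have hepi : Epi (G.map (cokernel.π (Injective.ι F))) := h2 F hF
    have hepi0 : Epi ((G.rightDerived 0).map (cokernel.π (Injective.ι F))) := by
      have e0 : (G.rightDerived 0).map (cokernel.π (Injective.ι F)) =
          G.rightDerivedZeroIsoSelf.hom.app _ ≫ G.map (cokernel.π (Injective.ι F)) ≫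
            G.rightDerivedZeroIsoSelf.inv.app _ := by
        have := G.rightDerivedZeroIsoSelf.hom.naturality (cokernel.π (Injective.ι F))
        rw [← reassoc_of% this]
        simp
      rw [e0]
      infer_instance
    have hδ : δ G hS 0 = 0 := (exact₃ G hS 0).epi_f_iff.1 hepi0
    have hepiδ : Epi (δ G hS 0) :=
      epi_δ G hS 0 (Functor.isZero_rightDerived_obj_injective_succ G 0 _)
    rw [IsZero.iff_id_eq_zero, ← cancel_epi (δ G hS 0), comp_id, comp_zero]
    exact hδ
  | succ q ih =>
    intro F hF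
    have hS := injSeq_shortExact F
    exact isZero_left G hS (q + 1) (ih _ (h1 F hF))
      (Functor.isZero_rightDerived_obj_injective_succ G (q + 1) _)

end General

variable {C : Type u} [SmallCategory C] {J : GrothendieckTopology C}
  (O : Sheaf J CommRingCat.{u})

/-- a morphism of modules which is surjective on `Hom(O[h_V], -)` for all `V` is an epimorphism -/
lemma epi_of_surjective_on_gen {A B : Mod O} (f : A ⟶ B)
    (h : ∀ (V : C) (x : (FreeModR.OL (ringSh O)).obj (yoneda.obj V) ⟶ B), ∃ y, y ≫ f = x) :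
    Epi f := by
  refine ⟨fun {Z} g g' hgg' => ?_⟩
  refine Groth.Agent.Lib.Helper53.ModGroth.isSeparating_gen J (ringSh O) g g' ?_
  rintro _ ⟨V⟩ x
  obtain ⟨y, rfl⟩ := h V x
  exact (Category.assoc _ _ _).trans ((congrArg (fun t => y ≫ t) hgg').trans
    (Category.assoc _ _ _).symm)

/-- the cokernel of a monomorphism of flasque modules is flasque -/
lemma isTotallyAcyclic_X₃ {S : ShortComplex (Mod O)} (hS : S.ShortExact)
    (h₁ : CohCx.IsTotallyAcyclic (toAb S.X₁)) (h₂ : CohCx.IsTotallyAcyclic (toAb S.X₂)) :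
    CohCx.IsTotallyAcyclic (toAb S.X₃) := by
  have hS' : (S.map (SheafOfModules.toSheaf (ringSh O))).ShortExact :=
    hS.map_of_exact (SheafOfModules.toSheaf (ringSh O))
  intro K p
  refine ⟨fun x y => ?_⟩
  have h0 : ∀ x : CohCx.HK K (toAb S.X₃) (p + 1), x = 0 := by
    intro x
    have hx : x.comp hS'.extClass (rfl : p + 1 + 1 = p + 2) = 0 := (h₁ K (p + 1)).elim _ _
    obtain ⟨x₂, hx₂⟩ := Ext.covariant_sequence_exact₃ _ hS' x rfl hx
    have hx2 : x₂ = 0 := (h₂ K p).elim _ _
    rw [← hx₂, hx2, Ext.zero_comp]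
    rfl
  rw [h0 x, h0 y]

section Main

variable (U : C) [HasPushOver O U] [HasInjectiveResolutions (Mod O)]

/-- `R^{n+1} Hom_O(O[L]_Z, -)` vanishes on flasque modules -/
lemma isZero_rightDerived_hom_PL (L : Cᵒᵖ ⥤ Type u) (M : Mod O)
    (hM : CohCx.IsTotallyAcyclic (toAb M)) (n : ℕ) :
    IsZero (((preadditiveCoyoneda.obj (op (PL O U L))).rightDerived (n + 1)).obj M) := by
  haveI : EnoughInjectives (Mod O) :=
    Groth.Agent.Lib.Helper68.GSSDer.enoughInjectives_of_hasInjectiveResolutions
  let iso := DeltaFunctor.isoOfZero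
    (A := ofRightDerived (preadditiveCoyoneda.obj (op (PL O U L))))
    (B := (ofExt (QL (J := J) U L)).precomp (SheafOfModules.toSheaf (ringSh O)))
    (ofRightDerived_eff _)
    (by
      intro I _ n
      have := subsingleton_ext_cokernel_LZ (J := J) (fstU U L) (toAb I)
        (isTotallyAcyclic_toAb_of_injective O I) n
      exact AddCommGrpCat.isZero_of_subsingleton
        (AddCommGrpCat.of (Ext.{u} (QL (J := J) U L) (toAb I) (n + 1))))
    ((preadditiveCoyoneda.obj (op (PL O U L))).rightDerivedZeroIsoSelf ≪≫ e0 O U L ≪≫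
      Functor.isoWhiskerLeft (SheafOfModules.toSheaf (ringSh O))
        (ext0Iso (QL (J := J) U L))) (n + 1)
  refine IsZero.of_iso ?_ (iso.app M)
  have := subsingleton_ext_cokernel_LZ (J := J) (fstU U L) (toAb M) hM n
  exact AddCommGrpCat.isZero_of_subsingleton
    (AddCommGrpCat.of (Ext.{u} (QL (J := J) U L) (toAb M) (n + 1)))

/-- `Γ_Z` is exact on short exact sequences with flasque kernel -/
lemma epi_sectOn_map {S : ShortComplex (Mod O)} (hS : S.ShortExact)
    (hM : CohCx.IsTotallyAcyclic (toAb S.X₁)) : Epi ((sectOn O U).map S.g) := by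
  haveI : EnoughInjectives (Mod O) :=
    Groth.Agent.Lib.Helper68.GSSDer.enoughInjectives_of_hasInjectiveResolutions
  apply epi_of_surjective_on_gen
  intro V x
  let H := preadditiveCoyoneda.obj (op (PL O U (yoneda.obj V)))
  have hepi : Epi (H.map S.g) :=
    epi_map_g H hS (isZero_rightDerived_hom_PL O U (yoneda.obj V) S.X₁ hM 0)
  have hsurj : Function.Surjective (H.map S.g) := (AddCommGrpCat.epi_iff_surjective _).1 hepi
  let x' : PL O U (yoneda.obj V) ⟶ S.X₃ := ((QuotSectAdj.adj O U).homEquiv _ _).symm x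
  obtain ⟨y', hy'⟩ := hsurj x'
  have hy : y' ≫ S.g = x' := hy'
  refine ⟨(QuotSectAdj.adj O U).homEquiv _ _ y', ?_⟩
  rw [← Adjunction.homEquiv_naturality_right, hy]
  exact Equiv.apply_symm_apply _ _

/-- the local cohomology sheaves of a flasque module vanish in positive degrees -/
theorem isZero_HZsh_succ (M : Mod O) (hM : CohCx.IsTotallyAcyclic (toAb M)) (q : ℕ) :
    IsZero ((HZsh O U (q + 1)).obj M) := by
  haveI : EnoughInjectives (Mod O) :=
    Groth.Agent.Lib.Helper68.GSSDer.enoughInjectives_of_hasInjectiveResolutions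
  haveI := QuotSectAdj.sectOn_preservesFiniteLimits O U
  have h1 : ∀ F : Mod O, CohCx.IsTotallyAcyclic (toAb F) →
      CohCx.IsTotallyAcyclic (toAb (Qc F)) := by
    intro F hF
    have hI : CohCx.IsTotallyAcyclic (toAb (Injective.under F)) :=
      isTotallyAcyclic_toAb_of_injective O _
    exact isTotallyAcyclic_X₃ O (S := injSeq F) (injSeq_shortExact F) hF hI
  have h2 : ∀ F : Mod O, CohCx.IsTotallyAcyclic (toAb F) →
      Epi ((sectOn O U).map (cokernel.π (Injective.ι F))) := by
    intro F hF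
    exact epi_sectOn_map O U (S := injSeq F) (injSeq_shortExact F) hF
  exact isZero_rightDerived_succ_of_class (sectOn O U)
    (fun F : Mod O => CohCx.IsTotallyAcyclic (toAb F)) h1 h2 q M hM

end Main

end Groth.Agent.Lib.Helper68.SuppFlasque
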