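import Mathlib.Algebra.Category.ModuleCat.FilteredColimits
import Mathlib.CategoryTheory.Limits.ConcreteCategory.Basic
import Mathlib.CategoryTheory.Limits.Types.Filtered

/-! Elementwise description of filtered colimits in `ModuleCat R`, and two general lemmas:
kernels and cokernels of natural transformations between functors preserving a filtered colimit
again preserve it. -/

set_option autoImplicit false
universe u v' u'

open CategoryTheory Limits

namespace Groth.Agent.Lib.Helper68.FilteredMod

variable {R : Type u} [Ring R] {J : Type u} [SmallCategory J] [IsFiltered J]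

section Criterion

variable {D : J ⥤ ModuleCat.{u} R} {c : Cocone D}

theorem exists_rep (hc : IsColimit c) (x : c.pt) : ∃ (j : J) (y : D.obj j), c.ι.app j y = x :=
  Concrete.isColimit_exists_rep D hc x

theorem exists_map_eq_zero (hc : IsColimit c) (j : J) (y : D.obj j) (h : c.ι.app j y = 0) :
    ∃ (k : J) (f : j ⟶ k), D.map f y = 0 := by
  have h' : c.ι.app j y = c.ι.app j (0 : D.obj j) := by rw [h, map_zero]
  obtain ⟨k, f, g, hfg⟩ := Concrete.isColimit_exists_of_rep_eq D hc y (0 : D.obj j) h'
  refine ⟨k, f, ?_⟩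
  rw [hfg, map_zero]

/-- recognizing filtered colimits of modules elementwise -/
theorem nonempty_isColimit
    (hsurj : ∀ x : c.pt, ∃ (j : J) (y : D.obj j), c.ι.app j y = x)
    (hinj : ∀ (j : J) (y : D.obj j), c.ι.app j y = 0 → ∃ (k : J) (f : j ⟶ k), D.map f y = 0) :
    Nonempty (IsColimit c) := by
  refine ⟨isColimitOfReflects (forget (ModuleCat.{u} R)) ?_⟩
  refine Types.FilteredColimit.isColimitOf' _ _ ?_ ?_
  · intro x
    obtain ⟨j, y, hy⟩ := hsurj x
    exact ⟨j, y, hy.symm⟩
  · intro i (x : D.obj i) (y : D.obj i) hxy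
    have hxy' : c.ι.app i x = c.ι.app i y := hxy
    have h0 : c.ι.app i (x - y : D.obj i) = 0 := by
      rw [map_sub, hxy', sub_self]
    obtain ⟨k, f, hf⟩ := hinj i (x - y : D.obj i) h0
    refine ⟨k, f, ?_⟩
    have : D.map f x = D.map f y := by
      rw [map_sub, sub_eq_zero] at hf
      exact hf
    exact this

end Criterion

section Functors

variable {C : Type u'} [Category.{v'} C] (D : J ⥤ C)
  {G G₁ G₂ : C ⥤ ModuleCat.{u} R}

/-- a functor which is pointwise the kernel of a natural transformation between functors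
preserving a filtered colimit preserves it -/
theorem preservesColimit_of_kernel (ι : G ⟶ G₁) (α : G₁ ⟶ G₂)
    (hι : ∀ X, Function.Injective (ι.app X))
    (hz : ∀ X (x : G.obj X), α.app X (ι.app X x) = 0)
    (hex : ∀ X (y : G₁.obj X), α.app X y = 0 → ∃ x : G.obj X, ι.app X x = y)
    [PreservesColimit D G₁] [PreservesColimit D G₂] : PreservesColimit D G := by
  constructor
  intro c hc
  have h1 : IsColimit (G₁.mapCocone c) := isColimitOfPreserves G₁ hc
  have h2 : IsColimit (G₂.mapCocone c) := isColimitOfPreserves G₂ hc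
  obtain ⟨ci, hci⟩ : ∃ ci : ∀ j, D.obj j ⟶ c.pt, ∀ j, ci j = c.ι.app j :=
    ⟨fun j => c.ι.app j, fun _ => rfl⟩
  have hw : ∀ {j k : J} (f : j ⟶ k), D.map f ≫ ci k = ci j := fun f => by
    rw [hci, hci]; exact c.w f
  have natι : ∀ {X Y : C} (f : X ⟶ Y) (x : G.obj X),
      ι.app Y (G.map f x) = G₁.map f (ι.app X x) := fun f x =>
    ConcreteCategory.congr_hom (ι.naturality f) x
  have natα : ∀ {X Y : C} (f : X ⟶ Y) (x : G₁.obj X),
      α.app Y (G₁.map f x) = G₂.map f (α.app X x) := fun f x =>
    ConcreteCategory.congr_hom (α.naturality f) x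
  apply nonempty_isColimit (D := D ⋙ G) (c := G.mapCocone c)
  · intro x
    obtain ⟨j, y, hy⟩ := exists_rep h1 (ι.app c.pt x)
    have hy' : G₁.map (ci j) y = ι.app c.pt x := by rw [hci]; exact hy
    have h0 : (G₂.mapCocone c).ι.app j (α.app (D.obj j) y) = 0 := by
      have : G₂.map (ci j) (α.app (D.obj j) y) = 0 := by
        rw [← natα, hy', hz]
      rw [hci] at this
      exact this
    obtain ⟨k, f, hf⟩ := exists_map_eq_zero h2 j _ h0
    have hf' : α.app (D.obj k) (G₁.map (D.map f) y) = 0 := by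
      rw [natα]; exact hf
    obtain ⟨xk, hxk⟩ := hex _ _ hf'
    refine ⟨k, xk, ?_⟩
    have : G.map (ci k) xk = x := by
      apply hι
      rw [natι, hxk, ← hy', ← hw f, G₁.map_comp]
      rfl
    rw [hci] at this
    exact this
  · intro j y hy
    have hy' : G.map (ci j) y = 0 := by rw [hci]; exact hy
    have h0 : (G₁.mapCocone c).ι.app j (ι.app (D.obj j) y) = 0 := by
      have : G₁.map (ci j) (ι.app (D.obj j) y) = 0 := by
        rw [← natι, hy', map_zero]
      rw [hci] at this
      exact this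
    obtain ⟨k, f, hf⟩ := exists_map_eq_zero h1 j _ h0
    refine ⟨k, f, ?_⟩
    show G.map (D.map f) y = 0
    apply hι
    rw [natι, map_zero]
    exact hf

/-- a functor which is pointwise the cokernel of a natural transformation between functors
preserving a filtered colimit preserves it -/
theorem preservesColimit_of_cokernel (α : G₁ ⟶ G₂) (π : G₂ ⟶ G)
    (hπ : ∀ X, Function.Surjective (π.app X))
    (hz : ∀ X (x : G₁.obj X), π.app X (α.app X x) = 0)
    (hex : ∀ X (y : G₂.obj X), π.app X y = 0 → ∃ x : G₁.obj X, α.app X x = y)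
    [PreservesColimit D G₁] [PreservesColimit D G₂] : PreservesColimit D G := by
  constructor
  intro c hc
  have h1 : IsColimit (G₁.mapCocone c) := isColimitOfPreserves G₁ hc
  have h2 : IsColimit (G₂.mapCocone c) := isColimitOfPreserves G₂ hc
  obtain ⟨ci, hci⟩ : ∃ ci : ∀ j, D.obj j ⟶ c.pt, ∀ j, ci j = c.ι.app j :=
    ⟨fun j => c.ι.app j, fun _ => rfl⟩
  have hw : ∀ {j k : J} (f : j ⟶ k), D.map f ≫ ci k = ci j := fun f => by
    rw [hci, hci]; exact c.w f
  have natπ : ∀ {X Y : C} (f : X ⟶ Y) (x : G₂.obj X),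
      π.app Y (G₂.map f x) = G.map f (π.app X x) := fun f x =>
    ConcreteCategory.congr_hom (π.naturality f) x
  have natα : ∀ {X Y : C} (f : X ⟶ Y) (x : G₁.obj X),
      α.app Y (G₁.map f x) = G₂.map f (α.app X x) := fun f x =>
    ConcreteCategory.congr_hom (α.naturality f) x
  apply nonempty_isColimit (D := D ⋙ G) (c := G.mapCocone c)
  · intro x
    obtain ⟨y, rfl⟩ := hπ c.pt x
    obtain ⟨j, yj, hyj⟩ := exists_rep h2 y
    have hyj' : G₂.map (ci j) yj = y := by rw [hci]; exact hyj
    refine ⟨j, π.app _ yj, ?_⟩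
    have : G.map (ci j) (π.app _ yj) = π.app c.pt y := by
      rw [← natπ, hyj']
    rw [hci] at this
    exact this
  · intro j x hx
    have hx' : G.map (ci j) x = 0 := by rw [hci]; exact hx
    obtain ⟨y, rfl⟩ := hπ _ x
    have h0 : π.app c.pt (G₂.map (ci j) y) = 0 := by
      rw [natπ]; exact hx'
    obtain ⟨z, hz'⟩ := hex _ _ h0
    obtain ⟨k, zk, hzk⟩ := exists_rep h1 z
    have hzk' : G₁.map (ci k) zk = z := by rw [hci]; exact hzk
    -- move to a common index
    obtain ⟨m, fj, fk, -⟩ : ∃ (m : J) (_ : j ⟶ m) (_ : k ⟶ m), True :=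
      ⟨IsFiltered.max j k, IsFiltered.leftToMax j k, IsFiltered.rightToMax j k, trivial⟩
    have h3 : (G₂.mapCocone c).ι.app m
        (G₂.map (D.map fj) y - α.app _ (G₁.map (D.map fk) zk)) = 0 := by
      have : G₂.map (ci m) (G₂.map (D.map fj) y - α.app _ (G₁.map (D.map fk) zk)) = 0 := by
        have e1 : G₂.map (ci m) (G₂.map (D.map fj) y) = G₂.map (ci j) y := by
          rw [← hw fj, G₂.map_comp]
          rfl
        have e2 : G₂.map (ci m) (α.app _ (G₁.map (D.map fk) zk)) = G₂.map (ci j) y := by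
          rw [← natα, ← hz', ← hzk', ← hw fk, G₁.map_comp]
          rfl
        rw [map_sub, e1, e2, sub_self]
      rw [hci] at this
      exact this
    obtain ⟨l, g, hg⟩ := exists_map_eq_zero h2 m _ h3
    have hg' : G₂.map (D.map g) (G₂.map (D.map fj) y - α.app _ (G₁.map (D.map fk) zk)) = 0 := hg
    refine ⟨l, fj ≫ g, ?_⟩
    show G.map (D.map (fj ≫ g)) (π.app _ y) = 0
    rw [← natπ, D.map_comp, G₂.map_comp]
    have e3 : G₂.map (D.map g) (G₂.map (D.map fj) y) =
        α.app _ (G₁.map (D.map g) (G₁.map (D.map fk) zk)) := by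
      rw [map_sub, sub_eq_zero] at hg'
      rw [natα]
      exact hg'
    show π.app _ (G₂.map (D.map g) (G₂.map (D.map fj) y)) = 0
    rw [e3, hz]

end Functors

end Groth.Agent.Lib.Helper68.FilteredMod
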