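import Mathlib
import Groth.Agent.Lib.Helper69.SmoothQF
import Groth.Agent.Lib.Helper69.RatSec

/-!
# helper68: LFT for helper52's S13432
-/

set_option autoImplicit false
universe u

open CategoryTheory CategoryTheory.Limits AlgebraicGeometry

namespace Groth.Agent.Lib.Helper68.NeronFinLFT

theorem isOpenImmersion_lift_smoothLocus {T S W : Scheme.{u}} (π : T ⟶ S) [IsFinite π]
    [LocallyOfFinitePresentation π] (g : W ⟶ S) (V : W.Opens)
    (a : V.toScheme ⟶ π.smoothLocus.toScheme) (ha : (a ≫ π.smoothLocus.ι) ≫ π = V.ι ≫ g) :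
    IsOpenImmersion (pullback.lift (a ≫ π.smoothLocus.ι) V.ι ha : V.toScheme ⟶ pullback π g) := by
  let ι := π.smoothLocus.ι
  let πN := ι ≫ π
  haveI : LocallyOfFinitePresentation πN := inferInstance
  haveI hsm : Smooth πN := by
    rw [← Scheme.Hom.smoothLocus_eq_top_iff, ← Scheme.Hom.preimage_smoothLocus_eq]
    exact Scheme.Opens.ι_preimage_self _
  haveI : LocallyQuasiFinite ι := inferInstance
  haveI : LocallyQuasiFinite π := inferInstance
  haveI : LocallyQuasiFinite πN := inferInstance
  haveI : Etale πN := Groth.Agent.Lib.Helper69.SmoothQF.etale_of_smooth_of_locallyQuasiFinite πN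
  have ha' : a ≫ πN = V.ι ≫ g := by rw [← ha, Category.assoc]
  let l : V.toScheme ⟶ pullback πN g := pullback.lift a V.ι ha'
  haveI : Etale (pullback.snd πN g) := inferInstance
  haveI : FormallyUnramified (pullback.snd πN g) := inferInstance
  haveI : IsOpenImmersion (l ≫ pullback.snd πN g) := by
    rw [pullback.lift_snd]; infer_instance
  haveI : IsOpenImmersion l :=
    Groth.Agent.Lib.Helper69.RatSec.isOpenImmersion_of_comp_unramified l (pullback.snd πN g)
  let m : pullback πN g ⟶ pullback π g :=
    pullback.map πN g π g ι (𝟙 W) (𝟙 S) (by simp [πN]) (by simp)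
  haveI : IsOpenImmersion m := inferInstance
  have hlm : pullback.lift (a ≫ π.smoothLocus.ι) V.ι ha = l ≫ m := by
    apply pullback.hom_ext
    · have h1 : m ≫ pullback.fst π g = pullback.fst πN g ≫ ι := pullback.lift_fst _ _ _
      rw [pullback.lift_fst, Category.assoc, h1, ← Category.assoc, pullback.lift_fst]
    · have h2 : m ≫ pullback.snd π g = pullback.snd πN g ≫ 𝟙 W := pullback.lift_snd _ _ _
      rw [pullback.lift_snd, Category.assoc, h2, ← Category.assoc, pullback.lift_snd,
        Category.comp_id]
  rw [hlm]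
  infer_instance

end Groth.Agent.Lib.Helper68.NeronFinLFT
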