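import Mathlib

/-! Artin–Rees in tensor form: for `M` finite over Noetherian `R`, `∀ n ∃ m ≥ n` such that
`M ⊗ I^m → M ⊗ I^n` kills the kernel of `M ⊗ I^m → M ⊗ R`. -/

set_option autoImplicit false
universe u
open TensorProduct

namespace Groth.Agent.Lib.Helper68.ARTensor

variable {R : Type u} [CommRing R]
variable {F : Type u} [AddCommGroup F] [Module R F]
variable {M : Type u} [AddCommGroup M] [Module R M]

/-- `F ⊗ J → F`, `f ⊗ a ↦ a • f` -/
noncomputable def ι (F : Type u) [AddCommGroup F] [Module R F] (J : Ideal R) : F ⊗[R] J →ₗ[R] F :=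
  (TensorProduct.rid R F).toLinearMap ∘ₗ (J.subtype.lTensor F)

@[simp] lemma ι_tmul (J : Ideal R) (f : F) (a : J) : ι F J (f ⊗ₜ a) = (a : R) • f := by
  simp [ι]

lemma ι_injective [Module.Flat R F] (J : Ideal R) : Function.Injective (ι F J) := by
  unfold ι
  rw [LinearMap.coe_comp]
  exact (TensorProduct.rid R F).injective.comp
    (Module.Flat.lTensor_preserves_injective_linearMap (M := F) J.subtype Subtype.val_injective)

lemma ι_mem (J : Ideal R) (z : F ⊗[R] J) : ι F J z ∈ (J • ⊤ : Submodule R F) := by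
  induction z using TensorProduct.induction_on with
  | zero => simp
  | tmul f a =>
    rw [ι_tmul]
    exact Submodule.smul_mem_smul a.2 Submodule.mem_top
  | add x y hx hy =>
    rw [map_add]
    exact Submodule.add_mem _ hx hy

lemma map_ι (p : F →ₗ[R] M) (J : Ideal R) (z : F ⊗[R] J) :
    p (ι F J z) = ι M J (p.rTensor J z) := by
  induction z using TensorProduct.induction_on with
  | zero => simp
  | tmul f a => simp
  | add x y hx hy => simp [hx, hy]

lemma ι_inclusion {J J' : Ideal R} (h : J ≤ J') (z : F ⊗[R] J) :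
    ι F J' ((Submodule.inclusion h).lTensor F z) = ι F J z := by
  induction z using TensorProduct.induction_on with
  | zero => simp
  | tmul f a => simp
  | add x y hx hy => simp [hx, hy]

lemma exists_of_mem_smul (K : Submodule R F) (J : Ideal R) (x : F) (hx : x ∈ J • K) :
    ∃ t : K ⊗[R] J, ι F J (K.subtype.rTensor J t) = x := by
  induction hx using Submodule.smul_induction_on' with
  | smul a ha k hk =>
    exact ⟨(⟨k, hk⟩ : K) ⊗ₜ (⟨a, ha⟩ : J), by simp⟩
  | add x hx y hy hx' hy' =>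
    obtain ⟨t, ht⟩ := hx'
    obtain ⟨t', ht'⟩ := hy'
    exact ⟨t + t', by simp [ht, ht']⟩

theorem artin_rees_tensor [IsNoetherianRing R] (I : Ideal R) [Module.Finite R M] (n : ℕ) :
    ∃ m : ℕ, n ≤ m ∧ ∀ h : I ^ m ≤ I ^ n, ∀ y : M ⊗[R] (I ^ m : Ideal R),
      (I ^ m).subtype.lTensor M y = 0 → (Submodule.inclusion h).lTensor M y = 0 := by
  obtain ⟨k, p, hp⟩ := Module.Finite.exists_fin' R M
  set K := LinearMap.ker p with hK
  obtain ⟨c, hc⟩ := Ideal.exists_pow_inf_eq_pow_smul I K
  refine ⟨n + c, Nat.le_add_right n c, fun h y hy => ?_⟩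
  obtain ⟨z, rfl⟩ := LinearMap.rTensor_surjective (I ^ (n + c) : Ideal R) hp y
  have hx1 : ι _ (I ^ (n + c)) z ∈ K := by
    rw [hK, LinearMap.mem_ker, map_ι]
    unfold ι
    rw [LinearMap.comp_apply, hy, map_zero]
  have hx2 : ι _ (I ^ (n + c)) z ∈ (I ^ (n + c) • ⊤ : Submodule R (Fin k → R)) := ι_mem _ z
  have hx3 : ι _ (I ^ (n + c)) z ∈ I ^ n • K := by
    have h1 : ι _ (I ^ (n + c)) z ∈ I ^ (n + c) • ⊤ ⊓ K := ⟨hx2, hx1⟩
    rw [hc (n + c) (Nat.le_add_left c n), Nat.add_sub_cancel] at h1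
    exact Submodule.smul_mono (le_refl _) inf_le_right h1
  obtain ⟨t, ht⟩ := exists_of_mem_smul K (I ^ n) _ hx3
  rw [← ι_inclusion h z] at ht
  have h2 := ι_injective (F := Fin k → R) (I ^ n) ht
  have h3 : (Submodule.inclusion h).lTensor M (p.rTensor _ z) =
      p.rTensor _ ((Submodule.inclusion h).lTensor _ z) := by
    rw [← LinearMap.comp_apply, ← LinearMap.comp_apply, LinearMap.lTensor_comp_rTensor,
      LinearMap.rTensor_comp_lTensor]
  rw [h3, ← h2, ← LinearMap.comp_apply, ← LinearMap.rTensor_comp]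
  have : p ∘ₗ K.subtype = 0 := by
    ext x
    exact x.2
  rw [this, LinearMap.rTensor_zero, LinearMap.zero_apply]

end Groth.Agent.Lib.Helper68.ARTensor
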