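import Groth.Agent.Lib.Helper68.ARTensor

/-! Uniform Artin–Rees in tensor form, and the analogous statement for modules killed by a power
of the ideal. -/

set_option autoImplicit false
universe u
open TensorProduct

namespace Groth.Agent.Lib.Helper68.ARTensor

variable {R : Type u} [CommRing R]
variable {M : Type u} [AddCommGroup M] [Module R M]

/-- uniform Artin–Rees: there is `c` such that for `a ≥ b + c` the map `M ⊗ I^a → M ⊗ I^b`
kills the kernel of `M ⊗ I^a → M ⊗ R`. -/
theorem artin_rees_tensor_uniform [IsNoetherianRing R] (I : Ideal R) [Module.Finite R M] :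
    ∃ c : ℕ, ∀ a b : ℕ, b + c ≤ a → ∀ h : I ^ a ≤ I ^ b, ∀ y : M ⊗[R] (I ^ a : Ideal R),
      (I ^ a).subtype.lTensor M y = 0 → (Submodule.inclusion h).lTensor M y = 0 := by
  obtain ⟨k, p, hp⟩ := Module.Finite.exists_fin' R M
  set K := LinearMap.ker p with hK
  obtain ⟨c, hc⟩ := Ideal.exists_pow_inf_eq_pow_smul I K
  refine ⟨c, fun a b hab h y hy => ?_⟩
  obtain ⟨z, rfl⟩ := LinearMap.rTensor_surjective (I ^ a : Ideal R) hp y
  have hx1 : ι _ (I ^ a) z ∈ K := by
    rw [hK, LinearMap.mem_ker, map_ι]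
    unfold ι
    rw [LinearMap.comp_apply, hy, map_zero]
  have hx2 : ι _ (I ^ a) z ∈ (I ^ a • ⊤ : Submodule R (Fin k → R)) := ι_mem _ z
  have hx3 : ι _ (I ^ a) z ∈ I ^ b • K := by
    have h1 : ι _ (I ^ a) z ∈ I ^ a • ⊤ ⊓ K := ⟨hx2, hx1⟩
    rw [hc a (by omega)] at h1
    have hle : I ^ (a - c) ≤ I ^ b := Ideal.pow_le_pow_right (by omega)
    exact Submodule.smul_mono hle inf_le_right h1
  obtain ⟨t, ht⟩ := exists_of_mem_smul K (I ^ b) _ hx3
  rw [← ι_inclusion h z] at ht
  have h2 := ι_injective (F := Fin k → R) (I ^ b) ht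
  have h3 : (Submodule.inclusion h).lTensor M (p.rTensor _ z) =
      p.rTensor _ ((Submodule.inclusion h).lTensor _ z) := by
    rw [← LinearMap.comp_apply, ← LinearMap.comp_apply, LinearMap.lTensor_comp_rTensor,
      LinearMap.rTensor_comp_lTensor]
  rw [h3, ← h2, ← LinearMap.comp_apply, ← LinearMap.rTensor_comp]
  have : p ∘ₗ K.subtype = 0 := by
    ext x
    exact x.2
  rw [this, LinearMap.rTensor_zero, LinearMap.zero_apply]

/-- if `I^m` kills `M` then `M ⊗ I^a → M ⊗ I^b` is zero for `a ≥ b + m` -/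
theorem lTensor_inclusion_eq_zero_of_killed (I : Ideal R) (m : ℕ)
    (hM : ∀ s ∈ I ^ m, ∀ x : M, s • x = 0) (a b : ℕ) (hab : b + m ≤ a) (h : I ^ a ≤ I ^ b)
    (y : M ⊗[R] (I ^ a : Ideal R)) : (Submodule.inclusion h).lTensor M y = 0 := by
  induction y using TensorProduct.induction_on with
  | zero => simp
  | add x y hx hy => rw [map_add, hx, hy, add_zero]
  | tmul x r =>
    rw [LinearMap.lTensor_tmul]
    -- the submodule of `t ∈ I^b` with `x ⊗ t = 0`
    let φ : (I ^ b : Ideal R) →ₗ[R] M ⊗[R] (I ^ b : Ideal R) := (TensorProduct.mk R M _) x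
    have hle : (I ^ m • ⊤ : Submodule R (I ^ b : Ideal R)) ≤ LinearMap.ker φ := by
      rw [Submodule.smul_le]
      intro s hs t _
      rw [LinearMap.mem_ker]
      show x ⊗ₜ[R] (s • t) = 0
      rw [TensorProduct.tmul_smul, TensorProduct.smul_tmul', hM s hs x, TensorProduct.zero_tmul]
    have hmem : Submodule.inclusion h r ∈ (I ^ m • ⊤ : Submodule R (I ^ b : Ideal R)) := by
      rw [Submodule.mem_smul_top_iff]
      show (r : R) ∈ I ^ m • I ^ b
      rw [smul_eq_mul, ← pow_add]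
      exact Ideal.pow_le_pow_right (by omega) r.2
    exact hle hmem

end Groth.Agent.Lib.Helper68.ARTensor
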