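import Groth.Agent.Lib.Helper68.Soft

/-! Acyclicity of sheaves that are "flasque with respect to a basis of quasi-compact opens"
(helper68). -/

set_option autoImplicit false
universe u

open CategoryTheory TopologicalSpace Opposite CategoryTheory.Limits TopCat

namespace Groth.Agent.Lib.Helper68.AcycClass

open Groth.Agent.Lib.Helper68.TopRetract (adj)
open Groth.Agent.Lib.Helper68.Soft (res res_res hom_res res_self res_add res_sub constZ)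
open Groth.Agent.Lib.Helper68

variable {Y : TopCat.{u}}

section abstract

open Abelian Groth.Agent.Lib.Helper53

variable (𝒞 : CohTop.Ab Y → Prop)
  (h1 : ∀ F : CohTop.Ab Y, TopCat.Sheaf.IsFlasque F → 𝒞 F)
  (h2 : ∀ S : ShortComplex (CohTop.Ab Y), S.ShortExact → 𝒞 S.X₁ → 𝒞 S.X₂ → 𝒞 S.X₃)
  (h3 : ∀ S : ShortComplex (CohTop.Ab Y), S.ShortExact → 𝒞 S.X₁ →
    Function.Surjective (S.g.hom.app (op (⊤ : Opens Y))))

include h3 in
lemma constantSheaf_lift (S : ShortComplex (CohTop.Ab Y)) (hS : S.ShortExact)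
    (hC : 𝒞 S.X₁) (g : constZ Y ⟶ S.X₃) : ∃ f : constZ Y ⟶ S.X₂, f ≫ S.g = g := by
  have hT : IsTerminal (⊤ : Opens Y) := isTerminalTop
  obtain ⟨s, hs⟩ := h3 S hS hC (Sheaf.H.equiv₀ S.X₃ hT (Ext.mk₀ g))
  obtain ⟨f, hf⟩ := (Ext.mk₀_bijective _ S.X₂).2 ((Sheaf.H.equiv₀ S.X₂ hT).symm s)
  refine ⟨f, ?_⟩
  apply (Ext.mk₀_bijective _ S.X₃).1
  apply (Sheaf.H.equiv₀ S.X₃ hT).injective
  rw [← hs, ← Ext.mk₀_comp_mk₀, hf]
  have := Sheaf.H.equiv₀_naturality (F := S.X₂) (G := S.X₃) hT S.g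
    ((Sheaf.H.equiv₀ S.X₂ hT).symm s)
  rw [AddEquiv.apply_symm_apply] at this
  rw [this]
  rfl

include h1 h2 h3 in
/-- sheaves in an acyclic class have no higher cohomology -/
theorem ext_succ_eq_zero (n : ℕ) :
    ∀ (F : CohTop.Ab Y) (_ : 𝒞 F) (x : Ext (constZ Y) F (n + 1)), x = 0 := by
  induction n with
  | zero =>
    intro F hF x
    have e1 : x.comp (Ext.mk₀ (injSeq F).f) (add_zero 1) = 0 := Ext.eq_zero_of_injective _
    obtain ⟨y, hy⟩ := Ext.covariant_sequence_exact₁ (constZ Y) (injSeq_shortExact F) x e1 (zero_add 1)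
    obtain ⟨g, rfl⟩ := (Ext.mk₀_bijective (constZ Y) (injSeq F).X₃).2 y
    obtain ⟨f, hf⟩ := constantSheaf_lift 𝒞 h3 (injSeq F) (injSeq_shortExact F) hF g
    rw [← hy, ← hf, ← Ext.mk₀_comp_mk₀, Ext.comp_assoc_of_second_deg_zero,
      (injSeq_shortExact F).comp_extClass, Ext.comp_zero]
    rfl
  | succ n ih =>
    intro F hF x
    have e1 : x.comp (Ext.mk₀ (injSeq F).f) (add_zero (n + 1 + 1)) = 0 :=
      Ext.eq_zero_of_injective _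
    obtain ⟨y, hy⟩ := Ext.covariant_sequence_exact₁ (constZ Y) (injSeq_shortExact F) x e1 rfl
    have hC : 𝒞 (injSeq F).X₃ :=
      h2 (injSeq F) (injSeq_shortExact F) hF (h1 _ inferInstance)
    rw [← hy, ih (injSeq F).X₃ hC y, Ext.zero_comp]
    rfl

end abstract

variable (ℬ : Set (Opens Y))

/-- global sections surject onto the sections over every member of `ℬ` -/
def IsQF (M : CohTop.Ab Y) : Prop :=
  ∀ V ∈ ℬ, Function.Surjective (res M (le_top : V ≤ ⊤))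

lemma isQF_of_isFlasque (M : CohTop.Ab Y) [TopCat.Sheaf.IsFlasque M] : IsQF ℬ M := by
  intro V _ g
  have hepi : Epi (M.obj.map (homOfLE (le_top : V ≤ ⊤)).op) := TopCat.Presheaf.IsFlasque.epi _
  exact (AddCommGrpCat.epi_iff_surjective _).1 hepi g

variable {ℬ}

lemma glueLift {S : ShortComplex (CohTop.Ab Y)} (hS : S.ShortExact) (h1 : IsQF ℬ S.X₁)
    (hinf : ∀ V₁ ∈ ℬ, ∀ V₂ ∈ ℬ, V₁ ⊓ V₂ ∈ ℬ) {U : Opens Y}
    (s : ToType (S.X₃.obj.obj (op U))) {W₁ W₂ : Opens Y} (hW₁ : W₁ ∈ ℬ) (hW₂ : W₂ ∈ ℬ)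
    (hW₁U : W₁ ≤ U) (hW₂U : W₂ ≤ U)
    {m₁ : ToType (S.X₂.obj.obj (op W₁))} {m₂ : ToType (S.X₂.obj.obj (op W₂))}
    (hm₁ : S.g.hom.app (op W₁) m₁ = res S.X₃ hW₁U s)
    (hm₂ : S.g.hom.app (op W₂) m₂ = res S.X₃ hW₂U s) :
    ∃ m : ToType (S.X₂.obj.obj (op (W₁ ⊔ W₂))),
      S.g.hom.app (op (W₁ ⊔ W₂)) m = res S.X₃ (sup_le hW₁U hW₂U) s := by
  have hgf : ∀ (U : Opens Y) (x : ToType (S.X₁.obj.obj (op U))),
      S.g.hom.app (op U) (S.f.hom.app (op U) x) = 0 := by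
    intro U x
    have := congrArg (fun φ : S.X₁ ⟶ S.X₃ => φ.hom.app (op U) x) S.zero
    exact this
  let W₁₂ : Opens Y := W₁ ⊓ W₂
  have hl : W₁₂ ≤ W₁ := inf_le_left
  have hr : W₁₂ ≤ W₂ := inf_le_right
  let d : ToType (S.X₂.obj.obj (op W₁₂)) := res S.X₂ hl m₁ - res S.X₂ hr m₂
  have hd : S.g.hom.app (op W₁₂) d = 0 := by
    show S.g.hom.app (op W₁₂) (res S.X₂ hl m₁ - res S.X₂ hr m₂) = 0
    rw [map_sub, hom_res, hom_res, hm₁, hm₂, res_res, res_res, sub_self]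
  obtain ⟨d₁, hd₁⟩ := TopCat.Sheaf.sections_exact_of_left_exact hS.1 hS.2 d hd
  obtain ⟨d', hd'⟩ := h1 W₁₂ (hinf W₁ hW₁ W₂ hW₂) d₁
  let m₂' : ToType (S.X₂.obj.obj (op W₂)) := m₂ + S.f.hom.app (op W₂) (res S.X₁ le_top d')
  have hm₂' : S.g.hom.app (op W₂) m₂' = res S.X₃ hW₂U s := by
    show S.g.hom.app (op W₂) (m₂ + S.f.hom.app (op W₂) (res S.X₁ le_top d')) = _
    rw [map_add, hgf, add_zero, hm₂]
  have hagree : res S.X₂ hl m₁ = res S.X₂ hr m₂' := by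
    have e2 : d = S.f.hom.app (op W₁₂) (res S.X₁ le_top d') := by
      rw [← hd₁, hd']
    have e3 : res S.X₂ hr m₂' = res S.X₂ hr m₂ + S.f.hom.app (op W₁₂) (res S.X₁ le_top d') := by
      show res S.X₂ hr (m₂ + S.f.hom.app (op W₂) (res S.X₁ le_top d')) = _
      rw [res_add, ← hom_res S.f hr, res_res]
    rw [e3, ← e2]
    show res S.X₂ hl m₁ = res S.X₂ hr m₂ + (res S.X₂ hl m₁ - res S.X₂ hr m₂)
    abel
  obtain ⟨m, hmV₁, hmV₂⟩ := NhdSec.glue₂ S.X₂ m₁ m₂' hagree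
  refine ⟨m, ?_⟩
  apply (show TopCat.Sheaf AddCommGrpCat.{u} Y from S.X₃).eq_of_locally_eq₂
    (homOfLE (le_sup_left : W₁ ≤ W₁ ⊔ W₂)) (homOfLE (le_sup_right : W₂ ≤ W₁ ⊔ W₂)) le_rfl
  · show res S.X₃ le_sup_left (S.g.hom.app (op (W₁ ⊔ W₂)) m) =
      res S.X₃ le_sup_left (res S.X₃ (sup_le hW₁U hW₂U) s)
    rw [← hom_res S.g, res_res]
    have : res S.X₂ le_sup_left m = m₁ := hmV₁
    rw [this, hm₁]
  · show res S.X₃ le_sup_right (S.g.hom.app (op (W₁ ⊔ W₂)) m) =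
      res S.X₃ le_sup_right (res S.X₃ (sup_le hW₁U hW₂U) s)
    rw [← hom_res S.g, res_res]
    have : res S.X₂ le_sup_right m = m₂' := hmV₂
    rw [this, hm₂']

variable (hb : ∀ (U : Opens Y) (y : Y), y ∈ U → ∃ V ∈ ℬ, y ∈ V ∧ V ≤ U)
  (hinf : ∀ V₁ ∈ ℬ, ∀ V₂ ∈ ℬ, V₁ ⊓ V₂ ∈ ℬ) (hsup : ∀ V₁ ∈ ℬ, ∀ V₂ ∈ ℬ, V₁ ⊔ V₂ ∈ ℬ)
  (hcpt : ∀ V ∈ ℬ, IsCompact (V : Set Y)) (hbot : ⊥ ∈ ℬ)

include hb hinf hsup hcpt hbot in
/-- sections over members of `ℬ` are exact on short exact sequences with `ℬ`-flasque kernel -/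
theorem surjective_app_of_isQF {S : ShortComplex (CohTop.Ab Y)} (hS : S.ShortExact)
    (h1 : IsQF ℬ S.X₁) {U : Opens Y} (hU : U ∈ ℬ) :
    Function.Surjective (S.g.hom.app (op U)) := by
  intro s
  have key : ∃ (V : Opens Y) (_ : V ∈ ℬ) (hVU : V ≤ U) (m : ToType (S.X₂.obj.obj (op V))),
      (U : Set Y) ⊆ V ∧ S.g.hom.app (op V) m = res S.X₃ hVU s := by
    refine (hcpt U hU).induction_on (p := fun T => ∃ (V : Opens Y) (_ : V ∈ ℬ) (hVU : V ≤ U)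
      (m : ToType (S.X₂.obj.obj (op V))), T ⊆ V ∧ S.g.hom.app (op V) m = res S.X₃ hVU s) ?_ ?_ ?_ ?_
    · refine ⟨⊥, hbot, bot_le, 0, Set.empty_subset _, ?_⟩
      apply (show TopCat.Sheaf AddCommGrpCat.{u} Y from S.X₃).eq_of_locally_eq'
        (fun i : PEmpty.{1} => (i.elim : Opens Y)) ⊥ (fun i => i.elim) bot_le
      intro i
      exact i.elim
    · rintro T T' hTT' ⟨V, hV, hVU, m, hTV, hm⟩
      exact ⟨V, hV, hVU, m, hTT'.trans hTV, hm⟩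
    · rintro T₁ T₂ ⟨V₁, hV₁, hV₁U, m₁, hT₁, hm₁⟩ ⟨V₂, hV₂, hV₂U, m₂, hT₂, hm₂⟩
      obtain ⟨m, hm⟩ := glueLift hS h1 hinf s hV₁ hV₂ hV₁U hV₂U hm₁ hm₂
      exact ⟨V₁ ⊔ V₂, hsup V₁ hV₁ V₂ hV₂, sup_le hV₁U hV₂U, m,
        Set.union_subset_union hT₁ hT₂, hm⟩
    · intro y hy
      have hls := (TopCat.Sheaf.isLocallySurjective_iff_epi S.g).mpr hS.epi_g
      obtain ⟨W, hWle, ⟨m, hm⟩, hyW⟩ :=
        (TopCat.Presheaf.isLocallySurjective_iff S.g.hom).mp hls U s y hy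
      obtain ⟨V, hV, hyV, hVW⟩ := hb W y hyW
      refine ⟨V, mem_nhdsWithin_of_mem_nhds (V.isOpen.mem_nhds hyV), V, hV, hVW.trans hWle,
        res S.X₂ hVW m, le_rfl, ?_⟩
      rw [hom_res, hm]
      exact res_res S.X₃ hWle hVW s
  obtain ⟨V, -, hVU, m, hUV, hm⟩ := key
  have hUV' : U ≤ V := hUV
  refine ⟨res S.X₂ hUV' m, ?_⟩
  rw [hom_res, hm, res_res, res_self]

include hb hinf hsup hcpt hbot in
theorem isQF_of_shortExact {S : ShortComplex (CohTop.Ab Y)} (hS : S.ShortExact)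
    (h1 : IsQF ℬ S.X₁) (h2 : IsQF ℬ S.X₂) : IsQF ℬ S.X₃ := by
  intro V hV t
  obtain ⟨m, hm⟩ := surjective_app_of_isQF hb hinf hsup hcpt hbot hS h1 hV t
  obtain ⟨m', hm'⟩ := h2 V hV m
  refine ⟨S.g.hom.app (op ⊤) m', ?_⟩
  rw [← hom_res S.g, hm', hm]

include hb hinf hsup hcpt hbot in
/-- `ℬ`-flasque sheaves have no higher cohomology -/
theorem subsingleton_H_succ (htop : ⊤ ∈ ℬ) (F : CohTop.Ab Y) (hF : IsQF ℬ F) (n : ℕ) :
    Subsingleton (CohTop.H F (n + 1)) :=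
  subsingleton_of_forall_eq 0 fun x =>
    ext_succ_eq_zero (IsQF ℬ) (fun F _ => isQF_of_isFlasque ℬ F)
      (fun _ hS h1 h2 => isQF_of_shortExact hb hinf hsup hcpt hbot hS h1 h2)
      (fun _ hS h1 => surjective_app_of_isQF hb hinf hsup hcpt hbot hS h1 htop) n F hF x

end Groth.Agent.Lib.Helper68.AcycClass
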