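import Groth.Agent.Lib.Helper68.RightDerivedLES
import Mathlib.CategoryTheory.Retract
import Mathlib.CategoryTheory.Abelian.RightDerived

/-! Adapted classes are right acyclic (for the classical right derived functors of an additive
functor): if every object embeds into an object of `I`, and `I` is closed under cokernels of
monomorphisms with `F` exact on such sequences, then for `X ∈ I`: `F X ≅ R⁰F X`, `RⁱF X = 0`. -/

set_option autoImplicit false
universe v u v' u'

open CategoryTheory Category Limits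

namespace Groth.Agent.Lib.Helper68.Adapted

section Retract

variable {C : Type u} [Category.{v} C] [Abelian C]

/-- a retract of a short exact short complex is short exact -/
lemma shortExact_of_retract {S₁ S₂ : ShortComplex C} (h : Retract S₁ S₂) (h₂ : S₂.ShortExact) :
    S₁.ShortExact := by
  have e1 : h.i.τ₁ ≫ h.r.τ₁ = 𝟙 _ := by
    rw [← ShortComplex.comp_τ₁, h.retract, ShortComplex.id_τ₁]
  have e3 : h.i.τ₃ ≫ h.r.τ₃ = 𝟙 _ := by
    rw [← ShortComplex.comp_τ₃, h.retract, ShortComplex.id_τ₃]
  have := h₂.mono_f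
  have := h₂.epi_g
  have hm : Mono S₁.f := by
    apply Preadditive.mono_of_cancel_zero
    intro Z g hg
    have h1 : (g ≫ h.i.τ₁) ≫ S₂.f = 0 := by
      rw [assoc, h.i.comm₁₂, ← assoc, hg, zero_comp]
    have h2 : g ≫ h.i.τ₁ = 0 := by
      rw [← cancel_mono S₂.f, h1, zero_comp]
    calc g = g ≫ h.i.τ₁ ≫ h.r.τ₁ := by rw [e1, comp_id]
      _ = 0 := by rw [← assoc, h2, zero_comp]
  have he : Epi S₁.g := by
    apply Preadditive.epi_of_cancel_zero
    intro Z g hg
    have h1 : S₂.g ≫ (h.r.τ₃ ≫ g) = 0 := by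
      rw [← assoc, ← h.r.comm₂₃, assoc, hg, comp_zero]
    have h2 : h.r.τ₃ ≫ g = 0 := by
      rw [← cancel_epi S₂.g, h1, comp_zero]
    calc g = (h.i.τ₃ ≫ h.r.τ₃) ≫ g := by rw [e3, id_comp]
      _ = 0 := by rw [assoc, h2, comp_zero]
  refine ShortComplex.ShortExact.mk' ?_ hm he
  rw [ShortComplex.exact_iff_isZero_homology]
  have hz : IsZero S₂.homology := (ShortComplex.exact_iff_isZero_homology S₂).mp h₂.exact
  rw [IsZero.iff_id_eq_zero]
  have : ShortComplex.homologyMap h.i ≫ ShortComplex.homologyMap h.r = 𝟙 _ := by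
    rw [← ShortComplex.homologyMap_comp, h.retract, ShortComplex.homologyMap_id]
  rw [← this, hz.eq_of_tgt (ShortComplex.homologyMap h.i) 0, zero_comp]

end Retract

variable {A : Type u} [Category.{v} A] [Abelian A] [EnoughInjectives A]
  {B : Type u'} [Category.{v'} B] [Abelian B] (F : A ⥤ B) [F.Additive] (I : ObjectProperty A)

/-- retracts of objects of `I` -/
def Rt (X : A) : Prop := ∃ P : A, I P ∧ Nonempty (Retract X P)

omit [Abelian A] [EnoughInjectives A] in
lemma rt_of_mem {X : A} (hX : I X) : Rt I X := ⟨X, hX, ⟨Retract.refl X⟩⟩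

variable (h1 : ∀ X : A, ∃ (Y : A) (ι : X ⟶ Y), I Y ∧ Mono ι)
  (h2 : ∀ S : ShortComplex A, S.ShortExact → I S.X₁ → I S.X₂ → I S.X₃ ∧ (S.map F).ShortExact)

omit [EnoughInjectives A] in
include h1 h2 in
/-- the key step: the cokernel of an embedding of `X ∈ Rt` into an injective is in `Rt`, and `F`
is exact on the sequence -/
theorem key {X : A} (hX : Rt I X) {J : A} [Injective J] (ι : X ⟶ J) [Mono ι] :
    Rt I (cokernel ι) ∧ ((ShortComplex.cokernelSequence ι).map F).ShortExact := by
  obtain ⟨P, hP, ⟨⟨i, r, hir⟩⟩⟩ := hX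
  let u : P ⟶ P ⊞ J := biprod.lift (𝟙 P - r ≫ i) (r ≫ ι)
  have hu : Mono u := by
    apply Preadditive.mono_of_cancel_zero
    intro Z g hg
    have h1' : g ≫ (𝟙 P - r ≫ i) = 0 := by
      have := congrArg (· ≫ biprod.fst) hg
      simpa [u] using this
    have h2' : g ≫ r = 0 := by
      have := congrArg (· ≫ biprod.snd) hg
      simp only [u, assoc, biprod.lift_snd, zero_comp] at this
      rw [← cancel_mono ι, assoc, this, zero_comp]
    rw [Preadditive.comp_sub, comp_id, ← assoc, h2', zero_comp, sub_zero] at h1'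
    exact h1'
  obtain ⟨Q, m, hQ, hm⟩ := h1 (P ⊞ J)
  let n : P ⟶ Q := u ≫ m
  have hn : Mono n := mono_comp u m
  let a' : J ⟶ Q := biprod.inr ≫ m
  let ρ : Q ⟶ J := Injective.factorThru (biprod.snd : P ⊞ J ⟶ J) m
  have hρ : m ≫ ρ = biprod.snd := Injective.comp_factorThru _ _
  have c1 : ι ≫ a' = i ≫ n := by
    have : i ≫ u = ι ≫ biprod.inr := by
      apply biprod.hom_ext
      · simp only [u, assoc, biprod.lift_fst, biprod.inr_fst, comp_zero,
          Preadditive.comp_sub, comp_id]
        rw [← assoc, hir, id_comp, sub_self]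
      · simp only [u, assoc, biprod.lift_snd, biprod.inr_snd, comp_id]
        rw [← assoc, hir, id_comp]
    show ι ≫ biprod.inr ≫ m = i ≫ u ≫ m
    rw [← assoc, ← this, assoc]
  have c2 : n ≫ ρ = r ≫ ι := by
    show (u ≫ m) ≫ ρ = _
    rw [assoc, hρ]
    simp [u]
  have c3 : a' ≫ ρ = 𝟙 J := by
    show (biprod.inr ≫ m) ≫ ρ = _
    rw [assoc, hρ, biprod.inr_snd]
  let S₁ := ShortComplex.cokernelSequence ι
  let S₂ := ShortComplex.cokernelSequence n
  have hS₂ : S₂.ShortExact :=
    ShortComplex.ShortExact.mk' (ShortComplex.cokernelSequence_exact n) hn inferInstance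
  obtain ⟨hI, hF⟩ := h2 S₂ hS₂ hP hQ
  let φ : S₁ ⟶ S₂ :=
    { τ₁ := i
      τ₂ := a'
      τ₃ := cokernel.map ι n i a' c1
      comm₁₂ := c1.symm
      comm₂₃ := (cokernel.π_desc _ _ _).symm }
  let ψ : S₂ ⟶ S₁ :=
    { τ₁ := r
      τ₂ := ρ
      τ₃ := cokernel.map n ι r ρ c2
      comm₁₂ := c2.symm
      comm₂₃ := (cokernel.π_desc _ _ _).symm }
  have hφψ : φ ≫ ψ = 𝟙 S₁ := by
    ext
    · exact hir
    · exact c3
    · show cokernel.map ι n i a' c1 ≫ cokernel.map n ι r ρ c2 = 𝟙 _
      rw [← cancel_epi (cokernel.π ι)]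
      simp only [cokernel.map, cokernel.π_desc_assoc, assoc, cokernel.π_desc, comp_id]
      rw [← assoc, c3, id_comp]
  let hr : Retract S₁ S₂ := ⟨φ, ψ, hφψ⟩
  refine ⟨⟨cokernel n, hI, ⟨⟨φ.τ₃, ψ.τ₃, ?_⟩⟩⟩, ?_⟩
  · show (φ ≫ ψ).τ₃ = _
    rw [hφψ]
    rfl
  · exact shortExact_of_retract (hr.map F.mapShortComplex) hF


open Groth.Agent.Lib.Helper68

/-- the embedding sequence `0 → X → J(X) → C(X) → 0` -/
noncomputable abbrev es (X : A) : ShortComplex A := ShortComplex.cokernelSequence (Injective.ι X)

lemma es_shortExact (X : A) : (es X).ShortExact :=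
  ShortComplex.ShortExact.mk' (ShortComplex.cokernelSequence_exact _)
    (show Mono (Injective.ι X) from inferInstance)
    (show Epi (cokernel.π (Injective.ι X)) from inferInstance)

include h1 h2 in
lemma mono_toRightDerivedZero {X : A} (hX : Rt I X) : Mono (F.toRightDerivedZero.app X) := by
  have hF := (key F I h1 h2 hX (Injective.ι X)).2
  have hm : Mono (F.map (Injective.ι X)) := hF.mono_f
  have nat := F.toRightDerivedZero.naturality (Injective.ι X)
  have : Mono (F.toRightDerivedZero.app X ≫ (F.rightDerived 0).map (Injective.ι X)) := by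
    rw [← nat]
    infer_instance
  exact mono_of_mono _ ((F.rightDerived 0).map (Injective.ι X))

include h1 h2 in
theorem isIso_toRightDerivedZero {X : A} (hX : Rt I X) : IsIso (F.toRightDerivedZero.app X) := by
  obtain ⟨hC, hF⟩ := key F I h1 h2 hX (Injective.ι X)
  have hmX := mono_toRightDerivedZero F I h1 h2 hX
  have hmC := mono_toRightDerivedZero F I h1 h2 hC
  have hmF : Mono (F.map (Injective.ι X)) := hF.mono_f
  have hmono : Mono ((F.rightDerived 0).map (Injective.ι X)) :=
    RightDerivedLES.mono_map_f_zero F (es_shortExact X)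
  have hzero : (F.rightDerived 0).map (Injective.ι X) ≫
      (F.rightDerived 0).map (cokernel.π (Injective.ι X)) = 0 :=
    RightDerivedLES.map_f_map_g F (S := es X) 0
  have natι := F.toRightDerivedZero.naturality (Injective.ι X)
  have natπ := F.toRightDerivedZero.naturality (cokernel.π (Injective.ι X))
  let SF : ShortComplex B := ShortComplex.mk (F.map (Injective.ι X))
    (F.map (cokernel.π (Injective.ι X))) (by rw [← F.map_comp, cokernel.condition, F.map_zero])
  have hSF : SF.Exact := hF.exact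
  have : Mono SF.f := hmF
  let k : (F.rightDerived 0).obj X ⟶ SF.X₂ :=
    (F.rightDerived 0).map (Injective.ι X) ≫ inv (F.toRightDerivedZero.app (Injective.under X))
  have hk : k ≫ SF.g = 0 := by
    rw [← cancel_mono (F.toRightDerivedZero.app (cokernel (Injective.ι X))), zero_comp, assoc]
    show k ≫ F.map (cokernel.π (Injective.ι X)) ≫ _ = 0
    rw [natπ]
    simp only [k, assoc, IsIso.inv_hom_id_assoc]
    exact hzero
  have hs : hSF.lift k hk ≫ F.map (Injective.ι X) = k := hSF.lift_f k hk
  have hsτ : hSF.lift k hk ≫ F.toRightDerivedZero.app X = 𝟙 _ := by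
    rw [← cancel_mono ((F.rightDerived 0).map (Injective.ι X)), assoc, ← natι,
      ← assoc, hs]
    simp [k]
  have : IsSplitEpi (F.toRightDerivedZero.app X) := IsSplitEpi.mk' ⟨_, hsτ⟩
  exact isIso_of_mono_of_isSplitEpi _

include h1 h2 in
theorem isZero_rightDerived_one {X : A} (hX : Rt I X) : IsZero ((F.rightDerived 1).obj X) := by
  obtain ⟨hC, hF⟩ := key F I h1 h2 hX (Injective.ι X)
  have hiJ : IsIso (F.toRightDerivedZero.app (Injective.under X)) := inferInstance
  have hiC := isIso_toRightDerivedZero F I h1 h2 hC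
  have heF : Epi (F.map (cokernel.π (Injective.ι X))) := hF.epi_g
  have natπ := F.toRightDerivedZero.naturality (cokernel.π (Injective.ι X))
  have he : Epi ((F.rightDerived 0).map (cokernel.π (Injective.ι X))) := by
    have : Epi (F.toRightDerivedZero.app (Injective.under X) ≫
        (F.rightDerived 0).map (cokernel.π (Injective.ι X))) := by
      rw [← natπ]
      infer_instance
    exact epi_of_epi (F.toRightDerivedZero.app (Injective.under X)) _
  have hδe : Epi (RightDerivedLES.δ F (es_shortExact X) 0) :=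
    RightDerivedLES.epi_δ F (es_shortExact X) 0
      (Functor.isZero_rightDerived_obj_injective_succ F 0 (Injective.under X))
  have hδ0 : RightDerivedLES.δ F (es_shortExact X) 0 = 0 := by
    have h := RightDerivedLES.map_g_δ F (es_shortExact X) 0
    have he' : Epi ((F.rightDerived 0).map (es X).g) := he
    rw [← cancel_epi ((F.rightDerived 0).map (es X).g), h, comp_zero]
  exact @IsZero.of_epi_eq_zero _ _ _ _ _ _ hδe hδ0

include h1 h2 in
theorem isZero_rightDerived_succ (i : ℕ) :
    ∀ {X : A}, Rt I X → IsZero ((F.rightDerived (i + 1)).obj X) := by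
  induction i with
  | zero => exact fun hX => isZero_rightDerived_one F I h1 h2 hX
  | succ i ih =>
    intro X hX
    obtain ⟨hC, -⟩ := key F I h1 h2 hX (Injective.ι X)
    have hδe : Epi (RightDerivedLES.δ F (es_shortExact X) (i + 1)) :=
      RightDerivedLES.epi_δ F (es_shortExact X) (i + 1)
        (Functor.isZero_rightDerived_obj_injective_succ F (i + 1) (Injective.under X))
    have hz : IsZero ((F.rightDerived (i + 1)).obj (es X).X₃) := ih hC
    exact @IsZero.of_epi_eq_zero _ _ _ _ _ _ hδe
      (hz.eq_of_src (RightDerivedLES.δ F (es_shortExact X) (i + 1)) 0)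

include h1 h2 in
/-- **Adapted classes are acyclic.** -/
theorem acyclic {X : A} (hX : I X) :
    IsIso (F.toRightDerivedZero.app X) ∧ ∀ i : ℕ, 0 < i → IsZero ((F.rightDerived i).obj X) := by
  refine ⟨isIso_toRightDerivedZero F I h1 h2 (rt_of_mem I hX), ?_⟩
  intro i hi
  obtain ⟨j, rfl⟩ : ∃ j, i = j + 1 := ⟨i - 1, by omega⟩
  exact isZero_rightDerived_succ F I h1 h2 j (rt_of_mem I hX)

end Groth.Agent.Lib.Helper68.Adapted
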