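import Groth.Agent.S6161
import Groth.Agent.Lib.Helper28.TotAcyc

/-! Generalisation of S6161: an augmented simplicial sheaf of sets which is sectionwise Čech-like and
has an epimorphic augmentation gives a free resolution. -/

set_option autoImplicit false
universe u

namespace Groth.Agent.Lib.Helper68.CechGen

open CategoryTheory Simplicial SimplicialObject Opposite Limits AlgebraicTopology
open Groth.Agent.Lib.Helper28

variable {C : Type u} [SmallCategory C] (J : GrothendieckTopology C)
  (A : SimplicialObject.Augmented (Sheaf J (Type u)))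

/-- The augmented simplicial sheaf, as an augmented simplicial presheaf. -/
noncomputable abbrev pshAug : SimplicialObject.Augmented (Cᵒᵖ ⥤ Type u) :=
  ((SimplicialObject.Augmented.whiskering _ _).obj (sheafToPresheaf J (Type u))).obj A

lemma isIso_sheafify_free_rangeι [Epi (A.hom.app (op ⦋0⦌))] :
    IsIso ((presheafToSheaf J AddCommGrpCat.{u}).map
      (Functor.whiskerRight (Subfunctor.range ((pshAug J A).hom.app (op ⦋0⦌))).ι
        AddCommGrpCat.free.{u})) := by
  rw [← J.W_iff]
  have h0 : (pshAug J A).hom.app (op ⦋0⦌) = (A.hom.app (op ⦋0⦌)).hom := by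
    change (sheafToPresheaf J _).map _ ≫ 𝟙 _ = _
    rw [Category.comp_id]
    rfl
  have h1 : Presheaf.IsLocallySurjective J ((pshAug J A).hom.app (op ⦋0⦌)) := by
    rw [h0]
    have : Sheaf.IsLocallySurjective (A.hom.app (op ⦋0⦌)) :=
      (Sheaf.isLocallySurjective_iff_epi _).2 inferInstance
    exact this
  have h2 : Presheaf.IsLocallySurjective J
      (Subfunctor.range ((pshAug J A).hom.app (op ⦋0⦌))).ι :=
    Presheaf.isLocallySurjective_of_isLocallySurjective_fac J
      (Subfunctor.toRange_ι ((pshAug J A).hom.app (op ⦋0⦌)))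
  have h3 := Groth.Agent.S6161.isLocallySurjective_whiskerRight_free J
    (Subfunctor.range ((pshAug J A).hom.app (op ⦋0⦌))).ι
  have h4 : Presheaf.IsLocallyInjective J
      (Functor.whiskerRight (Subfunctor.range ((pshAug J A).hom.app (op ⦋0⦌))).ι
        AddCommGrpCat.free.{u}) := by
    apply Presheaf.isLocallyInjective_of_injective
    intro X
    have : Mono ((Subfunctor.range ((pshAug J A).hom.app (op ⦋0⦌))).ι.app X) := inferInstance
    have : Mono (AddCommGrpCat.free.{u}.map
      ((Subfunctor.range ((pshAug J A).hom.app (op ⦋0⦌))).ι.app X)) := inferInstance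
    exact (AddCommGrpCat.mono_iff_injective _).1 this
  exact J.W_of_isLocallyBijective _

/-- source augmented object -/
noncomputable abbrev X' : SimplicialObject.Augmented (Sheaf J AddCommGrpCat.{u}) :=
  ((SimplicialObject.Augmented.whiskering _ _).obj (presheafToSheaf J AddCommGrpCat.{u})).obj
    (CechQ.freeRangeAug (pshAug J A))

/-- target augmented object -/
noncomputable abbrev X : SimplicialObject.Augmented (Sheaf J AddCommGrpCat.{u}) :=
  ((SimplicialObject.Augmented.whiskering _ _).obj
    (Sheaf.composeAndSheafify J AddCommGrpCat.free.{u})).obj A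

/-- intermediate augmented object -/
noncomputable abbrev X'' : SimplicialObject.Augmented (Sheaf J AddCommGrpCat.{u}) :=
  ((SimplicialObject.Augmented.whiskering _ _).obj (presheafToSheaf J AddCommGrpCat.{u})).obj
    (((SimplicialObject.Augmented.whiskering _ _).obj CechQ.freeW).obj (pshAug J A))

/-- the comparison morphism -/
noncomputable def ψ : X' J A ⟶ X'' J A :=
  ((SimplicialObject.Augmented.whiskering _ _).obj (presheafToSheaf J AddCommGrpCat.{u})).map
    (((SimplicialObject.Augmented.whiskering _ _).obj CechQ.freeW).map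
      (CechQ.rangeAugι (pshAug J A)))

noncomputable def eX : X'' J A ≅ X J A :=
  Comma.isoMk (NatIso.ofComponents (fun n => Iso.refl _) (by
      intro n m g
      simp only [Iso.refl_hom]
      rfl)) (Iso.refl _) (by
    refine NatTrans.ext (funext fun n => ?_)
    exact Groth.Agent.S6161.comp_aux (presheafToSheaf J AddCommGrpCat.{u}) CechQ.freeW
      ((sheafToPresheaf J (Type u)).map (A.hom.app n)))

lemma isIso_drop_map_ψ : IsIso (SimplicialObject.Augmented.drop.map (ψ J A)) := by
  have h : IsIso (CechQ.rangeAugι (pshAug J A)).left := by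
    change IsIso (𝟙 _)
    infer_instance
  change IsIso (Functor.whiskerRight (Functor.whiskerRight (CechQ.rangeAugι (pshAug J A)).left _) _)
  infer_instance

lemma isIso_point_map_ψ [Epi (A.hom.app (op ⦋0⦌))] :
    IsIso (SimplicialObject.Augmented.point.map (ψ J A)) :=
  isIso_sheafify_free_rangeι J A

/-- an augmented simplicial sheaf of sets which is sectionwise Čech-like and has an epimorphic
augmentation gives a resolution by free abelian sheaves -/
theorem quasiIso_of_sectionwiseCechLike (hA : CechQ.SectionwiseCechLike (pshAug J A))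
    [Epi (A.hom.app (op ⦋0⦌))] :
    QuasiIso ((AlgebraicTopology.AlternatingFaceMapComplex.ε
      (C := Sheaf J AddCommGrpCat.{u})).app (X J A)) := by
  have hQ : QuasiIso (AlternatingFaceMapComplex.ε.app (CechQ.freeRangeAug (pshAug J A))) :=
    CechQ.quasiIso_ε_freeRangeAug hA
  have hQ' : QuasiIso (((presheafToSheaf J AddCommGrpCat.{u}).mapHomologicalComplex _).map
      (AlternatingFaceMapComplex.ε.app (CechQ.freeRangeAug (pshAug J A)))) := inferInstance
  rw [CechH.quasiIso_ε_whisker_iff] at hQ'
  have hX' : QuasiIso (AlternatingFaceMapComplex.ε.app (X' J A)) := hQ'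
  have hX'' : QuasiIso (AlternatingFaceMapComplex.ε.app (X'' J A)) :=
    (CechH.quasiIso_ε_iff_of_isIso (ψ J A) (isIso_drop_map_ψ J A) (isIso_point_map_ψ J A)).1 hX'
  exact (CechH.quasiIso_ε_iff_of_iso (eX J A)).1 hX''

end Groth.Agent.Lib.Helper68.CechGen
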