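import Mathlib

/-! For a filtered diagram of abelian sheaves on a small site and a colimit cocone `c`:
sections of `c.pt` come locally from the diagram, and two sections of a stage which become equal
in `c.pt` become locally equal at later stages. -/

set_option autoImplicit false
universe u

open CategoryTheory Category Limits Opposite

namespace Groth.Agent.Lib.Helper68.ColimLoc

variable {C : Type u} [SmallCategory C] {J : GrothendieckTopology C}
  {I : Type u} [SmallCategory I] [IsFiltered I] (E : I ⥤ Sheaf J AddCommGrpCat.{u})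

/-- the presheaf colimit -/
noncomputable abbrev P : Cᵒᵖ ⥤ AddCommGrpCat.{u} := colimit (E ⋙ sheafToPresheaf J AddCommGrpCat.{u})

/-- the standard colimit cocone: sheafification of the presheaf colimit -/
noncomputable abbrev c₀ : Cocone E :=
  Sheaf.sheafifyCocone (colimit.cocone (E ⋙ sheafToPresheaf J AddCommGrpCat.{u}))

noncomputable def hc₀ : IsColimit (c₀ E) :=
  Sheaf.isColimitSheafifyCocone _ (colimit.isColimit _)

lemma c₀_ι_app (i : I) (W : Cᵒᵖ) (s : ((E.obj i).obj.obj W)) :
    ((c₀ E).ι.app i).hom.app W s =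
      (toSheafify J (P E)).app W
        ((colimit.ι (E ⋙ sheafToPresheaf J AddCommGrpCat.{u}) i).app W s) := by
  have h := Sheaf.sheafifyCocone_ι_app_val
    (colimit.cocone (E ⋙ sheafToPresheaf J AddCommGrpCat.{u})) i
  have h2 := congrArg (fun τ => τ.app W s) h
  exact h2

/-- evaluation of the presheaf colimit: a colimit cocone of abelian groups -/
noncomputable def evalColimit (W : Cᵒᵖ) :
    IsColimit (((evaluation Cᵒᵖ AddCommGrpCat.{u}).obj W).mapCocone
      (colimit.cocone (E ⋙ sheafToPresheaf J AddCommGrpCat.{u}))) :=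
  isColimitOfPreserves _ (colimit.isColimit _)

lemma P_exists_rep (W : Cᵒᵖ) (p : (P E).obj W) :
    ∃ (i : I) (s : (E.obj i).obj.obj W),
      (colimit.ι (E ⋙ sheafToPresheaf J AddCommGrpCat.{u}) i).app W s = p :=
  Concrete.isColimit_exists_rep _ (evalColimit E W) p

lemma P_exists_of_rep_eq (W : Cᵒᵖ) (i : I) (s s' : (E.obj i).obj.obj W)
    (h : (colimit.ι (E ⋙ sheafToPresheaf J AddCommGrpCat.{u}) i).app W s =
      (colimit.ι (E ⋙ sheafToPresheaf J AddCommGrpCat.{u}) i).app W s') :
    ∃ (k : I) (f : i ⟶ k), (E.map f).hom.app W s = (E.map f).hom.app W s' := by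
  obtain ⟨k, f, g, hfg⟩ := Concrete.isColimit_exists_of_rep_eq
    (E ⋙ sheafToPresheaf J AddCommGrpCat.{u} ⋙ (evaluation Cᵒᵖ AddCommGrpCat.{u}).obj W)
    (evalColimit E W) s s' h
  refine ⟨IsFiltered.coeq f g, f ≫ IsFiltered.coeqHom f g, ?_⟩
  have h1 : (E.map (f ≫ IsFiltered.coeqHom f g)).hom.app W s =
      (E.map (IsFiltered.coeqHom f g)).hom.app W ((E.map f).hom.app W s) := by
    rw [E.map_comp]; rfl
  have h2 : (E.map (f ≫ IsFiltered.coeqHom f g)).hom.app W s' =
      (E.map (IsFiltered.coeqHom f g)).hom.app W ((E.map g).hom.app W s') := by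
    rw [IsFiltered.coeq_condition f g, E.map_comp]; rfl
  rw [h1, h2]
  exact congrArg _ hfg

variable {E}

/-- sections of the colimit come locally from the diagram -/
theorem exists_local_rep {c : Cocone E} (hc : IsColimit c) (V : C) (t : c.pt.obj.obj (op V)) :
    ∃ S ∈ J V, ∀ ⦃W : C⦄ (g : W ⟶ V), S g →
      ∃ (i : I) (s : (E.obj i).obj.obj (op W)),
        (c.ι.app i).hom.app (op W) s = c.pt.obj.map g.op t := by
  let e : c.pt ≅ (c₀ E).pt := hc.coconePointUniqueUpToIso (hc₀ E)
  have he : ∀ i, c.ι.app i ≫ e.hom = (c₀ E).ι.app i := fun i =>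
    hc.comp_coconePointUniqueUpToIso_hom (hc₀ E) i
  let t' : ToType ((sheafify J (P E)).obj (op V)) := e.hom.hom.app (op V) t
  haveI hls : Presheaf.IsLocallySurjective J (toSheafify J (P E)) :=
    Presheaf.isLocallySurjective_toSheafify' J (P E)
  have hmem : Presheaf.imageSieve (toSheafify J (P E)) t' ∈ J V :=
    Presheaf.IsLocallySurjective.imageSieve_mem t'
  refine ⟨Presheaf.imageSieve (toSheafify J (P E)) t', hmem, ?_⟩
  intro W g hg
  obtain ⟨p, hp⟩ := hg
  obtain ⟨i, s, hs⟩ := P_exists_rep E (op W) p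
  refine ⟨i, s, ?_⟩
  have hinj : Function.Injective (e.hom.hom.app (op W)) := by
    have : IsIso (e.hom.hom.app (op W)) := by
      have h1 : IsIso ((sheafToPresheaf J AddCommGrpCat.{u}).map e.hom) := inferInstance
      exact (NatTrans.isIso_iff_isIso_app _).1 h1 (op W)
    exact ((ConcreteCategory.isIso_iff_bijective _).1 this).1
  apply hinj
  have h1 : e.hom.hom.app (op W) ((c.ι.app i).hom.app (op W) s) =
      ((c₀ E).ι.app i).hom.app (op W) s := by
    rw [← he i]; rfl
  rw [h1, c₀_ι_app, hs, hp]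
  exact (NatTrans.naturality_apply e.hom.hom g.op t).symm

/-- two sections of a stage with the same image in the colimit are locally equal at later stages -/
theorem exists_local_eq {c : Cocone E} (hc : IsColimit c) (V : C) (i : I)
    (s s' : (E.obj i).obj.obj (op V))
    (h : (c.ι.app i).hom.app (op V) s = (c.ι.app i).hom.app (op V) s') :
    ∃ S ∈ J V, ∀ ⦃W : C⦄ (g : W ⟶ V), S g →
      ∃ (k : I) (f : i ⟶ k), (E.map f).hom.app (op W) ((E.obj i).obj.map g.op s) =
        (E.map f).hom.app (op W) ((E.obj i).obj.map g.op s') := by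
  let e : c.pt ≅ (c₀ E).pt := hc.coconePointUniqueUpToIso (hc₀ E)
  have he : ∀ i, c.ι.app i ≫ e.hom = (c₀ E).ι.app i := fun i =>
    hc.comp_coconePointUniqueUpToIso_hom (hc₀ E) i
  let x := (colimit.ι (E ⋙ sheafToPresheaf J AddCommGrpCat.{u}) i).app (op V) s
  let x' := (colimit.ι (E ⋙ sheafToPresheaf J AddCommGrpCat.{u}) i).app (op V) s'
  have hx : (toSheafify J (P E)).app (op V) x = (toSheafify J (P E)).app (op V) x' := by
    rw [← c₀_ι_app, ← c₀_ι_app, ← he i]
    exact congrArg (e.hom.hom.app (op V)) h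
  haveI hli : Presheaf.IsLocallyInjective J (toSheafify J (P E)) :=
    Presheaf.isLocallyInjective_toSheafify' J (P E)
  refine ⟨Presheaf.equalizerSieve x x',
    Presheaf.equalizerSieve_mem J (toSheafify J (P E)) x x' hx, ?_⟩
  intro W g hg
  have hg' : (P E).map g.op x = (P E).map g.op x' := hg
  have h1 : (P E).map g.op x =
      (colimit.ι (E ⋙ sheafToPresheaf J AddCommGrpCat.{u}) i).app (op W)
        ((E.obj i).obj.map g.op s) :=
    (NatTrans.naturality_apply (colimit.ι (E ⋙ sheafToPresheaf J AddCommGrpCat.{u}) i) g.op s).symm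
  have h2 : (P E).map g.op x' =
      (colimit.ι (E ⋙ sheafToPresheaf J AddCommGrpCat.{u}) i).app (op W)
        ((E.obj i).obj.map g.op s') :=
    (NatTrans.naturality_apply (colimit.ι (E ⋙ sheafToPresheaf J AddCommGrpCat.{u}) i) g.op s').symm
  rw [h1, h2] at hg'
  exact P_exists_of_rep_eq E (op W) i _ _ hg'

end Groth.Agent.Lib.Helper68.ColimLoc
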