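import Mathlib.Algebra.Homology.Opposite
import Mathlib.Algebra.Homology.Embedding.CochainComplex
import Mathlib.Algebra.Homology.HomologicalComplexAbelian
import Mathlib.Algebra.Homology.QuasiIso

/-! Duality between cochain complexes in `V` and cochain complexes in `Vᵒᵖ` (degree `n ↦ -n`),
with compatibility with short exact sequences, quasi-isomorphisms and boundedness. -/

set_option autoImplicit false
universe v u

open CategoryTheory Limits HomologicalComplex Opposite

namespace Groth.Agent.Lib.Helper68.CplxDual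

variable (V : Type u) [Category.{v} V]

section
variable [HasZeroMorphisms V]

/-- Reindexing by negation, from "homological" `ℤ`-graded complexes to cochain complexes. -/
@[simps]
def negFunctor : HomologicalComplex V (ComplexShape.up ℤ).symm ⥤ CochainComplex V ℤ where
  obj K :=
    { X := fun n => K.X (-n)
      d := fun p q => K.d (-p) (-q)
      shape := fun p q h => K.shape _ _ (fun h' => h (by
        simp only [ComplexShape.symm_Rel, ComplexShape.up_Rel] at h' ⊢
        lia))
      d_comp_d' := fun _ _ _ _ _ => K.d_comp_d _ _ _ }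
  map f :=
    { f := fun n => f.f (-n)
      comm' := fun _ _ _ => f.comm _ _ }

end

variable [Abelian V]
variable {V}

lemma quasiIsoAt_negFunctor_map_iff {K L : HomologicalComplex V (ComplexShape.up ℤ).symm}
    (f : K ⟶ L) (k : ℤ) :
    QuasiIsoAt ((negFunctor V).map f) k ↔ QuasiIsoAt f (-k) := by
  have h1 : (ComplexShape.up ℤ).symm.Rel (-(k - 1)) (-k) := by
    simp only [ComplexShape.symm_Rel, ComplexShape.up_Rel]; lia
  have h2 : (ComplexShape.up ℤ).symm.Rel (-k) (-(k + 1)) := by
    simp only [ComplexShape.symm_Rel, ComplexShape.up_Rel]; lia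
  rw [quasiIsoAt_iff' ((negFunctor V).map f) (k - 1) k (k + 1) (by simp) (by simp),
    quasiIsoAt_iff' f (-(k - 1)) (-k) (-(k + 1)) ((ComplexShape.up ℤ).symm.prev_eq' h1)
      ((ComplexShape.up ℤ).symm.next_eq' h2)]
  exact Iff.rfl

lemma quasiIso_negFunctor_map {K L : HomologicalComplex V (ComplexShape.up ℤ).symm}
    (f : K ⟶ L) [QuasiIso f] : QuasiIso ((negFunctor V).map f) := by
  rw [quasiIso_iff]
  intro k
  rw [quasiIsoAt_negFunctor_map_iff]
  infer_instance

variable (V) in
/-- Duality `(CochainComplex V ℤ)ᵒᵖ ⥤ CochainComplex Vᵒᵖ ℤ`: `X n ↦ op (X (-n))`. -/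
def dual : (CochainComplex V ℤ)ᵒᵖ ⥤ CochainComplex Vᵒᵖ ℤ :=
  opFunctor V (ComplexShape.up ℤ) ⋙ negFunctor Vᵒᵖ

variable (V) in
/-- Duality `(CochainComplex Vᵒᵖ ℤ)ᵒᵖ ⥤ CochainComplex V ℤ`: `X n ↦ unop (X (-n))`. -/
def undual : (CochainComplex Vᵒᵖ ℤ)ᵒᵖ ⥤ CochainComplex V ℤ :=
  unopFunctor V (ComplexShape.up ℤ) ⋙ negFunctor V

@[simp] lemma dual_obj_X (K : CochainComplex V ℤ) (n : ℤ) :
    ((dual V).obj (op K)).X n = op (K.X (-n)) := rfl

@[simp] lemma dual_obj_d (K : CochainComplex V ℤ) (p q : ℤ) :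
    ((dual V).obj (op K)).d p q = (K.d (-q) (-p)).op := rfl

@[simp] lemma dual_map_f {K L : CochainComplex V ℤ} (f : K ⟶ L) (n : ℤ) :
    ((dual V).map f.op).f n = (f.f (-n)).op := rfl

@[simp] lemma undual_obj_X (K : CochainComplex Vᵒᵖ ℤ) (n : ℤ) :
    ((undual V).obj (op K)).X n = unop (K.X (-n)) := rfl

@[simp] lemma undual_obj_d (K : CochainComplex Vᵒᵖ ℤ) (p q : ℤ) :
    ((undual V).obj (op K)).d p q = (K.d (-q) (-p)).unop := rfl

@[simp] lemma undual_map_f {K L : CochainComplex Vᵒᵖ ℤ} (f : K ⟶ L) (n : ℤ) :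
    ((undual V).map f.op).f n = (f.f (-n)).unop := rfl

/-- The double dual is the identity. -/
def counit (K : CochainComplex V ℤ) : (undual V).obj (op ((dual V).obj (op K))) ≅ K :=
  HomologicalComplex.Hom.isoOfComponents (fun n => K.XIsoOfEq (neg_neg n))
    (fun i j _ => by
      simp only [undual_obj_d, dual_obj_d]
      erw [XIsoOfEq_hom_comp_d, d_comp_XIsoOfEq_hom])

@[reassoc]
lemma counit_naturality {K L : CochainComplex V ℤ} (f : K ⟶ L) :
    (undual V).map ((dual V).map f.op).op ≫ (counit L).hom = (counit K).hom ≫ f := by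
  ext n
  simp only [comp_f, undual_map_f, dual_map_f, counit,
    HomologicalComplex.Hom.isoOfComponents_hom_f]
  erw [XIsoOfEq_hom_naturality]
  rfl

lemma quasiIso_dual_map {K L : CochainComplex V ℤ} (f : K ⟶ L) [QuasiIso f] :
    QuasiIso ((dual V).map f.op) := by
  dsimp only [dual, Functor.comp_map]
  exact quasiIso_negFunctor_map _

lemma quasiIso_undual_map {K L : CochainComplex Vᵒᵖ ℤ} (f : K ⟶ L) [QuasiIso f] :
    QuasiIso ((undual V).map f.op) := by
  dsimp only [undual, Functor.comp_map]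
  exact quasiIso_negFunctor_map _

lemma dual_shortExact (S : ShortComplex (CochainComplex V ℤ)) (hS : S.ShortExact) :
    (ShortComplex.mk ((dual V).map S.g.op) ((dual V).map S.f.op)
      (by rw [← Functor.map_comp, ← op_comp, S.zero]; rfl)).ShortExact := by
  apply shortExact_of_degreewise_shortExact
  intro k
  exact ((shortExact_iff_degreewise_shortExact S).1 hS (-k)).op

lemma undual_shortExact (S : ShortComplex (CochainComplex Vᵒᵖ ℤ)) (hS : S.ShortExact) :
    (ShortComplex.mk ((undual V).map S.g.op) ((undual V).map S.f.op)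
      (by rw [← Functor.map_comp, ← op_comp, S.zero]; rfl)).ShortExact := by
  apply shortExact_of_degreewise_shortExact
  intro k
  exact ((shortExact_iff_degreewise_shortExact S).1 hS (-k)).unop

lemma isStrictlyGE_dual (K : CochainComplex V ℤ) (n : ℤ) [K.IsStrictlyLE n] :
    ((dual V).obj (op K)).IsStrictlyGE (-n) := by
  rw [CochainComplex.isStrictlyGE_iff]
  intro i hi
  exact (K.isZero_of_isStrictlyLE n (-i) (by lia)).op

lemma isStrictlyLE_undual (K : CochainComplex Vᵒᵖ ℤ) (n : ℤ) [K.IsStrictlyGE (-n)] :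
    ((undual V).obj (op K)).IsStrictlyLE n := by
  rw [CochainComplex.isStrictlyLE_iff]
  intro i hi
  exact (K.isZero_of_isStrictlyGE (-n) (-i) (by lia)).unop

end Groth.Agent.Lib.Helper68.CplxDual
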