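import Mathlib.CategoryTheory.Abelian.DiagramLemmas.Four

/-! The five lemma with explicit data. -/

set_option autoImplicit false
universe v u

open CategoryTheory Limits ComposableArrows

namespace Groth.Agent.Lib.Helper68

theorem five_lemma {C : Type u} [Category.{v} C] [Abelian C]
    {A₀ A₁ A₂ A₃ A₄ B₀ B₁ B₂ B₃ B₄ : C}
    (f₀ : A₀ ⟶ A₁) (f₁ : A₁ ⟶ A₂) (f₂ : A₂ ⟶ A₃) (f₃ : A₃ ⟶ A₄)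
    (g₀ : B₀ ⟶ B₁) (g₁ : B₁ ⟶ B₂) (g₂ : B₂ ⟶ B₃) (g₃ : B₃ ⟶ B₄)
    (w₀ : f₀ ≫ f₁ = 0) (w₁ : f₁ ≫ f₂ = 0) (w₂ : f₂ ≫ f₃ = 0)
    (v₀ : g₀ ≫ g₁ = 0) (v₁ : g₁ ≫ g₂ = 0) (v₂ : g₂ ≫ g₃ = 0)
    (e₀ : (ShortComplex.mk f₀ f₁ w₀).Exact) (e₁ : (ShortComplex.mk f₁ f₂ w₁).Exact)
    (e₂ : (ShortComplex.mk f₂ f₃ w₂).Exact)
    (d₀ : (ShortComplex.mk g₀ g₁ v₀).Exact) (d₁ : (ShortComplex.mk g₁ g₂ v₁).Exact)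
    (d₂ : (ShortComplex.mk g₂ g₃ v₂).Exact)
    (φ₀ : A₀ ⟶ B₀) (φ₁ : A₁ ⟶ B₁) (φ₂ : A₂ ⟶ B₂) (φ₃ : A₃ ⟶ B₃) (φ₄ : A₄ ⟶ B₄)
    (c₀ : f₀ ≫ φ₁ = φ₀ ≫ g₀) (c₁ : f₁ ≫ φ₂ = φ₁ ≫ g₁) (c₂ : f₂ ≫ φ₃ = φ₂ ≫ g₂)
    (c₃ : f₃ ≫ φ₄ = φ₃ ≫ g₃)
    (h₀ : Epi φ₀) (h₁ : IsIso φ₁) (h₃ : IsIso φ₃) (h₄ : Mono φ₄) : IsIso φ₂ := by
  let R₁ : ComposableArrows C 4 := mk₄ f₀ f₁ f₂ f₃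
  let R₂ : ComposableArrows C 4 := mk₄ g₀ g₁ g₂ g₃
  have hR₁ : R₁.Exact :=
    exact_of_δ₀ e₀.exact_toComposableArrows
      (exact_of_δ₀ e₁.exact_toComposableArrows e₂.exact_toComposableArrows)
  have hR₂ : R₂.Exact :=
    exact_of_δ₀ d₀.exact_toComposableArrows
      (exact_of_δ₀ d₁.exact_toComposableArrows d₂.exact_toComposableArrows)
  let φ : R₁ ⟶ R₂ := homMk₄ φ₀ φ₁ φ₂ φ₃ φ₄ c₀ c₁ c₂ c₃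
  exact Abelian.isIso_of_epi_of_isIso_of_isIso_of_mono hR₁ hR₂ φ h₀ h₁ h₃ h₄

end Groth.Agent.Lib.Helper68
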