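import Mathlib.Algebra.Homology.Factorizations.CM5a
import Mathlib.Algebra.Homology.HomologySequenceLemmas
import Groth.Agent.Lib.Helper68.Five

/-! Canonical truncation `τ≥n` of short exact sequences of cochain complexes, and a
two-out-of-three lemma for quasi-isomorphisms of short exact sequences. -/

set_option autoImplicit false
universe v u

open CategoryTheory Limits HomologicalComplex

namespace Groth.Agent.Lib.Helper68.CplxHorseshoe

variable {A : Type u} [Category.{v} A] [Abelian A]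

/-- two-out-of-three: if `τ₂` and `τ₃` are quasi-isomorphisms then so is `τ₁`. -/
theorem quasiIso_τ₁ {S₁ S₂ : ShortComplex (CochainComplex A ℤ)} (φ : S₁ ⟶ S₂)
    (hS₁ : S₁.ShortExact) (hS₂ : S₂.ShortExact) (h₂ : QuasiIso φ.τ₂) (h₃ : QuasiIso φ.τ₃) :
    QuasiIso φ.τ₁ := by
  rw [quasiIso_iff]
  intro j
  rw [quasiIsoAt_iff_isIso_homologyMap]
  have hij : (ComplexShape.up ℤ).Rel (j - 1) j := by simp
  refine five_lemma (homologyMap S₁.g (j - 1)) (hS₁.δ (j - 1) j hij) (homologyMap S₁.f j)
    (homologyMap S₁.g j) (homologyMap S₂.g (j - 1)) (hS₂.δ (j - 1) j hij) (homologyMap S₂.f j)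
    (homologyMap S₂.g j) (hS₁.comp_δ _ _ hij) (hS₁.δ_comp _ _ hij) ?_
    (hS₂.comp_δ _ _ hij) (hS₂.δ_comp _ _ hij) ?_
    (hS₁.homology_exact₃ _ _ hij) (hS₁.homology_exact₁ _ _ hij) (hS₁.homology_exact₂ j)
    (hS₂.homology_exact₃ _ _ hij) (hS₂.homology_exact₁ _ _ hij) (hS₂.homology_exact₂ j)
    (homologyMap φ.τ₂ (j - 1)) (homologyMap φ.τ₃ (j - 1)) (homologyMap φ.τ₁ j)
    (homologyMap φ.τ₂ j) (homologyMap φ.τ₃ j) ?_ ?_ ?_ ?_ inferInstance inferInstance
    inferInstance inferInstance
  · rw [← homologyMap_comp, S₁.zero, homologyMap_zero]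
  · rw [← homologyMap_comp, S₂.zero, homologyMap_zero]
  · rw [← homologyMap_comp, ← homologyMap_comp, φ.comm₂₃]
  · exact (HomologySequence.δ_naturality φ hS₁ hS₂ (j - 1) j hij)
  · rw [← homologyMap_comp, ← homologyMap_comp, φ.comm₁₂]
  · rw [← homologyMap_comp, ← homologyMap_comp, φ.comm₂₃]

open ComplexShape in
lemma isIso_πTruncGE_f (K : CochainComplex A ℤ) (n i : ℤ) (hi : n < i) :
    IsIso ((K.πTruncGE n).f i) := by
  have h1 : (embeddingUpIntGE n).f ((i - n).natAbs) = i := by
    show n + ((i - n).natAbs : ℤ) = i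
    rw [Int.natAbs_of_nonneg (by lia), add_sub_cancel]
  have h2 : ¬ (embeddingUpIntGE n).BoundaryGE ((i - n).natAbs) := fun h ↦ by
    rw [boundaryGE_embeddingUpIntGE_iff, Int.natAbs_eq_zero] at h
    lia
  exact ((embeddingUpIntGE n).isIso_liftExtend_f_iff (K.restrictionToTruncGE' (embeddingUpIntGE n))
    (K.restrictionToTruncGE'_hasLift (embeddingUpIntGE n)) h1).2
    (K.isIso_restrictionToTruncGE' (embeddingUpIntGE n) _ h2)

set_option backward.isDefEq.respectTransparency false in
open ComplexShape in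
@[reassoc]
lemma πTruncGE_f_comp_iso (K : CochainComplex A ℤ) (n : ℤ) :
    (K.πTruncGE n).f n ≫ (K.truncGEXIsoOpcycles n).hom = K.pOpcycles n := by
  have h1 : (embeddingUpIntGE n).f 0 = n := by simp
  have h2 : (embeddingUpIntGE n).BoundaryGE 0 := by
    rw [boundaryGE_embeddingUpIntGE_iff]
  dsimp [CochainComplex.πTruncGE, HomologicalComplex.πTruncGE, CochainComplex.truncGEXIsoOpcycles,
    HomologicalComplex.truncGEXIsoOpcycles]
  rw [(embeddingUpIntGE n).liftExtend_f _ _ h1,
    K.restrictionToTruncGE'_f_eq_iso_hom_pOpcycles_iso_inv (embeddingUpIntGE n) h1 h2]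
  simp

instance (K : CochainComplex A ℤ) (n i : ℤ) : Epi ((K.πTruncGE n).f i) :=
  inferInstanceAs (Epi ((HomologicalComplex.πTruncGE K (ComplexShape.embeddingUpIntGE n)).f i))

instance (K : CochainComplex A ℤ) (n : ℤ) : Epi (K.πTruncGE n) :=
  inferInstanceAs (Epi (HomologicalComplex.πTruncGE K (ComplexShape.embeddingUpIntGE n)))

@[reassoc]
lemma opcyclesMap_comp_fromOpcycles {K L : CochainComplex A ℤ} (φ : K ⟶ L) (i j : ℤ) :
    opcyclesMap φ i ≫ L.fromOpcycles i j = K.fromOpcycles i j ≫ φ.f j := by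
  rw [← cancel_epi (K.pOpcycles i), p_opcyclesMap_assoc, p_fromOpcycles, p_fromOpcycles_assoc,
    φ.comm]

@[reassoc]
lemma πTruncGE_naturality_f {K L : CochainComplex A ℤ} (φ : K ⟶ L) (n i : ℤ) :
    (K.πTruncGE n).f i ≫ (CochainComplex.truncGEMap φ n).f i = φ.f i ≫ (L.πTruncGE n).f i := by
  rw [← comp_f, ← comp_f, CochainComplex.πTruncGE_naturality]

lemma truncGEMap_f_comp_iso {K L : CochainComplex A ℤ} (φ : K ⟶ L) (n : ℤ) :
    (CochainComplex.truncGEMap φ n).f n ≫ (L.truncGEXIsoOpcycles n).hom =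
      (K.truncGEXIsoOpcycles n).hom ≫ opcyclesMap φ n := by
  rw [← cancel_epi ((K.πTruncGE n).f n), πTruncGE_naturality_f_assoc, πTruncGE_f_comp_iso,
    πTruncGE_f_comp_iso_assoc, p_opcyclesMap]

lemma truncGEMap_zero (K L : CochainComplex A ℤ) (n : ℤ) :
    CochainComplex.truncGEMap (0 : K ⟶ L) n = 0 := by
  rw [← cancel_epi (K.πTruncGE n), CochainComplex.πTruncGE_naturality, zero_comp, comp_zero]

/-- If `f` is a monomorphism of complexes inducing a mono on `H^n`, then `opcyclesMap f n` is a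
mono. -/
lemma mono_opcyclesMap {K L : CochainComplex A ℤ} (f : K ⟶ L) [Mono f] (n : ℤ)
    [Mono (homologyMap f n)] : Mono (opcyclesMap f n) := by
  have hf : ∀ j, Mono (f.f j) := fun j =>
    inferInstanceAs (Mono ((eval A (ComplexShape.up ℤ) j).map f))
  apply Preadditive.mono_of_cancel_zero
  intro W a ha
  have hj : (ComplexShape.up ℤ).next n = n + 1 := by simp
  have h1 : a ≫ K.fromOpcycles n (n + 1) = 0 := by
    rw [← cancel_mono (f.f (n + 1)), Category.assoc, zero_comp, ← opcyclesMap_comp_fromOpcycles,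
      reassoc_of% ha, zero_comp]
  let b := (K.homologyIsKernel n (n + 1) hj).lift (KernelFork.ofι a h1)
  have hb : b ≫ K.homologyι n = a :=
    (K.homologyIsKernel n (n + 1) hj).fac (KernelFork.ofι a h1) WalkingParallelPair.zero
  have h2 : b ≫ homologyMap f n = 0 := by
    rw [← cancel_mono (L.homologyι n), Category.assoc, zero_comp, homologyι_naturality,
      reassoc_of% hb, ha]
  have h3 : b = 0 := by
    rw [← cancel_mono (homologyMap f n), h2, zero_comp]
  rw [← hb, h3, zero_comp]

/-- The canonical truncation `τ≥n` of a short exact sequence of complexes is short exact as soon as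
`H^n` of the first map is a monomorphism. -/
theorem truncGE_shortExact (T : ShortComplex (CochainComplex A ℤ)) (hT : T.ShortExact) (n : ℤ)
    [Mono (homologyMap T.f n)] :
    (ShortComplex.mk (CochainComplex.truncGEMap T.f n) (CochainComplex.truncGEMap T.g n)
      (by rw [← HomologicalComplex.truncGEMap_comp, T.zero]; exact truncGEMap_zero _ _ n)).ShortExact := by
  have := hT.mono_f
  have := hT.epi_g
  apply shortExact_of_degreewise_shortExact
  intro i
  obtain hi | rfl | hi := lt_trichotomy i n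
  · have h1 : IsZero ((T.X₁.truncGE n).X i) := CochainComplex.isZero_of_isStrictlyGE _ n i hi
    have h2 : IsZero ((T.X₂.truncGE n).X i) := CochainComplex.isZero_of_isStrictlyGE _ n i hi
    have h3 : IsZero ((T.X₃.truncGE n).X i) := CochainComplex.isZero_of_isStrictlyGE _ n i hi
    exact
      { exact := ShortComplex.exact_of_isZero_X₂ _ h2
        mono_f := ⟨fun _ _ _ => h1.eq_of_tgt _ _⟩
        epi_g := ⟨fun _ _ _ => h3.eq_of_src _ _⟩ }
  · let S' : ShortComplex A := ShortComplex.mk (opcyclesMap T.f i) (opcyclesMap T.g i)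
      (by rw [← opcyclesMap_comp, T.zero, opcyclesMap_zero])
    have hS' : S'.ShortExact :=
      { exact := opcycles_right_exact T hT.exact i
        mono_f := mono_opcyclesMap T.f i
        epi_g := by dsimp [S']; infer_instance }
    refine ShortComplex.shortExact_of_iso (ShortComplex.isoMk (T.X₁.truncGEXIsoOpcycles i)
      (T.X₂.truncGEXIsoOpcycles i) (T.X₃.truncGEXIsoOpcycles i) ?_ ?_).symm hS'
    · exact (truncGEMap_f_comp_iso T.f i).symm
    · exact (truncGEMap_f_comp_iso T.g i).symm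
  · have h1 := isIso_πTruncGE_f T.X₁ n i hi
    have h2 := isIso_πTruncGE_f T.X₂ n i hi
    have h3 := isIso_πTruncGE_f T.X₃ n i hi
    refine ShortComplex.shortExact_of_iso (ShortComplex.isoMk
      (@asIso _ _ _ _ ((T.X₁.πTruncGE n).f i) h1)
      (@asIso _ _ _ _ ((T.X₂.πTruncGE n).f i) h2) (@asIso _ _ _ _ ((T.X₃.πTruncGE n).f i) h3) ?_ ?_)
      (hT.map (eval A (ComplexShape.up ℤ) i))
    · exact πTruncGE_naturality_f T.f n i
    · exact πTruncGE_naturality_f T.g n i

end Groth.Agent.Lib.Helper68.CplxHorseshoe
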