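import Mathlib.Algebra.Homology.Factorizations.CM5a
import Mathlib.Algebra.Homology.HomologySequenceLemmas
import Mathlib.CategoryTheory.Abelian.EpiWithInjectiveKernel
import Groth.Agent.Lib.Helper68.CplxTrunc

/-! Horseshoe lemma for bounded below cochain complexes: a short exact sequence of complexes
strictly `≥ n` admits a quasi-isomorphism to a short exact sequence of complexes of injectives
strictly `≥ n` (enough injectives). Uses Mathlib's CM5a factorization plus canonical truncation. -/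

set_option autoImplicit false
universe v u

open CategoryTheory Limits HomologicalComplex Abelian

namespace Groth.Agent.Lib.Helper68.CplxHorseshoe

variable {A : Type u} [Category.{v} A] [Abelian A]

lemma isGE_of_quasiIso {K L : CochainComplex A ℤ} (φ : K ⟶ L) [QuasiIso φ] (n : ℤ)
    [K.IsStrictlyGE n] : L.IsGE n := by
  rw [CochainComplex.isGE_iff]
  intro i hi
  rw [← exactAt_iff_of_quasiIsoAt φ i]
  exact K.exactAt_of_isGE n i hi

lemma injective_of_epiWithInjectiveKernel {X Y : A} (g : X ⟶ Y) (hg : epiWithInjectiveKernel g)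
    [Injective Y] : Injective X := by
  rw [epiWithInjectiveKernel_iff] at hg
  obtain ⟨I, hI, f, w, ⟨σ⟩⟩ := hg
  exact Injective.of_iso σ.isoBinaryBiproduct.symm inferInstance

lemma injective_kernel_X {K L : CochainComplex A ℤ} (π : K ⟶ L)
    (hπ : CochainComplex.degreewiseEpiWithInjectiveKernel π) (k : ℤ) :
    Injective ((kernel π).X k) := by
  have h := (hπ k).2
  exact Injective.of_iso (PreservesKernel.iso (eval A (ComplexShape.up ℤ) k) π).symm h

/-- injective terms of the truncation. -/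
lemma injective_truncGE_X (L : CochainComplex A ℤ) (n : ℤ) (hL : ∀ k, Injective (L.X k))
    [L.IsStrictlyGE (n - 1)] [L.IsGE n] (q : ℤ) : Injective ((L.truncGE n).X q) := by
  have : Injective (L.opcycles n) :=
    L.injective_opcycles (n - 1) n (L.exactAt_of_isGE n (n - 1))
  obtain h | rfl | h := lt_trichotomy q n
  · exact (CochainComplex.isZero_of_isStrictlyGE _ n _ h).injective
  · exact Injective.of_iso (L.truncGEXIsoOpcycles q).symm inferInstance
  · exact Injective.of_iso (L.truncGEXIso n q h).symm (hL q)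

open CochainComplex.Plus.modelCategoryQuillen in
/-- Horseshoe lemma for bounded below complexes. -/
theorem horseshoe_inj [EnoughInjectives A]
    (S : ShortComplex (CochainComplex A ℤ)) (hS : S.ShortExact) (n : ℤ)
    [S.X₁.IsStrictlyGE n] [S.X₂.IsStrictlyGE n] [S.X₃.IsStrictlyGE n] :
    ∃ (T : ShortComplex (CochainComplex A ℤ)) (φ : S ⟶ T), T.ShortExact ∧
      T.X₁.IsStrictlyGE n ∧ T.X₂.IsStrictlyGE n ∧ T.X₃.IsStrictlyGE n ∧
      (∀ k : ℤ, Injective (T.X₁.X k) ∧ Injective (T.X₂.X k) ∧ Injective (T.X₃.X k)) ∧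
      QuasiIso φ.τ₁ ∧ QuasiIso φ.τ₂ ∧ QuasiIso φ.τ₃ := by
  obtain ⟨I₃, j₃, hj₃, hI₃, hI₃'⟩ := exists_quasiIso_injective S.X₃ n
  have : I₃.IsStrictlyGE (n - 1) := I₃.isStrictlyGE_of_ge (n - 1) n (by lia)
  have : S.X₂.IsStrictlyGE (n - 1 + 1) := S.X₂.isStrictlyGE_of_ge (n - 1 + 1) n (by lia)
  obtain ⟨I₂, hI₂, ι, π, hι, hι', hπ, fac⟩ := cm5a (S.g ≫ j₃) (n - 1)
  have hπepi : Epi π := hπ.epi
  -- the short exact sequence `0 → ker π → I₂ → I₃ → 0`
  let T' : ShortComplex (CochainComplex A ℤ) := ShortComplex.mk (kernel.ι π) π (kernel.condition π)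
  have hT' : T'.ShortExact :=
    { exact := ShortComplex.exact_of_f_is_kernel _ (kernelIsKernel π)
      mono_f := by dsimp [T']; infer_instance
      epi_g := hπepi }
  let φ' : S ⟶ T' :=
    { τ₁ := kernel.lift π (S.f ≫ ι) (by rw [Category.assoc, fac, S.zero_assoc, zero_comp])
      τ₂ := ι
      τ₃ := j₃
      comm₁₂ := by dsimp [T']; rw [kernel.lift_ι]
      comm₂₃ := by dsimp [T']; exact fac }
  have hφ'₂ : QuasiIso φ'.τ₂ := hι'
  have hφ'₃ : QuasiIso φ'.τ₃ := hj₃
  have hφ'₁ : QuasiIso φ'.τ₁ := quasiIso_τ₁ φ' hS hT' hφ'₂ hφ'₃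
  -- injectivity of the terms of T'
  have hinj₃ : ∀ k, Injective (T'.X₃.X k) := hI₃
  have hinj₂ : ∀ k, Injective (T'.X₂.X k) := fun k =>
    haveI := hI₃ k
    injective_of_epiWithInjectiveKernel (π.f k) (hπ k)
  have hinj₁ : ∀ k, Injective (T'.X₁.X k) := fun k => injective_kernel_X π hπ k
  -- cohomological bounds for T'
  have hGE₁ : T'.X₁.IsGE n := isGE_of_quasiIso φ'.τ₁ n
  have hGE₂ : T'.X₂.IsGE n := isGE_of_quasiIso φ'.τ₂ n
  have hGE₃ : T'.X₃.IsGE n := isGE_of_quasiIso φ'.τ₃ n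
  have hS₂ : T'.X₂.IsStrictlyGE (n - 1) := hI₂
  have hS₃ : T'.X₃.IsStrictlyGE (n - 1) := inferInstanceAs (I₃.IsStrictlyGE (n - 1))
  have hS₁ : T'.X₁.IsStrictlyGE (n - 1) := by
    rw [CochainComplex.isStrictlyGE_iff]
    intro i hi
    have h0 : IsZero (I₂.X i) := I₂.isZero_of_isStrictlyGE (n - 1) i hi
    have : Mono ((kernel.ι π).f i) :=
      inferInstanceAs (Mono ((eval A (ComplexShape.up ℤ) i).map (kernel.ι π)))
    exact IsZero.of_mono ((kernel.ι π).f i) h0
  -- `H^n` of the first map is a mono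
  have hmono : Mono (homologyMap T'.f n) := by
    have hij : (ComplexShape.up ℤ).Rel (n - 1) n := by simp
    have hz : IsZero (T'.X₃.homology (n - 1)) := by
      rw [← exactAt_iff_isZero_homology]
      exact T'.X₃.exactAt_of_isGE n (n - 1)
    exact (hT'.homology_exact₁ (n - 1) n hij).mono_g (hz.eq_of_src _ _)
  -- the truncated sequence
  let T : ShortComplex (CochainComplex A ℤ) :=
    ShortComplex.mk (CochainComplex.truncGEMap T'.f n) (CochainComplex.truncGEMap T'.g n)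
      (by rw [← HomologicalComplex.truncGEMap_comp, T'.zero]; exact truncGEMap_zero _ _ n)
  have hT : T.ShortExact := truncGE_shortExact T' hT' n
  let ψ : T' ⟶ T :=
    { τ₁ := T'.X₁.πTruncGE n
      τ₂ := T'.X₂.πTruncGE n
      τ₃ := T'.X₃.πTruncGE n
      comm₁₂ := CochainComplex.πTruncGE_naturality T'.f n
      comm₂₃ := CochainComplex.πTruncGE_naturality T'.g n }
  have hψ₁ : QuasiIso ψ.τ₁ := inferInstanceAs (QuasiIso (T'.X₁.πTruncGE n))
  have hψ₂ : QuasiIso ψ.τ₂ := inferInstanceAs (QuasiIso (T'.X₂.πTruncGE n))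
  have hψ₃ : QuasiIso ψ.τ₃ := inferInstanceAs (QuasiIso (T'.X₃.πTruncGE n))
  refine ⟨T, φ' ≫ ψ, hT, inferInstanceAs ((T'.X₁.truncGE n).IsStrictlyGE n),
    inferInstanceAs ((T'.X₂.truncGE n).IsStrictlyGE n),
    inferInstanceAs ((T'.X₃.truncGE n).IsStrictlyGE n), fun k => ⟨?_, ?_, ?_⟩, ?_, ?_, ?_⟩
  · exact injective_truncGE_X T'.X₁ n hinj₁ k
  · exact injective_truncGE_X T'.X₂ n hinj₂ k
  · exact injective_truncGE_X T'.X₃ n hinj₃ k
  · exact inferInstanceAs (QuasiIso (φ'.τ₁ ≫ ψ.τ₁))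
  · exact inferInstanceAs (QuasiIso (φ'.τ₂ ≫ ψ.τ₂))
  · exact inferInstanceAs (QuasiIso (φ'.τ₃ ≫ ψ.τ₃))

end Groth.Agent.Lib.Helper68.CplxHorseshoe
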