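import Groth.Agent.Lib.Helper68.CplxDual
import Groth.Agent.Lib.Helper68.CplxHorseshoe

/-! Horseshoe lemma for bounded above cochain complexes (projective version), deduced from the
injective version by duality. -/

set_option autoImplicit false
universe v u

open CategoryTheory Limits HomologicalComplex Opposite

namespace Groth.Agent.Lib.Helper68.CplxHorseshoe

open Groth.Agent.Lib.Helper68.CplxDual

variable {A : Type u} [Category.{v} A] [Abelian A]

/-- Horseshoe lemma for bounded above complexes (projective version), by duality. -/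
theorem horseshoe_proj [EnoughProjectives A]
    (S : ShortComplex (CochainComplex A ℤ)) (hS : S.ShortExact) (n : ℤ)
    [S.X₁.IsStrictlyLE n] [S.X₂.IsStrictlyLE n] [S.X₃.IsStrictlyLE n] :
    ∃ (T : ShortComplex (CochainComplex A ℤ)) (φ : T ⟶ S), T.ShortExact ∧
      T.X₁.IsStrictlyLE n ∧ T.X₂.IsStrictlyLE n ∧ T.X₃.IsStrictlyLE n ∧
      (∀ k : ℤ, Projective (T.X₁.X k) ∧ Projective (T.X₂.X k) ∧ Projective (T.X₃.X k)) ∧
      QuasiIso φ.τ₁ ∧ QuasiIso φ.τ₂ ∧ QuasiIso φ.τ₃ := by
  let So : ShortComplex (CochainComplex Aᵒᵖ ℤ) :=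
    ShortComplex.mk ((dual A).map S.g.op) ((dual A).map S.f.op)
      (by rw [← Functor.map_comp, ← op_comp, S.zero]; rfl)
  have hSo : So.ShortExact := dual_shortExact S hS
  have : So.X₁.IsStrictlyGE (-n) := isStrictlyGE_dual S.X₃ n
  have : So.X₂.IsStrictlyGE (-n) := isStrictlyGE_dual S.X₂ n
  have : So.X₃.IsStrictlyGE (-n) := isStrictlyGE_dual S.X₁ n
  obtain ⟨To, φo, hTo, h1, h2, h3, hinj, q1, q2, q3⟩ := horseshoe_inj So hSo (-n)
  let T : ShortComplex (CochainComplex A ℤ) :=
    ShortComplex.mk ((undual A).map To.g.op) ((undual A).map To.f.op)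
      (by rw [← Functor.map_comp, ← op_comp, To.zero]; rfl)
  have hT : T.ShortExact := undual_shortExact To hTo
  have c12 : ((undual A).map φo.τ₃.op ≫ (counit S.X₁).hom) ≫ S.f =
      (undual A).map To.g.op ≫ (undual A).map φo.τ₂.op ≫ (counit S.X₂).hom := by
    rw [← Functor.map_comp_assoc, ← op_comp, φo.comm₂₃, op_comp, Functor.map_comp_assoc,
      Category.assoc]
    congr 1
    exact (counit_naturality S.f).symm
  have c23 : ((undual A).map φo.τ₂.op ≫ (counit S.X₂).hom) ≫ S.g =
      (undual A).map To.f.op ≫ (undual A).map φo.τ₁.op ≫ (counit S.X₃).hom := by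
    rw [← Functor.map_comp_assoc, ← op_comp, φo.comm₁₂, op_comp, Functor.map_comp_assoc,
      Category.assoc]
    congr 1
    exact (counit_naturality S.g).symm
  let φ : T ⟶ S :=
    { τ₁ := (undual A).map φo.τ₃.op ≫ (counit S.X₁).hom
      τ₂ := (undual A).map φo.τ₂.op ≫ (counit S.X₂).hom
      τ₃ := (undual A).map φo.τ₁.op ≫ (counit S.X₃).hom
      comm₁₂ := c12
      comm₂₃ := c23 }
  have := quasiIso_undual_map φo.τ₁
  have := quasiIso_undual_map φo.τ₂
  have := quasiIso_undual_map φo.τ₃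
  refine ⟨T, φ, hT, isStrictlyLE_undual To.X₃ n, isStrictlyLE_undual To.X₂ n,
    isStrictlyLE_undual To.X₁ n, fun k => ⟨?_, ?_, ?_⟩, ?_, ?_, ?_⟩
  · have := (hinj (-k)).2.2
    exact inferInstanceAs (Projective (unop (To.X₃.X (-k))))
  · have := (hinj (-k)).2.1
    exact inferInstanceAs (Projective (unop (To.X₂.X (-k))))
  · have := (hinj (-k)).1
    exact inferInstanceAs (Projective (unop (To.X₁.X (-k))))
  · exact inferInstanceAs (QuasiIso ((undual A).map φo.τ₃.op ≫ (counit S.X₁).hom))
  · exact inferInstanceAs (QuasiIso ((undual A).map φo.τ₂.op ≫ (counit S.X₂).hom))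
  · exact inferInstanceAs (QuasiIso ((undual A).map φo.τ₁.op ≫ (counit S.X₃).hom))

end Groth.Agent.Lib.Helper68.CplxHorseshoe
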