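import Mathlib.RingTheory.Ideal.AssociatedPrime.Finiteness
import Mathlib.RingTheory.LocalRing.ResidueField.Ideal
import Mathlib.Algebra.Homology.ShortComplex.ModuleCat
import Mathlib.Algebra.Category.ModuleCat.Basic

/-! A dévissage principle over a Noetherian ring: a property of modules which is stable under
extensions and "kernels of epimorphisms", is determined by finitely generated submodules, and holds
for all residue fields `κ(p)`, holds for all modules. -/

set_option autoImplicit false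
universe u

open CategoryTheory Limits

namespace Groth.Agent.Lib.Helper68.Devissage

variable {A : Type u} [CommRing A]

section ResidueField

variable (p : Ideal A) [p.IsPrime]

/-- the `A`-linear embedding `A/p → κ(p)` -/
noncomputable def ι : (A ⧸ p) →ₗ[A] p.ResidueField :=
  (IsScalarTower.toAlgHom A (A ⧸ p) p.ResidueField).toLinearMap

lemma ι_injective : Function.Injective (ι p) :=
  p.injective_algebraMap_quotient_residueField

lemma ι_mk (a : A) : ι p (Ideal.Quotient.mk p a) = algebraMap A p.ResidueField a := rfl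

/-- every element of `κ(p)` is a fraction -/
lemma exists_smul_mem_range (z : p.ResidueField) :
    ∃ s : A, s ∉ p ∧ s • z ∈ LinearMap.range (ι p) := by
  obtain ⟨x, rfl⟩ := IsLocalRing.residue_surjective z
  obtain ⟨a, ⟨s, hs⟩, rfl⟩ := IsLocalization.exists_mk'_eq p.primeCompl x
  refine ⟨s, hs, ⟨Ideal.Quotient.mk p a, ?_⟩⟩
  rw [ι_mk, Algebra.smul_def, IsScalarTower.algebraMap_apply A (Localization.AtPrime p)
    p.ResidueField, IsScalarTower.algebraMap_apply A (Localization.AtPrime p) p.ResidueField,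
    IsLocalRing.ResidueField.algebraMap_eq, ← map_mul, IsLocalization.mul_mk'_eq_mk'_of_mul]
  congr 1
  exact (IsLocalization.mk'_mul_cancel_left a ⟨s, hs⟩).symm

lemma smul_residueField_eq_zero (a : A) (ha : a ∈ p) (z : p.ResidueField) : a • z = 0 := by
  rw [Algebra.smul_def, Ideal.algebraMap_residueField_eq_zero.mpr ha, zero_mul]

/-- the torsion quotient `κ(p)/(A/p)` -/
abbrev Qt : Type u := p.ResidueField ⧸ LinearMap.range (ι p)

lemma exists_smul_eq_zero (y : Qt p) : ∃ s : A, s ∉ p ∧ s • y = 0 := by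
  obtain ⟨z, rfl⟩ := Submodule.mkQ_surjective _ y
  obtain ⟨s, hs, hz⟩ := exists_smul_mem_range p z
  refine ⟨s, hs, ?_⟩
  rw [← map_smul, Submodule.mkQ_apply, Submodule.Quotient.mk_eq_zero]
  exact hz

lemma smul_Qt_eq_zero (a : A) (ha : a ∈ p) (y : Qt p) : a • y = 0 := by
  obtain ⟨z, rfl⟩ := Submodule.mkQ_surjective _ y
  rw [← map_smul, smul_residueField_eq_zero p a ha, map_zero]

/-- a finitely generated submodule of `κ(p)/(A/p)` is killed by some `s ∉ p` -/
lemma exists_smul_eq_zero_of_fg (Q' : Submodule A (Qt p)) (hQ' : Q'.FG) :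
    ∃ s : A, s ∉ p ∧ ∀ y ∈ Q', s • y = 0 := by
  induction Q', hQ' using Submodule.fg_induction with
  | singleton y =>
    obtain ⟨s, hs, hy⟩ := exists_smul_eq_zero p y
    refine ⟨s, hs, fun y' hy' => ?_⟩
    obtain ⟨a, rfl⟩ := Submodule.mem_span_singleton.mp hy'
    rw [smul_comm, hy, smul_zero]
  | sup Q₁ Q₂ _ _ h₁ h₂ =>
    obtain ⟨s₁, hs₁, h₁⟩ := h₁
    obtain ⟨s₂, hs₂, h₂⟩ := h₂
    refine ⟨s₁ * s₂, fun h => (Ideal.IsPrime.mem_or_mem inferInstance h).elim hs₁ hs₂, ?_⟩
    intro y hy
    obtain ⟨y₁, hy₁, y₂, hy₂, rfl⟩ := Submodule.mem_sup.mp hy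
    rw [smul_add, mul_smul, smul_comm s₁ s₂ y₁, h₁ y₁ hy₁, smul_zero, zero_add, mul_smul,
      h₂ y₂ hy₂, smul_zero]

end ResidueField

section Main

variable (Pr : ModuleCat.{u} A → Prop)

/-- the property for all finitely generated modules killed by `I` -/
def PI (I : Ideal A) : Prop :=
  ∀ (L : Type u) [AddCommGroup L] [Module A L] [Module.Finite A L],
    (∀ a ∈ I, ∀ x : L, a • x = 0) → Pr (ModuleCat.of A L)

variable
  (h₁ : ∀ S : ShortComplex (ModuleCat.{u} A), S.ShortExact → Pr S.X₂ → Pr S.X₃ → Pr S.X₁)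
  (hcolim : ∀ L : ModuleCat.{u} A,
    (∀ L' : Submodule A L, L'.FG → Pr (ModuleCat.of A L')) → Pr L)
  (hres : ∀ (p : Ideal A) [p.IsPrime], Pr (ModuleCat.of A p.ResidueField))

include h₁ hcolim hres in
/-- the core step: `A/p` from `κ(p)` and the torsion quotient -/
theorem core (p : Ideal A) [p.IsPrime] (IH : ∀ J : Ideal A, p < J → PI Pr J) :
    Pr (ModuleCat.of A (A ⧸ p)) := by
  have hex : Function.Exact (ι p) (LinearMap.range (ι p)).mkQ := LinearMap.exact_map_mkQ_range _
  let S : ShortComplex (ModuleCat.{u} A) :=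
    ShortComplex.mk (ModuleCat.ofHom (ι p)) (ModuleCat.ofHom (LinearMap.range (ι p)).mkQ) (by
      apply ModuleCat.hom_ext
      apply LinearMap.ext
      intro x
      exact hex.apply_apply_eq_zero x)
  have hS : S.ShortExact :=
    ModuleCat.shortComplex_shortExact S hex (ι_injective p) (Submodule.mkQ_surjective _)
  refine h₁ S hS (hres p) (hcolim _ ?_)
  intro Q' hQ'
  obtain ⟨s, hs, hsQ⟩ := exists_smul_eq_zero_of_fg p Q' hQ'
  have hlt : p < p ⊔ Ideal.span {s} := by
    refine lt_of_le_of_ne le_sup_left (fun h => hs ?_)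
    rw [h]
    exact Ideal.mem_sup_right (Ideal.subset_span rfl)
  have hfin : Module.Finite A Q' := Module.Finite.iff_fg.mpr hQ'
  refine IH _ hlt Q' ?_
  intro a ha x
  obtain ⟨b, hb, c, hc, rfl⟩ := Submodule.mem_sup.mp ha
  obtain ⟨d, rfl⟩ := Ideal.mem_span_singleton'.mp hc
  apply Subtype.ext
  have h1 : (b • x : Qt p) = 0 := smul_Qt_eq_zero p b hb x
  have h2 : ((d * s) • (x : Qt p)) = 0 := by rw [mul_smul, hsQ x x.2, smul_zero]
  rw [Submodule.coe_smul, add_smul, h1, h2, add_zero]
  rfl

variable [IsNoetherianRing A]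
  (hiso : ∀ {L L' : ModuleCat.{u} A}, (L ≅ L') → Pr L → Pr L')
  (hzero : ∀ L : ModuleCat.{u} A, IsZero L → Pr L)
  (h₂ : ∀ S : ShortComplex (ModuleCat.{u} A), S.ShortExact → Pr S.X₁ → Pr S.X₃ → Pr S.X₂)

include h₁ hcolim hres hiso hzero h₂ in
theorem pI_all (I : Ideal A) : PI Pr I := by
  induction I using IsNoetherian.induction with
  | hgt I IH =>
  intro L _ _ hfin hL
  refine IsNoetherianRing.induction_on_isQuotientEquivQuotientPrime A hfin
    (motive := fun N _ _ _ => (∀ a ∈ I, ∀ x : N, a • x = 0) → Pr (ModuleCat.of A N))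
    ?_ ?_ ?_ hL
  · intro N _ _ _ _ _
    exact hzero _ (ModuleCat.isZero_of_subsingleton _)
  · intro N _ _ _ q e hN
    have hq : q.1.IsPrime := q.2
    have hle : I ≤ q.1 := by
      intro a ha
      have h1 := hN a ha (e.symm 1)
      have h2 : e (a • e.symm 1) = 0 := by rw [h1, map_zero]
      rw [map_smul, LinearEquiv.apply_symm_apply] at h2
      rw [← Ideal.Quotient.eq_zero_iff_mem]
      rw [Algebra.smul_def, mul_one] at h2
      exact h2
    rcases eq_or_lt_of_le hle with heq | hlt
    · subst heq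
      exact hiso e.symm.toModuleIso (core Pr h₁ hcolim hres q.1 (fun J hJ => IH J hJ))
    · refine IH q.1 hlt N ?_
      intro a ha x
      apply e.injective
      rw [map_smul, map_zero]
      obtain ⟨y, hy⟩ := Ideal.Quotient.mk_surjective (e x)
      rw [← hy, Algebra.smul_def, Ideal.Quotient.algebraMap_eq, ← map_mul,
        Ideal.Quotient.eq_zero_iff_mem]
      exact Ideal.mul_mem_right _ _ ha
  · intro N₁ _ _ _ N₂ _ _ _ N₃ _ _ _ f g hf hg hfg ih₁ ih₃ hN₂
    let S : ShortComplex (ModuleCat.{u} A) :=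
      ShortComplex.mk (ModuleCat.ofHom f) (ModuleCat.ofHom g) (by
        apply ModuleCat.hom_ext
        apply LinearMap.ext
        intro x
        exact hfg.apply_apply_eq_zero x)
    have hS : S.ShortExact := ModuleCat.shortComplex_shortExact S hfg hf hg
    refine h₂ S hS (ih₁ ?_) (ih₃ ?_)
    · intro a ha x
      apply hf
      rw [map_smul, hN₂ a ha, map_zero]
    · intro a ha x
      obtain ⟨y, rfl⟩ := hg x
      rw [← map_smul, hN₂ a ha, map_zero]

include h₁ hcolim hres hiso hzero h₂ in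
/-- **Dévissage** over a Noetherian ring. -/
theorem devissage (L : ModuleCat.{u} A) : Pr L := by
  refine hcolim L (fun L' hL' => ?_)
  have hfin : Module.Finite A L' := Module.Finite.iff_fg.mpr hL'
  refine pI_all Pr h₁ hcolim hres hiso hzero h₂ ⊥ L' ?_
  intro a ha x
  rw [Ideal.mem_bot] at ha
  rw [ha, zero_smul]

end Main

end Groth.Agent.Lib.Helper68.Devissage
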