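import Groth.Agent.Lib.Helper68.Devissage

/-! A finite-module version of the dévissage principle with an abstract core step. -/

set_option autoImplicit false
universe u

open CategoryTheory Limits

namespace Groth.Agent.Lib.Helper68.Devissage

variable {A : Type u} [CommRing A] [IsNoetherianRing A] (Pr : ModuleCat.{u} A → Prop)
  (hiso : ∀ {L L' : ModuleCat.{u} A}, (L ≅ L') → Pr L → Pr L')
  (hzero : ∀ L : ModuleCat.{u} A, IsZero L → Pr L)
  (h₂ : ∀ S : ShortComplex (ModuleCat.{u} A), S.ShortExact → Module.Finite A S.X₁ →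
    Module.Finite A S.X₂ → Module.Finite A S.X₃ → Pr S.X₁ → Pr S.X₃ → Pr S.X₂)
  (hcore : ∀ (p : Ideal A) [p.IsPrime], (∀ J : Ideal A, p < J → PI Pr J) →
    Pr (ModuleCat.of A (A ⧸ p)))

include hiso hzero h₂ hcore in
theorem pI_all_of_core (I : Ideal A) : PI Pr I := by
  induction I using IsNoetherian.induction with
  | hgt I IH =>
  intro L _ _ hfin hL
  refine IsNoetherianRing.induction_on_isQuotientEquivQuotientPrime A hfin
    (motive := fun N _ _ _ => (∀ a ∈ I, ∀ x : N, a • x = 0) → Pr (ModuleCat.of A N))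
    ?_ ?_ ?_ hL
  · intro N _ _ _ _ _
    exact hzero _ (ModuleCat.isZero_of_subsingleton _)
  · intro N _ _ _ q e hN
    have hq : q.1.IsPrime := q.2
    have hle : I ≤ q.1 := by
      intro a ha
      have h1 := hN a ha (e.symm 1)
      have h2 : e (a • e.symm 1) = 0 := by rw [h1, map_zero]
      rw [map_smul, LinearEquiv.apply_symm_apply] at h2
      rw [← Ideal.Quotient.eq_zero_iff_mem]
      rw [Algebra.smul_def, mul_one] at h2
      exact h2
    rcases eq_or_lt_of_le hle with heq | hlt
    · subst heq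
      exact hiso e.symm.toModuleIso (hcore q.1 (fun J hJ => IH J hJ))
    · refine IH q.1 hlt N ?_
      intro a ha x
      apply e.injective
      rw [map_smul, map_zero]
      obtain ⟨y, hy⟩ := Ideal.Quotient.mk_surjective (e x)
      rw [← hy, Algebra.smul_def, Ideal.Quotient.algebraMap_eq, ← map_mul,
        Ideal.Quotient.eq_zero_iff_mem]
      exact Ideal.mul_mem_right _ _ ha
  · intro N₁ _ _ hf₁ N₂ _ _ hf₂ N₃ _ _ hf₃ f g hf hg hfg ih₁ ih₃ hN₂
    let S : ShortComplex (ModuleCat.{u} A) :=
      ShortComplex.mk (ModuleCat.ofHom f) (ModuleCat.ofHom g) (by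
        apply ModuleCat.hom_ext
        apply LinearMap.ext
        intro x
        exact hfg.apply_apply_eq_zero x)
    have hS : S.ShortExact := ModuleCat.shortComplex_shortExact S hfg hf hg
    refine h₂ S hS hf₁ hf₂ hf₃ (ih₁ ?_) (ih₃ ?_)
    · intro a ha x
      apply hf
      rw [map_smul, hN₂ a ha, map_zero]
    · intro a ha x
      obtain ⟨y, rfl⟩ := hg x
      rw [← map_smul, hN₂ a ha, map_zero]

include hiso hzero h₂ hcore in
/-- dévissage for finitely generated modules -/
theorem fg_of_core (L : Type u) [AddCommGroup L] [Module A L] [Module.Finite A L] :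
    Pr (ModuleCat.of A L) := by
  refine pI_all_of_core Pr hiso hzero h₂ hcore ⊥ L ?_
  intro a ha x
  rw [Ideal.mem_bot] at ha
  rw [ha, zero_smul]

end Groth.Agent.Lib.Helper68.Devissage
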