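import Mathlib.Algebra.Homology.ShortComplex.ExactFunctor
import Mathlib.Algebra.Homology.HomologicalComplex
import Mathlib.Algebra.Homology.ShortComplex.HomologicalComplex
import Mathlib.Algebra.Homology.ShortComplex.Abelian
import Mathlib.Algebra.Homology.ShortComplex.ShortExact

/-! Dimension shifting along a chain of short exact sequences (abstract form). -/

set_option autoImplicit false
universe v u

open CategoryTheory Category Limits

namespace Groth.Agent.Lib.Helper68.DimShift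

variable {ℬ : Type u} [Category.{v} ℬ] [Abelian ℬ]

/-- homology of a short complex from a kernel/cokernel presentation -/
lemma nonempty_homology_iso (S : ShortComplex ℬ) {K H : ℬ} (i : K ⟶ S.X₂) [Mono i]
    (wi : i ≫ S.g = 0) (hi : (ShortComplex.mk i S.g wi).Exact)
    (f' : S.X₁ ⟶ K) (hf' : f' ≫ i = S.f) (π : K ⟶ H) [Epi π] (wπ : f' ≫ π = 0)
    (hπ : (ShortComplex.mk f' π wπ).Exact) : Nonempty (S.homology ≅ H) := by
  let hi' : IsLimit (KernelFork.ofι i wi) := hi.fIsKernel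
  have hf'' : hi'.lift (KernelFork.ofι S.f S.zero) = f' := by
    rw [← cancel_mono i, hf']
    exact hi'.fac _ WalkingParallelPair.zero
  obtain rfl : f' = hi'.lift (KernelFork.ofι S.f S.zero) := hf''.symm
  let h : S.LeftHomologyData :=
    { K := K
      H := H
      i := i
      π := π
      wi := wi
      hi := hi'
      wπ := wπ
      hπ := hπ.gIsCokernel }
  exact ⟨h.homologyIso⟩

/-- the abstract output of the long exact sequences of a chain of short exact sequences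
`0 ⟶ Z (j+1) ⟶ L j ⟶ Z j ⟶ 0` under a contravariant cohomological δ-functor `T`:
`A j p = T^p (Z j)`, `B j p = T^p (L j)`. -/
structure ShiftData (ℬ : Type u) [Category.{v} ℬ] [Abelian ℬ] where
  A : ℕ → ℕ → ℬ
  B : ℕ → ℕ → ℬ
  a : ∀ j p, A j p ⟶ B j p
  b : ∀ j p, B j p ⟶ A (j + 1) p
  δ : ∀ j p, A (j + 1) p ⟶ A j (p + 1)
  mono_a : ∀ j, Mono (a j 0)
  ab : ∀ j p, a j p ≫ b j p = 0
  bδ : ∀ j p, b j p ≫ δ j p = 0
  δa : ∀ j p, δ j p ≫ a j (p + 1) = 0
  exact_ab : ∀ j p, (ShortComplex.mk _ _ (ab j p)).Exact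
  exact_bδ : ∀ j p, (ShortComplex.mk _ _ (bδ j p)).Exact
  exact_δa : ∀ j p, (ShortComplex.mk _ _ (δa j p)).Exact
  isZero_B : ∀ j p, IsZero (B j (p + 1))

namespace ShiftData

variable (D : ShiftData ℬ)

lemma epi_δ_zero (j : ℕ) : Epi (D.δ j 0) :=
  (D.exact_δa j 0).epi_f ((D.isZero_B j 0).eq_of_tgt _ _)

lemma isIso_δ_succ (j p : ℕ) : IsIso (D.δ j (p + 1)) := by
  have h1 : Mono (D.δ j (p + 1)) :=
    (D.exact_bδ j (p + 1)).mono_g ((D.isZero_B j p).eq_of_src _ _)
  have h2 : Epi (D.δ j (p + 1)) :=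
    (D.exact_δa j (p + 1)).epi_f ((D.isZero_B j (p + 1)).eq_of_tgt _ _)
  exact isIso_of_mono_of_epi _

lemma nonempty_shift_iso (k p n : ℕ) (hn : n = k + p + 1) :
    Nonempty (D.A k (p + 1) ≅ D.A 0 n) := by
  induction k generalizing p n with
  | zero =>
    obtain rfl : n = p + 1 := by lia
    exact ⟨Iso.refl _⟩
  | succ k ih =>
    have := D.isIso_δ_succ k p
    obtain ⟨e⟩ := ih (p + 1) n (by lia)
    exact ⟨asIso (D.δ k (p + 1)) ≪≫ e⟩

variable (C : CochainComplex ℬ ℕ) (e : ∀ j, C.X j ≅ D.B j 0)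
  (hC : ∀ j, C.d j (j + 1) ≫ (e (j + 1)).hom = (e j).hom ≫ D.b j 0 ≫ D.a (j + 1) 0)

include hC

lemma incl_d (j : ℕ) : (D.a j 0 ≫ (e j).inv) ≫ C.d j (j + 1) = 0 := by
  have h := hC j
  rw [← cancel_mono (e (j + 1)).hom, assoc, h, assoc, Iso.inv_hom_id_assoc,
    reassoc_of% (D.ab j 0), zero_comp, zero_comp]

lemma exact_incl (j : ℕ) :
    (ShortComplex.mk (D.a j 0 ≫ (e j).inv) (C.d j (j + 1)) (incl_d D C e hC j)).Exact := by
  have := D.mono_a (j + 1)
  let φ : ShortComplex.mk _ _ (D.ab j 0) ⟶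
      ShortComplex.mk (D.a j 0 ≫ (e j).inv) (C.d j (j + 1)) (incl_d D C e hC j) :=
    { τ₁ := 𝟙 _
      τ₂ := (e j).inv
      τ₃ := D.a (j + 1) 0 ≫ (e (j + 1)).inv
      comm₁₂ := by simp
      comm₂₃ := by
        dsimp
        rw [← cancel_mono (e (j + 1)).hom, assoc, assoc, assoc, hC j, Iso.inv_hom_id,
          comp_id, Iso.inv_hom_id_assoc] }
  have h1 : Epi φ.τ₁ := by dsimp [φ]; infer_instance
  have h2 : IsIso φ.τ₂ := by dsimp [φ]; infer_instance
  have h3 : Mono φ.τ₃ := by dsimp [φ]; infer_instance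
  exact (ShortComplex.exact_iff_of_epi_of_isIso_of_mono φ).1 (D.exact_ab j 0)

theorem nonempty_homology_zero_iso : Nonempty (C.homology 0 ≅ D.A 0 0) := by
  have := D.mono_a 0
  have hd : C.d 0 0 = 0 := C.shape _ _ (by simp)
  obtain ⟨e1⟩ := nonempty_homology_iso (C.sc' 0 0 1) (D.a 0 0 ≫ (e 0).inv)
    (incl_d D C e hC 0) (exact_incl D C e hC 0) 0 (by rw [zero_comp]; exact hd.symm) (𝟙 _)
    (by simp)
    ((ShortComplex.exact_iff_mono _ rfl).2 (by dsimp; infer_instance))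
  exact ⟨ShortComplex.homologyMapIso (C.isoSc' 0 0 1 (by simp) (by simp)) ≪≫ e1⟩

theorem nonempty_homology_succ_iso (i : ℕ) : Nonempty (C.homology (i + 1) ≅ D.A i 1) := by
  have := D.mono_a (i + 1)
  have := D.epi_δ_zero i
  have hex : (ShortComplex.mk ((e i).hom ≫ D.b i 0) (D.δ i 0)
      (by rw [assoc, D.bδ, comp_zero])).Exact := by
    let φ : ShortComplex.mk ((e i).hom ≫ D.b i 0) (D.δ i 0)
        (by rw [assoc, D.bδ, comp_zero]) ⟶ ShortComplex.mk _ _ (D.bδ i 0) :=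
      { τ₁ := (e i).hom
        τ₂ := 𝟙 _
        τ₃ := 𝟙 _
        comm₁₂ := by simp
        comm₂₃ := by simp }
    have h1 : Epi φ.τ₁ := by dsimp [φ]; infer_instance
    have h2 : IsIso φ.τ₂ := by dsimp [φ]; infer_instance
    have h3 : Mono φ.τ₃ := by dsimp [φ]; infer_instance
    exact (ShortComplex.exact_iff_of_epi_of_isIso_of_mono φ).2 (D.exact_bδ i 0)
  obtain ⟨e1⟩ := nonempty_homology_iso (C.sc' i (i + 1) (i + 2))
    (D.a (i + 1) 0 ≫ (e (i + 1)).inv)
    (incl_d D C e hC (i + 1)) (exact_incl D C e hC (i + 1)) ((e i).hom ≫ D.b i 0)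
    (by
      change ((e i).hom ≫ D.b i 0) ≫ D.a (i + 1) 0 ≫ (e (i + 1)).inv = C.d i (i + 1)
      rw [← cancel_mono (e (i + 1)).hom, assoc, assoc, assoc, Iso.inv_hom_id, comp_id, hC i])
    (D.δ i 0) (by rw [assoc, D.bδ, comp_zero]) hex
  exact ⟨ShortComplex.homologyMapIso (C.isoSc' i (i + 1) (i + 2) (by simp) (by simp)) ≪≫ e1⟩

/-- **dimension shifting**: the cohomology of `C = T⁰(L_•)` computes `T^i (Z 0)`. -/
theorem nonempty_homology_iso' (i : ℕ) : Nonempty (C.homology i ≅ D.A 0 i) := by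
  cases i with
  | zero => exact nonempty_homology_zero_iso D C e hC
  | succ i =>
    obtain ⟨e1⟩ := nonempty_homology_succ_iso D C e hC i
    obtain ⟨e2⟩ := D.nonempty_shift_iso i 0 (i + 1) (by lia)
    exact ⟨e1 ≪≫ e2⟩

end ShiftData

/-! ### the chain of short exact sequences of a left resolution -/

lemma exact_kernel_lift {𝒜 : Type u} [Category.{v} 𝒜] [Abelian 𝒜] {X Y W : 𝒜} (g : X ⟶ Y)
    (m : W ⟶ Y) [Mono m] (l : X ⟶ W) (h : l ≫ m = g) (w : kernel.ι g ≫ l = 0) :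
    (ShortComplex.mk (kernel.ι g) l w).Exact := by
  let φ : ShortComplex.mk (kernel.ι g) l w ⟶
      ShortComplex.mk (kernel.ι g) g (kernel.condition _) :=
    { τ₁ := 𝟙 _
      τ₂ := 𝟙 _
      τ₃ := m
      comm₁₂ := by simp
      comm₂₃ := by
        dsimp
        rw [id_comp, h] }
  have h1 : Epi φ.τ₁ := by dsimp [φ]; infer_instance
  have h2 : IsIso φ.τ₂ := by dsimp [φ]; infer_instance
  have h3 : Mono φ.τ₃ := by dsimp [φ]; infer_instance
  exact (ShortComplex.exact_iff_of_epi_of_isIso_of_mono φ).2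
    (ShortComplex.exact_of_f_is_kernel _ (kernelIsKernel _))

namespace Res

variable {𝒜 : Type u} [Category.{v} 𝒜] [Abelian 𝒜]
  (L : ChainComplex 𝒜 ℕ) {F : 𝒜} (π : L.X 0 ⟶ F)

/-- targets of the augmented differentials -/
def tgt : ℕ → 𝒜
  | 0 => F
  | j + 1 => L.X j

/-- the augmented differentials -/
def dd : ∀ j, L.X j ⟶ tgt L (F := F) j
  | 0 => π
  | j + 1 => L.d (j + 1) j

/-- the syzygies: `Z 0 = F`, `Z (j+1) = ker (L_j ⟶ L_{j-1})` -/
noncomputable def Z : ℕ → 𝒜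
  | 0 => F
  | j + 1 => kernel (dd L π j)

noncomputable def ι (j : ℕ) : Z L π (j + 1) ⟶ L.X j := kernel.ι (dd L π j)

instance mono_ι (j : ℕ) : Mono (ι L π j) :=
  show Mono (kernel.ι (dd L π j)) from inferInstance

variable (hπ : L.d 1 0 ≫ π = 0)

include hπ in
lemma d_dd (j : ℕ) : L.d (j + 1) j ≫ dd L π j = 0 := by
  cases j with
  | zero => exact hπ
  | succ j => exact L.d_comp_d _ _ _

noncomputable def κ : ∀ j, L.X j ⟶ Z L π j
  | 0 => π
  | j + 1 => kernel.lift (dd L π j) (L.d (j + 1) j) (d_dd L π hπ j)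

lemma κ_ι (j : ℕ) : κ L π hπ (j + 1) ≫ ι L π j = L.d (j + 1) j :=
  kernel.lift_ι _ _ _

lemma ι_κ (j : ℕ) : ι L π j ≫ κ L π hπ j = 0 := by
  cases j with
  | zero => exact kernel.condition π
  | succ j =>
    rw [← cancel_mono (ι L π j), assoc, κ_ι, zero_comp]
    exact kernel.condition (dd L π (j + 1))

variable [Epi π] (hex0 : (ShortComplex.mk (L.d 1 0) π hπ).Exact)
  (hex : ∀ j : ℕ, L.ExactAt (j + 1))

include hex0 hex in
lemma exact_dd (j : ℕ) : (ShortComplex.mk (L.d (j + 1) j) (dd L π j) (d_dd L π hπ j)).Exact := by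
  cases j with
  | zero => exact hex0
  | succ j => exact (L.exactAt_iff' (j + 2) (j + 1) j (by simp) (by simp)).1 (hex j)

include hex0 hex in
lemma epi_κ (j : ℕ) : Epi (κ L π hπ j) := by
  cases j with
  | zero => exact ‹Epi π›
  | succ j => exact (ShortComplex.exact_iff_epi_kernel_lift _).1 (exact_dd L π hπ hex0 hex j)

include hex0 hex in
theorem shortExact (j : ℕ) :
    (ShortComplex.mk (ι L π j) (κ L π hπ j) (ι_κ L π hπ j)).ShortExact := by
  have := epi_κ L π hπ hex0 hex j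
  refine { exact := ?_ }
  cases j with
  | zero => exact ShortComplex.exact_of_f_is_kernel _ (kernelIsKernel π)
  | succ j =>
    exact exact_kernel_lift (Y := L.X j) (dd L π (j + 1)) (ι L π j) (κ L π hπ (j + 1))
      (κ_ι L π hπ j) _

end Res

end Groth.Agent.Lib.Helper68.DimShift
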