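import Mathlib.Algebra.Homology.ShortComplex.Exact
import Mathlib.CategoryTheory.Abelian.Basic

/-! Dimension shifting: if `U'` and `V'` are the kernels of `U(K -) ⟶ U(F -)` and
`V(K -) ⟶ V(F -)` (naturally, objectwise), then an isomorphism `U ≅ V` induces an isomorphism
`U' ≅ V'`. -/

set_option autoImplicit false
universe v u v' u'

open CategoryTheory Category Limits

namespace Groth.Agent.Lib.Helper68

variable {C : Type u} [Category.{v} C] {D : Type u'} [Category.{v'} D] [Abelian D]

/-- `U'` is (naturally, objectwise) the kernel of `U(K -) ⟶ U(F -)`. -/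
structure DimShift {K F : C ⥤ C} (κ : K ⟶ F) (U U' : C ⥤ D) where
  /-- the connecting morphism -/
  d : ∀ X : C, U'.obj X ⟶ U.obj (K.obj X)
  natural : ∀ {X Y : C} (g : X ⟶ Y), U'.map g ≫ d Y = d X ≫ U.map (K.map g)
  mono : ∀ X : C, Mono (d X)
  zero : ∀ X : C, d X ≫ U.map (κ.app X) = 0
  exact : ∀ X : C, (ShortComplex.mk (d X) (U.map (κ.app X)) (zero X)).Exact

namespace DimShift

variable {K F : C ⥤ C} {κ : K ⟶ F} {U U' V V' : C ⥤ D}
  (s : DimShift κ U U') (t : DimShift κ V V')

attribute [instance] DimShift.mono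
attribute [reassoc] DimShift.natural

section
variable (α : U ⟶ V)

lemma homAux (X : C) : (s.d X ≫ α.app (K.obj X)) ≫ V.map (κ.app X) = 0 := by
  rw [assoc, ← α.naturality, ← assoc, s.zero, zero_comp]

/-- the induced morphism on the kernels -/
noncomputable def homApp (X : C) : U'.obj X ⟶ V'.obj X :=
  (t.exact X).lift (s.d X ≫ α.app (K.obj X)) (homAux s α X)

@[reassoc (attr := simp)]
lemma homApp_d (X : C) : homApp s t α X ≫ t.d X = s.d X ≫ α.app (K.obj X) :=
  (t.exact X).lift_f _ _

lemma homApp_natural {X Y : C} (g : X ⟶ Y) :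
    U'.map g ≫ homApp s t α Y = homApp s t α X ≫ V'.map g := by
  rw [← cancel_mono (t.d Y), assoc, assoc, homApp_d, t.natural, homApp_d_assoc,
    s.natural_assoc, α.naturality]

/-- the induced natural transformation on the kernels -/
noncomputable def hom : U' ⟶ V' where
  app X := homApp s t α X
  naturality _ _ g := homApp_natural s t α g

@[reassoc (attr := simp)]
lemma hom_app_d (X : C) : (hom s t α).app X ≫ t.d X = s.d X ≫ α.app (K.obj X) :=
  homApp_d s t α X

end

lemma hom_id : hom s s (𝟙 U) = 𝟙 U' := by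
  ext X
  rw [← cancel_mono (s.d X), hom_app_d, NatTrans.id_app, NatTrans.id_app, comp_id, id_comp]

lemma hom_comp {W W' : C ⥤ D} (r : DimShift κ W W') (α : U ⟶ V) (β : V ⟶ W) :
    hom s t α ≫ hom t r β = hom s r (α ≫ β) := by
  ext X
  rw [← cancel_mono (r.d X), NatTrans.comp_app, assoc, hom_app_d, hom_app_d_assoc, hom_app_d,
    NatTrans.comp_app]

/-- **Dimension shifting**: an isomorphism `U ≅ V` induces an isomorphism `U' ≅ V'`. -/
noncomputable def iso (Φ : U ≅ V) : U' ≅ V' where
  hom := hom s t Φ.hom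
  inv := hom t s Φ.inv
  hom_inv_id := by rw [hom_comp, Iso.hom_inv_id, hom_id]
  inv_hom_id := by rw [hom_comp, Iso.inv_hom_id, hom_id]

end DimShift

end Groth.Agent.Lib.Helper68
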