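import Groth.Agent.Lib.Helper68.RightDerivedLES
import Groth.Prelude.Def_RDer

/-! The second edge map `R^q(Φ ⋙ Ψ) X ⟶ Ψ (R^q Φ X)` is an isomorphism when `Φ` sends injectives to
`Ψ`-acyclics and the `R^i Φ X` are `Ψ`-acyclic. -/

set_option autoImplicit false
universe v₁ v₂ v₃ u₁ u₂ u₃

open CategoryTheory Category Limits HomologicalComplex

namespace Groth.Agent.Lib.Helper68.EdgeOutIso

open Groth.Agent.Lib.Helper68

section Acyc

variable {B : Type u₂} [Category.{v₂} B] [Abelian B] [HasInjectiveResolutions B]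
  {C : Type u₃} [Category.{v₃} C] [Abelian C]
  (Ψ : B ⥤ C) [Ψ.Additive]

/-- `Ψ`-acyclic objects -/
def Acyc (M : B) : Prop := ∀ p : ℕ, IsZero ((Ψ.rightDerived (p + 1)).obj M)

variable {Ψ}

lemma Acyc.of_iso {M M' : B} (e : M ≅ M') (h : Acyc Ψ M) : Acyc Ψ M' := fun p =>
  (h p).of_iso ((Ψ.rightDerived (p + 1)).mapIso e.symm)

lemma acyc_right {S : ShortComplex B} (hS : S.ShortExact) (h1 : Acyc Ψ S.X₁) (h2 : Acyc Ψ S.X₂) :
    Acyc Ψ S.X₃ := fun p =>
  RightDerivedLES.isZero_right Ψ hS (p + 1) (h2 p) (h1 (p + 1))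

lemma acyc_mid {S : ShortComplex B} (hS : S.ShortExact) (h1 : Acyc Ψ S.X₁) (h3 : Acyc Ψ S.X₃) :
    Acyc Ψ S.X₂ := fun p =>
  RightDerivedLES.isZero_mid Ψ hS (p + 1) (h1 p) (h3 p)

variable (Ψ) [PreservesFiniteLimits Ψ]

/-- a left exact functor preserves the epimorphism of a short exact sequence with no `R¹` on the
left -/
lemma epi_map_g {S : ShortComplex B} (hS : S.ShortExact)
    (h1 : IsZero ((Ψ.rightDerived 1).obj S.X₁)) : Epi (Ψ.map S.g) := by
  have hex := RightDerivedLES.exact₃ Ψ hS 0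
  have hepi : Epi ((Ψ.rightDerived 0).map S.g) := hex.epi_f (h1.eq_of_tgt _ _)
  have nat := Ψ.rightDerivedZeroIsoSelf.hom.naturality S.g
  have h2 : Epi ((Ψ.rightDerived 0).map S.g ≫ Ψ.rightDerivedZeroIsoSelf.hom.app S.X₃) :=
    epi_comp _ _
  rw [nat] at h2
  have h3 : Ψ.map S.g = Ψ.rightDerivedZeroIsoSelf.inv.app S.X₂ ≫
      (Ψ.rightDerivedZeroIsoSelf.hom.app S.X₂ ≫ Ψ.map S.g) := by
    rw [← assoc, ← NatTrans.comp_app, Iso.inv_hom_id]
    exact (id_comp _).symm
  rw [h3]
  exact epi_comp _ _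

/-- `Ψ` preserves the cokernel `P ⟶ Q ⟶ H` when `ker t` and `ker π` have no `R¹Ψ` -/
lemma map_exact_epi {P Q H : B} (t : P ⟶ Q) (π : Q ⟶ H) (w : t ≫ π = 0)
    (hex : (ShortComplex.mk t π w).Exact) [Epi π]
    (h1 : IsZero ((Ψ.rightDerived 1).obj (kernel t)))
    (h2 : IsZero ((Ψ.rightDerived 1).obj (kernel π))) :
    ((ShortComplex.mk t π w).map Ψ).Exact ∧ Epi (Ψ.map π) := by
  -- the short exact sequence `0 → ker π → Q → H → 0`
  let S1 : ShortComplex B := ShortComplex.mk (kernel.ι π) π (kernel.condition π)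
  have hS1 : S1.ShortExact :=
    { exact := ShortComplex.exact_of_f_is_kernel _ (kernelIsKernel π)
      mono_f := by dsimp [S1]; infer_instance
      epi_g := by dsimp [S1]; infer_instance }
  have hπ : Epi (Ψ.map π) := epi_map_g Ψ hS1 h2
  have hS1' : (S1.map Ψ).Exact :=
    ((Functor.preservesFiniteLimits_iff_forall_exact_map_and_mono Ψ).1 inferInstance S1 hS1).1
  -- the epimorphism `P ⟶ ker π`
  let e : P ⟶ kernel π := kernel.lift π t w
  have he : Epi e := (ShortComplex.exact_iff_epi_kernel_lift _).1 hex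
  let S2 : ShortComplex B := ShortComplex.mk (kernel.ι e) e (kernel.condition e)
  have hS2 : S2.ShortExact :=
    { exact := ShortComplex.exact_of_f_is_kernel _ (kernelIsKernel e)
      mono_f := by dsimp [S2]; infer_instance
      epi_g := he }
  have het : e ≫ kernel.ι π = t := kernel.lift_ι _ _ _
  have hk : IsZero ((Ψ.rightDerived 1).obj (kernel e)) := by
    refine h1.of_iso ((Ψ.rightDerived 1).mapIso ?_)
    exact (kernelCompMono e (kernel.ι π)).symm ≪≫ kernelIsoOfEq het
  have hΨe : Epi (Ψ.map e) := epi_map_g Ψ hS2 hk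
  refine ⟨?_, hπ⟩
  let φ : (ShortComplex.mk t π w).map Ψ ⟶ S1.map Ψ :=
    { τ₁ := Ψ.map e
      τ₂ := 𝟙 _
      τ₃ := 𝟙 _
      comm₁₂ := by
        change Ψ.map e ≫ Ψ.map (kernel.ι π) = Ψ.map t ≫ 𝟙 _
        rw [← Ψ.map_comp, het, comp_id]
      comm₂₃ := by
        change 𝟙 _ ≫ Ψ.map π = Ψ.map π ≫ 𝟙 _
        rw [id_comp, comp_id] }
  haveI : Epi φ.τ₁ := hΨe
  haveI : IsIso φ.τ₂ := by change IsIso (𝟙 (Ψ.obj Q)); infer_instance
  haveI : Mono φ.τ₃ := by change Mono (𝟙 (Ψ.obj H)); infer_instance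
  exact (ShortComplex.exact_iff_of_epi_of_isIso_of_mono φ).2 hS1'

end Acyc

section Complex

variable {B : Type u₂} [Category.{v₂} B] [Abelian B] [HasInjectiveResolutions B]
  {C : Type u₃} [Category.{v₃} C] [Abelian C]
  (Ψ : B ⥤ C) [Ψ.Additive] [PreservesFiniteLimits Ψ]
  {ι' : Type*} {c : ComplexShape ι'} (K : HomologicalComplex B c) (i : ι')

omit [HasInjectiveResolutions B] in
lemma isIso_cyclesComparison : IsIso (RDer.cyclesComparison Ψ K i) := by
  let h1 := ((Ψ.mapHomologicalComplex c).obj K).cyclesIsKernel i (c.next i) rfl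
  let h2 := KernelFork.mapIsLimit _ (K.cyclesIsKernel i (c.next i) rfl) Ψ
  exact inferInstanceAs (IsIso (IsLimit.conePointUniqueUpToIso h1 h2).hom)

theorem isIso_homologyComparison (j : ι') (hj : c.prev i = j)
    (h1 : IsZero ((Ψ.rightDerived 1).obj (kernel (K.toCycles j i))))
    (h2 : IsZero ((Ψ.rightDerived 1).obj (kernel (K.homologyπ i)))) :
    IsIso (RDer.homologyComparison Ψ K i) := by
  subst hj
  have hexS : (ShortComplex.mk (K.toCycles (c.prev i) i) (K.homologyπ i)
      (K.toCycles_comp_homologyπ _ _)).Exact :=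
    ShortComplex.exact_of_g_is_cokernel _ (K.homologyIsCokernel (c.prev i) i rfl)
  obtain ⟨hex, hepi⟩ := map_exact_epi Ψ _ _ _ hexS h1 h2
  haveI : Epi ((ShortComplex.mk (K.toCycles (c.prev i) i) (K.homologyπ i)
      (K.toCycles_comp_homologyπ _ _)).map Ψ).g := hepi
  let hcok2 := hex.gIsCokernel
  haveI := isIso_cyclesComparison Ψ K i
  have e2 : ((Ψ.mapHomologicalComplex c).obj K).toCycles (c.prev i) i =
      Ψ.map (K.toCycles (c.prev i) i) ≫ inv (RDer.cyclesComparison Ψ K i) :=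
    (IsIso.eq_comp_inv (RDer.cyclesComparison Ψ K i)).2 (RDer.toCycles_cyclesComparison Ψ K i)
  have hz : Ψ.map (K.toCycles (c.prev i) i) ≫ inv (RDer.cyclesComparison Ψ K i) ≫
      ((Ψ.mapHomologicalComplex c).obj K).homologyπ i = 0 :=
    ((assoc _ _ _).symm.trans
      (congrArg (fun z => z ≫ ((Ψ.mapHomologicalComplex c).obj K).homologyπ i) e2).symm).trans
      (((Ψ.mapHomologicalComplex c).obj K).toCycles_comp_homologyπ (c.prev i) i)
  let invmap : Ψ.obj (K.homology i) ⟶ ((Ψ.mapHomologicalComplex c).obj K).homology i :=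
    hcok2.desc (CokernelCofork.ofπ _ hz)
  have hinv : Ψ.map (K.homologyπ i) ≫ invmap = inv (RDer.cyclesComparison Ψ K i) ≫
      ((Ψ.mapHomologicalComplex c).obj K).homologyπ i := hcok2.fac _ WalkingParallelPair.one
  refine ⟨invmap, ?_, ?_⟩
  · rw [← cancel_epi (((Ψ.mapHomologicalComplex c).obj K).homologyπ i),
      RDer.homologyπ_homologyComparison_assoc, hinv, IsIso.hom_inv_id_assoc, comp_id]
  · rw [← cancel_epi (Ψ.map (K.homologyπ i)), ← assoc, hinv, assoc,
      RDer.homologyπ_homologyComparison, IsIso.inv_hom_id_assoc, comp_id]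

omit [HasInjectiveResolutions B] in
/-- the kernel of `K^j ⟶ Z^i` is `Z^j` -/
noncomputable def kernelToCyclesIso (j : ι') (hij : c.Rel j i) :
    kernel (K.toCycles j i) ≅ K.cycles j where
  hom := K.liftCycles (kernel.ι (K.toCycles j i)) i (c.next_eq' hij) (by
    rw [← K.toCycles_i j i, ← assoc, kernel.condition, zero_comp])
  inv := kernel.lift _ (K.iCycles j) (by
    rw [← cancel_mono (K.iCycles i), assoc, K.toCycles_i, K.iCycles_d, zero_comp])
  hom_inv_id := by
    rw [← cancel_mono (kernel.ι (K.toCycles j i)), assoc, kernel.lift_ι, K.liftCycles_i, id_comp]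
  inv_hom_id := by
    rw [← cancel_mono (K.iCycles j), assoc, K.liftCycles_i, kernel.lift_ι, id_comp]

end Complex

section Nat

variable {B : Type u₂} [Category.{v₂} B] [Abelian B] [HasInjectiveResolutions B]
  {C : Type u₃} [Category.{v₃} C] [Abelian C]
  (Ψ : B ⥤ C) [Ψ.Additive] [PreservesFiniteLimits Ψ] (K : CochainComplex B ℕ)

/-- the boundaries `B^i = ker (Z^i ⟶ H^i)` -/
noncomputable abbrev bd (i : ℕ) : B := kernel (K.homologyπ i)

/-- the epimorphism `K^i ⟶ B^{i+1}` -/
noncomputable abbrev toBd (i : ℕ) : K.X i ⟶ bd K (i + 1) :=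
  kernel.lift (K.homologyπ (i + 1)) (K.toCycles i (i + 1)) (K.toCycles_comp_homologyπ i (i + 1))

omit [HasInjectiveResolutions B] in
lemma epi_toBd (i : ℕ) : Epi (toBd K i) := by
  have hexS : (ShortComplex.mk (K.toCycles i (i + 1)) (K.homologyπ (i + 1))
      (K.toCycles_comp_homologyπ _ _)).Exact :=
    ShortComplex.exact_of_g_is_cokernel _ (K.homologyIsCokernel i (i + 1) (by simp))
  exact (ShortComplex.exact_iff_epi_kernel_lift _).1 hexS

omit [HasInjectiveResolutions B] in
/-- `ker (K^i ⟶ B^{i+1}) ≅ Z^i` -/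
noncomputable def kernelToBdIso (i : ℕ) : kernel (toBd K i) ≅ K.cycles i :=
  (kernelCompMono (toBd K i) (kernel.ι (K.homologyπ (i + 1)))).symm ≪≫
    kernelIsoOfEq (kernel.lift_ι _ _ _) ≪≫ kernelToCyclesIso K (i + 1) i (by simp)

variable {Ψ K}

omit [PreservesFiniteLimits Ψ] in
/-- if the terms and the cohomology of `K` are `Ψ`-acyclic, so are the cycles and the boundaries -/
theorem acyc_cycles (hK : ∀ i, Acyc Ψ (K.X i)) (hH : ∀ i, Acyc Ψ (K.homology i)) :
    ∀ i, Acyc Ψ (K.cycles i) ∧ Acyc Ψ (bd K (i + 1))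
  | 0 => by
    have h0 : Acyc Ψ (K.cycles 0) := (hH 0).of_iso K.isoHomologyπ₀.symm
    refine ⟨h0, ?_⟩
    let S2 : ShortComplex B := ShortComplex.mk (kernel.ι (toBd K 0)) (toBd K 0) (kernel.condition _)
    have hS2 : S2.ShortExact :=
      { exact := ShortComplex.exact_of_f_is_kernel _ (kernelIsKernel _)
        mono_f := by dsimp [S2]; infer_instance
        epi_g := epi_toBd K 0 }
    exact acyc_right hS2 (h0.of_iso (kernelToBdIso K 0).symm) (hK 0)
  | i + 1 => by
    obtain ⟨_, hb⟩ := acyc_cycles hK hH i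
    let S1 : ShortComplex B := ShortComplex.mk (kernel.ι (K.homologyπ (i + 1))) (K.homologyπ (i + 1))
      (kernel.condition _)
    have hS1 : S1.ShortExact :=
      { exact := ShortComplex.exact_of_f_is_kernel _ (kernelIsKernel _)
        mono_f := by dsimp [S1]; infer_instance
        epi_g := by dsimp [S1]; infer_instance }
    have hz : Acyc Ψ (K.cycles (i + 1)) := acyc_mid hS1 hb (hH (i + 1))
    refine ⟨hz, ?_⟩
    let S2 : ShortComplex B := ShortComplex.mk (kernel.ι (toBd K (i + 1))) (toBd K (i + 1))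
      (kernel.condition _)
    have hS2 : S2.ShortExact :=
      { exact := ShortComplex.exact_of_f_is_kernel _ (kernelIsKernel _)
        mono_f := by dsimp [S2]; infer_instance
        epi_g := epi_toBd K (i + 1) }
    exact acyc_right hS2 (hz.of_iso (kernelToBdIso K (i + 1)).symm) (hK (i + 1))

/-- the comparison `H^i(Ψ K) ⟶ Ψ(H^i K)` is an isomorphism when terms and cohomology of `K` are
`Ψ`-acyclic -/
theorem isIso_homologyComparison_of_acyc (hK : ∀ i, Acyc Ψ (K.X i))
    (hH : ∀ i, Acyc Ψ (K.homology i)) (i : ℕ) : IsIso (RDer.homologyComparison Ψ K i) := by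
  cases i with
  | zero =>
    refine isIso_homologyComparison Ψ K 0 0 (by simp) ?_ ?_
    · have h0 : K.toCycles 0 0 = 0 := by
        rw [← cancel_mono (K.iCycles 0), K.toCycles_i, zero_comp]
        exact K.shape _ _ (by simp)
      exact (hK 0 0).of_iso ((Ψ.rightDerived 1).mapIso (kernelIsoOfEq h0 ≪≫ kernelZeroIsoSource))
    · haveI : IsIso (K.homologyπ 0) := K.isIso_homologyπ _ 0 rfl (by simp)
      have hz : IsZero (kernel (K.homologyπ 0)) := by
        rw [IsZero.iff_id_eq_zero, ← cancel_mono (kernel.ι (K.homologyπ 0)),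
          ← cancel_mono (K.homologyπ 0)]
        simp
      exact Functor.map_isZero _ hz
  | succ i =>
    obtain ⟨hz, hb⟩ := acyc_cycles hK hH i
    refine isIso_homologyComparison Ψ K (i + 1) i (by simp) ?_ ?_
    · exact (hz 0).of_iso ((Ψ.rightDerived 1).mapIso (kernelToCyclesIso K (i + 1) i (by simp)))
    · exact hb 0

end Nat

section Edge

variable {A : Type u₁} [Category.{v₁} A] [Abelian A] [HasInjectiveResolutions A]
  {B : Type u₂} [Category.{v₂} B] [Abelian B] [HasInjectiveResolutions B]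
  {C : Type u₃} [Category.{v₃} C] [Abelian C]

/-- **The second edge map is an isomorphism** when `Φ` sends injectives to `Ψ`-acyclic objects and
the `R^i Φ X` are `Ψ`-acyclic. -/
theorem isIso_edgeOut (Φ : A ⥤ B) [Φ.Additive] (Ψ : B ⥤ C) [Ψ.Additive] [PreservesFiniteLimits Ψ]
    (X : A) (h1 : ∀ I : A, Injective I → Acyc Ψ (Φ.obj I))
    (h2 : ∀ i : ℕ, Acyc Ψ ((Φ.rightDerived i).obj X)) (q : ℕ) :
    IsIso (RDer.edgeOut Φ Ψ q X) := by
  let K := (Φ.mapHomologicalComplex (ComplexShape.up ℕ)).obj (injectiveResolution X).cocomplex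
  have hK : ∀ i, Acyc Ψ (K.X i) := fun i => h1 _ ((injectiveResolution X).injective i)
  have hH : ∀ i, Acyc Ψ (K.homology i) := fun i =>
    (h2 i).of_iso ((injectiveResolution X).isoRightDerivedObj Φ i)
  have h : IsIso (RDer.homologyComparison Ψ
      ((Φ.mapHomologicalComplex (ComplexShape.up ℕ)).obj (injectiveResolution X).cocomplex) q) :=
    isIso_homologyComparison_of_acyc hK hH q
  unfold RDer.edgeOut
  exact IsIso.comp_isIso' inferInstance (IsIso.comp_isIso' h inferInstance)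

end Edge

end Groth.Agent.Lib.Helper68.EdgeOutIso
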