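import Groth.Agent.Lib.Helper42.Flat2
import Groth.Prelude.Def_ModSite2
import Groth.Prelude.Def_CohCx
import Mathlib.CategoryTheory.Adjunction.Additive

/-! `Hom(ℤ[L], Hom_O(F, G)) ≅ Hom_O(O[L] ⊗ F, G)`, naturally in the presheaf of sets `L`. -/

set_option autoImplicit false
universe u

open CategoryTheory Category Limits Opposite ModSite
open Groth.Agent.Lib.Helper42.TensorSheaf Groth.Agent.Lib.Helper42.TensorColim
open Groth.Agent.Lib.Helper42.Flat2

namespace Groth.Agent.Lib.Helper68.HomFree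

variable {C : Type u} [SmallCategory C] {J : GrothendieckTopology C} (O : Sheaf J CommRingCat.{u})

/-- the free abelian sheaf on a presheaf of sets -/
noncomputable abbrev LZ : (Cᵒᵖ ⥤ Type u) ⥤ Sheaf J AddCommGrpCat.{u} :=
  (Functor.whiskeringRight _ _ _).obj AddCommGrpCat.free.{u} ⋙ presheafToSheaf J AddCommGrpCat.{u}

/-- the underlying presheaf of sets of an abelian sheaf -/
noncomputable abbrev RZ : Sheaf J AddCommGrpCat.{u} ⥤ (Cᵒᵖ ⥤ Type u) :=
  sheafToPresheaf J AddCommGrpCat.{u} ⋙ (Functor.whiskeringRight _ _ _).obj (forget AddCommGrpCat.{u})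

noncomputable def adjZ : LZ (J := J) ⊣ RZ (J := J) :=
  (AddCommGrpCat.adj.{u}.whiskerRight Cᵒᵖ).comp (sheafificationAdjunction J AddCommGrpCat.{u})

variable (F : Mod O)

/-- `L ↦ O[L] ⊗_O F` -/
noncomputable def Lft : (Cᵒᵖ ⥤ Type u) ⥤ Mod O :=
  PresheafOfModules.free _ ⋙ shf O ⋙ tensR O F

variable [HasSheafHom F]

/-- the underlying presheaf of sets of `Hom_O(F, -)` -/
noncomputable def Rgt : Mod O ⥤ (Cᵒᵖ ⥤ Type u) :=
  (sheafHom F ⋙ fgt O) ⋙ (PresheafOfModules.toPresheaf _ ⋙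
    (Functor.whiskeringRight _ _ _).obj (forget AddCommGrpCat.{u}))

noncomputable def adjO : Lft O F ⊣ Rgt O F :=
  (PresheafOfModules.freeAdjunction _).comp ((adjS O).comp (sheafHomAdj F))

variable (G : Mod O)

/-- first half of the bijection -/
noncomputable def toMid (L : Cᵒᵖ ⥤ Type u) :
    (LZ.obj L ⟶ toAb ((sheafHom F).obj G)) ≃ (L ⟶ (Rgt O F).obj G) :=
  (adjZ (J := J)).homEquiv L (toAb ((sheafHom F).obj G))

lemma toMid_naturality {L L' : Cᵒᵖ ⥤ Type u} (g : L' ⟶ L)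
    (φ : LZ.obj L ⟶ toAb ((sheafHom F).obj G)) :
    toMid O F G L' (LZ.map g ≫ φ) = g ≫ toMid O F G L φ :=
  Adjunction.homEquiv_naturality_left _ _ _

/-- the bijection on morphisms -/
noncomputable def e (L : Cᵒᵖ ⥤ Type u) :
    (LZ.obj L ⟶ toAb ((sheafHom F).obj G)) ≃ ((Lft O F).obj L ⟶ G) :=
  (toMid O F G L).trans ((adjO O F).homEquiv L G).symm

lemma e_naturality {L L' : Cᵒᵖ ⥤ Type u} (g : L' ⟶ L)
    (φ : LZ.obj L ⟶ toAb ((sheafHom F).obj G)) :
    e O F G L' (LZ.map g ≫ φ) = (Lft O F).map g ≫ e O F G L φ := by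
  simp only [e, Equiv.trans_apply]
  rw [toMid_naturality, Adjunction.homEquiv_naturality_left_symm]

lemma toMid_naturality_right {G G' : Mod O} (f : G ⟶ G') (L : Cᵒᵖ ⥤ Type u)
    (φ : LZ.obj L ⟶ toAb ((sheafHom F).obj G)) :
    toMid O F G' L (φ ≫ (SheafOfModules.toSheaf (ringSh O)).map ((sheafHom F).map f)) =
      toMid O F G L φ ≫ (Rgt O F).map f :=
  Adjunction.homEquiv_naturality_right _ _ _

lemma e_naturality_right {G G' : Mod O} (f : G ⟶ G') (L : Cᵒᵖ ⥤ Type u)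
    (φ : LZ.obj L ⟶ toAb ((sheafHom F).obj G)) :
    e O F G' L (φ ≫ (SheafOfModules.toSheaf (ringSh O)).map ((sheafHom F).map f)) =
      e O F G L φ ≫ f := by
  simp only [e, Equiv.trans_apply]
  rw [toMid_naturality_right, Adjunction.homEquiv_naturality_right_symm]

/-- elements of the presheaf of sets, as elements of the module of sections -/
def el {U : Cᵒᵖ} (t : ((Rgt O F).obj G).obj U) : ((sheafHom F).obj G).val.obj U := t

omit [HasSheafHom F] in
lemma whiskerAdj_homEquiv_app (L : Cᵒᵖ ⥤ Type u) (P : Cᵒᵖ ⥤ AddCommGrpCat.{u})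
    (ψ : ((Functor.whiskeringRight _ _ _).obj AddCommGrpCat.free.{u}).obj L ⟶ P)
    (U : Cᵒᵖ) (x : L.obj U) :
    ((AddCommGrpCat.adj.{u}.whiskerRight Cᵒᵖ).homEquiv L P ψ).app U x =
      (ψ.app U).hom (FreeAbelianGroup.of x) := by
  rw [Adjunction.homEquiv_unit]
  rfl

lemma toMid_eq (L : Cᵒᵖ ⥤ Type u) (φ : LZ.obj L ⟶ toAb ((sheafHom F).obj G)) :
    toMid O F G L φ = (AddCommGrpCat.adj.{u}.whiskerRight Cᵒᵖ).homEquiv L _
      ((sheafificationAdjunction J AddCommGrpCat.{u}).homEquiv _ (toAb ((sheafHom F).obj G)) φ) := by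
  rfl

lemma toMid_add (L : Cᵒᵖ ⥤ Type u)
    (φ φ' : LZ.obj L ⟶ toAb ((sheafHom F).obj G)) (U : Cᵒᵖ) (x : L.obj U) :
    el O F G ((toMid O F G L (φ + φ')).app U x) =
      el O F G ((toMid O F G L φ).app U x) + el O F G ((toMid O F G L φ').app U x) := by
  rw [toMid_eq, toMid_eq, toMid_eq, Adjunction.homAddEquiv_add]
  erw [whiskerAdj_homEquiv_app, whiskerAdj_homEquiv_app, whiskerAdj_homEquiv_app]
  rfl

instance : (fgt O).Additive := inferInstanceAs (SheafOfModules.forget (ringSh O)).Additive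

instance : (shf O).Additive := (adjS O).left_adjoint_additive

instance : ((tensorBi O).flip.obj F).Additive := inferInstanceAs (tensR O F).Additive

omit [HasSheafHom F] in
lemma freeAdj_homEquiv_app (L : Cᵒᵖ ⥤ Type u) (M : PMod O)
    (χ : (PresheafOfModules.free _).obj L ⟶ M) (U : Cᵒᵖ) (x : L.obj U) :
    ((PresheafOfModules.freeAdjunction _).homEquiv L M χ).app U x =
      (χ.app U).hom (ModuleCat.freeMk x) := by
  rw [PresheafOfModules.freeAdjunction_homEquiv]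
  rfl

lemma adjO_eq (L : Cᵒᵖ ⥤ Type u) (ψ : (Lft O F).obj L ⟶ G) :
    (adjO O F).homEquiv L G ψ = (PresheafOfModules.freeAdjunction _).homEquiv L _
      ((adjS O).homEquiv _ _ ((sheafHomAdj F).homEquiv _ _ ψ)) := by
  rfl

lemma adjO_homEquiv_add (L : Cᵒᵖ ⥤ Type u)
    (ψ ψ' : (Lft O F).obj L ⟶ G) (U : Cᵒᵖ) (x : L.obj U) :
    el O F G (((adjO O F).homEquiv L G (ψ + ψ')).app U x) =
      el O F G (((adjO O F).homEquiv L G ψ).app U x) +
      el O F G (((adjO O F).homEquiv L G ψ').app U x) := by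
  rw [adjO_eq, adjO_eq, adjO_eq]
  erw [Adjunction.homAddEquiv_add (sheafHomAdj F)]
  erw [Adjunction.homAddEquiv_add (adjS O)]
  erw [freeAdj_homEquiv_app, freeAdj_homEquiv_app, freeAdj_homEquiv_app]
  rfl

lemma adjO_e (L : Cᵒᵖ ⥤ Type u) (φ : LZ.obj L ⟶ toAb ((sheafHom F).obj G)) :
    (adjO O F).homEquiv L G (e O F G L φ) = toMid O F G L φ :=
  Equiv.apply_symm_apply _ _

lemma e_add (L : Cᵒᵖ ⥤ Type u) (φ φ' : LZ.obj L ⟶ toAb ((sheafHom F).obj G)) :
    e O F G L (φ + φ') = e O F G L φ + e O F G L φ' := by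
  apply ((adjO O F).homEquiv L G).injective
  rw [adjO_e]
  ext U x
  have h1 := toMid_add O F G L φ φ' U x
  have h2 := adjO_homEquiv_add O F G L (e O F G L φ) (e O F G L φ') U x
  rw [adjO_e, adjO_e] at h2
  exact h1.trans h2.symm

/-- the additive bijection on morphisms -/
noncomputable def eAdd (L : Cᵒᵖ ⥤ Type u) :
    (LZ.obj L ⟶ toAb ((sheafHom F).obj G)) ≃+ ((Lft O F).obj L ⟶ G) :=
  { e O F G L with map_add' := e_add O F G L }

/-- `Hom(ℤ[L], Hom_O(F, G)) ≅ Hom_O(O[L] ⊗ F, G)`, naturally in the presheaf of sets `L` -/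
noncomputable def homIso :
    (LZ (J := J)).op ⋙ preadditiveYoneda.obj (toAb ((sheafHom F).obj G)) ≅
      (Lft O F).op ⋙ preadditiveYoneda.obj G :=
  NatIso.ofComponents (fun L => (eAdd O F G L.unop).toAddCommGrpIso) (by
    intro L L' g
    ext φ
    exact e_naturality O F G g.unop φ)

end Groth.Agent.Lib.Helper68.HomFree
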