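import Groth.Agent.Lib.Helper42.Flat2
import Groth.Agent.Lib.Helper28.CechQ
import Groth.Agent.Lib.Helper28.CechN
import Groth.Agent.Lib.Helper68.HomFree
import Mathlib.Algebra.Category.ModuleCat.Presheaf.Abelian
import Mathlib.Algebra.Homology.QuasiIso

/-! Exactness in positive degrees of `O[K'^•] ⊗ F` for the Čech nerve of a morphism of
presheaves of sets. -/

set_option autoImplicit false
universe u v₁ v₂ v₃ u₁ u₂ u₃

open CategoryTheory Category Limits Opposite ModSite Simplicial SimplicialObject AlgebraicTopology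
  MonoidalCategory
open Groth.Agent.Lib.Helper42.TensorSheaf Groth.Agent.Lib.Helper42.TensorColim
open Groth.Agent.Lib.Helper28

namespace Groth.Agent.Lib.Helper68.FreeTensorRes

section Generic

variable {𝒞 : Type u₁} {𝒟 : Type u₂} {ℰ : Type u₃} [Category.{v₁} 𝒞] [Category.{v₂} 𝒟]
  [Category.{v₃} ℰ]

lemma comp_aux (F : 𝒞 ⥤ 𝒟) (G : 𝒟 ⥤ ℰ) {x y : 𝒞} (c : x ⟶ y) :
    𝟙 (G.obj (F.obj x)) ≫ G.map (F.map c ≫ 𝟙 _) ≫ 𝟙 _ = (G.map (F.map c) ≫ 𝟙 _) ≫ 𝟙 _ := by
  simp

/-- whiskering an augmented simplicial object with a composite functor -/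
def whiskerCompIso (F : 𝒞 ⥤ 𝒟) (G : 𝒟 ⥤ ℰ) (B : SimplicialObject.Augmented 𝒞) :
    ((SimplicialObject.Augmented.whiskering 𝒞 ℰ).obj (F ⋙ G)).obj B ≅
      ((SimplicialObject.Augmented.whiskering 𝒟 ℰ).obj G).obj
        (((SimplicialObject.Augmented.whiskering 𝒞 𝒟).obj F).obj B) :=
  Comma.isoMk (Iso.refl _) (Iso.refl _) (by
    refine NatTrans.ext (funext fun n => ?_)
    exact comp_aux F G (B.hom.app n))

end Generic

variable {C : Type u} [SmallCategory C] {J : GrothendieckTopology C} (O : Sheaf J CommRingCat.{u})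
  (M : PMod O)

/-- `L ↦ O[L] ⊗ M` on presheaves -/
noncomputable def Θ : (Cᵒᵖ ⥤ Type u) ⥤ PMod O :=
  PresheafOfModules.free _ ⋙ tensorRight M

/-- sectionwise version of `Θ`, with values in abelian groups -/
noncomputable def Ψ (V : Cᵒᵖ) : Type u ⥤ AddCommGrpCat.{u} :=
  ModuleCat.free (O.obj.obj V) ⋙ tensorRight (M.obj V) ⋙
    forget₂ (ModuleCat.{u} (O.obj.obj V)) AddCommGrpCat.{u}

noncomputable def ΘΨIso (V : Cᵒᵖ) :
    Θ O M ⋙ PresheafOfModules.toPresheaf _ ⋙ (evaluation Cᵒᵖ AddCommGrpCat.{u}).obj V ≅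
      (evaluation Cᵒᵖ (Type u)).obj V ⋙ Ψ O M V :=
  NatIso.ofComponents (fun L => Iso.refl _) (by
    intro L L' g
    simp only [Iso.refl_hom, Category.comp_id, Category.id_comp]
    rfl)

theorem quasiIso_ε_Θ {A : SimplicialObject.Augmented (Cᵒᵖ ⥤ Type u)}
    (hA : CechQ.SectionwiseCechLike A) :
    QuasiIso (AlternatingFaceMapComplex.ε.app
      (((SimplicialObject.Augmented.whiskering _ _).obj (Θ O M)).obj (CechQ.rangeAug A))) := by
  rw [← HomologicalComplex.quasiIso_map_iff_of_preservesHomology _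
    (PresheafOfModules.toPresheaf (O.obj ⋙ forget₂ CommRingCat.{u} RingCat.{u}))]
  rw [CechH.quasiIso_ε_whisker_iff]
  rw [HomologicalComplex.quasiIso_iff_evaluation]
  intro V
  rw [CechH.quasiIso_ε_whisker_iff]
  let B := CechQ.rangeAug A
  let e1 := (whiskerCompIso (PresheafOfModules.toPresheaf
      (O.obj ⋙ forget₂ CommRingCat.{u} RingCat.{u}))
    ((evaluation Cᵒᵖ AddCommGrpCat.{u}).obj V)
    (((SimplicialObject.Augmented.whiskering _ _).obj (Θ O M)).obj B)).symm ≪≫
    (whiskerCompIso (Θ O M) (PresheafOfModules.toPresheaf _ ⋙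
      (evaluation Cᵒᵖ AddCommGrpCat.{u}).obj V) B).symm
  let e2 := ((SimplicialObject.Augmented.whiskering _ _).mapIso (ΘΨIso O M V)).app B
  let e3 := whiskerCompIso ((evaluation Cᵒᵖ (Type u)).obj V) (Ψ O M V) B
  rw [CechH.quasiIso_ε_iff_of_iso (e1 ≪≫ e2 ≪≫ e3)]
  exact ((CechQ.extraDegeneracy hA V).map (Ψ O M V)).homotopyEquiv.quasiIso_hom

open Groth.Agent.Lib.Helper68.HomFree in
/-- the complex `O[A_•] ⊗ F` is exact in positive degrees -/
theorem exactAt_succ (F : Mod O) {A : SimplicialObject.Augmented (Cᵒᵖ ⥤ Type u)}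
    (hA : CechQ.SectionwiseCechLike A) (n : ℕ) :
    ((alternatingFaceMapComplex (Mod O)).obj
      (((SimplicialObject.whiskering _ _).obj (Lft O F)).obj A.left)).ExactAt (n + 1) := by
  let W := ((SimplicialObject.Augmented.whiskering _ _).obj (Θ O ((fgt O).obj F))).obj
    (CechQ.rangeAug A)
  have hQ : QuasiIso (AlternatingFaceMapComplex.ε.app W) := quasiIso_ε_Θ O ((fgt O).obj F) hA
  have h3 : PreservesFiniteLimits (shf O) :=
    inferInstanceAs (PreservesFiniteLimits
      (PresheafOfModules.sheafification (𝟙 (ringSh O).obj)))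
  have h4 : PreservesFiniteColimits (shf O) := by
    have : PreservesColimitsOfSize.{u, u} (shf O) := (adjS O).leftAdjoint_preservesColimits
    infer_instance
  have hQ' : QuasiIso (((shf O).mapHomologicalComplex _).map (AlternatingFaceMapComplex.ε.app W)) :=
    inferInstance
  rw [CechH.quasiIso_ε_whisker_iff] at hQ'
  have hex := CechH.exactAt_succ_of_quasiIso
    (((SimplicialObject.Augmented.whiskering _ _).obj (shf O)).obj W) n
  let eS : (((SimplicialObject.Augmented.whiskering _ _).obj (shf O)).obj W).left ≅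
      ((SimplicialObject.whiskering _ _).obj (Lft O F)).obj A.left :=
    Functor.isoWhiskerLeft A.left
      (Functor.isoWhiskerLeft (PresheafOfModules.free _) (shfTensRIso O F))
  exact hex.of_iso ((alternatingFaceMapComplex (Mod O)).mapIso eS)

end Groth.Agent.Lib.Helper68.FreeTensorRes
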