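import Groth.Agent.Lib.Helper68.HomInjCx
import Groth.Agent.Lib.Helper68.FreeTensorRes
import Groth.Agent.S6161
import Groth.Agent.S12106

/-! Free modules over a sheaf of (not necessarily commutative) rings on presheaves of sets;
injective sheaves of modules are totally acyclic as abelian sheaves. -/

set_option autoImplicit false
universe u

open CategoryTheory Category Limits Opposite Simplicial SimplicialObject AlgebraicTopology
open Groth.Agent.Lib.Helper28

namespace Groth.Agent.Lib.Helper68.FreeModR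

open Groth.Agent.Lib.Helper68.HomFree (LZ RZ adjZ whiskerAdj_homEquiv_app)
open Groth.Agent.Lib.Helper68.FreeTensorRes (whiskerCompIso)

variable {C : Type u} [SmallCategory C] {J : GrothendieckTopology C} (R : Sheaf J RingCat.{u})

/-- sheafification of presheaves of modules -/
noncomputable def shfR : PresheafOfModules.{u} R.obj ⥤ SheafOfModules.{u} R :=
  PresheafOfModules.sheafification (𝟙 R.obj)

noncomputable def adjR : shfR R ⊣ SheafOfModules.forget R :=
  PresheafOfModules.sheafificationAdjunction (𝟙 R.obj)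

instance : (shfR R).Additive := (adjR R).left_adjoint_additive

/-- the free sheaf of modules on a presheaf of sets -/
noncomputable def OL : (Cᵒᵖ ⥤ Type u) ⥤ SheafOfModules.{u} R :=
  PresheafOfModules.free R.obj ⋙ shfR R

/-- the underlying presheaf of sets of a sheaf of modules -/
noncomputable def UL : SheafOfModules.{u} R ⥤ (Cᵒᵖ ⥤ Type u) :=
  SheafOfModules.forget R ⋙ (PresheafOfModules.toPresheaf R.obj ⋙
    (Functor.whiskeringRight _ _ _).obj (forget AddCommGrpCat.{u}))

noncomputable def adjOL : OL R ⊣ UL R :=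
  (PresheafOfModules.freeAdjunction R.obj).comp (adjR R)

variable (X : SheafOfModules.{u} R)

/-- first half of the bijection -/
noncomputable def toMid (L : Cᵒᵖ ⥤ Type u) :
    (LZ.obj L ⟶ (SheafOfModules.toSheaf R).obj X) ≃ (L ⟶ (UL R).obj X) :=
  (adjZ (J := J)).homEquiv L ((SheafOfModules.toSheaf R).obj X)

lemma toMid_naturality {L L' : Cᵒᵖ ⥤ Type u} (g : L' ⟶ L)
    (φ : LZ.obj L ⟶ (SheafOfModules.toSheaf R).obj X) :
    toMid R X L' (LZ.map g ≫ φ) = g ≫ toMid R X L φ :=
  Adjunction.homEquiv_naturality_left _ _ _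

lemma toMid_naturality_right {X X' : SheafOfModules.{u} R} (f : X ⟶ X') (L : Cᵒᵖ ⥤ Type u)
    (φ : LZ.obj L ⟶ (SheafOfModules.toSheaf R).obj X) :
    toMid R X' L (φ ≫ (SheafOfModules.toSheaf R).map f) = toMid R X L φ ≫ (UL R).map f :=
  Adjunction.homEquiv_naturality_right _ _ _

/-- the bijection on morphisms -/
noncomputable def e (L : Cᵒᵖ ⥤ Type u) :
    (LZ.obj L ⟶ (SheafOfModules.toSheaf R).obj X) ≃ ((OL R).obj L ⟶ X) :=
  (toMid R X L).trans ((adjOL R).homEquiv L X).symm

lemma e_naturality {L L' : Cᵒᵖ ⥤ Type u} (g : L' ⟶ L)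
    (φ : LZ.obj L ⟶ (SheafOfModules.toSheaf R).obj X) :
    e R X L' (LZ.map g ≫ φ) = (OL R).map g ≫ e R X L φ := by
  simp only [e, Equiv.trans_apply]
  rw [toMid_naturality, Adjunction.homEquiv_naturality_left_symm]

lemma e_naturality_right {X X' : SheafOfModules.{u} R} (f : X ⟶ X') (L : Cᵒᵖ ⥤ Type u)
    (φ : LZ.obj L ⟶ (SheafOfModules.toSheaf R).obj X) :
    e R X' L (φ ≫ (SheafOfModules.toSheaf R).map f) = e R X L φ ≫ f := by
  simp only [e, Equiv.trans_apply]
  rw [toMid_naturality_right, Adjunction.homEquiv_naturality_right_symm]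

/-- elements of the presheaf of sets, as elements of the module of sections -/
def el {U : Cᵒᵖ} (t : ((UL R).obj X).obj U) : X.val.obj U := t

lemma toMid_eq (L : Cᵒᵖ ⥤ Type u) (φ : LZ.obj L ⟶ (SheafOfModules.toSheaf R).obj X) :
    toMid R X L φ = (AddCommGrpCat.adj.{u}.whiskerRight Cᵒᵖ).homEquiv L _
      ((sheafificationAdjunction J AddCommGrpCat.{u}).homEquiv _
        ((SheafOfModules.toSheaf R).obj X) φ) := by
  rfl

lemma toMid_add (L : Cᵒᵖ ⥤ Type u)
    (φ φ' : LZ.obj L ⟶ (SheafOfModules.toSheaf R).obj X) (U : Cᵒᵖ) (x : L.obj U) :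
    el R X ((toMid R X L (φ + φ')).app U x) =
      el R X ((toMid R X L φ).app U x) + el R X ((toMid R X L φ').app U x) := by
  rw [toMid_eq, toMid_eq, toMid_eq, Adjunction.homAddEquiv_add]
  erw [whiskerAdj_homEquiv_app, whiskerAdj_homEquiv_app, whiskerAdj_homEquiv_app]
  rfl

lemma freeAdj_homEquiv_app (L : Cᵒᵖ ⥤ Type u) (M : PresheafOfModules.{u} R.obj)
    (χ : (PresheafOfModules.free R.obj).obj L ⟶ M) (U : Cᵒᵖ) (x : L.obj U) :
    ((PresheafOfModules.freeAdjunction R.obj).homEquiv L M χ).app U x =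
      (χ.app U).hom (ModuleCat.freeMk x) := by
  rw [PresheafOfModules.freeAdjunction_homEquiv]
  rfl

lemma adjOL_eq (L : Cᵒᵖ ⥤ Type u) (ψ : (OL R).obj L ⟶ X) :
    (adjOL R).homEquiv L X ψ = (PresheafOfModules.freeAdjunction R.obj).homEquiv L _
      ((adjR R).homEquiv _ _ ψ) := by
  rfl

lemma adjOL_homEquiv_add (L : Cᵒᵖ ⥤ Type u)
    (ψ ψ' : (OL R).obj L ⟶ X) (U : Cᵒᵖ) (x : L.obj U) :
    el R X (((adjOL R).homEquiv L X (ψ + ψ')).app U x) =
      el R X (((adjOL R).homEquiv L X ψ).app U x) +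
      el R X (((adjOL R).homEquiv L X ψ').app U x) := by
  rw [adjOL_eq, adjOL_eq, adjOL_eq]
  erw [Adjunction.homAddEquiv_add (adjR R)]
  erw [freeAdj_homEquiv_app, freeAdj_homEquiv_app, freeAdj_homEquiv_app]
  rfl

lemma adjOL_e (L : Cᵒᵖ ⥤ Type u) (φ : LZ.obj L ⟶ (SheafOfModules.toSheaf R).obj X) :
    (adjOL R).homEquiv L X (e R X L φ) = toMid R X L φ :=
  Equiv.apply_symm_apply _ _

lemma e_add (L : Cᵒᵖ ⥤ Type u) (φ φ' : LZ.obj L ⟶ (SheafOfModules.toSheaf R).obj X) :
    e R X L (φ + φ') = e R X L φ + e R X L φ' := by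
  apply ((adjOL R).homEquiv L X).injective
  rw [adjOL_e]
  ext U x
  have h1 := toMid_add R X L φ φ' U x
  have h2 := adjOL_homEquiv_add R X L (e R X L φ) (e R X L φ') U x
  rw [adjOL_e, adjOL_e] at h2
  exact h1.trans h2.symm

/-- the additive bijection on morphisms -/
noncomputable def eAdd (L : Cᵒᵖ ⥤ Type u) :
    (LZ.obj L ⟶ (SheafOfModules.toSheaf R).obj X) ≃+ ((OL R).obj L ⟶ X) :=
  { e R X L with map_add' := e_add R X L }

/-- `Hom(ℤ[L], X) ≅ Hom_R(R[L], X)`, naturally in the presheaf of sets `L` -/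
noncomputable def homIso :
    (LZ (J := J)).op ⋙ preadditiveYoneda.obj ((SheafOfModules.toSheaf R).obj X) ≅
      (OL R).op ⋙ preadditiveYoneda.obj X :=
  NatIso.ofComponents (fun L => (eAdd R X L.unop).toAddCommGrpIso) (by
    intro L L' g
    ext φ
    exact e_naturality R X g.unop φ)

section Exact

/-- sectionwise version of the free module functor, with values in abelian groups -/
noncomputable def Ψ (V : Cᵒᵖ) : Type u ⥤ AddCommGrpCat.{u} :=
  ModuleCat.free (R.obj.obj V) ⋙ forget₂ (ModuleCat.{u} (R.obj.obj V)) AddCommGrpCat.{u}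

noncomputable def freeΨIso (V : Cᵒᵖ) :
    PresheafOfModules.free R.obj ⋙ PresheafOfModules.toPresheaf _ ⋙
        (evaluation Cᵒᵖ AddCommGrpCat.{u}).obj V ≅
      (evaluation Cᵒᵖ (Type u)).obj V ⋙ Ψ R V :=
  NatIso.ofComponents (fun L => Iso.refl _) (by
    intro L L' g
    simp only [Iso.refl_hom, Category.comp_id, Category.id_comp]
    rfl)

theorem quasiIso_ε_free {A : SimplicialObject.Augmented (Cᵒᵖ ⥤ Type u)}
    (hA : CechQ.SectionwiseCechLike A) :
    QuasiIso (AlternatingFaceMapComplex.ε.app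
      (((SimplicialObject.Augmented.whiskering _ _).obj (PresheafOfModules.free R.obj)).obj
        (CechQ.rangeAug A))) := by
  rw [← HomologicalComplex.quasiIso_map_iff_of_preservesHomology _
    (PresheafOfModules.toPresheaf R.obj)]
  rw [CechH.quasiIso_ε_whisker_iff]
  rw [HomologicalComplex.quasiIso_iff_evaluation]
  intro V
  rw [CechH.quasiIso_ε_whisker_iff]
  let B := CechQ.rangeAug A
  let e1 := (whiskerCompIso (PresheafOfModules.toPresheaf R.obj)
    ((evaluation Cᵒᵖ AddCommGrpCat.{u}).obj V)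
    (((SimplicialObject.Augmented.whiskering _ _).obj (PresheafOfModules.free R.obj)).obj B)).symm ≪≫
    (whiskerCompIso (PresheafOfModules.free R.obj) (PresheafOfModules.toPresheaf _ ⋙
      (evaluation Cᵒᵖ AddCommGrpCat.{u}).obj V) B).symm
  let e2 := ((SimplicialObject.Augmented.whiskering _ _).mapIso (freeΨIso R V)).app B
  let e3 := whiskerCompIso ((evaluation Cᵒᵖ (Type u)).obj V) (Ψ R V) B
  rw [CechH.quasiIso_ε_iff_of_iso (e1 ≪≫ e2 ≪≫ e3)]
  exact ((CechQ.extraDegeneracy hA V).map (Ψ R V)).homotopyEquiv.quasiIso_hom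

/-- the complex `R[A_•]` is exact in positive degrees -/
theorem exactAt_succ {A : SimplicialObject.Augmented (Cᵒᵖ ⥤ Type u)}
    (hA : CechQ.SectionwiseCechLike A) (n : ℕ) :
    ((alternatingFaceMapComplex (SheafOfModules.{u} R)).obj
      (((SimplicialObject.whiskering _ _).obj (OL R)).obj A.left)).ExactAt (n + 1) := by
  let W := ((SimplicialObject.Augmented.whiskering _ _).obj (PresheafOfModules.free R.obj)).obj
    (CechQ.rangeAug A)
  have hQ : QuasiIso (AlternatingFaceMapComplex.ε.app W) := quasiIso_ε_free R hA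
  have h3 : PreservesFiniteLimits (shfR R) :=
    inferInstanceAs (PreservesFiniteLimits (PresheafOfModules.sheafification (𝟙 R.obj)))
  have h4 : PreservesFiniteColimits (shfR R) := by
    have : PreservesColimitsOfSize.{u, u} (shfR R) := (adjR R).leftAdjoint_preservesColimits
    infer_instance
  have hQ' : QuasiIso (((shfR R).mapHomologicalComplex _).map (AlternatingFaceMapComplex.ε.app W)) :=
    inferInstance
  rw [CechH.quasiIso_ε_whisker_iff] at hQ'
  exact CechH.exactAt_succ_of_quasiIso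
    (((SimplicialObject.Augmented.whiskering _ _).obj (shfR R)).obj W) n

end Exact

/-- an injective sheaf of modules is totally acyclic (flasque) as an abelian sheaf -/
theorem isTotallyAcyclic_toSheaf_of_injective (X : SheafOfModules.{u} R) [Injective X] :
    CohCx.IsTotallyAcyclic ((SheafOfModules.toSheaf R).obj X) := by
  apply Groth.Agent.S12106.result
  intro K' K f _ q
  rw [← HomologicalComplex.exactAt_iff_isZero_homology]
  let P := (Arrow.mk f).cechNerve
  let Aug := Groth.Agent.S6161.pshAug J f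
  let Y : SimplicialObject (SheafOfModules.{u} R) :=
    ((SimplicialObject.whiskering _ _).obj (OL R)).obj Aug.left
  have hX := exactAt_succ R (Groth.Agent.S6161.sectionwiseCechLike_pshAug J f) q
  have hY := HomInjCx.exactAt_succ Y X q hX
  let eC : (P.rightOp ⋙ CohCx.HK0Functor J ((SheafOfModules.toSheaf R).obj X)) ≅
      HomInjCx.homCosimp Y X :=
    Functor.isoWhiskerLeft (P.rightOp ⋙ (sheafToPresheaf J (Type u)).op) (homIso R X)
  exact hY.of_iso ((alternatingCofaceMapComplex _).mapIso eC.symm)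

end Groth.Agent.Lib.Helper68.FreeModR
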