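import Groth.Agent.Lib.Helper68.LocGlobExt
import Groth.Agent.Lib.Helper68.FreeModR
import Groth.Agent.Lib.Helper53.ModGroth

/-! Ext groups of `O`-modules out of a module `P` versus Ext groups of abelian sheaves out of an
abelian sheaf `P'` with `Hom_O(P, -) ≅ Hom(P', -)`. -/

set_option autoImplicit false
universe u

open CategoryTheory Category Limits Opposite ModSite Abelian

namespace Groth.Agent.Lib.Helper68.ExtFreeHK

open Groth.Agent.Lib.Helper42.DeltaFun Groth.Agent.Lib.Helper42.DeltaExt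
open Groth.Agent.Lib.Helper42.DeltaRDer
open Groth.Agent.Lib.Helper68.InjModAcyclic Groth.Agent.Lib.Helper68.LocGlobExt

variable {C : Type u} [SmallCategory C] {J : GrothendieckTopology C} (O : Sheaf J CommRingCat.{u})

/-- sheaves of modules have enough injectives -/
theorem enoughInjectives : EnoughInjectives (Mod O) :=
  haveI : IsGrothendieckAbelian.{u} (Mod O) :=
    Groth.Agent.Lib.Helper53.ModGroth.isGrothendieckAbelian J (ringSh O)
  inferInstance

/-- the general comparison of Ext groups -/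
theorem nonempty_ext_addEquiv [HasExt.{u} (Mod O)] (P : Mod O) (P' : Sheaf J AddCommGrpCat.{u})
    (e0 : preadditiveCoyoneda.obj (op P) ≅
      SheafOfModules.toSheaf (ringSh O) ⋙ preadditiveCoyoneda.obj (op P'))
    (hP' : ∀ (I : Mod O) [Injective I] (n : ℕ), Subsingleton (Ext.{u} P' (toAb I) (n + 1)))
    (F : Mod O) (p : ℕ) : Nonempty (Ext.{u} P F p ≃+ Ext.{u} P' (toAb F) p) := by
  haveI : EnoughInjectives (Mod O) := enoughInjectives O
  haveI : HasInjectiveResolutions (Mod O) := inferInstance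
  obtain ⟨iso1⟩ := ExtRD.nonempty_iso (preadditiveCoyoneda.obj (op P)) P
    (fun _ => AddEquiv.refl _) (fun _ _ => rfl) F p
  let iso2 := DeltaFunctor.isoOfZero (A := ofRightDerived (preadditiveCoyoneda.obj (op P)))
    (B := (ofExt P').precomp (SheafOfModules.toSheaf (ringSh O)))
    (ofRightDerived_eff _)
    (by
      intro I _ n
      have := hP' I n
      exact AddCommGrpCat.isZero_of_subsingleton (AddCommGrpCat.of (Ext.{u} P' (toAb I) (n + 1))))
    ((preadditiveCoyoneda.obj (op P)).rightDerivedZeroIsoSelf ≪≫ e0 ≪≫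
      Functor.isoWhiskerLeft (SheafOfModules.toSheaf (ringSh O)) (ext0Iso P')) p
  exact ⟨(iso1.symm ≪≫ iso2.app F).addCommGroupIsoToAddEquiv⟩

open Groth.Agent.Lib.Helper68.HomFree (LZ)

/-- `Hom_O(O[L], -) ≅ Hom(ℤ[L], -)` -/
noncomputable def freeHomIso (L : Cᵒᵖ ⥤ Type u) :
    preadditiveCoyoneda.obj (op ((FreeModR.OL (ringSh O)).obj L)) ≅
      SheafOfModules.toSheaf (ringSh O) ⋙ preadditiveCoyoneda.obj (op ((LZ (J := J)).obj L)) :=
  NatIso.ofComponents (fun X => (FreeModR.eAdd (ringSh O) X L).symm.toAddCommGrpIso) (by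
    intro X X' f
    ext g
    apply (FreeModR.eAdd (ringSh O) X' L).injective
    change FreeModR.e (ringSh O) X' L ((FreeModR.eAdd (ringSh O) X' L).symm (g ≫ f)) =
      FreeModR.e (ringSh O) X' L (((FreeModR.eAdd (ringSh O) X L).symm g) ≫
        (SheafOfModules.toSheaf (ringSh O)).map f)
    rw [FreeModR.e_naturality_right]
    have h1 : FreeModR.e (ringSh O) X' L ((FreeModR.eAdd (ringSh O) X' L).symm (g ≫ f)) = g ≫ f :=
      (FreeModR.eAdd (ringSh O) X' L).apply_symm_apply _
    have h2 : FreeModR.e (ringSh O) X L ((FreeModR.eAdd (ringSh O) X L).symm g) = g :=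
      (FreeModR.eAdd (ringSh O) X L).apply_symm_apply _
    rw [h1, h2])

/-- `Ext^p_O(O[K], F) ≃ H^p(K, F_ab)` -/
theorem nonempty_ext_free_addEquiv [HasExt.{u} (Mod O)] (K : Sheaf J (Type u)) (F : Mod O)
    (p : ℕ) :
    Nonempty (Ext.{u} ((ModSite.sheafify O).obj
        ((PresheafOfModules.free (ModSite.ringSh O).obj).obj K.obj)) F p ≃+
      CohCx.HK K (ModSite.toAb F) p) :=
  nonempty_ext_addEquiv O ((FreeModR.OL (ringSh O)).obj K.obj) ((LZ (J := J)).obj K.obj)
    (freeHomIso O K.obj)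
    (fun I _ n => isTotallyAcyclic_toAb_of_injective O I K n) F p

end Groth.Agent.Lib.Helper68.ExtFreeHK
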