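import Groth.Agent.Lib.Helper68.FrameHom
import Groth.Agent.S12887
import Groth.Agent.Lib.Lead.SheafPts
import Groth.Agent.Lib.Helper53.ModGroth
import Groth.Prelude.Def_FlatMod2

/-! Finite locally free modules on a scheme: local frames, local-to-global vanishing, and vanishing of
the Ext sheaves `ℰxt^{q+1}(E, -)`. -/

set_option autoImplicit false
universe u

open CategoryTheory Category Limits Opposite Abelian ModSite AlgebraicGeometry

namespace Groth.Agent.Lib.Helper68.FrameLoc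

open Groth.Agent.Lib.Helper42.TensorSheaf Groth.Agent.Lib.Helper42.TensorColim
open Groth.Agent.Lib.Helper68.FrameHom

section Gen

variable {𝒜 : Type*} [Category 𝒜] [Preadditive 𝒜]

/-- `M` is a retract of `u^n` for some `n` -/
def HasFrameGen (u M : 𝒜) : Prop :=
  ∃ (n : ℕ) (e : Fin n → (u ⟶ M)) (p : Fin n → (M ⟶ u)), ∑ i, p i ≫ e i = 𝟙 M

lemma hasFrameGen_sigma (u : 𝒜) (n : ℕ) [HasCoproduct (fun _ : Fin n => u)] :
    HasFrameGen u (∐ fun _ : Fin n => u) := by
  classical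
  refine ⟨n, fun i => Sigma.ι (fun _ : Fin n => u) i,
    fun i => Sigma.desc (fun j => if i = j then 𝟙 u else 0), ?_⟩
  apply Sigma.hom_ext
  intro j
  rw [Preadditive.comp_sum, comp_id, Finset.sum_eq_single j]
  · rw [← assoc, Sigma.ι_desc, if_pos rfl, id_comp]
  · intro i _ hij
    rw [← assoc, Sigma.ι_desc, if_neg hij, zero_comp]
  · intro h
    exact absurd (Finset.mem_univ j) h

lemma HasFrameGen.of_iso {u M M' : 𝒜} (a : M ≅ M') (h : HasFrameGen u M) : HasFrameGen u M' := by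
  obtain ⟨n, e, p, hep⟩ := h
  refine ⟨n, fun i => e i ≫ a.hom, fun i => a.inv ≫ p i, ?_⟩
  have : ∑ i, (a.inv ≫ p i) ≫ e i ≫ a.hom = a.inv ≫ (∑ i, p i ≫ e i) ≫ a.hom := by
    rw [Preadditive.sum_comp, Preadditive.comp_sum]
    refine Finset.sum_congr rfl fun i _ => ?_
    simp only [assoc]
  rw [this, hep, id_comp, Iso.inv_hom_id]

lemma HasFrameGen.of_fullyFaithful {ℬ : Type*} [Category ℬ] [Preadditive ℬ] (Ψ : 𝒜 ⥤ ℬ)
    [Ψ.Additive] [Ψ.Full] [Ψ.Faithful] {u M : 𝒜} {u' : ℬ} (a : Ψ.obj u ≅ u')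
    (h : HasFrameGen u' (Ψ.obj M)) : HasFrameGen u M := by
  obtain ⟨n, e, p, hep⟩ := h
  refine ⟨n, fun i => Ψ.preimage (a.hom ≫ e i), fun i => Ψ.preimage (p i ≫ a.inv), ?_⟩
  apply Ψ.map_injective
  rw [Functor.map_sum, CategoryTheory.Functor.map_id, ← hep]
  refine Finset.sum_congr rfl fun i _ => ?_
  rw [Functor.map_comp, Functor.map_preimage, Functor.map_preimage, assoc, Iso.inv_hom_id_assoc]

end Gen

variable {X : Scheme.{u}}

lemma hasFrame_restr (E : X.Modules) (U : X.Opens) (n : ℕ)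
    (α : E.restrict U.ι ≅ FlatMod.freeMod (↑U) n) :
    HasFrame (O := X.sheaf.over U) ((ModSite.restr X.sheaf U).obj E) := by
  let Ψ := (Scheme.Modules.overEquiv U).functor
  haveI hadd : Ψ.Additive := Functor.additive_of_preserves_binary_products Ψ
  have h1 : HasFrameGen (SheafOfModules.unit _)
      (Ψ.obj ((SheafOfModules.overFunctor X.ringCatSheaf U).obj E)) :=
    (hasFrameGen_sigma _ n).of_iso (α.symm ≪≫ ((Scheme.Modules.overFunctorEquiv U).app E).symm)
  exact HasFrameGen.of_fullyFaithful Ψ (Iso.refl _) h1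


lemma isZero_of_locally (F : X.Modules)
    (h : ∀ x : X, ∃ U : X.Opens, x ∈ U ∧ IsZero ((ModSite.restr X.sheaf U).obj F)) :
    IsZero F := by
  rw [IsZero.iff_id_eq_zero]
  refine Groth.Agent.Lib.Helper68.RelExt.hom_eq_zero_of_sections (O := X.sheaf) (𝟙 F) ?_
  intro V s
  change s = 0
  refine Groth.Agent.Lib.Lead.SheafGlue.eq_of_locally_eq_pts F s 0 ?_
  intro x hx
  obtain ⟨U, hxU, hU⟩ := h x
  refine ⟨V ⊓ U, inf_le_left, ⟨hx, hxU⟩, ?_⟩
  rw [map_zero]
  exact (ExtSupp.isNullOn_iff X.sheaf U F).1 hU (homOfLE inf_le_right) _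

theorem isZero_extSh_succ_of_isFinLocFree (E : X.Modules) (hE : FlatMod.IsFinLocFree E)
    [HasSheafHom (O := X.sheaf) E] [HasInjectiveResolutions (ModSite.Mod X.sheaf)] (q : ℕ)
    (G : X.Modules) : IsZero ((ModSite.extSh (O := X.sheaf) E (q + 1)).obj G) := by
  apply isZero_of_locally
  intro x
  obtain ⟨U, n, hxU, ⟨α⟩⟩ := hE x
  refine ⟨U, hxU, ?_⟩
  haveI : HasSheafHom (O := X.sheaf.over U) ((restr X.sheaf U).obj E) := hasSheafHom _ _
  haveI : IsGrothendieckAbelian.{u} (Mod (X.sheaf.over U)) :=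
    Groth.Agent.Lib.Helper53.ModGroth.isGrothendieckAbelian _ _
  haveI : HasInjectiveResolutions (Mod (X.sheaf.over U)) := inferInstance
  obtain ⟨e⟩ := Groth.Agent.S12887.result X.sheaf U E (q + 1)
  exact (isZero_extSh_succ (hasFrame_restr E U n α) q ((restr X.sheaf U).obj G)).of_iso (e.app G)

end Groth.Agent.Lib.Helper68.FrameLoc
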