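import Groth.Agent.Lib.Helper68.LocGlobExt
import Groth.Agent.Lib.Helper68.FrameLoc
import Groth.Prelude.Def_DCoh4

/-! `Ext^p(M, N) ≅ H^p(C, ℋom(M, N))` when `ℋom(M, -)` is exact; finite locally free modules on
schemes. -/

set_option autoImplicit false
universe u

open CategoryTheory Category Limits Opposite ModSite Abelian AlgebraicGeometry
open scoped ZeroObject

namespace Groth.Agent.Lib.Helper68.ExtLocFree

open Groth.Agent.Lib.Helper42.TensorSheaf Groth.Agent.Lib.Helper42.TensorColim
open Groth.Agent.Lib.Helper42.Flat Groth.Agent.Lib.Helper42.Proj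
open Groth.Agent.Lib.Helper42.DeltaFun Groth.Agent.Lib.Helper42.DeltaExt
open Groth.Agent.Lib.Helper42.DeltaRDer
open Groth.Agent.Lib.Helper68.InjModAcyclic Groth.Agent.Lib.Helper68.LocGlobExt

section Gen

variable {𝒜 ℬ : Type*} [Category 𝒜] [Category ℬ] [Abelian 𝒜] [Abelian ℬ]
  [HasInjectiveResolutions 𝒜]

/-- a left exact functor whose first derived functor vanishes is exact -/
lemma preservesFiniteColimits_of_isZero_rightDerived_one (T : 𝒜 ⥤ ℬ) [T.Additive]
    [PreservesFiniteLimits T] (h : ∀ G, IsZero ((T.rightDerived 1).obj G)) :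
    PreservesFiniteColimits T := by
  rw [Functor.preservesFiniteColimits_iff_forall_exact_map_and_epi]
  intro S hS
  refine ⟨((Functor.preservesFiniteLimits_iff_forall_exact_map_and_mono T).1 inferInstance
    S hS).1, ?_⟩
  have hex := (ofRightDerived T).exact₃ hS 0
  have hepi : Epi ((T.rightDerived 0).map S.g) := hex.epi_f ((h S.X₁).eq_of_tgt _ _)
  have nat := T.rightDerivedZeroIsoSelf.hom.naturality S.g
  have h2 : Epi ((T.rightDerived 0).map S.g ≫ T.rightDerivedZeroIsoSelf.hom.app S.X₃) :=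
    epi_comp _ _
  rw [nat] at h2
  have h3 : T.map S.g = T.rightDerivedZeroIsoSelf.inv.app S.X₂ ≫
      (T.rightDerivedZeroIsoSelf.hom.app S.X₂ ≫ T.map S.g) := by
    rw [← assoc, ← NatTrans.comp_app, Iso.inv_hom_id]
    exact (id_comp _).symm
  rw [h3]
  exact epi_comp _ _

end Gen

section Site

variable {C : Type u} [SmallCategory C] {J : GrothendieckTopology C} (O : Sheaf J CommRingCat.{u})
variable (M : Mod O) [HasSheafHom M] [HasInjectiveResolutions (Mod O)]

/-- if `ℋom(M, -)` is exact then `R^n(Γ ∘ ℋom(M, -)) ≅ R^nΓ ∘ ℋom(M, -)` -/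
noncomputable def compIso [PreservesFiniteColimits (sheafHom M)] (n : ℕ) :
    (sheafHom M ⋙ S O).rightDerived n ≅ sheafHom M ⋙ (S O).rightDerived n := by
  haveI : EnoughInjectives (Mod O) :=
    Groth.Agent.Lib.Helper68.GSSDer.enoughInjectives_of_hasInjectiveResolutions
  haveI : (sheafHom M).Additive := (sheafHomAdj M).right_adjoint_additive
  haveI : PreservesFiniteLimits (sheafHom M) := by
    have h1 : PreservesLimitsOfSize.{0, 0} (sheafHom M) :=
      (sheafHomAdj M).rightAdjoint_preservesLimits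
    exact PreservesLimitsOfSize.preservesFiniteLimits _
  have hB : ((ofRightDerived (S O)).precomp (sheafHom M)).Eff := by
    intro I _ n
    change IsZero (((S O).rightDerived (n + 1)).obj ((sheafHom M).obj I))
    refine IsZero.of_iso ?_ ((RSIso O (n + 1)).app ((sheafHom M).obj I))
    have := subsingleton_H_of_isTotallyAcyclic (toAb ((sheafHom M).obj I))
      (Groth.Agent.Lib.Helper68.SheafHomFlasque.isTotallyAcyclic_sheafHom O M I) n
    exact AddCommGrpCat.isZero_of_subsingleton
      (AddCommGrpCat.of (Sheaf.H.{u} (toAb ((sheafHom M).obj I)) (n + 1)))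
  exact DeltaFunctor.isoOfZero (A := ofRightDerived (sheafHom M ⋙ S O))
    (B := (ofRightDerived (S O)).precomp (sheafHom M)) (ofRightDerived_eff _) hB
    ((sheafHom M ⋙ S O).rightDerivedZeroIsoSelf ≪≫
      Functor.isoWhiskerLeft (sheafHom M) (S O).rightDerivedZeroIsoSelf.symm) n

theorem nonempty_ext_addEquiv_HC [HasExt.{u} (Mod O)] [PreservesFiniteColimits (sheafHom M)]
    (N : Mod O) (p : ℕ) :
    Nonempty (Abelian.Ext.{u} M N p ≃+ ModSite.HC O ((sheafHom M).obj N) p) := by
  haveI : (sheafHom M).Additive := (sheafHomAdj M).right_adjoint_additive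
  haveI : PreservesFiniteLimits (sheafHom M) := by
    have h1 : PreservesLimitsOfSize.{0, 0} (sheafHom M) :=
      (sheafHomAdj M).rightAdjoint_preservesLimits
    exact PreservesLimitsOfSize.preservesFiniteLimits _
  obtain ⟨e1⟩ := ExtRD.nonempty_iso (sheafHom M ⋙ S O) M (θ O M)
    (fun f x => θ_naturality O M f x) N p
  let e2 := (compIso O M p).app N
  let e3 := (RSIso O p).app ((sheafHom M).obj N)
  exact ⟨(e1.symm ≪≫ e2 ≪≫ e3).addCommGroupIsoToAddEquiv⟩

theorem nonempty_ext_addEquiv_HC' [HasExt.{u} (Mod O)] [PreservesFiniteColimits (sheafHom M)]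
    (N N' : Mod O) (a : (sheafHom M).obj N ≅ N') (p : ℕ) :
    Nonempty (Abelian.Ext.{u} M N p ≃+ ModSite.HC O N' p) := by
  obtain ⟨e⟩ := nonempty_ext_addEquiv_HC O M N p
  let e4 := (SheafOfModules.toSheaf (ringSh O) ⋙ extFunctorObj.{u} (Zc (J := J)) p).mapIso a
  exact ⟨e.trans e4.addCommGroupIsoToAddEquiv⟩

end Site

section Scheme

variable {X : Scheme.{u}}

lemma hasInjectiveResolutions : HasInjectiveResolutions (Mod X.sheaf) := by
  haveI : IsGrothendieckAbelian.{u} (Mod X.sheaf) :=
    Groth.Agent.Lib.Helper53.ModGroth.isGrothendieckAbelian _ _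
  infer_instance

lemma preservesFiniteColimits_sheafHom_of_isFinLocFree (E : X.Modules)
    (hE : FlatMod.IsFinLocFree E) [HasSheafHom (O := X.sheaf) E] :
    PreservesFiniteColimits (sheafHom (O := X.sheaf) E) := by
  haveI := hasInjectiveResolutions (X := X)
  haveI : (sheafHom (O := X.sheaf) E).Additive :=
    (sheafHomAdj (O := X.sheaf) E).right_adjoint_additive
  haveI : PreservesFiniteLimits (sheafHom (O := X.sheaf) E) := by
    have h1 : PreservesLimitsOfSize.{0, 0} (sheafHom (O := X.sheaf) E) :=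
      (sheafHomAdj (O := X.sheaf) E).rightAdjoint_preservesLimits
    exact PreservesLimitsOfSize.preservesFiniteLimits _
  exact preservesFiniteColimits_of_isZero_rightDerived_one _
    (fun G => FrameLoc.isZero_extSh_succ_of_isFinLocFree E hE 0 G)

/-- the two internal Hom functors on a scheme agree -/
noncomputable def dcohSheafHomIso (A : X.Modules) [DCoh.HasSheafHom A]
    [HasSheafHom (O := X.sheaf) A] : DCoh.sheafHom A ≅ sheafHom (O := X.sheaf) A :=
  ((DCoh.sheafHomAdj A).ofNatIsoLeft (tensLRIso X.sheaf A)).rightAdjointUniq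
    (sheafHomAdj (O := X.sheaf) A)

theorem nonempty_ext_addEquiv_HH [HasExt.{u} X.Modules] (A B : X.Modules)
    (hA : FlatMod.IsFinLocFree A) [DCoh.HasSheafHom A] (p : ℕ) :
    Nonempty (Abelian.Ext A B p ≃+ Coh.HH X ((DCoh.sheafHom A).obj B) p) := by
  haveI := hasInjectiveResolutions (X := X)
  haveI : HasSheafHom (O := X.sheaf) A := hasSheafHom _ _
  haveI := preservesFiniteColimits_sheafHom_of_isFinLocFree A hA
  have hExt : HasExt.{u} (ModSite.Mod X.sheaf) := ‹HasExt.{u} X.Modules›
  exact nonempty_ext_addEquiv_HC' X.sheaf A B ((DCoh.sheafHom A).obj B)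
    ((dcohSheafHomIso A).symm.app B) p

end Scheme

end Groth.Agent.Lib.Helper68.ExtLocFree
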