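import Groth.Agent.Lib.Helper68.FilteredMod
import Mathlib.RingTheory.Finiteness.Basic
import Mathlib.CategoryTheory.Filtered.Basic

/-! Every module is the filtered colimit of its finitely generated submodules; consequences for
functors preserving filtered colimits. -/

set_option autoImplicit false
universe u v' u'

open CategoryTheory Limits

namespace Groth.Agent.Lib.Helper68.FGColim

variable {R : Type u} [Ring R] (L : ModuleCat.{u} R)

/-- the directed set of finitely generated submodules -/
abbrev J : Type u := {L' : Submodule R L // L'.FG}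

instance : Nonempty (J L) := ⟨⟨⊥, Submodule.fg_bot⟩⟩

instance : IsDirected (J L) (· ≤ ·) :=
  ⟨fun a b => ⟨⟨a.1 ⊔ b.1, a.2.sup b.2⟩, le_sup_left, le_sup_right⟩⟩

instance : IsFiltered (J L) := inferInstance

/-- the diagram of finitely generated submodules -/
noncomputable def diag : J L ⥤ ModuleCat.{u} R where
  obj L' := ModuleCat.of R L'.1
  map {a b} f := ModuleCat.ofHom (Submodule.inclusion (leOfHom f))
  map_id a := by
    ext x
    rfl
  map_comp f g := by
    ext x
    rfl

/-- the cocone of inclusions -/
noncomputable def cocone : Cocone (diag L) where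
  pt := L
  ι :=
    { app := fun a => ModuleCat.ofHom a.1.subtype
      naturality := by
        intro a b f
        ext x
        rfl }

theorem nonempty_isColimit_cocone : Nonempty (IsColimit (cocone L)) := by
  apply FilteredMod.nonempty_isColimit
  · intro x
    refine ⟨⟨Submodule.span R {x}, Submodule.fg_span_singleton x⟩,
      ⟨x, Submodule.mem_span_singleton_self x⟩, rfl⟩
  · intro a (y : a.1) hy
    refine ⟨a, 𝟙 a, ?_⟩
    have : (y : L) = 0 := hy
    have hy0 : y = 0 := Subtype.ext this
    rw [hy0]
    exact map_zero _

variable {D : Type u'} [Category.{v'} D]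

/-- a functor preserving filtered colimits which kills all f.g. submodules kills the module -/
theorem isZero_obj [HasZeroMorphisms D] (G : ModuleCat.{u} R ⥤ D)
    [PreservesColimitsOfShape (J L) G]
    (h : ∀ L' : Submodule R L, L'.FG → IsZero (G.obj (ModuleCat.of R L'))) :
    IsZero (G.obj L) := by
  obtain ⟨hc⟩ := nonempty_isColimit_cocone L
  have hc' : IsColimit (G.mapCocone (cocone L)) := isColimitOfPreserves _ hc
  rw [IsZero.iff_id_eq_zero]
  apply hc'.hom_ext
  intro a
  exact (h a.1 a.2).eq_of_src _ _

/-- a natural transformation between functors preserving filtered colimits which is an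
isomorphism on all f.g. submodules is an isomorphism on the module -/
theorem isIso_app {G G' : ModuleCat.{u} R ⥤ D}
    [PreservesColimitsOfShape (J L) G] [PreservesColimitsOfShape (J L) G'] (θ : G ⟶ G')
    (h : ∀ L' : Submodule R L, L'.FG → IsIso (θ.app (ModuleCat.of R L'))) :
    IsIso (θ.app L) := by
  obtain ⟨hc⟩ := nonempty_isColimit_cocone L
  have hc₁ : IsColimit (G.mapCocone (cocone L)) := isColimitOfPreserves _ hc
  have hc₂ : IsColimit (G'.mapCocone (cocone L)) := isColimitOfPreserves _ hc
  have hiso : ∀ a : J L, IsIso ((Functor.whiskerLeft (diag L) θ).app a) := fun a => h a.1 a.2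
  have : IsIso (Functor.whiskerLeft (diag L) θ) := NatIso.isIso_of_isIso_app _
  let e := IsColimit.coconePointsIsoOfNatIso hc₁ hc₂ (asIso (Functor.whiskerLeft (diag L) θ))
  have he : e.hom = θ.app L := by
    apply hc₁.hom_ext
    intro a
    rw [IsColimit.coconePointsIsoOfNatIso_hom, IsColimit.ι_map]
    exact (θ.naturality ((cocone L).ι.app a)).symm
  rw [← he]
  infer_instance

end Groth.Agent.Lib.Helper68.FGColim
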