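import Mathlib
import Groth.Agent.Lib.Helper20.FPApprox

/-!
# helper68: a functor preserving filtered colimits factors elements through f.p. algebras
-/

set_option autoImplicit false
universe u

open CategoryTheory

namespace Groth.Agent.Lib.Helper68.FPFactor

open Groth.Agent.Lib.Helper20.FPApprox

theorem exists_fp_factor {A : Type u} [CommRing A] (Λ : Type u) [CommRing Λ] [Algebra A Λ]
    (F : CommAlgCat.{u} A ⥤ Type u) [Limits.PreservesFilteredColimits F]
    (ξ : F.obj (CommAlgCat.of A Λ)) :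
    ∃ (B : Type u) (_ : CommRing B) (_ : Algebra A B) (_ : Algebra.FinitePresentation A B)
      (ι : B →ₐ[A] Λ) (ξ₀ : F.obj (CommAlgCat.of A B)), F.map (CommAlgCat.ofHom ι) ξ₀ = ξ := by
  classical
  let good : Pres A Λ → Prop := fun _ => True
  have hcof : ∀ S₀ : Finset Λ, ∃ j : Pres A Λ, good j ∧ S₀ ⊆ j.S := fun S₀ =>
    ⟨⟨S₀, ⊥, Submodule.fg_bot, fun x hx => by rw [Ideal.mem_bot.mp hx, map_zero]⟩, trivial,
      Finset.Subset.refl _⟩
  have hup : ∀ (j : Pres A Λ) (I' : Ideal (MvPolynomial j.S A)) (fg' : I'.FG)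
      (le_ker' : ∀ x ∈ I', ev A Λ j.S x = 0), j.I ≤ I' → good j →
      good ⟨j.S, I', fg', le_ker'⟩ := fun _ _ _ _ _ _ => trivial
  obtain ⟨hd, hn, ⟨hc⟩⟩ := exists_isColimit good hcof hup
  let E := commAlgCatEquivUnder (CommRingCat.of A)
  haveI : IsFiltered (GoodPres good) := isFiltered_of_directed_le_nonempty _
  have hc' : Limits.IsColimit (E.inverse.mapCocone (cocone good)) :=
    Limits.isColimitOfPreserves E.inverse hc
  have hc'' : Limits.IsColimit (F.mapCocone (E.inverse.mapCocone (cocone good))) :=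
    Limits.isColimitOfPreserves F hc'
  let uΛ : CommAlgCat.of A Λ ≅ E.inverse.obj (cocone good).pt :=
    E.unitIso.app (CommAlgCat.of A Λ)
  obtain ⟨j, y, hy⟩ := Limits.Types.jointly_surjective_of_isColimit hc'' (F.map uΛ.hom ξ)
  let uB : CommAlgCat.of A j.1.Alg ≅ E.inverse.obj ((functor good).obj j) :=
    E.unitIso.app (CommAlgCat.of A j.1.Alg)
  refine ⟨j.1.Alg, inferInstance, inferInstance, j.1.finitePresentation, j.1.leg,
    F.map uB.inv y, ?_⟩
  have hcomm : uB.inv ≫ CommAlgCat.ofHom j.1.leg =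
      E.inverse.map ((cocone good).ι.app j) ≫ uΛ.inv := by
    ext x
    rfl
  have h1 : F.map (CommAlgCat.ofHom j.1.leg) (F.map uB.inv y) =
      F.map (uB.inv ≫ CommAlgCat.ofHom j.1.leg) y := by
    rw [F.map_comp]; rfl
  rw [h1, hcomm, F.map_comp]
  change F.map uΛ.inv (F.map (E.inverse.map ((cocone good).ι.app j)) y) = ξ
  have h2 : F.map (E.inverse.map ((cocone good).ι.app j)) y = F.map uΛ.hom ξ := hy
  rw [h2]
  have h3 : F.map uΛ.inv (F.map uΛ.hom ξ) = F.map (uΛ.hom ≫ uΛ.inv) ξ := by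
    rw [F.map_comp]; rfl
  rw [h3, Iso.hom_inv_id, F.map_id]
  rfl

end Groth.Agent.Lib.Helper68.FPFactor
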