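import Groth.Agent.Lib.Helper68.InjHorseshoe4
import Groth.Prelude.Def_SpSeq

/-! Filtered injective resolutions of an object with a finite decreasing filtration, built by
iterating the horseshoe lemma (helper68). -/

set_option autoImplicit false
universe v u

open CategoryTheory Category Limits

namespace Groth.Agent.Lib.Helper68.FilInjRes

variable {C : Type u} [Category.{v} C] [Abelian C]

section subobj

variable {D : Type*} [Category D]

/-- the underlying object of `(map m).obj T` is that of `T` -/
noncomputable def mapIso {X' X : D} (m : X' ⟶ X) [Mono m] (T : Subobject X') :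
    (((Subobject.map m).obj T : Subobject X) : D) ≅ (T : D) :=
  Subobject.isoOfEqMk _ (T.arrow ≫ m)
    ((congrArg (Subobject.map m).obj (Subobject.mk_arrow T).symm).trans (Subobject.map_mk _ _))

lemma mapIso_hom_arrow {X' X : D} (m : X' ⟶ X) [Mono m] (T : Subobject X') :
    (mapIso m T).hom ≫ T.arrow ≫ m = ((Subobject.map m).obj T).arrow := by
  unfold mapIso
  simp only [Subobject.isoOfEqMk_hom]
  exact Subobject.ofLEMk_comp _

lemma mapIso_inv_arrow {X' X : D} (m : X' ⟶ X) [Mono m] (T : Subobject X') :
    (mapIso m T).inv ≫ ((Subobject.map m).obj T).arrow = T.arrow ≫ m := by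
  rw [← mapIso_hom_arrow, Iso.inv_hom_id_assoc]

variable [HasPullbacks D]

lemma pullback_eq_mk {A : D} (S T : Subobject A) (h : T ≤ S) :
    (Subobject.pullback S.arrow).obj T = Subobject.mk (Subobject.ofLE T S h) := by
  have h1 : (Subobject.map S.arrow).obj (Subobject.mk (Subobject.ofLE T S h)) = T := by
    rw [Subobject.map_mk]
    exact (Subobject.eq_mk_of_comm (Subobject.ofLE T S h ≫ S.arrow) (Iso.refl _)
      (by simp [Subobject.ofLE_arrow])).symm
  conv_lhs => rw [← h1]
  exact Subobject.pullback_map_self _ _

/-- the underlying object of the pullback of `T ≤ S` to `S` is that of `T` -/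
noncomputable def pbIso {A : D} (S T : Subobject A) (h : T ≤ S) :
    (T : D) ≅ (((Subobject.pullback S.arrow).obj T : Subobject (S : D)) : D) :=
  (Subobject.isoOfEqMk _ (Subobject.ofLE T S h) (pullback_eq_mk S T h)).symm

lemma pbIso_hom_arrow {A : D} (S T : Subobject A) (h : T ≤ S) :
    (pbIso S T h).hom ≫ ((Subobject.pullback S.arrow).obj T).arrow ≫ S.arrow = T.arrow := by
  have h1 : (pbIso S T h).inv ≫ Subobject.ofLE T S h =
      ((Subobject.pullback S.arrow).obj T).arrow := by
    unfold pbIso
    simp only [Iso.symm_inv, Subobject.isoOfEqMk_hom]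
    exact Subobject.ofLEMk_comp _
  rw [← h1, Category.assoc, Subobject.ofLE_arrow, Iso.hom_inv_id_assoc]

lemma pullback_arrow_self {A : D} (S : Subobject A) :
    (Subobject.pullback S.arrow).obj S = ⊤ := by
  rw [pullback_eq_mk S S le_rfl]
  exact (Subobject.isIso_iff_mk_eq_top _).1 (by rw [Subobject.ofLE_refl]; infer_instance)

lemma pullback_arrow_bot {A : D} [HasZeroMorphisms D] [HasZeroObject D] (S : Subobject A) :
    (Subobject.pullback S.arrow).obj ⊥ = ⊥ := by
  conv_lhs => rw [← Subobject.map_bot S.arrow]
  exact Subobject.pullback_map_self _ _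

end subobj

section zero

lemma subobject_top_eq_bot_of_isZero {D : Type*} [Category D] [HasZeroMorphisms D] [HasZeroObject D]
    {Z : D} (hZ : IsZero Z) : (⊤ : Subobject Z) = ⊥ := by
  rw [Subobject.top_eq_id, Subobject.mk_eq_bot_iff_zero]
  exact hZ.eq_of_src _ _

lemma isZero_of_top_eq_bot {D : Type*} [Category D] [HasZeroMorphisms D] [HasZeroObject D]
    {Z : D} (h : (⊤ : Subobject Z) = ⊥) : IsZero Z := by
  rw [Subobject.top_eq_id, Subobject.mk_eq_bot_iff_zero] at h
  rw [IsZero.iff_id_eq_zero]
  exact h

end zero

/-- the conclusion of the filtered resolution statement -/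
def GoodAt {A : C} (F : Subobject A) (X : InjectiveResolution A)
    (T : Subobject X.cocomplex) : Prop :=
  (∀ j : ℕ, Injective ((T : CochainComplex C ℕ).X j)) ∧
    ∃ ι : (CochainComplex.single₀ C).obj (F : C) ⟶ (T : CochainComplex C ℕ),
      ι ≫ T.arrow = (CochainComplex.single₀ C).map F.arrow ≫ X.ι ∧ QuasiIso ι

/-- the conclusion of the filtered resolution statement -/
def Good {A : C} (fil : ℤ → Subobject A) (X : InjectiveResolution A)
    (G : ℤ → Subobject X.cocomplex) : Prop :=
  Antitone G ∧ (∀ i : ℤ, fil i = ⊤ → G i = ⊤) ∧ (∀ i : ℤ, fil i = ⊥ → G i = ⊥) ∧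
    ∀ i : ℤ, GoodAt (fil i) X (G i)

/-- the trivial injective resolution of a zero object -/
noncomputable def zeroRes {A : C} (hA : IsZero A) : InjectiveResolution A where
  cocomplex := (CochainComplex.single₀ C).obj A
  injective n :=
    ((HomologicalComplex.eval C (ComplexShape.up ℕ) n).map_isZero
      ((CochainComplex.single₀ C).map_isZero hA)).injective
  ι := 𝟙 _
  quasiIso := inferInstance

lemma isZero_zeroRes {A : C} (hA : IsZero A) : IsZero (zeroRes hA).cocomplex :=
  (CochainComplex.single₀ C).map_isZero hA

lemma isIso_of_isZero {D : Type*} [Category D] [HasZeroMorphisms D] {X Y : D} (hX : IsZero X)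
    (hY : IsZero Y) (f : X ⟶ Y) : IsIso f :=
  ⟨⟨0, hX.eq_of_src _ _, hY.eq_of_src _ _⟩⟩

lemma zeroCase {A : C} (hA : IsZero A) (fil : ℤ → Subobject A) :
    ∃ (X : InjectiveResolution A) (G : ℤ → Subobject X.cocomplex), Good fil X G := by
  have hX := isZero_zeroRes hA
  have htb := subobject_top_eq_bot_of_isZero hX
  have hT : IsZero (((⊤ : Subobject (zeroRes hA).cocomplex)) : CochainComplex C ℕ) :=
    IsZero.of_iso hX (asIso (⊤ : Subobject (zeroRes hA).cocomplex).arrow)
  refine ⟨zeroRes hA, fun _ => ⊤, fun _ _ _ => le_rfl, fun _ _ => rfl, fun _ _ => htb, fun i => ⟨?_, ?_⟩⟩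
  · intro j
    exact ((HomologicalComplex.eval C (ComplexShape.up ℕ) j).map_isZero hT).injective
  · have hS : IsZero ((CochainComplex.single₀ C).obj ((fil i : Subobject A) : C)) :=
      (CochainComplex.single₀ C).map_isZero (IsZero.of_mono (fil i).arrow hA)
    refine ⟨0, hX.eq_of_tgt _ _, ?_⟩
    have : IsIso (0 : (CochainComplex.single₀ C).obj ((fil i : Subobject A) : C) ⟶
        ((⊤ : Subobject (zeroRes hA).cocomplex) : CochainComplex C ℕ)) := isIso_of_isZero hS hT _
    infer_instance

variable [EnoughInjectives C]

theorem main (n : ℕ) : ∀ (A : C) (fil : ℤ → Subobject A) (_ : Antitone fil) (a b : ℤ),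
    fil a = ⊤ → fil b = ⊥ → b ≤ a + n →
    ∃ (X : InjectiveResolution A) (G : ℤ → Subobject X.cocomplex), Good fil X G := by
  induction n with
  | zero =>
    intro A fil anti a b ha hb hab
    apply zeroCase
    apply isZero_of_top_eq_bot
    have h1 : fil a ≤ fil b := anti (by simpa using hab)
    rw [ha, hb] at h1
    exact le_antisymm h1 bot_le
  | succ n ih =>
    intro A fil anti a b ha hb hab
    by_cases htop : fil (a + 1) = ⊤
    · exact ih A fil anti (a + 1) b htop hb (by push_cast at hab; omega)
    · -- the subobject `S = F^{a+1}` with its induced filtration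
      let S : Subobject A := fil (a + 1)
      let fil' : ℤ → Subobject (S : C) := fun i => (Subobject.pullback S.arrow).obj (fil i)
      have anti' : Antitone fil' := fun i j hij => (Subobject.pullback S.arrow).monotone (anti hij)
      have ha' : fil' (a + 1) = ⊤ := pullback_arrow_self S
      have hb' : fil' b = ⊥ := by
        show (Subobject.pullback S.arrow).obj (fil b) = ⊥
        rw [hb]
        exact pullback_arrow_bot S
      obtain ⟨X', G', hG'anti, hG'top, hG'bot, hG'⟩ :=
        ih (S : C) fil' anti' (a + 1) b ha' hb' (by push_cast at hab; omega)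
      -- horseshoe
      let SC : ShortComplex C := ShortComplex.mk S.arrow (cokernel.π S.arrow) (cokernel.condition _)
      have hSC : SC.ShortExact :=
        { exact := ShortComplex.exact_cokernel S.arrow
          mono_f := inferInstanceAs (Mono S.arrow)
          epi_g := inferInstanceAs (Epi (cokernel.π S.arrow)) }
      let I₃ : InjectiveResolution SC.X₃ := (HasInjectiveResolution.out (Z := SC.X₃)).some
      let X : InjectiveResolution A := InjHorseshoe.midRes hSC X' I₃
      let m : X'.cocomplex ⟶ X.cocomplex := InjHorseshoe.midι hSC X' I₃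
      have hm : Mono m := (InjHorseshoe.midSC_shortExact hSC X' I₃).mono_f
      have hcomm : X'.ι ≫ m = (CochainComplex.single₀ C).map S.arrow ≫ X.ι :=
        InjHorseshoe.midι_comm hSC X' I₃
      -- facts on the filtration
      have hne : (⊤ : Subobject A) ≠ ⊥ := by
        intro h
        apply htop
        exact le_antisymm le_top (h ▸ bot_le : (⊤ : Subobject A) ≤ fil (a + 1))
      have hle : ∀ i : ℤ, i ≤ a → fil i = ⊤ := fun i hi =>
        le_antisymm le_top (ha ▸ anti hi)
      have hgt : ∀ i : ℤ, ¬ i ≤ a → fil i ≤ S := fun i hi => anti (by omega)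
      refine ⟨X, fun i => if i ≤ a then ⊤ else (Subobject.map m).obj (G' i), ?_, ?_, ?_, ?_⟩
      · intro i j hij
        dsimp only
        by_cases hi : i ≤ a
        · rw [if_pos hi]; exact le_top
        · have hj : ¬ j ≤ a := fun h => hi (hij.trans h)
          rw [if_neg hi, if_neg hj]
          exact (Subobject.map m).monotone (hG'anti hij)
      · intro i hi
        dsimp only
        by_cases hia : i ≤ a
        · rw [if_pos hia]
        · exfalso
          apply htop
          exact le_antisymm le_top (hi ▸ hgt i hia)
      · intro i hi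
        dsimp only
        by_cases hia : i ≤ a
        · exfalso
          apply hne
          rw [← hle i hia, hi]
        · rw [if_neg hia, hG'bot i (by
            show (Subobject.pullback S.arrow).obj (fil i) = ⊥
            rw [hi]
            exact pullback_arrow_bot S), Subobject.map_bot]
      · intro i
        dsimp only
        by_cases hia : i ≤ a
        · rw [if_pos hia]
          have hiso : IsIso (fil i).arrow := (Subobject.isIso_arrow_iff_eq_top _).2 (hle i hia)
          refine ⟨fun j => ?_, ?_⟩
          · exact Injective.of_iso ((HomologicalComplex.eval C (ComplexShape.up ℕ) j).mapIso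
              (asIso (⊤ : Subobject X.cocomplex).arrow)).symm (X.injective j)
          · refine ⟨(CochainComplex.single₀ C).map (fil i).arrow ≫ X.ι ≫
              inv (⊤ : Subobject X.cocomplex).arrow, ?_, ?_⟩
            · simp
            · infer_instance
        · rw [if_neg hia]
          obtain ⟨hinj, ι', hι', hq⟩ := hG' i
          refine ⟨fun j => ?_, ?_⟩
          · exact Injective.of_iso ((HomologicalComplex.eval C (ComplexShape.up ℕ) j).mapIso
              (mapIso m (G' i))).symm (hinj j)
          · let e := pbIso S (fil i) (hgt i hia)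
            refine ⟨(CochainComplex.single₀ C).map e.hom ≫ ι' ≫ (mapIso m (G' i)).inv, ?_, ?_⟩
            · rw [Category.assoc, Category.assoc, mapIso_inv_arrow, reassoc_of% hι', hcomm,
                ← Functor.map_comp_assoc, ← Functor.map_comp_assoc]
              congr 2
              rw [Category.assoc]
              exact pbIso_hom_arrow S (fil i) (hgt i hia)
            · infer_instance

end Groth.Agent.Lib.Helper68.FilInjRes
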