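import Groth.Agent.Lib.Helper68.RelExt2

/-! Modules with a finite frame (retracts of `O^n`): `ℋom(M, -)` is exact, so the Ext sheaves
`ℰxt^q(M, -)` vanish for `q > 0`. -/

set_option autoImplicit false
universe u

open CategoryTheory Category Limits Opposite Abelian ModSite

namespace Groth.Agent.Lib.Helper68.FrameHom

open Groth.Agent.Lib.Helper42.TensorSheaf Groth.Agent.Lib.Helper42.TensorColim
open Groth.Agent.Lib.Helper42.Flat Groth.Agent.Lib.Helper42.Flat2
open Groth.Agent.Lib.Helper68.RelExt Groth.Agent.Lib.Helper68.RelExt2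
open Groth.Agent.Lib.Helper68.InjModAcyclic

variable {C : Type u} [SmallCategory C] {J : GrothendieckTopology C} {O : Sheaf J CommRingCat.{u}}

lemma sheafHomMap_app_eq {M M' : Mod O} [HasSheafHom M] [HasSheafHom M'] (g : M' ⟶ M) (I : Mod O) :
    (ExtSupp.sheafHomMap g).app I =
      (sheafHomAdj M').homEquiv ((sheafHom M).obj I) I
        (((tensorBi O).obj ((sheafHom M).obj I)).map g ≫ (sheafHomAdj M).counit.app I) := by
  let A := (sheafHom M).obj I
  have h0 : (sheafHomAdj M).homEquiv A I ((sheafHomAdj M).counit.app I) = 𝟙 A := by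
    rw [← Adjunction.homEquiv_symm_id, Equiv.apply_symm_apply]
  have h1 := homEquiv_comp_sheafHomMap g A I ((sheafHomAdj M).counit.app I)
  rw [h0, id_comp] at h1
  exact h1

lemma sheafHomMap_id (M : Mod O) [HasSheafHom M] : ExtSupp.sheafHomMap (𝟙 M) = 𝟙 _ := by
  unfold ExtSupp.sheafHomMap
  rw [CategoryTheory.Functor.map_id, conjugateEquiv_id]

lemma sheafHomMap_add {M M' : Mod O} [HasSheafHom M] [HasSheafHom M'] (g g' : M' ⟶ M) :
    ExtSupp.sheafHomMap (g + g') = ExtSupp.sheafHomMap g + ExtSupp.sheafHomMap g' := by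
  refine NatTrans.ext (funext fun I => ?_)
  have hA : ((tensorBi O).flip.obj M').Additive := inferInstanceAs (tensR O M').Additive
  rw [NatTrans.app_add, sheafHomMap_app_eq, sheafHomMap_app_eq, sheafHomMap_app_eq]
  have h2 : ((tensorBi O).obj ((sheafHom M).obj I)).map (g + g') =
      ((tensorBi O).obj ((sheafHom M).obj I)).map g +
        ((tensorBi O).obj ((sheafHom M).obj I)).map g' :=
    (tensL O ((sheafHom M).obj I)).map_add
  rw [h2, Preadditive.add_comp]
  exact ((sheafHomAdj M').homAddEquiv _ I).map_add _ _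

lemma sheafHomMap_zero {M M' : Mod O} [HasSheafHom M] [HasSheafHom M'] :
    ExtSupp.sheafHomMap (0 : M' ⟶ M) = 0 := by
  have h := sheafHomMap_add (0 : M' ⟶ M) 0
  rw [add_zero] at h
  exact (add_eq_left.1 h.symm)

lemma sheafHomMap_sum {M M' : Mod O} [HasSheafHom M] [HasSheafHom M'] {ι : Type*}
    (s : Finset ι) (g : ι → (M' ⟶ M)) :
    ExtSupp.sheafHomMap (∑ i ∈ s, g i) = ∑ i ∈ s, ExtSupp.sheafHomMap (g i) := by
  classical
  induction s using Finset.induction_on with
  | empty => simp [sheafHomMap_zero]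
  | insert a s ha ih => rw [Finset.sum_insert ha, Finset.sum_insert ha, sheafHomMap_add, ih]

/-- `M` has a finite frame: it is a retract of `O^n` -/
def HasFrame (M : Mod O) : Prop :=
  ∃ (n : ℕ) (e : Fin n → (ModSite.unit O ⟶ M)) (p : Fin n → (M ⟶ ModSite.unit O)),
    ∑ i, p i ≫ e i = 𝟙 M

lemma HasFrame.of_iso {M M' : Mod O} (a : M ≅ M') (h : HasFrame M) : HasFrame M' := by
  obtain ⟨n, e, p, hep⟩ := h
  refine ⟨n, fun i => e i ≫ a.hom, fun i => a.inv ≫ p i, ?_⟩
  have : ∑ i, (a.inv ≫ p i) ≫ e i ≫ a.hom = a.inv ≫ (∑ i, p i ≫ e i) ≫ a.hom := by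
    rw [Preadditive.sum_comp, Preadditive.comp_sum]
    refine Finset.sum_congr rfl fun i _ => ?_
    simp only [assoc]
  rw [this, hep, id_comp, Iso.inv_hom_id]

/-- `ℋom(M, -)` preserves epimorphisms when `M` has a finite frame -/
theorem epi_sheafHom_map {M : Mod O} [HasSheafHom M] (hM : HasFrame M) {B B' : Mod O}
    (φ : B ⟶ B') [Epi φ] : Epi ((sheafHom M).map φ) := by
  obtain ⟨n, e, p, hep⟩ := hM
  haveI : HasSheafHom (ModSite.unit O) := hasSheafHom O (ModSite.unit O)
  have hunit : Epi ((sheafHom (ModSite.unit O)).map φ) := by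
    have h : (sheafHom (ModSite.unit O)).map φ ≫ (sheafHomUnitIso O).hom.app B' =
        (sheafHomUnitIso O).hom.app B ≫ φ := (sheafHomUnitIso O).hom.naturality φ
    have h2 : Epi ((sheafHom (ModSite.unit O)).map φ ≫ (sheafHomUnitIso O).hom.app B') := by
      rw [h]
      exact epi_comp _ _
    have h3 : (sheafHom (ModSite.unit O)).map φ =
        ((sheafHom (ModSite.unit O)).map φ ≫ (sheafHomUnitIso O).hom.app B') ≫
          (sheafHomUnitIso O).inv.app B' := by
      rw [assoc, ← NatTrans.comp_app, Iso.hom_inv_id]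
      exact (comp_id _).symm
    rw [h3]
    exact epi_comp _ _
  have hsum : ∑ i, ExtSupp.sheafHomMap (e i) ≫ ExtSupp.sheafHomMap (p i) = 𝟙 (sheafHom M) := by
    rw [← sheafHomMap_id, ← hep, sheafHomMap_sum]
    refine Finset.sum_congr rfl fun i _ => ?_
    rw [sheafHomMap_comp]
  apply Preadditive.epi_of_cancel_zero
  intro T g hg
  have hi : ∀ i, (ExtSupp.sheafHomMap (p i)).app B' ≫ g = 0 := by
    intro i
    rw [← cancel_epi ((sheafHom (ModSite.unit O)).map φ), comp_zero, ← assoc,
      (ExtSupp.sheafHomMap (p i)).naturality φ, assoc, hg, comp_zero]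
  have h1 : g = (∑ i, ExtSupp.sheafHomMap (e i) ≫ ExtSupp.sheafHomMap (p i)).app B' ≫ g := by
    rw [hsum]
    simp
  rw [h1, NatTrans.app_sum, Preadditive.sum_comp]
  refine Finset.sum_eq_zero fun i _ => ?_
  rw [NatTrans.comp_app, assoc, hi i, comp_zero]

/-- the Ext sheaves `ℰxt^{q+1}(M, -)` vanish when `M` has a finite frame -/
theorem isZero_extSh_succ {M : Mod O} [HasSheafHom M] [HasInjectiveResolutions (Mod O)]
    (hM : HasFrame M) (q : ℕ) (G : Mod O) : IsZero ((extSh M (q + 1)).obj G) := by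
  haveI : EnoughInjectives (Mod O) :=
    Groth.Agent.Lib.Helper68.GSSDer.enoughInjectives_of_hasInjectiveResolutions
  haveI : (sheafHom M).Additive := (sheafHomAdj M).right_adjoint_additive
  haveI : PreservesFiniteLimits (sheafHom M) := by
    have h1 : PreservesLimitsOfSize.{0, 0} (sheafHom M) :=
      (sheafHomAdj M).rightAdjoint_preservesLimits
    exact PreservesLimitsOfSize.preservesFiniteLimits _
  exact Groth.Agent.Lib.Helper68.SuppFlasque.isZero_rightDerived_succ_of_class (sheafHom M)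
    (fun _ => True) (fun _ _ => trivial) (fun F _ => epi_sheafHom_map hM _) q G trivial

end Groth.Agent.Lib.Helper68.FrameHom
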