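import Groth.Agent.Lib.Helper68.FreeShLoc
import Mathlib.CategoryTheory.Limits.Preserves.Shapes.Kernels
import Mathlib.Algebra.FreeAbelianGroup.Finsupp
import Mathlib.CategoryTheory.Limits.FunctorCategory.Basic

/-!
# The cokernel of an inclusion of free sheaves on opens is torsion-free
-/

universe u

open CategoryTheory TopologicalSpace Opposite CategoryTheory.Limits

namespace Groth.Agent.Lib.Helper68.FreeShTF

open Groth.Agent.Lib.Helper53 Groth.Agent.Lib.Helper68.FreeShLoc

variable {X : TopCat.{u}}

section General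

variable {𝒜 : Type*} [Category 𝒜] [Preadditive 𝒜]

lemma mono_zsmul_of_iso {A B : 𝒜} (e : A ≅ B) (n : ℤ) (h : Mono (n • 𝟙 B)) : Mono (n • 𝟙 A) := by
  have : n • 𝟙 A = e.hom ≫ (n • 𝟙 B) ≫ e.inv := by
    rw [Preadditive.zsmul_comp, Preadditive.comp_zsmul, Category.id_comp, e.hom_inv_id]
  rw [this]
  infer_instance

end General

lemma freeAb_torsionFree {T : Type*} (n : ℤ) (hn : n ≠ 0) (a : FreeAbelianGroup T)
    (h : n • a = 0) : a = 0 := by
  have h2 := FreeAbelianGroup.support_zsmul n hn a
  rw [h, FreeAbelianGroup.support_zero] at h2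
  exact FreeAbelianGroup.support_eq_empty.1 h2.symm

lemma mono_zsmul_freeAb (T : Type u) (n : ℤ) (hn : n ≠ 0) :
    Mono (n • 𝟙 (AddCommGrpCat.free.obj T)) := by
  rw [AddCommGrpCat.mono_iff_injective]
  rw [injective_iff_map_eq_zero]
  intro a ha
  exact freeAb_torsionFree n hn a ha

/-- multiplication by a nonzero integer is injective on the cokernel of the map of free abelian
groups induced by a map from a type to a subsingleton -/
lemma mono_zsmul_cokernel_free {S T : Type u} [Subsingleton T] (g : S ⟶ T) (n : ℤ) (hn : n ≠ 0) :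
    Mono (n • 𝟙 (cokernel (AddCommGrpCat.free.map g))) := by
  by_cases hS : Nonempty S
  · obtain ⟨s₀⟩ := hS
    have hg : Epi g := by
      rw [epi_iff_surjective]
      intro t
      exact ⟨s₀, Subsingleton.elim _ _⟩
    have : Epi (AddCommGrpCat.free.map g) := inferInstance
    have hz : IsZero (cokernel (AddCommGrpCat.free.map g)) := by
      rw [IsZero.iff_id_eq_zero, ← cancel_epi (cokernel.π (AddCommGrpCat.free.map g)),
        ← cancel_epi (AddCommGrpCat.free.map g)]
      rw [cokernel.condition_assoc, zero_comp, comp_zero, comp_zero]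
    constructor
    intro Z a b _
    exact hz.eq_of_tgt _ _
  · have : IsEmpty S := not_nonempty_iff.1 hS
    have h0 : AddCommGrpCat.free.map g = 0 := by
      ext x
      have hx : x = 0 := freeAb_eq_zero (T := S) x
      rw [hx, map_zero, map_zero]
    have hiso : IsIso (cokernel.π (AddCommGrpCat.free.map g)) := by
      rw [h0]
      infer_instance
    exact mono_zsmul_of_iso (asIso (cokernel.π (AddCommGrpCat.free.map g))).symm n
      (mono_zsmul_freeAb T n hn)

lemma mono_zsmul_cokernel_PPmap {W W' : Opens X} (i : W' ⟶ W) (n : ℤ) (hn : n ≠ 0) :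
    Mono (n • 𝟙 (cokernel (PPmap i))) := by
  have h : ∀ O, Mono ((n • 𝟙 (cokernel (PPmap i))).app O) := by
    intro O
    have e : (n • 𝟙 (cokernel (PPmap i))).app O = n • 𝟙 ((cokernel (PPmap i)).obj O) := by
      rw [NatTrans.app_zsmul, NatTrans.id_app]
    rw [e]
    have iso : (cokernel (PPmap i)).obj O ≅
        cokernel (AddCommGrpCat.free.map ((yoneda.map i).app O)) :=
      PreservesCokernel.iso ((evaluation _ _).obj O) (PPmap i)
    have : Subsingleton ((yoneda.obj W).obj O) :=
      ⟨fun a b => Subsingleton.elim (α := (O.unop ⟶ W)) a b⟩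
    exact mono_zsmul_of_iso iso n (mono_zsmul_cokernel_free _ n hn)
  exact NatTrans.mono_of_mono_app _

/-- multiplication by a nonzero integer is a monomorphism on `ℤ_W / ℤ_{W'}` -/
theorem mono_zsmul_cokernel_freeSheafMap {W W' : Opens X} (i : W' ⟶ W) (n : ℤ) (hn : n ≠ 0) :
    Mono (n • 𝟙 (cokernel (freeSheafMap i))) := by
  let a := presheafToSheaf (Opens.grothendieckTopology X) AddCommGrpCat.{u}
  have e1 : a.obj (cokernel (PPmap i)) ≅ cokernel (freeSheafMap i) :=
    PreservesCokernel.iso a (PPmap i)
  refine mono_zsmul_of_iso e1.symm n ?_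
  have h2 : n • 𝟙 (a.obj (cokernel (PPmap i))) = a.map (n • 𝟙 (cokernel (PPmap i))) := by
    rw [Functor.map_zsmul, CategoryTheory.Functor.map_id]
  rw [h2]
  have := mono_zsmul_cokernel_PPmap i n hn
  infer_instance

end Groth.Agent.Lib.Helper68.FreeShTF
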