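import Groth.Agent.Lib.Helper68.HColim
import Mathlib.Algebra.Homology.DerivedCategory.Ext.ExactSequences

/-!
# The classes of abelian sheaves with vanishing cohomology above a given degree
-/

universe u

open CategoryTheory TopologicalSpace Opposite CategoryTheory.Limits

namespace Groth.Agent.Lib.Helper68.HVanish

variable {X : TopCat.{u}}

/-- `H^q(X, F) = 0` for all `q > e` -/
def Pe (e : ℕ) (F : CohTop.Ab X) : Prop := ∀ q, e < q → Subsingleton (CohTop.H F q)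

lemma Pe.mono {e e' : ℕ} (h : e ≤ e') {F : CohTop.Ab X} (hF : Pe e F) : Pe e' F :=
  fun q hq => hF q (lt_of_le_of_lt h hq)

lemma Pe.of_isZero {e : ℕ} {F : CohTop.Ab X} (h : IsZero F) : Pe e F :=
  fun q _ => Sheaf.subsingleton_H_of_isZero h q

lemma eq_zero_of {e : ℕ} {F : CohTop.Ab X} (hF : Pe e F) {q : ℕ} (hq : e < q)
    (x : CohTop.H F q) : x = 0 :=
  (hF q hq).elim _ _

open Abelian in
lemma Pe.ext2 {e : ℕ} (S : ShortComplex (CohTop.Ab X)) (hS : S.ShortExact)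
    (h₁ : Pe e S.X₁) (h₃ : Pe e S.X₃) : Pe e S.X₂ := by
  intro q hq
  refine ⟨fun a b => ?_⟩
  have key : ∀ x : CohTop.H S.X₂ q, x = 0 := by
    intro x
    have h0 : x.comp (Ext.mk₀ S.g) (add_zero q) = 0 := eq_zero_of h₃ hq _
    obtain ⟨y, hy⟩ := Ext.covariant_sequence_exact₂ _ hS x h0
    rw [← hy, eq_zero_of h₁ hq y, Ext.zero_comp]
  rw [key a, key b]

open Abelian in
lemma Pe.coker {e : ℕ} (S : ShortComplex (CohTop.Ab X)) (hS : S.ShortExact)
    (h₂ : Pe e S.X₂) (h₁ : Pe (e + 1) S.X₁) : Pe e S.X₃ := by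
  intro q hq
  refine ⟨fun a b => ?_⟩
  have key : ∀ x : CohTop.H S.X₃ q, x = 0 := by
    intro x
    have h0 : x.comp hS.extClass (rfl : q + 1 = q + 1) = 0 :=
      eq_zero_of h₁ (Nat.succ_lt_succ hq) _
    obtain ⟨y, hy⟩ := Ext.covariant_sequence_exact₃ _ hS x rfl h0
    rw [← hy, eq_zero_of h₂ hq y, Ext.zero_comp]
  rw [key a, key b]

open Abelian in
lemma Pe.ker {e : ℕ} (S : ShortComplex (CohTop.Ab X)) (hS : S.ShortExact)
    (h₂ : Pe e S.X₂) (h₃ : Pe e S.X₃) : Pe (e + 1) S.X₁ := by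
  intro q hq
  obtain ⟨q, rfl⟩ : ∃ q', q = q' + 1 := ⟨q - 1, by omega⟩
  have hq' : e < q := by omega
  refine ⟨fun a b => ?_⟩
  have key : ∀ x : CohTop.H S.X₁ (q + 1), x = 0 := by
    intro x
    have h0 : x.comp (Ext.mk₀ S.f) (add_zero (q + 1)) = 0 := eq_zero_of h₂ (by omega) _
    obtain ⟨y, hy⟩ := Ext.covariant_sequence_exact₁ _ hS x h0 rfl
    rw [← hy, eq_zero_of h₃ hq' y, Ext.zero_comp]
  rw [key a, key b]

open Abelian in
lemma Pe.of_iso {e : ℕ} {F G : CohTop.Ab X} (i : F ≅ G) (hF : Pe e F) : Pe e G := by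
  intro q hq
  refine ⟨fun a b => ?_⟩
  have key : ∀ x : CohTop.H G q, x = 0 := by
    intro x
    have h0 : x.comp (Ext.mk₀ i.inv) (add_zero q) = 0 := eq_zero_of hF hq _
    have h1 := congrArg (fun y => y.comp (Ext.mk₀ i.hom) (add_zero q)) h0
    simp only [Ext.zero_comp] at h1
    rwa [Ext.comp_assoc_of_third_deg_zero, Ext.mk₀_comp_mk₀, Iso.inv_hom_id, Ext.comp_mk₀_id]
      at h1
  rw [key a, key b]

lemma Pe.colim [CompactSpace X] [PrespectralSpace X] [QuasiSeparatedSpace X] {e : ℕ}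
    (ι : Type u) [Preorder ι] [IsDirected ι (· ≤ ·)] [Nonempty ι]
    (M : ι ⥤ CohTop.Ab X) (c : Cocone M) (hc : IsColimit c) (h : ∀ i, Pe e (M.obj i)) :
    Pe e c.pt :=
  fun q hq => HColim.subsingleton_H_of_isColimit M hc q (fun i => h i q hq)

end Groth.Agent.Lib.Helper68.HVanish
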