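import Groth.Agent.Lib.Helper68.ShDeviss2
import Groth.Agent.Lib.Helper68.FreeShTF
import Groth.Agent.Lib.Helper68.HVanish

/-!
# Finitely generated subsheaves of free sheaves on quasi-compact opens
-/

universe u

open CategoryTheory TopologicalSpace Opposite CategoryTheory.Limits

namespace Groth.Agent.Lib.Helper68.FreeShData

open Groth.Agent.Lib.Helper53 Groth.Agent.Lib.Helper68.FreeShLoc Groth.Agent.Lib.Helper68.ShDeviss
  Groth.Agent.Lib.Helper68.HVanish

variable {X : TopCat.{u}} [PrespectralSpace X]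

/-- finite quasi-compact cover on which a map of free sheaves has its local form -/
lemma exists_cover_form {U V : Opens X} (hV : IsCompact (V : Set X))
    (s : freeSheaf V ⟶ freeSheaf U) :
    ∃ (ι : Type u) (_ : Finite ι) (Vα : ι → Opens X) (hle : ∀ α, Vα α ≤ V),
      (∀ α, IsCompact (Vα α : Set X)) ∧ V ≤ ⨆ α, Vα α ∧
      ∀ α, (freeSheafMap (homOfLE (hle α)) ≫ s = 0 ∨
        ∃ (hU : Vα α ≤ U) (n : ℤ), n ≠ 0 ∧
          freeSheafMap (homOfLE (hle α)) ≫ s = n • freeSheafMap (homOfLE hU)) := by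
  choose V' hx' hc' hle' hform using fun x : V => exists_local_form s x.1 x.2
  obtain ⟨t, ht⟩ := hV.elim_finite_subcover (fun x : V => ((V' x : Opens X) : Set X))
    (fun x => (V' x).2) (fun x hx => Set.mem_iUnion.2 ⟨⟨x, hx⟩, hx' ⟨x, hx⟩⟩)
  refine ⟨↥t, inferInstance, fun i => V' i.1, fun i => hle' i.1, fun i => hc' i.1, ?_,
    fun i => hform i.1⟩
  intro x hx
  obtain ⟨i, hi, hxi⟩ := Set.mem_iUnion₂.1 (ht hx)
  exact Opens.mem_iSup.2 ⟨⟨i, hi⟩, hxi⟩

/-- the local data attached to a finite set of generators of a subsheaf of a free sheaf -/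
lemma exists_data {U : Opens X} {K : CohTop.Ab X} (k : K ⟶ freeSheaf U) (A : Finset (Gen K)) :
    ∃ (B : Type u) (_ : Finite B) (Vb : B → Opens X) (ab : B → Gen K)
      (hle : ∀ b, Vb b ≤ (ab b).1.1) (hU : ∀ b, Vb b ≤ U) (n : B → ℤ),
      (∀ b, ab b ∈ A) ∧ (∀ b, IsCompact (Vb b : Set X)) ∧ (∀ b, n b ≠ 0) ∧
      (∀ b, freeSheafMap (homOfLE (hle b)) ≫ (ab b).2 ≫ k =
        n b • freeSheafMap (homOfLE (hU b))) ∧
      (∀ {D : CohTop.Ab X} (g : freeSheaf U ⟶ D),
        (∀ b, n b • (freeSheafMap (homOfLE (hU b)) ≫ g) = 0) → ∀ a ∈ A, a.2 ≫ k ≫ g = 0) := by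
  choose ι fι Vα hle hc hcov hform using
    fun a : Gen K => exists_cover_form a.1.2 (a.2 ≫ k)
  let B : Type u := Σ a : ↥A, {α : ι a.1 // ∃ (hU : Vα a.1 α ≤ U) (n : ℤ), n ≠ 0 ∧
    freeSheafMap (homOfLE (hle a.1 α)) ≫ (a.1.2 ≫ k) = n • freeSheafMap (homOfLE hU)}
  have hB : Finite B := by
    have : ∀ a : ↥A, Finite (ι a.1) := fun a => fι a.1
    infer_instance
  refine ⟨B, hB, fun b => Vα b.1.1 b.2.1, fun b => b.1.1, fun b => hle b.1.1 b.2.1,
    fun b => b.2.2.choose, fun b => b.2.2.choose_spec.choose, fun b => b.1.2,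
    fun b => hc b.1.1 b.2.1, fun b => b.2.2.choose_spec.choose_spec.1,
    fun b => b.2.2.choose_spec.choose_spec.2, ?_⟩
  intro D g hg a ha
  apply hom_eq_zero_of_cover (Vα a) (hle a) (hcov a)
  intro α
  rcases hform a α with h0 | hnz
  · rw [← Category.assoc, ← Category.assoc, Category.assoc _ a.2 k, h0, zero_comp]
  · have hb := hg ⟨⟨a, ha⟩, ⟨α, hnz⟩⟩
    have e := hnz.choose_spec.choose_spec.2
    rw [← Category.assoc, ← Category.assoc, Category.assoc _ a.2 k, e, Preadditive.zsmul_comp]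
    exact hb

end Groth.Agent.Lib.Helper68.FreeShData
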