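import Groth.Agent.Lib.Helper68.FreeShData

/-!
# Cohomological dévissage to the free sheaves on quasi-compact opens
-/

universe u

open CategoryTheory TopologicalSpace Opposite CategoryTheory.Limits

namespace Groth.Agent.Lib.Helper68.FreeShFG

open Groth.Agent.Lib.Helper53 Groth.Agent.Lib.Helper68.FreeShLoc Groth.Agent.Lib.Helper68.ShDeviss
  Groth.Agent.Lib.Helper68.HVanish Groth.Agent.Lib.Helper68.FreeShData

variable {X : TopCat.{u}} [PrespectralSpace X]

lemma isCompact_iSup_of_finite {B : Type*} [Finite B] (Vb : B → Opens X)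
    (hc : ∀ b, IsCompact (Vb b : Set X)) : IsCompact ((⨆ b, Vb b : Opens X) : Set X) := by
  rw [Opens.coe_iSup]
  exact isCompact_iUnion hc

lemma ses_of_mono {A G : CohTop.Ab X} (j : A ⟶ G) [Mono j] :
    (ShortComplex.mk j (cokernel.π j) (cokernel.condition j)).ShortExact :=
  { exact := ShortComplex.exact_cokernel j
    mono_f := by dsimp; infer_instance
    epi_g := by dsimp; infer_instance }

lemma ses_of_epi {G Q : CohTop.Ab X} (π : G ⟶ Q) [Epi π] :
    (ShortComplex.mk (kernel.ι π) π (kernel.condition π)).ShortExact :=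
  { exact := ShortComplex.exact_kernel π
    mono_f := by dsimp; infer_instance
    epi_g := by dsimp; infer_instance }

/-- finitely generated subsheaves of `ℤ_U` have no cohomology above degree `d + 1` -/
theorem fg_sub [CompactSpace X] [QuasiSeparatedSpace X] (d : ℕ)
    (hZ : ∀ U : Opens X, IsCompact (U : Set X) → Pe d (freeSheaf U))
    (hT : ∀ W : Opens X, IsCompact (W : Set X) → ∀ N : ℕ, 0 < N →
      ∀ (Q : CohTop.Ab X) (π : freeSheaf W ⟶ Q), Epi π → (N : ℤ) • π = 0 → Pe d Q)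
    {U : Opens X} {K : CohTop.Ab X} (k : K ⟶ freeSheaf U) [Mono k] (A : Finset (Gen K)) :
    Pe (d + 1) (sub K A : CohTop.Ab X) := by
  classical
  obtain ⟨B, hB, Vb, ab, hle, hU, n, habA, hc, hn, hform, hvan⟩ := exists_data k A
  let W : Opens X := ⨆ b, Vb b
  have hWU : W ≤ U := iSup_le hU
  have hWc : IsCompact (W : Set X) := isCompact_iSup_of_finite Vb hc
  have hbW : ∀ b, Vb b ≤ W := fun b => le_iSup Vb b
  let ιW := freeSheafMap (homOfLE hWU)
  let f1 := (sub K A).arrow ≫ k
  have h_i : f1 ≫ cokernel.π ιW = 0 := by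
    rw [Category.assoc]
    apply sub_arrow_comp_eq_zero
    intro a ha
    refine hvan (cokernel.π ιW) (fun b => ?_) a ha
    rw [← freeSheafMap_homOfLE_comp (hbW b) hWU, Category.assoc, cokernel.condition, comp_zero,
      smul_zero]
  let j := Abelian.monoLift ιW f1 h_i
  have hj : j ≫ ιW = f1 := Abelian.monoLift_comp ιW f1 h_i
  have : Mono f1 := mono_comp _ _
  have : Mono j := mono_of_mono_fac hj
  have := Fintype.ofFinite B
  let N : ℤ := ∏ b, n b
  have hN : N ≠ 0 := Finset.prod_ne_zero_iff.2 (fun b _ => hn b)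
  have hkill : (N • 𝟙 (freeSheaf W)) ≫ cokernel.π j = 0 := by
    apply hom_eq_zero_of_cover Vb hbW (le_refl _)
    intro b
    obtain ⟨ā, hā⟩ := gen_factor (habA b)
    have key : n b • freeSheafMap (homOfLE (hbW b)) = freeSheafMap (homOfLE (hle b)) ≫ ā ≫ j := by
      rw [← cancel_mono ιW, Preadditive.zsmul_comp, freeSheafMap_homOfLE_comp, Category.assoc,
        Category.assoc, hj]
      change _ = _ ≫ ā ≫ (sub K A).arrow ≫ k
      rw [← Category.assoc ā, hā, hform]
    obtain ⟨m, hm⟩ : n b ∣ N := Finset.dvd_prod_of_mem n (Finset.mem_univ b)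
    rw [Preadditive.zsmul_comp, Category.id_comp, Preadditive.comp_zsmul, hm, mul_comm, mul_smul,
      ← Preadditive.zsmul_comp, key, Category.assoc, Category.assoc, cokernel.condition, comp_zero,
      comp_zero, smul_zero]
  have hNn : 0 < N.natAbs := Int.natAbs_pos.2 hN
  have hkill' : ((N.natAbs : ℕ) : ℤ) • cokernel.π j = 0 := by
    have h0 : N • cokernel.π j = 0 := by
      rw [← hkill, Preadditive.zsmul_comp, Category.id_comp]
    rcases Int.natAbs_eq N with h | h
    · rw [← h]; exact h0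
    · have : ((N.natAbs : ℕ) : ℤ) = -N := by omega
      rw [this, neg_smul, h0, neg_zero]
  have hcok : Pe d (cokernel j) := hT W hWc N.natAbs hNn _ (cokernel.π j) inferInstance hkill'
  exact Pe.ker _ (ses_of_mono j) (hZ W hWc) hcok

open scoped Classical in
/-- quotients of `ℤ_W` killed by a prime have no cohomology above degree `d` -/
theorem prime_case [CompactSpace X] [QuasiSeparatedSpace X] (d : ℕ)
    (hZ : ∀ U : Opens X, IsCompact (U : Set X) → Pe d (freeSheaf U))
    {W : Opens X} (hW : IsCompact (W : Set X)) (p : ℕ) (hp : p.Prime)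
    (Q : CohTop.Ab X) (π : freeSheaf W ⟶ Q) (hπ : Epi π) (hpπ : (p : ℤ) • π = 0) : Pe d Q := by
  let K := kernel π
  let k : K ⟶ freeSheaf W := kernel.ι π
  let a₀m : freeSheaf W ⟶ K := kernel.lift π ((p : ℤ) • 𝟙 _) (by
    rw [Preadditive.zsmul_comp, Category.id_comp]; exact hpπ)
  have ha₀ : a₀m ≫ k = (p : ℤ) • 𝟙 _ := kernel.lift_ι _ _ _
  let a₀ : Gen K := ⟨⟨W, hW⟩, a₀m⟩
  refine Pe.coker _ (ses_of_epi π) (hZ W hW) ?_
  change Pe (d + 1) K
  refine of_family (fun ι _ _ _ M c hc h => Pe.colim ι M c hc h) K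
    (fun A => sub K (insert a₀ A)) (fun A A' h => sub_mono K (Finset.insert_subset_insert a₀ h))
    (iSup_sub_insert K a₀) (fun A => ?_)
  -- a finitely generated subsheaf containing `p ℤ_W`
  obtain ⟨B, hB, Vb, ab, hle, hU, n, habA, hc, hn, hform, hvan⟩ := exists_data k (insert a₀ A)
  let B' := {b : B // ¬ (p : ℤ) ∣ n b}
  let W' : Opens X := ⨆ b : B', Vb b.1
  have hW'W : W' ≤ W := iSup_le (fun b => hU b.1)
  have hW'c : IsCompact (W' : Set X) := isCompact_iSup_of_finite _ (fun b => hc b.1)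
  have hbW' : ∀ b : B', Vb b.1 ≤ W' := fun b => le_iSup (fun b : B' => Vb b.1) b
  let ι' := freeSheafMap (homOfLE hW'W)
  let C := cokernel ι'
  let πC : freeSheaf W ⟶ C := cokernel.π ι'
  let pC : C ⟶ C := (p : ℤ) • 𝟙 C
  have hp0 : (p : ℤ) ≠ 0 := by exact_mod_cast hp.ne_zero
  have : Mono pC := FreeShTF.mono_zsmul_cokernel_freeSheafMap (homOfLE hW'W) (p : ℤ) hp0
  let cp : C ⟶ cokernel pC := cokernel.π pC
  let π2 : freeSheaf W ⟶ cokernel pC := πC ≫ cp
  let f1 := (sub K (insert a₀ A)).arrow ≫ k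
  have : Mono f1 := mono_comp _ _
  let π1 : freeSheaf W ⟶ cokernel f1 := cokernel.π f1
  -- cohomology of `C / p C`
  have hC : Pe d C :=
    Pe.coker _ (ses_of_mono ι') (hZ W hW) ((hZ W' hW'c).mono (Nat.le_succ d))
  have hCp : Pe d (cokernel pC) :=
    Pe.coker _ (ses_of_mono pC) hC (hC.mono (Nat.le_succ d))
  have hpπ2 : (p : ℤ) • π2 = 0 := by
    have : (p : ℤ) • π2 = πC ≫ pC ≫ cp := by
      simp only [π2, pC, Preadditive.zsmul_comp, Preadditive.comp_zsmul, Category.id_comp]
    rw [this, cokernel.condition, comp_zero]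
  -- (a)
  have h_a : f1 ≫ π2 = 0 := by
    rw [Category.assoc]
    apply sub_arrow_comp_eq_zero
    intro a ha
    refine hvan π2 (fun b => ?_) a ha
    by_cases hdiv : (p : ℤ) ∣ n b
    · obtain ⟨m, hm⟩ := hdiv
      rw [← Preadditive.comp_zsmul, hm, mul_comm, mul_smul, hpπ2, smul_zero, comp_zero]
    · have e : freeSheafMap (homOfLE (hU b)) =
          freeSheafMap (homOfLE (hbW' ⟨b, hdiv⟩)) ≫ ι' :=
        (freeSheafMap_homOfLE_comp _ _).symm
      rw [e, Category.assoc]
      have : ι' ≫ π2 = 0 := by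
        simp only [π2, πC]
        rw [← Category.assoc, cokernel.condition, zero_comp]
      rw [this, comp_zero, smul_zero]
  -- (c)
  have h_c : ((p : ℤ) • 𝟙 (freeSheaf W)) ≫ π1 = 0 := by
    obtain ⟨ā, hā⟩ := gen_factor (Finset.mem_insert_self a₀ A)
    have : (p : ℤ) • 𝟙 (freeSheaf W) = ā ≫ f1 := by
      simp only [f1]
      rw [← Category.assoc, hā]
      exact ha₀.symm
    rw [this, Category.assoc, cokernel.condition, comp_zero]
  -- (b)
  have h_b : ι' ≫ π1 = 0 := by
    apply hom_eq_zero_of_cover (fun b : B' => Vb b.1) hbW' (le_refl _)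
    intro b
    rw [← Category.assoc, freeSheafMap_homOfLE_comp]
    have hcop : IsCoprime (n b.1) (p : ℤ) := by
      rw [isCoprime_comm]
      exact (Int.prime_iff_natAbs_prime.2 (by simpa using hp)).coprime_iff_not_dvd.2 b.2
    obtain ⟨u, v, huv⟩ := hcop
    obtain ⟨ā, hā⟩ := gen_factor (habA b.1)
    have h1 : (n b.1 • freeSheafMap (homOfLE (hU b.1))) ≫ π1 = 0 := by
      rw [← hform b.1]
      have : (ab b.1).2 ≫ k = ā ≫ f1 := by
        simp only [f1]
        rw [← Category.assoc, hā]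
      rw [this, Category.assoc, Category.assoc, cokernel.condition, comp_zero, comp_zero]
    have h2 : ((p : ℤ) • freeSheafMap (homOfLE (hU b.1))) ≫ π1 = 0 := by
      have : (p : ℤ) • freeSheafMap (homOfLE (hU b.1)) =
          freeSheafMap (homOfLE (hU b.1)) ≫ ((p : ℤ) • 𝟙 (freeSheaf W)) := by
        rw [Preadditive.comp_zsmul, Category.comp_id]
      rw [this, Category.assoc, h_c, comp_zero]
    have h3 : freeSheafMap (homOfLE (hU b.1)) =
        u • (n b.1 • freeSheafMap (homOfLE (hU b.1))) +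
          v • ((p : ℤ) • freeSheafMap (homOfLE (hU b.1))) := by
      rw [smul_smul, smul_smul, ← add_smul, huv, one_smul]
    have h4 : freeSheafMap (homOfLE (hU b.1)) ≫ π1 =
        u • ((n b.1 • freeSheafMap (homOfLE (hU b.1))) ≫ π1) +
          v • (((p : ℤ) • freeSheafMap (homOfLE (hU b.1))) ≫ π1) := by
      rw [← Preadditive.zsmul_comp, ← Preadditive.zsmul_comp, ← Preadditive.add_comp, ← h3]
    rw [h4, h1, h2, smul_zero, smul_zero, add_zero]
  -- the isomorphism of quotients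
  let c₁ : C ⟶ cokernel f1 := cokernel.desc ι' π1 h_b
  have hc₁ : πC ≫ c₁ = π1 := cokernel.π_desc _ _ _
  have hpc₁ : pC ≫ c₁ = 0 := by
    rw [← cancel_epi πC]
    have : πC ≫ pC ≫ c₁ = ((p : ℤ) • 𝟙 (freeSheaf W)) ≫ π1 := by
      simp only [pC]
      rw [Preadditive.zsmul_comp, Preadditive.comp_zsmul, Preadditive.zsmul_comp,
        Category.id_comp, Category.id_comp, hc₁]
    rw [this, h_c, comp_zero]
  let c₂ : cokernel pC ⟶ cokernel f1 := cokernel.desc pC c₁ hpc₁
  have hc₂ : π2 ≫ c₂ = π1 := by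
    simp only [π2, c₂, cp]
    rw [Category.assoc, cokernel.π_desc, hc₁]
  let dd : cokernel f1 ⟶ cokernel pC := cokernel.desc f1 π2 h_a
  have hdd : π1 ≫ dd = π2 := cokernel.π_desc _ _ _
  have : Epi π2 := epi_comp _ _
  obtain ⟨iso⟩ := quot_iso π1 π2 c₂ dd hc₂ hdd
  have hcok : Pe d (cokernel f1) := Pe.of_iso iso.symm hCp
  exact Pe.ker _ (ses_of_mono f1) (hZ W hW) hcok

/-- **Main theorem.** -/
theorem main [CompactSpace X] [QuasiSeparatedSpace X] (d : ℕ)
    (hZ : ∀ U : Opens X, IsCompact (U : Set X) → Pe d (freeSheaf U)) (F : CohTop.Ab X) :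
    Pe d F := by
  have hT : ∀ W : Opens X, IsCompact (W : Set X) → ∀ N : ℕ, 0 < N →
      ∀ (Q : CohTop.Ab X) (π : freeSheaf W ⟶ Q), Epi π → (N : ℤ) • π = 0 → Pe d Q :=
    fun W hW => torsion_induction (𝒜 := CohTop.Ab X) (P := Pe (X := X) d)
      (fun S hS h1 h3 => Pe.ext2 S hS h1 h3)
      (fun Q hQ => Pe.of_isZero hQ) (freeSheaf W)
      (fun p hp Q π hπ h => prime_case d hZ hW p hp Q π hπ h)
  have hsub : ∀ U : Opens X, IsCompact (U : Set X) → ∀ (K : CohTop.Ab X) (k : K ⟶ freeSheaf U),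
      Mono k → Pe (d + 1) K := by
    intro U hU K k hk
    exact of_family (fun ι _ _ _ M c hc h => Pe.colim ι M c hc h) K (sub K) (sub_mono K)
      (iSup_sub K) (fun A => fg_sub d hZ hT k A)
  refine devissage (P := Pe (X := X) d) (fun S hS h1 h3 => Pe.ext2 S hS h1 h3)
    (fun ι _ _ _ M c hc h => Pe.colim ι M c hc h) ?_ F
  intro U hU Q π hπ
  exact Pe.coker _ (ses_of_epi π) (hZ U hU) (hsub U hU _ (kernel.ι π) inferInstance)

end Groth.Agent.Lib.Helper68.FreeShFG
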