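import Groth.Agent.Lib.Helper26.MVTop
import Mathlib.CategoryTheory.Sites.LocallyBijective
import Mathlib.Topology.Spectral.Prespectral

/-!
# Local structure of maps between free abelian sheaves on opens of a space
-/

universe u

open CategoryTheory TopologicalSpace Opposite CategoryTheory.Limits

namespace Groth.Agent.Lib.Helper68.FreeShLoc

open Groth.Agent.Lib.Helper53 Groth.Agent.Lib.Helper26.MVTop

variable {X : TopCat.{u}}

/-- the free abelian presheaf on an open -/
noncomputable abbrev PP (U : Opens X) : (Opens X)ᵒᵖ ⥤ AddCommGrpCat.{u} :=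
  yoneda.obj U ⋙ AddCommGrpCat.free

/-- the map of free presheaves induced by an inclusion -/
noncomputable abbrev PPmap {U V : Opens X} (i : V ⟶ U) : PP V ⟶ PP U :=
  Functor.whiskerRight (yoneda.map i) AddCommGrpCat.free

lemma freeSheafMap_comp {U V W : Opens X} (i : W ⟶ V) (j : V ⟶ U) :
    freeSheafMap (i ≫ j) = freeSheafMap i ≫ freeSheafMap j := by
  unfold freeSheafMap
  rw [← Functor.map_comp]
  congr 1
  rw [yoneda.map_comp, Functor.whiskerRight_comp]

lemma freeSheafMap_homOfLE_comp {U V W : Opens X} (h₁ : W ≤ V) (h₂ : V ≤ U) :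
    freeSheafMap (homOfLE h₁) ≫ freeSheafMap (homOfLE h₂) = freeSheafMap (homOfLE (h₁.trans h₂)) := by
  rw [← freeSheafMap_comp]
  rfl

lemma hom_eq (U : Opens X) (F : CohTop.Ab X) (f : freeSheaf U ⟶ F) :
    freeSheafHomEquiv U F f =
      (toSheafify (Opens.grothendieckTopology X) (PP U) ≫ f.hom).app (op U)
        (FreeAbelianGroup.of (𝟙 U)) := rfl

lemma homEquiv_zero (U : Opens X) (F : CohTop.Ab X) :
    freeSheafHomEquiv U F 0 = 0 := by
  rw [freeSheafHomEquiv_eq]
  rfl

lemma homEquiv_zsmul (U : Opens X) (F : CohTop.Ab X) (n : ℤ) (f : freeSheaf U ⟶ F) :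
    freeSheafHomEquiv U F (n • f) = n • freeSheafHomEquiv U F f := by
  rw [freeSheafHomEquiv_eq, freeSheafHomEquiv_eq]
  rfl

/-- **separatedness**: a map out of the free sheaf on `V` vanishing on a cover of `V` vanishes -/
lemma hom_eq_zero_of_cover {V : Opens X} {ι : Type*} (Vα : ι → Opens X) (hle : ∀ α, Vα α ≤ V)
    (hcov : V ≤ ⨆ α, Vα α) {G : CohTop.Ab X} (s : freeSheaf V ⟶ G)
    (h : ∀ α, freeSheafMap (homOfLE (hle α)) ≫ s = 0) : s = 0 := by
  apply (freeSheafHomEquiv V G).injective
  rw [homEquiv_zero]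
  have hV : V = ⨆ α, Vα α := le_antisymm hcov (iSup_le hle)
  subst hV
  refine TopCat.Sheaf.eq_of_locally_eq' G Vα _ (fun α => homOfLE (hle α)) (le_refl _) _ _ ?_
  intro α
  have h1 := freeSheafHomEquiv_naturality_left (homOfLE (hle α)) G s
  rw [h α, homEquiv_zero] at h1
  rw [map_zero]
  exact h1.symm

lemma homEquiv_freeSheafMap {U V : Opens X} (f : V ⟶ U) :
    freeSheafHomEquiv V (freeSheaf U) (freeSheafMap f) =
      (toSheafify (Opens.grothendieckTopology X) (PP U)).app (op V) (FreeAbelianGroup.of f) := by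
  rw [hom_eq]
  have h1 : toSheafify (Opens.grothendieckTopology X) (PP V) ≫ (freeSheafMap f).hom =
      PPmap f ≫ toSheafify (Opens.grothendieckTopology X) (PP U) :=
    (toSheafify_naturality _ _).symm
  rw [h1]
  change (toSheafify (Opens.grothendieckTopology X) (PP U)).app (op V)
    ((PPmap f).app (op V) (FreeAbelianGroup.of (𝟙 V))) = _
  congr 1

lemma freeAb_eq_zsmul {T : Type*} [Subsingleton T] (t : T) (τ : FreeAbelianGroup T) :
    ∃ n : ℤ, τ = n • FreeAbelianGroup.of t := by
  induction τ using FreeAbelianGroup.induction_on with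
  | zero => exact ⟨0, by simp⟩
  | of x => exact ⟨1, by rw [one_smul, Subsingleton.elim x t]⟩
  | neg x ih => obtain ⟨n, hn⟩ := ih; exact ⟨-n, by rw [hn, neg_smul]⟩
  | add x y hx hy =>
    obtain ⟨n, hn⟩ := hx
    obtain ⟨m, hm⟩ := hy
    exact ⟨n + m, by rw [hn, hm, add_smul]⟩

lemma freeAb_eq_zero {T : Type*} [IsEmpty T] (τ : FreeAbelianGroup T) : τ = 0 := by
  induction τ using FreeAbelianGroup.induction_on with
  | zero => rfl
  | of x => exact isEmptyElim x
  | neg x ih => rw [ih, neg_zero]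
  | add x y hx hy => rw [hx, hy, add_zero]

/-- **local form** of a map between free sheaves -/
theorem exists_local_form [PrespectralSpace X] {U V : Opens X} (s : freeSheaf V ⟶ freeSheaf U)
    (x : X) (hx : x ∈ V) :
    ∃ V' : Opens X, x ∈ V' ∧ IsCompact (V' : Set X) ∧ ∃ hle : V' ≤ V,
      (freeSheafMap (homOfLE hle) ≫ s = 0 ∨
        ∃ (hU : V' ≤ U) (n : ℤ), n ≠ 0 ∧
          freeSheafMap (homOfLE hle) ≫ s = n • freeSheafMap (homOfLE hU)) := by
  let σ := freeSheafHomEquiv V (freeSheaf U) s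
  obtain ⟨V₁, i₁, ⟨τ, hτ⟩, hxV₁⟩ :=
    Presheaf.imageSieve_mem (Opens.grothendieckTopology X)
      (toSheafify (Opens.grothendieckTopology X) (PP U)) σ x hx
  obtain ⟨W, ⟨hWo, hWc⟩, hxW, hWV₁⟩ :=
    (PrespectralSpace.isTopologicalBasis (X := X)).exists_subset_of_mem_open hxV₁ V₁.2
  let V' : Opens X := ⟨W, hWo⟩
  have h1 : V' ≤ V₁ := hWV₁
  have hle : V' ≤ V := h1.trans (leOfHom i₁)
  refine ⟨V', hxW, hWc, hle, ?_⟩
  -- the restriction of `σ` to `V'` comes from the presheaf
  let τ' := (PP U).map (homOfLE h1).op τ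
  have hτ' : (toSheafify (Opens.grothendieckTopology X) (PP U)).app (op V') τ' =
      (freeSheaf U).obj.map (homOfLE hle).op σ := by
    have e1 := NatTrans.naturality_apply (toSheafify (Opens.grothendieckTopology X) (PP U))
      (homOfLE h1).op τ
    change (toSheafify (Opens.grothendieckTopology X) (PP U)).app (op V') τ' = _ at e1
    rw [e1, hτ]
    rw [← ConcreteCategory.comp_apply, ← Functor.map_comp]
    rfl
  have hσ : freeSheafHomEquiv V' (freeSheaf U) (freeSheafMap (homOfLE hle) ≫ s) =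
      (toSheafify (Opens.grothendieckTopology X) (PP U)).app (op V') τ' := by
    rw [freeSheafHomEquiv_naturality_left, hτ']
  by_cases hne : Nonempty (V' ⟶ U)
  · obtain ⟨f⟩ := hne
    obtain ⟨n, hn⟩ := freeAb_eq_zsmul f τ'
    by_cases hn0 : n = 0
    · left
      apply (freeSheafHomEquiv V' (freeSheaf U)).injective
      rw [hσ, homEquiv_zero, hn, hn0, zero_smul]
      exact map_zero _
    · right
      refine ⟨leOfHom f, n, hn0, ?_⟩
      apply (freeSheafHomEquiv V' (freeSheaf U)).injective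
      have hf : homOfLE (leOfHom f) = f := Subsingleton.elim _ _
      rw [hσ, homEquiv_zsmul, hf, homEquiv_freeSheafMap, hn]
      exact map_zsmul _ _ _
  · left
    have : IsEmpty (V' ⟶ U) := not_nonempty_iff.1 hne
    apply (freeSheafHomEquiv V' (freeSheaf U)).injective
    rw [hσ, homEquiv_zero, freeAb_eq_zero τ']
    exact map_zero _

end Groth.Agent.Lib.Helper68.FreeShLoc
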