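import Mathlib.CategoryTheory.Abelian.LeftDerived
import Mathlib.Algebra.Homology.HomologySequenceLemmas
import Mathlib.Algebra.Homology.HomologicalComplexAbelian

/-! The long exact sequence of left derived functors attached to a short exact sequence of
additive functors `F₁ ⟶ F₂ ⟶ F₃` (exact on projective objects), evaluated at a fixed object:
`⋯ ⟶ LₙF₁(X) ⟶ LₙF₂(X) ⟶ LₙF₃(X) ⟶ Lₙ₋₁F₁(X) ⟶ ⋯`, with naturality in `X`. -/

set_option autoImplicit false
universe v u v' u'

open CategoryTheory Category Limits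

namespace Groth.Agent.Lib.Helper68.FunctorSES

variable {C : Type u} [Category.{v} C] [Abelian C]
  {D : Type u'} [Category.{v'} D] [Abelian D]
  {F₁ F₂ F₃ : C ⥤ D} [F₁.Additive] [F₂.Additive] [F₃.Additive]
  (α : F₁ ⟶ F₂) (β : F₂ ⟶ F₃)

/-- the sequence of functors is short exact on projective objects -/
structure ExactOnProj : Prop where
  zero : α ≫ β = 0
  shortExact : ∀ (P : C) [Projective P],
    (ShortComplex.mk (α.app P) (β.app P)
      (by rw [← NatTrans.comp_app, zero]; rfl)).ShortExact

variable {α β}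

lemma rel_succ (n : ℕ) : (ComplexShape.down ℕ).Rel (n + 1) n := by simp

lemma ExactOnProj.app_zero (h : ExactOnProj α β) (Y : C) : α.app Y ≫ β.app Y = 0 := by
  rw [← NatTrans.comp_app, h.zero]; rfl

/-- the short complex of complexes `F₁(K) ⟶ F₂(K) ⟶ F₃(K)` -/
noncomputable def cx (h : ExactOnProj α β) (K : ChainComplex C ℕ) :
    ShortComplex (ChainComplex D ℕ) :=
  ShortComplex.mk ((NatTrans.mapHomologicalComplex α (ComplexShape.down ℕ)).app K)
    ((NatTrans.mapHomologicalComplex β (ComplexShape.down ℕ)).app K) (by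
      ext n
      exact h.app_zero (K.X n))

/-- functoriality of `cx` in the complex -/
noncomputable def cxMap (h : ExactOnProj α β) {K L : ChainComplex C ℕ} (φ : K ⟶ L) :
    cx h K ⟶ cx h L :=
  ShortComplex.homMk ((F₁.mapHomologicalComplex _).map φ) ((F₂.mapHomologicalComplex _).map φ)
    ((F₃.mapHomologicalComplex _).map φ)
    ((NatTrans.mapHomologicalComplex α (ComplexShape.down ℕ)).naturality φ)
    ((NatTrans.mapHomologicalComplex β (ComplexShape.down ℕ)).naturality φ)

variable {X : C} (h : ExactOnProj α β) (P : ProjectiveResolution X)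

theorem cx_shortExact : (cx h P.complex).ShortExact := by
  apply HomologicalComplex.shortExact_of_degreewise_shortExact
  intro n
  have := P.projective n
  exact h.shortExact (P.complex.X n)

variable [HasProjectiveResolutions C]

/-- comparison isomorphism -/
noncomputable def iso₁ (n : ℕ) :
    (F₁.leftDerived n).obj X ≅ (cx h P.complex).X₁.homology n :=
  P.isoLeftDerivedObj F₁ n

/-- comparison isomorphism -/
noncomputable def iso₂ (n : ℕ) :
    (F₂.leftDerived n).obj X ≅ (cx h P.complex).X₂.homology n :=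
  P.isoLeftDerivedObj F₂ n

/-- comparison isomorphism -/
noncomputable def iso₃ (n : ℕ) :
    (F₃.leftDerived n).obj X ≅ (cx h P.complex).X₃.homology n :=
  P.isoLeftDerivedObj F₃ n

/-- the connecting morphism computed from a resolution -/
noncomputable def deltaAux (n : ℕ) :
    (F₃.leftDerived (n + 1)).obj X ⟶ (F₁.leftDerived n).obj X :=
  (iso₃ h P (n + 1)).hom ≫ (cx_shortExact h P).δ (n + 1) n (rel_succ n) ≫
    (iso₁ h P n).inv

@[reassoc]
lemma sqα (n : ℕ) :
    (NatTrans.leftDerived α n).app X ≫ (iso₂ h P n).hom =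
      (iso₁ h P n).hom ≫ HomologicalComplex.homologyMap (cx h P.complex).f n := by
  rw [P.leftDerived_app_eq α n]
  simp only [assoc]
  erw [Iso.inv_hom_id, comp_id]
  rfl

@[reassoc]
lemma sqβ (n : ℕ) :
    (NatTrans.leftDerived β n).app X ≫ (iso₃ h P n).hom =
      (iso₂ h P n).hom ≫ HomologicalComplex.homologyMap (cx h P.complex).g n := by
  rw [P.leftDerived_app_eq β n]
  simp only [assoc]
  erw [Iso.inv_hom_id, comp_id]
  rfl

include h P in
lemma app_comp_app (n : ℕ) :
    (NatTrans.leftDerived α n).app X ≫ (NatTrans.leftDerived β n).app X = 0 := by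
  rw [← cancel_mono (iso₃ h P n).hom, assoc, sqβ, sqα_assoc, zero_comp,
    ← HomologicalComplex.homologyMap_comp, (cx h P.complex).zero,
    HomologicalComplex.homologyMap_zero, comp_zero]

lemma app_deltaAux (n : ℕ) :
    (NatTrans.leftDerived β (n + 1)).app X ≫ deltaAux h P n = 0 := by
  unfold deltaAux
  rw [sqβ_assoc, (cx_shortExact h P).comp_δ_assoc, zero_comp, comp_zero]

lemma deltaAux_app (n : ℕ) :
    deltaAux h P n ≫ (NatTrans.leftDerived α n).app X = 0 := by
  unfold deltaAux
  rw [← cancel_mono (iso₂ h P n).hom]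
  simp only [assoc, zero_comp]
  rw [sqα, Iso.inv_hom_id_assoc, (cx_shortExact h P).δ_comp, comp_zero]

lemma exact₂_aux (n : ℕ) :
    (ShortComplex.mk ((NatTrans.leftDerived α n).app X) ((NatTrans.leftDerived β n).app X)
      (app_comp_app h P n)).Exact :=
  (ShortComplex.exact_iff_of_iso (ShortComplex.isoMk (iso₁ h P n)
    (iso₂ h P n) (iso₃ h P n)
    (sqα h P n).symm (sqβ h P n).symm)).mpr
    ((cx_shortExact h P).homology_exact₂ n)

lemma exact₃_aux (n : ℕ) :
    (ShortComplex.mk ((NatTrans.leftDerived β (n + 1)).app X) (deltaAux h P n)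
      (app_deltaAux h P n)).Exact :=
  (ShortComplex.exact_iff_of_iso (ShortComplex.isoMk
    (iso₂ h P (n + 1)) (iso₃ h P (n + 1)) (iso₁ h P n)
    (sqβ h P (n + 1)).symm (by simp [deltaAux]))).mpr
    ((cx_shortExact h P).homology_exact₃ (n + 1) n (rel_succ n))

lemma exact₁_aux (n : ℕ) :
    (ShortComplex.mk (deltaAux h P n) ((NatTrans.leftDerived α n).app X)
      (deltaAux_app h P n)).Exact :=
  (ShortComplex.exact_iff_of_iso (ShortComplex.isoMk
    (iso₃ h P (n + 1)) (iso₁ h P n) (iso₂ h P n)
    (by simp [deltaAux]) (sqα h P n).symm)).mpr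
    ((cx_shortExact h P).homology_exact₁ (n + 1) n (rel_succ n))

include h P in
lemma epi_aux : Epi ((NatTrans.leftDerived β 0).app X) := by
  have := (cx_shortExact h P).epi_g
  have h1 : Epi (HomologicalComplex.homologyMap (cx h P.complex).g 0) :=
    HomologicalComplex.epi_homologyMap_of_epi_of_not_rel _ 0 (by simp)
  have h2 := sqβ h P 0
  have h3 : Epi ((NatTrans.leftDerived β 0).app X ≫ (iso₃ h P 0).hom) := by
    rw [h2]; infer_instance
  have h4 : (NatTrans.leftDerived β 0).app X =
      ((NatTrans.leftDerived β 0).app X ≫ (iso₃ h P 0).hom) ≫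
        (iso₃ h P 0).inv := by simp
  rw [h4]
  infer_instance

end Groth.Agent.Lib.Helper68.FunctorSES
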