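import Groth.Agent.Lib.Helper68.FunctorSES

/-! Naturality of the connecting morphism of `FunctorSES` and the public API. -/

set_option autoImplicit false
universe v u v' u'

open CategoryTheory Category Limits

namespace Groth.Agent.Lib.Helper68.FunctorSES

variable {C : Type u} [Category.{v} C] [Abelian C] [HasProjectiveResolutions C]
  {D : Type u'} [Category.{v'} D] [Abelian D]
  {F₁ F₂ F₃ : C ⥤ D} [F₁.Additive] [F₂.Additive] [F₃.Additive]
  {α : F₁ ⟶ F₂} {β : F₂ ⟶ F₃} (h : ExactOnProj α β)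

lemma deltaAux_comp_iso {X : C} (P : ProjectiveResolution X) (n : ℕ) :
    deltaAux h P n ≫ (iso₁ h P n).hom =
      (iso₃ h P (n + 1)).hom ≫ (cx_shortExact h P).δ (n + 1) n (rel_succ n) := by
  simp only [deltaAux, assoc, Iso.inv_hom_id, comp_id]

/-- naturality of the connecting morphism computed from resolutions -/
theorem deltaAux_natural {X Y : C} (f : X ⟶ Y) (P : ProjectiveResolution X)
    (Q : ProjectiveResolution Y) (n : ℕ) :
    (F₃.leftDerived (n + 1)).map f ≫ deltaAux h Q n =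
      deltaAux h P n ≫ (F₁.leftDerived n).map f := by
  let φ := ProjectiveResolution.lift f P Q
  have hφ : φ.f 0 ≫ Q.π.f 0 = P.π.f 0 ≫ f := ProjectiveResolution.lift_commutes_zero _ _ _
  have nat := HomologicalComplex.HomologySequence.δ_naturality (cxMap h φ) (cx_shortExact h P)
    (cx_shortExact h Q) (n + 1) n (rel_succ n)
  have e3 : (F₃.leftDerived (n + 1)).map f ≫ (iso₃ h Q (n + 1)).hom =
      (iso₃ h P (n + 1)).hom ≫ HomologicalComplex.homologyMap (cxMap h φ).τ₃ (n + 1) :=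
    ProjectiveResolution.isoLeftDerivedObj_hom_naturality f P Q φ hφ F₃ (n + 1)
  have e1 : (F₁.leftDerived n).map f ≫ (iso₁ h Q n).hom =
      (iso₁ h P n).hom ≫ HomologicalComplex.homologyMap (cxMap h φ).τ₁ n :=
    ProjectiveResolution.isoLeftDerivedObj_hom_naturality f P Q φ hφ F₁ n
  rw [← cancel_mono (iso₁ h Q n).hom, assoc, assoc, deltaAux_comp_iso, reassoc_of% e3,
    ← nat, e1, reassoc_of% (deltaAux_comp_iso h P n)]

/-- independence of the resolution -/
theorem deltaAux_eq {X : C} (P Q : ProjectiveResolution X) (n : ℕ) :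
    deltaAux h P n = deltaAux h Q n := by
  have := deltaAux_natural h (𝟙 X) P Q n
  simpa using this.symm

variable (X : C)

/-- the connecting morphism `Lₙ₊₁F₃(X) ⟶ LₙF₁(X)` -/
noncomputable def δ (n : ℕ) : (F₃.leftDerived (n + 1)).obj X ⟶ (F₁.leftDerived n).obj X :=
  deltaAux h (projectiveResolution X) n

lemma δ_eq {X : C} (P : ProjectiveResolution X) (n : ℕ) : δ h X n = deltaAux h P n :=
  deltaAux_eq h _ _ n

/-- naturality of the connecting morphism -/
theorem δ_natural {X Y : C} (f : X ⟶ Y) (n : ℕ) :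
    (F₃.leftDerived (n + 1)).map f ≫ δ h Y n = δ h X n ≫ (F₁.leftDerived n).map f :=
  deltaAux_natural h f _ _ n

include h in
@[reassoc]
lemma app_comp_app' (n : ℕ) :
    (NatTrans.leftDerived α n).app X ≫ (NatTrans.leftDerived β n).app X = 0 :=
  app_comp_app h (projectiveResolution X) n

@[reassoc (attr := simp)]
lemma app_δ (n : ℕ) : (NatTrans.leftDerived β (n + 1)).app X ≫ δ h X n = 0 :=
  app_deltaAux h _ n

@[reassoc (attr := simp)]
lemma δ_app (n : ℕ) : δ h X n ≫ (NatTrans.leftDerived α n).app X = 0 :=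
  deltaAux_app h _ n

/-- exactness of `LₙF₁(X) ⟶ LₙF₂(X) ⟶ LₙF₃(X)` -/
theorem exact₂ (n : ℕ) :
    (ShortComplex.mk ((NatTrans.leftDerived α n).app X) ((NatTrans.leftDerived β n).app X)
      (app_comp_app' h X n)).Exact :=
  exact₂_aux h (projectiveResolution X) n

/-- exactness of `Lₙ₊₁F₂(X) ⟶ Lₙ₊₁F₃(X) ⟶ LₙF₁(X)` -/
theorem exact₃ (n : ℕ) :
    (ShortComplex.mk ((NatTrans.leftDerived β (n + 1)).app X) (δ h X n) (app_δ h X n)).Exact :=
  exact₃_aux h _ n

/-- exactness of `Lₙ₊₁F₃(X) ⟶ LₙF₁(X) ⟶ LₙF₂(X)` -/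
theorem exact₁ (n : ℕ) :
    (ShortComplex.mk (δ h X n) ((NatTrans.leftDerived α n).app X) (δ_app h X n)).Exact :=
  exact₁_aux h _ n

include h in
/-- `L₀F₂(X) ⟶ L₀F₃(X)` is an epimorphism -/
theorem epi_app_zero : Epi ((NatTrans.leftDerived β 0).app X) :=
  epi_aux h (projectiveResolution X)

/-- `δ` is a monomorphism when `Lₙ₊₁F₂(X) = 0`. -/
lemma mono_δ (n : ℕ) (h2 : IsZero ((F₂.leftDerived (n + 1)).obj X)) : Mono (δ h X n) :=
  (exact₃ h X n).mono_g (h2.eq_of_src _ _)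

/-- `δ` is an epimorphism when `LₙF₂(X) = 0`. -/
lemma epi_δ (n : ℕ) (h2 : IsZero ((F₂.leftDerived n).obj X)) : Epi (δ h X n) :=
  (exact₁ h X n).epi_f (h2.eq_of_tgt _ _)

/-- dimension shifting: `δ` is an isomorphism when `Lₙ₊₁F₂(X) = 0 = LₙF₂(X)`. -/
lemma isIso_δ (n : ℕ) (h2 : IsZero ((F₂.leftDerived (n + 1)).obj X))
    (h2' : IsZero ((F₂.leftDerived n).obj X)) : IsIso (δ h X n) := by
  have := mono_δ h X n h2
  have := epi_δ h X n h2'
  exact isIso_of_mono_of_epi _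

include h in
lemma isZero_mid (n : ℕ) (h₁ : IsZero ((F₁.leftDerived n).obj X))
    (h₃ : IsZero ((F₃.leftDerived n).obj X)) : IsZero ((F₂.leftDerived n).obj X) :=
  (exact₂ h X n).isZero_of_both_zeros (h₁.eq_of_src _ _) (h₃.eq_of_tgt _ _)

include h in
lemma isZero_right (n : ℕ) (h₂ : IsZero ((F₂.leftDerived (n + 1)).obj X))
    (h₁ : IsZero ((F₁.leftDerived n).obj X)) : IsZero ((F₃.leftDerived (n + 1)).obj X) :=
  (exact₃ h X n).isZero_of_both_zeros (h₂.eq_of_src _ _) (h₁.eq_of_tgt _ _)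

include h in
lemma isZero_left (n : ℕ) (h₃ : IsZero ((F₃.leftDerived (n + 1)).obj X))
    (h₂ : IsZero ((F₂.leftDerived n).obj X)) : IsZero ((F₁.leftDerived n).obj X) :=
  (exact₁ h X n).isZero_of_both_zeros (h₃.eq_of_src _ _) (h₂.eq_of_tgt _ _)

end Groth.Agent.Lib.Helper68.FunctorSES
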