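import Groth.Agent.Lib.Helper68.FunctorSES2

/-! Naturality of the connecting morphism of `FunctorSES` with respect to morphisms of short exact
sequences of functors. -/

set_option autoImplicit false
universe v u v' u'

open CategoryTheory Category Limits

namespace Groth.Agent.Lib.Helper68.FunctorSES

variable {C : Type u} [Category.{v} C] [Abelian C] [HasProjectiveResolutions C]
  {D : Type u'} [Category.{v'} D] [Abelian D]
  {F₁ F₂ F₃ F₁' F₂' F₃' : C ⥤ D} [F₁.Additive] [F₂.Additive] [F₃.Additive]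
  [F₁'.Additive] [F₂'.Additive] [F₃'.Additive]
  {α : F₁ ⟶ F₂} {β : F₂ ⟶ F₃} {α' : F₁' ⟶ F₂'} {β' : F₂' ⟶ F₃'}
  (h : ExactOnProj α β) (h' : ExactOnProj α' β')
  (γ₁ : F₁ ⟶ F₁') (γ₂ : F₂ ⟶ F₂') (γ₃ : F₃ ⟶ F₃')
  (c₁ : α ≫ γ₂ = γ₁ ≫ α') (c₂ : β ≫ γ₃ = γ₂ ≫ β')

include c₁ c₂ in
/-- the morphism of short complexes of complexes induced by a morphism of sequences of functors -/
noncomputable def cxNat (K : ChainComplex C ℕ) : cx h K ⟶ cx h' K :=
  ShortComplex.homMk ((NatTrans.mapHomologicalComplex γ₁ _).app K)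
    ((NatTrans.mapHomologicalComplex γ₂ _).app K)
    ((NatTrans.mapHomologicalComplex γ₃ _).app K)
    (by
      ext n
      exact (congrArg (fun t => t.app (K.X n)) c₁).symm)
    (by
      ext n
      exact (congrArg (fun t => t.app (K.X n)) c₂).symm)

include c₁ c₂ in
theorem deltaAux_natTrans {X : C} (P : ProjectiveResolution X) (n : ℕ) :
    (NatTrans.leftDerived γ₃ (n + 1)).app X ≫ deltaAux h' P n =
      deltaAux h P n ≫ (NatTrans.leftDerived γ₁ n).app X := by
  have nat := HomologicalComplex.HomologySequence.δ_naturality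
    (cxNat h h' γ₁ γ₂ γ₃ c₁ c₂ P.complex) (cx_shortExact h P)
    (cx_shortExact h' P) (n + 1) n (rel_succ n)
  have e3 : (NatTrans.leftDerived γ₃ (n + 1)).app X ≫ (iso₃ h' P (n + 1)).hom =
      (iso₃ h P (n + 1)).hom ≫
        HomologicalComplex.homologyMap (cxNat h h' γ₁ γ₂ γ₃ c₁ c₂ P.complex).τ₃ (n + 1) := by
    rw [P.leftDerived_app_eq γ₃ (n + 1)]
    simp only [assoc]
    erw [Iso.inv_hom_id, comp_id]
    rfl
  have e1 : (NatTrans.leftDerived γ₁ n).app X ≫ (iso₁ h' P n).hom =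
      (iso₁ h P n).hom ≫
        HomologicalComplex.homologyMap (cxNat h h' γ₁ γ₂ γ₃ c₁ c₂ P.complex).τ₁ n := by
    rw [P.leftDerived_app_eq γ₁ n]
    simp only [assoc]
    erw [Iso.inv_hom_id, comp_id]
    rfl
  rw [← cancel_mono (iso₁ h' P n).hom, assoc, assoc, deltaAux_comp_iso, reassoc_of% e3,
    ← nat, e1, reassoc_of% (deltaAux_comp_iso h P n)]

include c₁ c₂ in
/-- naturality of the connecting morphism in the sequence of functors -/
theorem δ_natTrans (X : C) (n : ℕ) :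
    (NatTrans.leftDerived γ₃ (n + 1)).app X ≫ δ h' X n =
      δ h X n ≫ (NatTrans.leftDerived γ₁ n).app X :=
  deltaAux_natTrans h h' γ₁ γ₂ γ₃ c₁ c₂ _ n

end Groth.Agent.Lib.Helper68.FunctorSES
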