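import Groth.Prelude.Def_SpSeq
import Mathlib.Algebra.Homology.SpectralObject.SpectralSequence
import Mathlib.Algebra.Homology.SpectralObject.EpiMono
import Mathlib.Data.Set.Finite.Basic
import Mathlib.Order.Interval.Finset.Defs
import Mathlib.Order.Interval.Finset.Basic
import Mathlib.Data.Int.Interval

/-! Convergence of the `E₂` spectral sequence of a first quadrant spectral object indexed by
`EInt` in an abelian category: abutment data in the sense of `SpSeq.Abutment`. -/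

set_option autoImplicit false
universe v u

open CategoryTheory Category Limits ComposableArrows

namespace Groth.Agent.Lib.Helper68.GSSConv

section Gr

variable {C : Type u} [Category.{v} C] [Abelian C]

lemma imageSubobject_eq_top_of_epi {X Y : C} (f : X ⟶ Y) [Epi f] : imageSubobject f = ⊤ := by
  have : IsIso (imageSubobject f).arrow := by
    have : Epi (factorThruImageSubobject f ≫ (imageSubobject f).arrow) := by
      rw [imageSubobject_arrow_comp]; infer_instance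
    have := epi_of_epi (factorThruImageSubobject f) (imageSubobject f).arrow
    exact isIso_of_mono_of_epi _
  exact Subobject.eq_top_of_isIso_arrow _

lemma imageSubobject_eq_bot_of_isZero {X Y : C} (f : X ⟶ Y) (h : IsZero X) :
    imageSubobject f = ⊥ := by
  obtain rfl : f = 0 := h.eq_of_src _ _
  exact imageSubobject_zero

/-- the graded piece of the image filtration -/
theorem exact_gr {A B D H : C} (a : A ⟶ B) (d : D ⟶ B) (g : B ⟶ H) (hd : d ≫ g = 0)
    (hex : (ShortComplex.mk d g hd).Exact) (ag : A ⟶ H) (hag : a ≫ g = ag)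
    (hle : imageSubobject ag ≤ imageSubobject g) :
    ∃ (π : B ⟶ cokernel ((imageSubobject ag).ofLE (imageSubobject g) hle))
      (w : biprod.desc a d ≫ π = 0), Epi π ∧ (ShortComplex.mk (biprod.desc a d) π w).Exact := by
  subst hag
  have h1 : a ≫ factorThruImageSubobject g =
      factorThruImageSubobject (a ≫ g) ≫ (imageSubobject (a ≫ g)).ofLE (imageSubobject g) hle := by
    rw [← cancel_mono (imageSubobject g).arrow, assoc, assoc, imageSubobject_arrow_comp,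
      Subobject.ofLE_arrow, imageSubobject_arrow_comp]
  have h2 : d ≫ factorThruImageSubobject g = 0 := by
    rw [← cancel_mono (imageSubobject g).arrow, assoc, imageSubobject_arrow_comp, hd, zero_comp]
  have w : biprod.desc a d ≫ factorThruImageSubobject g ≫
      cokernel.π ((imageSubobject (a ≫ g)).ofLE (imageSubobject g) hle) = 0 := by
    apply biprod.hom_ext'
    · rw [biprod.inl_desc_assoc, comp_zero, ← assoc, h1, assoc, cokernel.condition, comp_zero]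
    · rw [biprod.inr_desc_assoc, comp_zero, ← assoc, h2, zero_comp]
  refine ⟨_, w, epi_comp _ _, ?_⟩
  rw [ShortComplex.exact_iff_exact_up_to_refinements]
  intro T x hx
  dsimp at x hx
  -- `x ≫ fTI g` becomes zero in the cokernel, so it factors through `ofLE`
  have hc : (ShortComplex.mk ((imageSubobject (a ≫ g)).ofLE (imageSubobject g) hle)
      (cokernel.π _) (cokernel.condition _)).Exact :=
    ShortComplex.exact_of_g_is_cokernel _ (cokernelIsCokernel _)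
  obtain ⟨T₁, π₁, hπ₁, y, hy⟩ := hc.exact_up_to_refinements (x ≫ factorThruImageSubobject g)
    (by simpa using hx)
  dsimp at y hy
  obtain ⟨T₂, π₂, hπ₂, y', hy'⟩ := surjective_up_to_refinements_of_epi
    (factorThruImageSubobject (a ≫ g)) y
  have h3 : (π₂ ≫ π₁ ≫ x - y' ≫ a) ≫ g = 0 := by
    have e1 : π₂ ≫ π₁ ≫ x ≫ g = y' ≫ a ≫ g := by
      calc π₂ ≫ π₁ ≫ x ≫ g
          = π₂ ≫ (π₁ ≫ x ≫ factorThruImageSubobject g) ≫ (imageSubobject g).arrow := by
            simp only [assoc, imageSubobject_arrow_comp]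
        _ = π₂ ≫ y ≫ (imageSubobject (a ≫ g)).arrow := by
            rw [hy, assoc, Subobject.ofLE_arrow]
        _ = (π₂ ≫ y) ≫ (imageSubobject (a ≫ g)).arrow := by rw [assoc]
        _ = y' ≫ a ≫ g := by rw [hy', assoc, imageSubobject_arrow_comp]
    rw [Preadditive.sub_comp, sub_eq_zero, assoc, assoc, assoc, e1]
  obtain ⟨T₃, π₃, hπ₃, z, hz⟩ := hex.exact_up_to_refinements _ h3
  dsimp at z hz
  refine ⟨T₃, π₃ ≫ π₂ ≫ π₁, inferInstance, biprod.lift (π₃ ≫ y') z, ?_⟩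
  dsimp
  rw [biprod.lift_desc, ← hz, Preadditive.comp_sub]
  simp

end Gr


section Conv

variable {C : Type u} [Category.{v} C] [Abelian C] (Y : Abelian.SpectralObject C EInt)

/-- `H^n(⊥ ≤ j)` -/
abbrev Hbot (n : ℤ) (j : EInt) : C := (Y.H n).obj (mk₁ (homOfLE (bot_le : (⊥ : EInt) ≤ j)))

/-- the abutment `H^n(⊥ ≤ ⊤)` -/
abbrev Hinf (n : ℤ) : C := Hbot Y n ⊤

/-- the map `H^n(⊥ ≤ j) ⟶ H^n(⊥ ≤ j')` -/
noncomputable abbrev botMap (n : ℤ) (j j' : EInt) (h : j ≤ j') : Hbot Y n j ⟶ Hbot Y n j' :=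
  (Y.H n).map (twoδ₂Toδ₁' ⊥ j j' bot_le h)

lemma botMap_comp (n : ℤ) (j j' j'' : EInt) (h : j ≤ j') (h' : j' ≤ j'') :
    botMap Y n j j' h ≫ botMap Y n j' j'' h' = botMap Y n j j'' (h.trans h') := by
  dsimp only [botMap]
  rw [← Functor.map_comp]
  rfl

variable {H' : ℤ → C} (e : ∀ n, Hinf Y n ≅ H' n)

/-- the filtration on the abutment, indexed by `EInt` (increasing) -/
noncomputable def Fil (n : ℤ) (j : EInt) : Subobject (H' n) :=
  imageSubobject (botMap Y n j ⊤ le_top ≫ (e n).hom)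

lemma Fil_mono (n : ℤ) {j j' : EInt} (h : j ≤ j') : Fil Y e n j ≤ Fil Y e n j' := by
  refine SpSeq.FilCx.imageSubobject_le_of_fac (botMap Y n j j' h) ?_
  rw [← assoc, botMap_comp]

/-- the decreasing filtration on the abutment -/
noncomputable def fil (n p : ℤ) : Subobject (H' n) := Fil Y e n ((n - p + 1 : ℤ) : EInt)

lemma fil_anti (n : ℤ) : Antitone (fil Y e n) := by
  intro p p' h
  apply Fil_mono
  simp only [WithBotTop.coe_le_coe]
  lia


/-- graded pieces of the filtration: `Fil j' / Fil j ≅ E^n(⊥ ≤ j ≤ j' ≤ ⊤)` -/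
noncomputable def grIso (n₀ n n₂ : ℤ) (hn₁ : n₀ + 1 = n) (hn₂ : n + 1 = n₂) (j j' : EInt)
    (h : j ≤ j') :
    cokernel ((Fil Y e n j).ofLE (Fil Y e n j') (Fil_mono Y e n h)) ≅
      Y.E (homOfLE (bot_le : (⊥ : EInt) ≤ j)) (homOfLE h) (homOfLE (le_top : j' ≤ ⊤))
        n₀ n n₂ hn₁ hn₂ := by
  have hd : Y.δ (homOfLE (bot_le : (⊥ : EInt) ≤ j')) (homOfLE (le_top : j' ≤ ⊤)) n₀ n hn₁ ≫
      botMap Y n j' ⊤ le_top ≫ (e n).hom = 0 := by
    have := Y.zero₁ (homOfLE (bot_le : (⊥ : EInt) ≤ j')) (homOfLE (le_top : j' ≤ ⊤))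
      (homOfLE bot_le) rfl n₀ n hn₁
    rw [← assoc]
    exact this ▸ zero_comp
  have hex : (ShortComplex.mk _ _ hd).Exact := by
    have h1 : (ShortComplex.mk
        (Y.δ (homOfLE (bot_le : (⊥ : EInt) ≤ j')) (homOfLE (le_top : j' ≤ ⊤)) n₀ n hn₁)
        (botMap Y n j' ⊤ le_top)
        (Y.zero₁ (homOfLE (bot_le : (⊥ : EInt) ≤ j')) (homOfLE (le_top : j' ≤ ⊤))
          (homOfLE bot_le) rfl n₀ n hn₁)).Exact :=
      Y.exact₁ (homOfLE (bot_le : (⊥ : EInt) ≤ j')) (homOfLE (le_top : j' ≤ ⊤))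
        (homOfLE bot_le) rfl n₀ n hn₁
    let φ : ShortComplex.mk
        (Y.δ (homOfLE (bot_le : (⊥ : EInt) ≤ j')) (homOfLE (le_top : j' ≤ ⊤)) n₀ n hn₁)
        (botMap Y n j' ⊤ le_top)
        (Y.zero₁ (homOfLE (bot_le : (⊥ : EInt) ≤ j')) (homOfLE (le_top : j' ≤ ⊤))
          (homOfLE bot_le) rfl n₀ n hn₁) ⟶ ShortComplex.mk _ _ hd :=
      { τ₁ := 𝟙 ((Y.H n₀).obj (mk₁ (homOfLE (le_top : j' ≤ ⊤))))
        τ₂ := 𝟙 (Hbot Y n j')
        τ₃ := (e n).hom
        comm₁₂ := by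
          dsimp
          rw [id_comp, comp_id]
        comm₂₃ := by
          dsimp
          rw [id_comp] }
    have : Epi φ.τ₁ := inferInstanceAs (Epi (𝟙 ((Y.H n₀).obj (mk₁ (homOfLE (le_top : j' ≤ ⊤))))))
    have : IsIso φ.τ₂ := inferInstanceAs (IsIso (𝟙 (Hbot Y n j')))
    have : Mono φ.τ₃ := inferInstanceAs (Mono (e n).hom)
    exact (ShortComplex.exact_iff_of_epi_of_isIso_of_mono φ).1 h1
  have hag : botMap Y n j j' h ≫ botMap Y n j' ⊤ le_top ≫ (e n).hom =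
      botMap Y n j ⊤ le_top ≫ (e n).hom := by
    rw [← assoc, botMap_comp]
  let h2 := exact_gr (botMap Y n j j' h) _ _ hd hex _ hag (Fil_mono Y e n h)
  have hepi : Epi h2.choose := h2.choose_spec.choose_spec.1
  have hex2 := h2.choose_spec.choose_spec.2
  have hex3 := Y.cokernelSequenceE_exact (homOfLE (bot_le : (⊥ : EInt) ≤ j)) (homOfLE h)
    (homOfLE (le_top : j' ≤ ⊤)) (homOfLE bot_le) rfl n₀ n n₂ hn₁ hn₂
  have : Epi (ShortComplex.mk _ _ h2.choose_spec.choose).g := hepi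
  exact IsColimit.coconePointUniqueUpToIso hex2.gIsCokernel hex3.gIsCokernel


variable [Y.IsFirstQuadrant]

/-- for `r` large, the `r`-th page at `(p, q)` is `E^{p+q}(⊥ ≤ q ≤ q + 1 ≤ ⊤)` -/
noncomputable def pageIsoE (p q r : ℤ) (hr : 2 ≤ r) (hp : p < r) (hq : q + 2 ≤ r)
    (j j' : EInt) (hj : j = ((q : ℤ) : EInt)) (hj' : j' = ((q + 1 : ℤ) : EInt)) (hjj' : j ≤ j')
    (n₀ n n₂ : ℤ) (hn : n = p + q) (hn₁ : n₀ + 1 = n) (hn₂ : n + 1 = n₂) :
    (Y.E₂SpectralSequence.page r hr).X (p, q) ≅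
      Y.E (homOfLE (bot_le : (⊥ : EInt) ≤ j)) (homOfLE hjj') (homOfLE (le_top : j' ≤ ⊤))
        n₀ n n₂ hn₁ hn₂ := by
  subst hj hj'
  have h₀₁ : ((q - r + 2 : ℤ) : EInt) ≤ ((q : ℤ) : EInt) := by
    simp only [WithBotTop.coe_le_coe]; lia
  have h₂₃ : ((q + 1 : ℤ) : EInt) ≤ ((q + r - 1 : ℤ) : EInt) := by
    simp only [WithBotTop.coe_le_coe]; lia
  have z₁ : IsZero ((Y.H n₂).obj (mk₁ (homOfLE (bot_le : (⊥ : EInt) ≤ ((q - r + 2 : ℤ) : EInt))))) :=
    Y.isZero₁_of_isFirstQuadrant _ _ _ (by simp only [WithBotTop.coe_le_coe]; lia) _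
  have z₂ : IsZero ((Y.H n₀).obj (mk₁ (homOfLE (le_top : ((q + r - 1 : ℤ) : EInt) ≤ ⊤)))) :=
    Y.isZero₂_of_isFirstQuadrant _ _ _ _ (by simp only [WithBotTop.coe_lt_coe]; lia)
  exact Y.spectralSequencePageXIso Abelian.SpectralObject.coreE₂Cohomological r hr (p, q)
      ((q - r + 2 : ℤ) : EInt) ((q : ℤ) : EInt) ((q + 1 : ℤ) : EInt) ((q + r - 1 : ℤ) : EInt)
      rfl rfl rfl rfl n₀ n n₂ hn hn₁ hn₂ ≪≫
    (Y.isoMapFourδ₁Toδ₀' ⊥ ((q - r + 2 : ℤ) : EInt) ((q : ℤ) : EInt) ((q + 1 : ℤ) : EInt)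
      ((q + r - 1 : ℤ) : EInt) bot_le h₀₁ hjj' h₂₃ n₀ n n₂ z₁ hn₁ hn₂).symm ≪≫
    Y.isoMapFourδ₄Toδ₃' ⊥ ((q : ℤ) : EInt) ((q + 1 : ℤ) : EInt) ((q + r - 1 : ℤ) : EInt) ⊤
      bot_le hjj' h₂₃ le_top n₀ n n₂ z₂ hn₁ hn₂


lemma isZero_page_of_snd_neg (r : ℤ) (hr : 2 ≤ r) (p q : ℤ) (hq : q < 0) :
    IsZero ((Y.E₂SpectralSequence.page r hr).X ⟨p, q⟩) :=
  Abelian.SpectralObject.isZero_spectralSequence_page_X_of_isZero_H' _ _ _ hr _
    (Y.isZero₁_of_isFirstQuadrant _ _ _ (by simp; lia) _)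

lemma isZero_page_of_fst_neg (r : ℤ) (hr : 2 ≤ r) (p q : ℤ) (hp : p < 0) :
    IsZero ((Y.E₂SpectralSequence.page r hr).X ⟨p, q⟩) :=
  Abelian.SpectralObject.isZero_spectralSequence_page_X_of_isZero_H' _ _ _ hr _
    (Y.isZero₂_of_isFirstQuadrant _ _ _ _ (by simp; lia))

/-- the page from which position `pq` is stationary -/
def rk (pq : ℤ × ℤ) : ℤ := max 2 (max (pq.1 + 1) (pq.2 + 2))

lemma stationaryAt (pq : ℤ × ℤ) : SpSeq.StationaryAt Y.E₂SpectralSequence pq (rk pq) := by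
  refine ⟨le_max_left _ _, fun r' h₀ hr' => ⟨?_, ?_⟩⟩
  · apply IsZero.eq_of_src
    obtain ⟨p, q⟩ := pq
    apply isZero_page_of_fst_neg
    have : p + 1 ≤ r' := le_trans (le_trans (le_max_left _ _) (le_max_right _ _)) hr'
    dsimp
    lia
  · apply IsZero.eq_of_tgt
    obtain ⟨p, q⟩ := pq
    apply isZero_page_of_snd_neg
    have : q + 2 ≤ r' := le_trans (le_trans (le_max_right _ _) (le_max_right _ _)) hr'
    dsimp
    lia

lemma isBounded : SpSeq.IsBounded Y.E₂SpectralSequence := by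
  intro n
  refine Set.Finite.subset (Set.finite_Icc 0 n) ?_
  intro p hp
  simp only [Set.mem_ofPred_eq] at hp
  simp only [Set.mem_Icc]
  by_contra hc
  apply hp
  by_cases h : 0 ≤ p
  · exact isZero_page_of_snd_neg Y 2 le_rfl _ _ (by lia)
  · exact isZero_page_of_fst_neg Y 2 le_rfl _ _ (by lia)

/-- the abutment -/
noncomputable def abutment : SpSeq.Abutment Y.E₂SpectralSequence H' where
  fil n := fil Y e n
  anti n := fil_anti Y e n
  rk := rk
  stat := stationaryAt Y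
  β pq := by
    obtain ⟨p, q⟩ := pq
    have h1 : 2 ≤ rk (p, q) := le_max_left _ _
    have h2 : p + 1 ≤ rk (p, q) := le_trans (le_max_left _ _) (le_max_right _ _)
    have h3 : q + 2 ≤ rk (p, q) := le_trans (le_max_right _ _) (le_max_right _ _)
    have hjj' : (((p + q) - (p + 1) + 1 : ℤ) : EInt) ≤ (((p + q) - p + 1 : ℤ) : EInt) := by
      simp only [WithBotTop.coe_le_coe]; lia
    exact pageIsoE Y p q (rk (p, q)) h1 (by lia) h3 _ _
      (by congr 1; lia) (by congr 1; lia) hjj' (p + q - 1) (p + q) (p + q + 1) rfl (by lia) rfl ≪≫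
      (grIso Y e (p + q - 1) (p + q) (p + q + 1) (by lia) rfl _ _ hjj').symm


lemma Fil_eq_top (n : ℤ) (j : EInt) (hj : ((n : ℤ) : EInt) < j) : Fil Y e n j = ⊤ := by
  have hz : IsZero ((Y.H n).obj (mk₁ (homOfLE (le_top : j ≤ ⊤)))) :=
    Y.isZero₂_of_isFirstQuadrant _ _ _ _ hj
  have : Epi (botMap Y n j ⊤ le_top) :=
    (Y.exact₂ (homOfLE (bot_le : (⊥ : EInt) ≤ j)) (homOfLE (le_top : j ≤ ⊤))
      (homOfLE bot_le) rfl n).epi_f (hz.eq_of_tgt _ _)
  exact imageSubobject_eq_top_of_epi _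

lemma Fil_eq_bot (n : ℤ) (j : EInt) (hj : j ≤ ((0 : ℤ) : EInt)) : Fil Y e n j = ⊥ := by
  have hz : IsZero (Hbot Y n j) := Y.isZero₁_of_isFirstQuadrant _ _ _ hj _
  exact imageSubobject_eq_bot_of_isZero _ hz

lemma abutment_isFinite (n : ℤ) : (abutment Y e).IsFinite n := by
  refine ⟨⟨0, ?_⟩, ⟨n + 1, ?_⟩⟩
  · exact Fil_eq_top Y e n _ (by simp only [WithBotTop.coe_lt_coe]; lia)
  · exact Fil_eq_bot Y e n _ (by simp only [WithBotTop.coe_le_coe]; lia)

lemma isZero_Hinf_of_neg (n : ℤ) (hn : n < 0) : IsZero (Hinf Y n) := by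
  have h1 : IsZero (Hbot Y n ((0 : ℤ) : EInt)) := Y.isZero₁_of_isFirstQuadrant _ _ _ le_rfl _
  have h2 : IsZero ((Y.H n).obj (mk₁ (homOfLE (le_top : ((0 : ℤ) : EInt) ≤ ⊤)))) :=
    Y.isZero₂_of_isFirstQuadrant _ _ _ _ (by simp only [WithBotTop.coe_lt_coe]; exact hn)
  exact (Y.exact₂ (homOfLE (bot_le : (⊥ : EInt) ≤ ((0 : ℤ) : EInt)))
    (homOfLE (le_top : ((0 : ℤ) : EInt) ≤ ⊤)) (homOfLE bot_le) rfl n).isZero_of_both_zeros
    (h1.eq_of_src _ _) (h2.eq_of_tgt _ _)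

/-- the second page -/
noncomputable def pageTwoIso (p q : ℤ) :
    (Y.E₂SpectralSequence.page 2 le_rfl).X (p, q) ≅
      (Y.H (p + q)).obj (mk₁ (homOfLE (show ((q : ℤ) : EInt) ≤ ((q + 1 : ℤ) : EInt) by
        simp only [WithBotTop.coe_le_coe]; lia))) :=
  Y.spectralSequencePageXIso Abelian.SpectralObject.coreE₂Cohomological 2 le_rfl (p, q)
      ((q : ℤ) : EInt) ((q : ℤ) : EInt) ((q + 1 : ℤ) : EInt) ((q + 1 : ℤ) : EInt)
      (by congr 1; lia) rfl rfl (by congr 1; lia)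
      (p + q - 1) (p + q) (p + q + 1) rfl (by lia) rfl ≪≫
    Y.EIsoH _ (p + q - 1) (p + q) (p + q + 1) (by lia) rfl


/-- **Convergence of the spectral sequence of a first quadrant spectral object**: abutment data
with finite filtrations on any family of objects isomorphic to `H^n(⊥ ≤ ⊤)`. -/
theorem exists_abutment (e : ∀ n, Hinf Y n ≅ H' n) :
    ∃ (a : SpSeq.Abutment Y.E₂SpectralSequence H'), (∀ n, a.IsFinite n) ∧
      SpSeq.IsBounded Y.E₂SpectralSequence :=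
  ⟨abutment Y e, abutment_isFinite Y e, isBounded Y⟩

end Conv

end Groth.Agent.Lib.Helper68.GSSConv
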