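import Mathlib.Algebra.Homology.SpectralObject.Basic
import Mathlib.CategoryTheory.Triangulated.SpectralObject
import Mathlib.CategoryTheory.Triangulated.HomologicalFunctor

/-! The spectral object in an abelian category obtained by applying a homological functor to a
spectral object in a triangulated category. -/

set_option autoImplicit false

open CategoryTheory Category Limits ComposableArrows Pretriangulated

namespace Groth.Agent.Lib.Helper68.GSSObj

variable {𝒯 : Type*} [Category 𝒯] [HasZeroObject 𝒯] [HasShift 𝒯 ℤ] [Preadditive 𝒯]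
  [∀ n : ℤ, (shiftFunctor 𝒯 n).Additive] [Pretriangulated 𝒯]
  {A : Type*} [Category A] [Abelian A] {ι : Type*} [Category ι]
  (X : Triangulated.SpectralObject 𝒯 ι) (Φ : 𝒯 ⥤ A) [Φ.IsHomological] [Φ.ShiftSequence ℤ]

/-- the distinguished triangle attached to `D : ComposableArrows ι 2` -/
@[simps!]
noncomputable def tri (D : ComposableArrows ι 2) : Triangle 𝒯 :=
  Triangle.mk (X.ω₁.map ((mapFunctorArrows ι 0 1 0 2 2).app D))
    (X.ω₁.map ((mapFunctorArrows ι 0 2 1 2 2).app D)) (X.δ'.app D)

lemma tri_distinguished (D : ComposableArrows ι 2) : tri X D ∈ distTriang 𝒯 :=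
  X.distinguished' D

/-- functoriality of the triangle -/
@[simps]
noncomputable def triMap {D D' : ComposableArrows ι 2} (φ : D ⟶ D') : tri X D ⟶ tri X D' where
  hom₁ := X.ω₁.map ((functorArrows ι 0 1 2).map φ)
  hom₂ := X.ω₁.map ((functorArrows ι 0 2 2).map φ)
  hom₃ := X.ω₁.map ((functorArrows ι 1 2 2).map φ)
  comm₁ := by
    change X.ω₁.map _ ≫ X.ω₁.map _ = X.ω₁.map _ ≫ X.ω₁.map _
    rw [← Functor.map_comp, ← Functor.map_comp]
    congr 1
    exact ((mapFunctorArrows ι 0 1 0 2 2).naturality φ).symm
  comm₂ := by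
    change X.ω₁.map _ ≫ X.ω₁.map _ = X.ω₁.map _ ≫ X.ω₁.map _
    rw [← Functor.map_comp, ← Functor.map_comp]
    congr 1
    exact ((mapFunctorArrows ι 0 2 1 2 2).naturality φ).symm
  comm₃ := (X.δ'.naturality φ).symm

/-- the spectral object in an abelian category obtained by applying a homological functor to a
spectral object in a triangulated category -/
noncomputable def mapHomological : Abelian.SpectralObject A ι where
  H n := X.ω₁ ⋙ Φ.shift n
  δ' n₀ n₁ h :=
    { app := fun D => Φ.homologySequenceδ (tri X D) n₀ n₁ h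
      naturality := fun D D' φ =>
        Φ.homologySequenceδ_naturality (tri X D) (tri X D') (triMap X φ) n₀ n₁ h }
  exact₁' n₀ n₁ h D :=
    (Φ.homologySequence_exact₁ (tri X D) (tri_distinguished X D) n₀ n₁ h).exact_toComposableArrows
  exact₂' n D :=
    (Φ.homologySequence_exact₂ (tri X D) (tri_distinguished X D) n).exact_toComposableArrows
  exact₃' n₀ n₁ h D :=
    (Φ.homologySequence_exact₃ (tri X D) (tri_distinguished X D) n₀ n₁ h).exact_toComposableArrows

end Groth.Agent.Lib.Helper68.GSSObj
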