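import Groth.Agent.Lib.Helper68.GSSConv
import Groth.Agent.Lib.Helper68.GSSObj
import Groth.Agent.Lib.Helper68.LerayAcyclic
import Groth.Agent.S6624
import Mathlib.Algebra.Homology.DerivedCategory.RightDerivedFunctorPlus
import Mathlib.CategoryTheory.Triangulated.TStructure.SpectralObject
import Mathlib.Algebra.Homology.DerivedCategory.Plus
import Mathlib.Algebra.Homology.HomotopyCategory.ShiftSequence

/-! The hypercohomology spectral object of a bounded below object, for a left exact functor. -/

set_option autoImplicit false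
universe w v v'' u u''

open CategoryTheory Category Limits Pretriangulated

namespace Groth.Agent.Lib.Helper68.GSSDer

variable {C' : Type u} [Category.{v} C'] [Abelian C'] [HasDerivedCategory.{w} C']

/-- `K⁺(Inj C') ⥤ K⁺(C')` -/
noncomputable abbrev JK : HomotopyCategory.Plus (InjectiveObject C') ⥤ HomotopyCategory.Plus C' :=
  (InjectiveObject.ι C').mapHomotopyCategoryPlus

lemma isKInjective_JK_obj (Y : HomotopyCategory.Plus (InjectiveObject C')) :
    CochainComplex.IsKInjective ((JK (C' := C')).obj Y).1.as := by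
  obtain ⟨K, rfl⟩ := HomotopyCategory.Plus.quotient_obj_surjective Y
  exact inferInstanceAs (CochainComplex.IsKInjective
      (((InjectiveObject.ι C').mapHomologicalComplex (.up ℤ)).obj K.obj))

/-- `K⁺(Inj C') ⥤ D⁺(C')` -/
noncomputable abbrev Gf : HomotopyCategory.Plus (InjectiveObject C') ⥤ DerivedCategory.Plus C' :=
  JK ⋙ DerivedCategory.Plus.Qh

instance : (Gf (C' := C')).Full := ⟨fun {X Y} f => by
  obtain ⟨g, hg⟩ := (DerivedCategory.Plus.Qh_map_bijective_of_isKInjective (JK.obj X)
    (JK.obj Y) (isKInjective_JK_obj Y)).2 f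
  obtain ⟨h, hh⟩ := (JK (C' := C')).map_surjective g
  exact ⟨h, by simp [hh, hg]⟩⟩

instance : (Gf (C' := C')).Faithful := ⟨fun {X Y} f g h => by
  apply (JK (C' := C')).map_injective
  exact (DerivedCategory.Plus.Qh_map_bijective_of_isKInjective (JK.obj X)
    (JK.obj Y) (isKInjective_JK_obj Y)).1 h⟩

variable [EnoughInjectives C']

instance : (Gf (C' := C')).IsEquivalence where

variable {C'' : Type u''} [Category.{v''} C''] [Abelian C''] (S : C' ⥤ C'') [S.Additive]

/-- the triangulated functor `K⁺(Inj C') ⥤ K(C'')` induced by `S` -/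
noncomputable abbrev Θ : HomotopyCategory.Plus (InjectiveObject C') ⥤
    HomotopyCategory C'' (ComplexShape.up ℤ) :=
  JK ⋙ S.mapHomotopyCategoryPlus ⋙ HomotopyCategory.Plus.ι C''

/-- `H⁰(S(-))` on `K⁺(Inj C')` -/
noncomputable abbrev Ψ : HomotopyCategory.Plus (InjectiveObject C') ⥤ C'' :=
  Θ S ⋙ HomotopyCategory.homologyFunctor C'' (ComplexShape.up ℤ) 0

/-- the hypercohomology functor `ℝ⁰S` on `D⁺(C')` -/
noncomputable def Φ : DerivedCategory.Plus C' ⥤ C'' := (Gf (C' := C')).inv ⋙ Ψ S

/-- `Φ ∘ G ≅ Ψ` -/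
noncomputable def eΦ : Gf (C' := C') ⋙ Φ S ≅ Ψ S :=
  (Functor.associator _ _ _).symm ≪≫
    Functor.isoWhiskerRight (Gf (C' := C')).asEquivalence.unitIso.symm (Ψ S) ≪≫
    Functor.leftUnitor _

instance : (Ψ S).IsHomological := inferInstance

instance : (Φ S).IsHomological :=
  Functor.isHomological_of_localization (Gf (C' := C')) (Φ S) (Ψ S) (eΦ S)

end Groth.Agent.Lib.Helper68.GSSDer
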