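import Groth.Agent.Lib.Helper68.GSSDer

set_option autoImplicit false
universe w v v'' u u''

open CategoryTheory Category Limits Pretriangulated

namespace Groth.Agent.Lib.Helper68.GSSDer

variable {C' : Type u} [Category.{v} C'] [Abelian C'] [HasDerivedCategory.{w} C']
variable [EnoughInjectives C']
variable {C'' : Type u''} [Category.{v''} C''] [Abelian C''] (S : C' ⥤ C'') [S.Additive]

noncomputable instance : (Φ S).ShiftSequence ℤ := Functor.ShiftSequence.tautological _ _

noncomputable instance : (Θ (C' := C') S).CommShift ℤ := inferInstance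
noncomputable instance : (Gf (C' := C')).CommShift ℤ := inferInstance

/-- (F3), functor level -/
noncomputable def shiftGfIso (n : ℤ) (Y : HomotopyCategory.Plus (InjectiveObject C')) :
    ((Φ S).shift n).obj (Gf.obj Y) ≅
      (HomotopyCategory.homologyFunctor C'' (ComplexShape.up ℤ) n).obj ((Θ S).obj Y) :=
  (Φ S).mapIso (((Gf (C' := C')).commShiftIso n).app Y).symm ≪≫ (eΦ S).app (Y⟦n⟧) ≪≫
    (HomotopyCategory.homologyFunctor C'' (ComplexShape.up ℤ) 0).mapIso
      (((Θ S).commShiftIso n).app Y) ≪≫
    ((HomotopyCategory.homologyFunctor C'' (ComplexShape.up ℤ) 0).shiftIso n 0 n (add_zero n)).app _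

/-- the complex `S(L)` for a bounded below complex of injectives `L` -/
noncomputable abbrev SL (L : CochainComplex.Plus (InjectiveObject C')) : CochainComplex C'' ℤ :=
  (S.mapHomologicalComplex (ComplexShape.up ℤ)).obj
    (((InjectiveObject.ι C').mapHomologicalComplex (ComplexShape.up ℤ)).obj L.obj)

/-- (F3), object level -/
noncomputable def shiftIsoOfCochain (n : ℤ) (L : CochainComplex.Plus (InjectiveObject C'))
    (W : DerivedCategory.Plus C')
    (i : DerivedCategory.Plus.Q.obj ((InjectiveObject.ι C').mapCochainComplexPlus.obj L) ≅ W) :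
    ((Φ S).shift n).obj W ≅ (SL S L).homology n :=
  ((Φ S).shift n).mapIso i.symm ≪≫
    shiftGfIso S n ((HomotopyCategory.Plus.quotient _).obj L) ≪≫
    (HomotopyCategory.homologyFunctorFactors C'' (ComplexShape.up ℤ) n).app (SL S L)

end Groth.Agent.Lib.Helper68.GSSDer
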