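import Groth.Agent.Lib.Helper68.GSSDer2

set_option autoImplicit false
universe w v v'' u u''

open CategoryTheory Category Limits Pretriangulated ComposableArrows

namespace Groth.Agent.Lib.Helper68.GSSDer

variable {C' : Type u} [Category.{v} C'] [Abelian C'] [HasDerivedCategory.{w} C']
variable [EnoughInjectives C']
variable {C'' : Type u''} [Category.{v''} C''] [Abelian C''] (S : C' ⥤ C'') [S.Additive]

lemma isZero_shift_of_isGE (W : DerivedCategory.Plus C') (m : ℤ) [W.IsGE m] (n : ℤ) (hn : n < m) :
    IsZero (((Φ S).shift n).obj W) := by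
  obtain ⟨L, hL, ⟨i⟩⟩ := DerivedCategory.Plus.exists_injective_nonempty_iso W m
  refine IsZero.of_iso ?_ (shiftIsoOfCochain S n L W i)
  have : (SL S L).IsStrictlyGE m := inferInstance
  exact (SL S L).exactAt_of_isGE m n hn |>.isZero_homology

lemma isZero_shift_of_isZero (W : DerivedCategory.Plus C') (hW : IsZero W) (n : ℤ) :
    IsZero (((Φ S).shift n).obj W) :=
  (Φ S).map_isZero ((shiftFunctor _ n).map_isZero hW)

/-- the t-structure on `D⁺(C')` -/
noncomputable abbrev tP : Triangulated.TStructure (DerivedCategory.Plus C') :=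
  DerivedCategory.Plus.TStructure.t

/-- the hypercohomology spectral object of `X` -/
noncomputable def hyperSpectralObject (X : DerivedCategory.Plus C') :
    Abelian.SpectralObject C'' EInt :=
  GSSObj.mapHomological ((tP (C' := C')).spectralObject X) (Φ S)

lemma hyperSpectralObject_H_obj (X : DerivedCategory.Plus C') (n : ℤ) (i j : EInt) (hij : i ≤ j) :
    ((hyperSpectralObject S X).H n).obj (mk₁ (homOfLE hij)) =
      ((Φ S).shift n).obj (((tP (C' := C')).eTruncGE.obj i).obj
        (((tP (C' := C')).eTruncLT.obj j).obj X)) := rfl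

instance (X : DerivedCategory.Plus C') [X.IsGE 0] : (hyperSpectralObject S X).IsFirstQuadrant where
  isZero₁ i j hij hj n := by
    rw [hyperSpectralObject_H_obj]
    apply isZero_shift_of_isZero
    exact Functor.map_isZero _ ((tP (C' := C')).isZero_eTruncLT_obj_obj X 0 j hj)
  isZero₂ i j hij n hi := by
    rw [hyperSpectralObject_H_obj]
    induction i using WithBotTop.rec with
    | bot => simp at hi
    | coe m =>
      have : (tP (C' := C')).IsGE (((tP (C' := C')).eTruncGE.obj (m : EInt)).obj
        (((tP (C' := C')).eTruncLT.obj j).obj X)) m :=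
        (tP (C' := C')).isGE_eTruncGE_obj_obj m m le_rfl _
      exact isZero_shift_of_isGE S _ m n (by simpa using hi)
    | top =>
      apply isZero_shift_of_isZero
      exact Functor.zero_obj _

end Groth.Agent.Lib.Helper68.GSSDer
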