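import Groth.Agent.Lib.Helper68.GSSDer4

set_option autoImplicit false
universe w v v'' u u''

open CategoryTheory Category Limits Pretriangulated ComposableArrows

namespace Groth.Agent.Lib.Helper68.GSSDer

section LES

variable {𝒯 : Type*} [Category 𝒯] [HasZeroObject 𝒯] [HasShift 𝒯 ℤ] [Preadditive 𝒯]
  [∀ n : ℤ, (shiftFunctor 𝒯 n).Additive] [Pretriangulated 𝒯]
  {A : Type*} [Category A] [Abelian A] (F : 𝒯 ⥤ A) [F.IsHomological] [F.ShiftSequence ℤ]

lemma isIso_shift_map_mor₁ (T : Triangle 𝒯) (hT : T ∈ distTriang 𝒯) (n₀ n₁ : ℤ) (h : n₀ + 1 = n₁)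
    (h0 : IsZero ((F.shift n₀).obj T.obj₃)) (h1 : IsZero ((F.shift n₁).obj T.obj₃)) :
    IsIso ((F.shift n₁).map T.mor₁) := by
  have : Mono ((F.shift n₁).map T.mor₁) :=
    (F.homologySequence_mono_shift_map_mor₁_iff T hT n₀ n₁ h).2 (h0.eq_of_src _ _)
  have : Epi ((F.shift n₁).map T.mor₁) :=
    (F.homologySequence_epi_shift_map_mor₁_iff T hT n₁).2 (h1.eq_of_tgt _ _)
  exact isIso_of_mono_of_epi _

lemma isIso_shift_map_mor₂ (T : Triangle 𝒯) (hT : T ∈ distTriang 𝒯) (n₀ n₁ : ℤ) (h : n₀ + 1 = n₁)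
    (h0 : IsZero ((F.shift n₀).obj T.obj₁)) (h1 : IsZero ((F.shift n₁).obj T.obj₁)) :
    IsIso ((F.shift n₀).map T.mor₂) := by
  have : Mono ((F.shift n₀).map T.mor₂) :=
    (F.homologySequence_mono_shift_map_mor₂_iff T hT n₀).2 (h0.eq_of_src _ _)
  have : Epi ((F.shift n₀).map T.mor₂) :=
    (F.homologySequence_epi_shift_map_mor₂_iff T hT n₀ n₁ h).2 (h1.eq_of_tgt _ _)
  exact isIso_of_mono_of_epi _

end LES

variable {C' : Type u} [Category.{v} C'] [Abelian C'] [HasDerivedCategory.{w} C']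

/-- `H^q` on `D⁺(C')` -/
noncomputable abbrev Hq (q : ℤ) : DerivedCategory.Plus C' ⥤ C' :=
  DerivedCategory.Plus.homologyFunctor C' q

lemma Hq_shift (j : ℤ) : (DerivedCategory.Plus.homologyFunctor C' 0).shift j = Hq j := rfl

lemma isIso_Hq_map_truncGEπ (Z : DerivedCategory.Plus C') (q : ℤ) :
    IsIso ((Hq q).map (((tP (C' := C')).truncGEπ q).app Z)) := by
  have hT := (tP (C' := C')).triangleLTGE_distinguished q Z
  have : (((tP (C' := C')).triangleLTGE q).obj Z).obj₁.IsLE (q - 1) := inferInstance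
  exact isIso_shift_map_mor₂ (DerivedCategory.Plus.homologyFunctor C' 0) _ hT q (q + 1) rfl
    (DerivedCategory.Plus.isZero_homology_of_isLE _ (q - 1) q (by lia))
    (DerivedCategory.Plus.isZero_homology_of_isLE _ (q - 1) (q + 1) (by lia))

lemma isIso_Hq_map_truncLTι (X : DerivedCategory.Plus C') (q q' : ℤ) (h : q + 1 = q') :
    IsIso ((Hq q).map (((tP (C' := C')).truncLTι q').app X)) := by
  have hT := (tP (C' := C')).triangleLTGE_distinguished q' X
  have : (((tP (C' := C')).triangleLTGE q').obj X).obj₃.IsGE q' := inferInstance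
  exact isIso_shift_map_mor₁ (DerivedCategory.Plus.homologyFunctor C' 0) _ hT (q - 1) q (by lia)
    (DerivedCategory.Plus.isZero_homology_of_isGE _ q' (q - 1) (by lia))
    (DerivedCategory.Plus.isZero_homology_of_isGE _ q' q (by lia))

/-- (E1) -/
noncomputable def HqTruncIso (X : DerivedCategory.Plus C') (q q' : ℤ) (h : q + 1 = q') :
    (Hq q).obj (((tP (C' := C')).truncGE q).obj (((tP (C' := C')).truncLT q').obj X)) ≅
      (Hq q).obj X :=
  haveI := isIso_Hq_map_truncGEπ (((tP (C' := C')).truncLT q').obj X) q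
  haveI := isIso_Hq_map_truncLTι X q q' h
  (asIso ((Hq q).map (((tP (C' := C')).truncGEπ q).app
    (((tP (C' := C')).truncLT q').obj X)))).symm ≪≫
    asIso ((Hq q).map (((tP (C' := C')).truncLTι q').app X))

end Groth.Agent.Lib.Helper68.GSSDer

namespace Groth.Agent.Lib.Helper68.GSSDer

variable {C' : Type u} [Category.{v} C'] [Abelian C'] [HasDerivedCategory.{w} C']

/-- homology of a single object -/
noncomputable def HqSingleIso (q : ℤ) (M : C') :
    (Hq q).obj ((DerivedCategory.Plus.singleFunctor C' q).obj M) ≅ M :=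
  (DerivedCategory.homologyFunctorFactors C' q).app
      ((HomologicalComplex.single C' (ComplexShape.up ℤ) q).obj M) ≪≫
    HomologicalComplex.singleObjHomologySelfIso (ComplexShape.up ℤ) q M

/-- (E2) an object concentrated in one degree is a single object -/
lemma nonempty_iso_single (W : DerivedCategory.Plus C') (q : ℤ) [W.IsGE q] [W.IsLE q] :
    Nonempty (W ≅ (DerivedCategory.Plus.singleFunctor C' q).obj ((Hq q).obj W)) := by
  obtain ⟨M, ⟨e⟩⟩ := DerivedCategory.exists_iso_singleFunctor_obj_of_isGE_of_isLE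
    (DerivedCategory.Plus.ι.obj W) q
  let e' : W ≅ (DerivedCategory.Plus.singleFunctor C' q).obj M :=
    DerivedCategory.Plus.ι.preimageIso e
  let e'' : (Hq q).obj W ≅ M := (Hq q).mapIso e' ≪≫ HqSingleIso q M
  exact ⟨e' ≪≫ (DerivedCategory.Plus.singleFunctor C' q).mapIso e''.symm⟩

end Groth.Agent.Lib.Helper68.GSSDer
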