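import Groth.Agent.Lib.Helper68.GSSDer5

set_option autoImplicit false
universe w v v'' u u''

open CategoryTheory Category Limits Pretriangulated ComposableArrows

namespace Groth.Agent.Lib.Helper68.GSSDer

variable {C' : Type u} [Category.{v} C'] [Abelian C'] [HasDerivedCategory.{w} C']

/-- a bounded below complex, as an object of `CochainComplex.Plus` -/
abbrev plusMk (K : CochainComplex C' ℤ) (m : ℤ) [K.IsStrictlyGE m] : CochainComplex.Plus C' :=
  ⟨K, m, inferInstance⟩

/-- `ι (Q K) ≅ Q K` -/
noncomputable def ιQIso (K : CochainComplex.Plus C') :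
    DerivedCategory.Plus.ι.obj (DerivedCategory.Plus.Q.obj K) ≅ DerivedCategory.Q.obj K.obj :=
  (DerivedCategory.quotientCompQhIso C').app K.obj

/-- the single functor in terms of complexes -/
noncomputable def singleIsoQ (q : ℤ) (M : C') :
    (DerivedCategory.Plus.singleFunctor C' q).obj M ≅
      DerivedCategory.Plus.Q.obj (plusMk ((CochainComplex.singleFunctor C' q).obj M) q) :=
  DerivedCategory.Plus.ι.preimageIso
    ((ιQIso (plusMk ((CochainComplex.singleFunctor C' q).obj M) q)).symm)

/-- `H^q(Q K) = H^q(K)` -/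
noncomputable def HqQIso (q : ℤ) (K : CochainComplex.Plus C') :
    (Hq q).obj (DerivedCategory.Plus.Q.obj K) ≅ K.obj.homology q :=
  (DerivedCategory.homologyFunctor C' q).mapIso (ιQIso K) ≪≫
    (DerivedCategory.homologyFunctorFactors C' q).app K.obj

variable [EnoughInjectives C']
variable {C'' : Type u''} [Category.{v''} C''] [Abelian C''] (S : C' ⥤ C'') [S.Additive]
  [PreservesFiniteLimits S]

/-- (E3) for `q = 0` -/
lemma nonempty_shift_single_zero (M : C') (n : ℤ) (p : ℕ) (h : (p : ℤ) = n) :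
    Nonempty (((Φ S).shift n).obj ((DerivedCategory.Plus.singleFunctor C' 0).obj M) ≅
      (S.rightDerived p).obj M) := by
  let I := injectiveResolution M
  let K0 := plusMk ((CochainComplex.singleFunctor C' 0).obj M) 0
  let KI := plusMk I.cochainComplex 0
  let f : K0 ⟶ KI := ObjectProperty.homMk I.ι'
  haveI : IsIso (DerivedCategory.Plus.Q.map f) :=
    isIso_Q_map_of_quasiIso f (inferInstanceAs (QuasiIso I.ι'))
  obtain ⟨e⟩ := nonempty_shiftIsoOfAcyclic S n KI 0 (by
    intro j i hi
    obtain ⟨k, rfl⟩ : ∃ k', i = k' + 1 := ⟨i - 1, by lia⟩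
    exact Functor.isZero_rightDerived_obj_injective_succ S k (I.cochainComplex.X j))
  exact ⟨((Φ S).shift n).mapIso (singleIsoQ 0 M ≪≫ asIso (DerivedCategory.Plus.Q.map f)) ≪≫ e ≪≫
    homologyMapCochainComplexIso S I n p h⟩

/-- (E3) -/
lemma nonempty_shift_single (M : C') (q n : ℤ) (p : ℕ) (h : q + (p : ℤ) = n) :
    Nonempty (((Φ S).shift n).obj ((DerivedCategory.Plus.singleFunctor C' q).obj M) ≅
      (S.rightDerived p).obj M) := by
  obtain ⟨e⟩ := nonempty_shift_single_zero S M p p rfl
  exact ⟨(((Φ S).shiftIso q (p : ℤ) n h).app _).symm ≪≫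
    ((Φ S).shift (p : ℤ)).mapIso
      (((DerivedCategory.Plus.singleFunctors C').shiftIso q 0 q (add_zero q)).app M) ≪≫ e⟩

end Groth.Agent.Lib.Helper68.GSSDer
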