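import Groth.Agent.Lib.Helper68.SheafHomFlasque
import Groth.Agent.Lib.Helper42.Proj
import Mathlib.CategoryTheory.Sites.ConstantSheaf
import Mathlib.CategoryTheory.Limits.Types.Products

/-! Injective `O`-modules have totally acyclic underlying abelian sheaves; totally acyclic abelian
sheaves have no higher global cohomology. -/

set_option autoImplicit false
universe u

open CategoryTheory Category Limits Opposite ModSite Abelian

namespace Groth.Agent.Lib.Helper68.InjModAcyclic

open Groth.Agent.Lib.Helper42.TensorSheaf Groth.Agent.Lib.Helper42.TensorColim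
open Groth.Agent.Lib.Helper42.Flat Groth.Agent.Lib.Helper42.Proj

variable {C : Type u} [SmallCategory C] {J : GrothendieckTopology C}

lemma subsingleton_ext_of_iso_right {𝒜 : Type*} [Category 𝒜] [Abelian 𝒜] [HasExt.{u} 𝒜]
    {P A A' : 𝒜} (e : A ≅ A') (n : ℕ) [Subsingleton (Ext.{u} P A n)] :
    Subsingleton (Ext.{u} P A' n) := by
  refine ⟨fun x y => ?_⟩
  have hx : ∀ z : Ext.{u} P A' n, z = (z.comp (Ext.mk₀ e.inv) (add_zero n)).comp (Ext.mk₀ e.hom)
      (add_zero n) := by
    intro z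
    rw [Ext.comp_assoc_of_third_deg_zero, Ext.mk₀_comp_mk₀, e.inv_hom_id, Ext.comp_mk₀_id]
  rw [hx x, hx y, Subsingleton.elim (x.comp (Ext.mk₀ e.inv) (add_zero n))
    (y.comp (Ext.mk₀ e.inv) (add_zero n))]

lemma subsingleton_ext_of_iso_left {𝒜 : Type*} [Category 𝒜] [Abelian 𝒜] [HasExt.{u} 𝒜]
    {P P' A : 𝒜} (e : P ≅ P') (n : ℕ) [Subsingleton (Ext.{u} P A n)] :
    Subsingleton (Ext.{u} P' A n) := by
  refine ⟨fun x y => ?_⟩
  have hx : ∀ z : Ext.{u} P' A n, z = (Ext.mk₀ e.inv).comp ((Ext.mk₀ e.hom).comp z (zero_add n))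
      (zero_add n) := by
    intro z
    rw [← Ext.comp_assoc_of_second_deg_zero, Ext.mk₀_comp_mk₀, e.inv_hom_id, Ext.mk₀_id_comp]
  rw [hx x, hx y, Subsingleton.elim ((Ext.mk₀ e.hom).comp x (zero_add n))
    ((Ext.mk₀ e.hom).comp y (zero_add n))]

theorem isTotallyAcyclic_of_iso {A A' : Sheaf J AddCommGrpCat.{u}} (e : A ≅ A')
    (h : CohCx.IsTotallyAcyclic A) : CohCx.IsTotallyAcyclic A' := by
  intro K p
  have := h K p
  exact subsingleton_ext_of_iso_right e (p + 1)

variable (O : Sheaf J CommRingCat.{u})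

/-- `- ⊗ O` is the identity -/
noncomputable def tensRUnitIso : tensR O (ModSite.unit O) ≅ 𝟭 (Mod O) :=
  (tensLRIso O (ModSite.unit O)).symm ≪≫ tensLUnitIso O

/-- `Hom_O(O, -)` is the identity -/
noncomputable def sheafHomUnitIso [HasSheafHom (ModSite.unit O)] :
    sheafHom (ModSite.unit O) ≅ 𝟭 (Mod O) :=
  Adjunction.rightAdjointUniq (sheafHomAdj (ModSite.unit O))
    (Adjunction.id.ofNatIsoLeft (tensRUnitIso O).symm)

/-- an injective `O`-module is totally acyclic (flasque) as an abelian sheaf -/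
theorem isTotallyAcyclic_toAb_of_injective (G : Mod O) [Injective G] :
    CohCx.IsTotallyAcyclic (toAb G) := by
  haveI : HasSheafHom (ModSite.unit O) := hasSheafHom O (ModSite.unit O)
  exact isTotallyAcyclic_of_iso
    ((SheafOfModules.toSheaf (ringSh O)).mapIso ((sheafHomUnitIso O).app G))
    (Groth.Agent.Lib.Helper68.SheafHomFlasque.isTotallyAcyclic_sheafHom O (ModSite.unit O) G)

/-- the terminal sheaf of sets -/
def termSh : Sheaf J (Type u) :=
  ⟨(Functor.const Cᵒᵖ).obj PUnit.{u + 1}, Presheaf.isSheaf_of_isTerminal J Types.isTerminalPUnit⟩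

/-- the constant sheaf `ℤ` is the free abelian sheaf on the terminal sheaf of sets -/
noncomputable def constIso :
    (presheafToSheaf J AddCommGrpCat.{u}).obj ((termSh (J := J)).obj ⋙ AddCommGrpCat.free.{u}) ≅
      (constantSheaf J AddCommGrpCat.{u}).obj (AddCommGrpCat.of (ULift.{u} ℤ)) :=
  (presheafToSheaf J AddCommGrpCat.{u}).mapIso
    (Functor.constComp Cᵒᵖ PUnit.{u + 1} AddCommGrpCat.free.{u} ≪≫
      (Functor.const Cᵒᵖ).mapIso
        (((FreeAbelianGroup.uniqueEquiv PUnit.{u + 1}).trans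
          AddEquiv.ulift.symm).toAddCommGrpIso))

/-- a totally acyclic abelian sheaf has no higher global cohomology -/
theorem subsingleton_H_of_isTotallyAcyclic (A : Sheaf J AddCommGrpCat.{u})
    (h : CohCx.IsTotallyAcyclic A) (p : ℕ) : Subsingleton (Sheaf.H.{u} A (p + 1)) := by
  have := h (termSh (J := J)) p
  exact subsingleton_ext_of_iso_left (constIso (J := J)) (p + 1)

end Groth.Agent.Lib.Helper68.InjModAcyclic
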