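import Groth.Agent.Lib.Helper68.ShHomColim2

/-! `ℋom(F, -)` commutes with filtered colimits for `F` of finite presentation on a ringed site. -/

set_option autoImplicit false
universe u

open CategoryTheory Category Limits Opposite ModSite

namespace Groth.Agent.Lib.Helper68.ShHomColim

open Groth.Agent.Lib.Helper42.TensorColim Groth.Agent.Lib.Helper42.RestrExact

variable {C : Type u} [SmallCategory C] {J : GrothendieckTopology C} (O : Sheaf J CommRingCat.{u})

/-- a finite global presentation gives the hypothesis of the local statement -/
theorem preservesColimit_sheafHom_of_finite_presentation (F : Mod O) [HasSheafHom F]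
    (p : SheafOfModules.Presentation (R := ringSh O) F) (hp : p.IsFinite)
    {Λ : Type u} [SmallCategory Λ] [IsFiltered Λ] (D : Λ ⥤ Mod O) :
    PreservesColimit D (sheafHom F) := by
  haveI : Finite p.generators.I := SheafOfModules.GeneratingSections.IsFiniteType.finite
  haveI : Finite p.relations.I := SheafOfModules.GeneratingSections.IsFiniteType.finite
  let π : SheafOfModules.free (R := ringSh O) p.generators.I ⟶ F := p.generators.π
  let Rm : SheafOfModules.free (R := ringSh O) p.relations.I ⟶
      SheafOfModules.free (R := ringSh O) p.generators.I := p.relations.π ≫ kernel.ι π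
  have w : Rm ≫ π = 0 := by
    rw [assoc, kernel.condition, comp_zero]
  haveI : Epi π := p.generators.epi
  have hex : (ShortComplex.mk Rm π w).Exact := by
    rw [ShortComplex.exact_iff_epi_kernel_lift]
    have h1 : kernel.lift π Rm w = p.relations.π := by
      rw [← cancel_mono (kernel.ι π), kernel.lift_ι]
    change Epi (kernel.lift π Rm w)
    rw [h1]
    exact p.relations.epi
  exact preservesColimit_sheafHom_of_presentation D F Rm π w hex

/-- **`ℋom(F, -)` commutes with filtered colimits** for `F` of finite presentation -/
theorem preservesColimit_sheafHom_of_isFinitePresentation (F : Mod O) [HasSheafHom F]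
    [SheafOfModules.IsFinitePresentation (R := ringSh O) F]
    {Λ : Type u} [SmallCategory Λ] [IsFiltered Λ] (D : Λ ⥤ Mod O) :
    PreservesColimit D (sheafHom F) := by
  obtain ⟨σ, hσ⟩ := SheafOfModules.IsFinitePresentation.exists_quasicoherentData
    (R := ringSh O) F
  refine preservesColimit_of_restr σ.coversTop D (sheafHom F) fun i => ?_
  haveI : HasSheafHom ((restr O (σ.X i)).obj F) := hasSheafHom (O.over (σ.X i)) _
  haveI h1 : PreservesColimit (D ⋙ restr O (σ.X i)) (sheafHom ((restr O (σ.X i)).obj F)) :=
    preservesColimit_sheafHom_of_finite_presentation (O.over (σ.X i)) ((restr O (σ.X i)).obj F)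
      (σ.presentation i) (hσ.isFinite_presentation i) (D ⋙ restr O (σ.X i))
  haveI h2 : PreservesColimit D (restr O (σ.X i) ⋙ sheafHom ((restr O (σ.X i)).obj F)) :=
    inferInstance
  exact preservesColimit_of_natIso D
    (Groth.Agent.Lib.Helper42.Proj.homRestrIso O (σ.X i) F).symm

end Groth.Agent.Lib.Helper68.ShHomColim
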