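import Groth.Agent.Lib.Helper68.TopColim
import Groth.Agent.Lib.Helper68.ShHomColim3
import Groth.Agent.Lib.Helper68.InjModAcyclic
import Groth.Agent.Lib.Helper42.ModSheaf

/-! Global sections of `O`-modules on a ringed space commute with directed colimits (under the
finite-cover hypothesis), and `Hom(G, -)` commutes with directed colimits for `G` of finite
presentation. -/

set_option autoImplicit false
universe u

open CategoryTheory Category Limits Opposite ModSite TopologicalSpace

namespace Groth.Agent.Lib.Helper68.GammaColim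

open Groth.Agent.Lib.Helper42.TensorColim Groth.Agent.Lib.Helper42.Proj
open Groth.Agent.Lib.Helper42.TensorSheaf
open Groth.Agent.Lib.Helper68.TopColim

variable {X : TopCat.{u}} (O : TopCat.Sheaf CommRingCat.{u} X)

/-- evaluation at `⊤` of a global section -/
noncomputable def ev (M : Mod O) (x : ModSite.unit O ⟶ M) : sec (toAb M) ⊤ :=
  (M.unitHomEquiv x).val (op ⊤)

lemma ev_comp {M N : Mod O} (x : ModSite.unit O ⟶ M) (f : M ⟶ N) :
    ev O N (x ≫ f) =
      ((SheafOfModules.toSheaf (ringSh O)).map f).hom.app (op ⊤) (ev O M x) := rfl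

lemma ev_injective (M : Mod O) : Function.Injective (ev O M) := by
  intro x y h
  apply M.unitHomEquiv.injective
  apply PresheafOfModules.sections_ext
  intro U
  have hx := PresheafOfModules.sections_property (M.unitHomEquiv x)
    (homOfLE (le_top : U.unop ≤ ⊤)).op
  have hy := PresheafOfModules.sections_property (M.unitHomEquiv y)
    (homOfLE (le_top : U.unop ≤ ⊤)).op
  rw [← hx, ← hy]
  exact congrArg _ h

lemma ev_surjective (M : Mod O) : Function.Surjective (ev O M) := by
  intro t
  let t' : M.val.obj (op (⊤ : Opens X)) := t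
  refine ⟨M.unitHomEquiv.symm (PresheafOfModules.sectionsMk
    (fun U => M.val.map (homOfLE (le_top : U.unop ≤ ⊤)).op t') ?_), ?_⟩
  · intro U V f
    rw [← PresheafOfModules.map_comp_apply]
    rfl
  · unfold ev
    rw [Equiv.apply_symm_apply]
    show M.val.map (𝟙 _) t' = t
    rw [PresheafOfModules.map_id]
    rfl


/-- global sections commute with directed colimits -/
theorem preservesColimit_sections
    (hX : ∀ (ι : Type u) (V : ι → Opens X), iSup V = ⊤ →
      ∃ (J : Type u) (_ : Finite J) (U : J → Opens X), iSup U = ⊤ ∧ (∀ j, ∃ i, U j ≤ V i) ∧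
        ∀ j j', IsCompact ((U j ⊓ U j' : Opens X) : Set X))
    {I : Type u} [Preorder I] [Nonempty I] [IsDirected I (· ≤ ·)] (D : I ⥤ Mod O) :
    PreservesColimit D (coyoneda.obj (op (ModSite.unit O))) := by
  constructor
  intro c hc
  have hc' : IsColimit ((SheafOfModules.toSheaf (ringSh O)).mapCocone c) :=
    isColimitOfPreserves (SheafOfModules.toSheaf (ringSh O)) hc
  refine ⟨Types.FilteredColimit.isColimitOf' _ _ ?_ ?_⟩
  · intro x
    obtain ⟨i, s, hs⟩ := exists_inc_eq (E := D ⋙ SheafOfModules.toSheaf (ringSh O)) hX hc'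
      (ev O c.pt x)
    obtain ⟨xi, rfl⟩ := ev_surjective O (D.obj i) s
    refine ⟨i, xi, ev_injective O _ ?_⟩
    exact hs.symm
  · intro i x y h
    have h' : inc ((SheafOfModules.toSheaf (ringSh O)).mapCocone c) i ⊤ (ev O _ x) =
        inc ((SheafOfModules.toSheaf (ringSh O)).mapCocone c) i ⊤ (ev O _ y) :=
      congrArg (ev O c.pt) h
    obtain ⟨k, hk, hkeq⟩ := exists_tr_eq_top
      (E := D ⋙ SheafOfModules.toSheaf (ringSh O)) hX hc' i _ _ h'
    refine ⟨k, homOfLE hk, ev_injective O _ ?_⟩
    exact hkeq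

/-- `Hom(G, -) = Γ(X, ℋom(G, -))` -/
noncomputable def homIso (G : Mod O) [HasSheafHom G] :
    coyoneda.obj (op G) ≅ sheafHom G ⋙ coyoneda.obj (op (ModSite.unit O)) :=
  NatIso.ofComponents (fun M => Equiv.toIso
    ((Iso.homCongr (((tensLUnitIso O).app G).symm :
        G ≅ ((tensorBi O).flip.obj G).obj (ModSite.unit O)) (Iso.refl M)).trans
      ((sheafHomAdj G).homEquiv (ModSite.unit O) M))) (by
    intro M M' f
    ext g
    show (sheafHomAdj G).homEquiv (ModSite.unit O) M'
        ((((tensLUnitIso O).app G).symm :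
          G ≅ ((tensorBi O).flip.obj G).obj (ModSite.unit O)).inv ≫ (g ≫ f) ≫ 𝟙 M') =
      (sheafHomAdj G).homEquiv (ModSite.unit O) M
        ((((tensLUnitIso O).app G).symm :
          G ≅ ((tensorBi O).flip.obj G).obj (ModSite.unit O)).inv ≫ g ≫ 𝟙 M) ≫
        (sheafHom G).map f
    rw [← Adjunction.homEquiv_naturality_right]
    congr 1)

/-- **`Hom(G, -)` commutes with directed colimits** for `G` of finite presentation -/
theorem preservesColimit_coyoneda_of_isFinitePresentation
    (hX : ∀ (ι : Type u) (V : ι → Opens X), iSup V = ⊤ →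
      ∃ (J : Type u) (_ : Finite J) (U : J → Opens X), iSup U = ⊤ ∧ (∀ j, ∃ i, U j ≤ V i) ∧
        ∀ j j', IsCompact ((U j ⊓ U j' : Opens X) : Set X))
    {I : Type u} [Preorder I] [Nonempty I] [IsDirected I (· ≤ ·)] (D : I ⥤ Mod O)
    (G : Mod O) [SheafOfModules.IsFinitePresentation (R := ringSh O) G] :
    PreservesColimit D (coyoneda.obj (op G)) := by
  have : HasSheafHom G := hasSheafHom O G
  have : PreservesColimit D (sheafHom G) :=
    Groth.Agent.Lib.Helper68.ShHomColim.preservesColimit_sheafHom_of_isFinitePresentation O G D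
  have : PreservesColimit (D ⋙ sheafHom G) (coyoneda.obj (op (ModSite.unit O))) :=
    preservesColimit_sections O hX _
  exact preservesColimit_of_natIso D (homIso O G).symm

end Groth.Agent.Lib.Helper68.GammaColim
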