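import Mathlib.Topology.LocallyClosed
import Mathlib.Topology.NoetherianSpace
import Mathlib.Data.Fintype.Basic
import Mathlib.Data.Finite.Prod
import Mathlib.Data.Fintype.Option

set_option autoImplicit false
universe u

namespace Groth.Agent.Lib.Helper68

open TopologicalSpace

/-- A point of a nonempty finite union of locally closed sets lying in no boundary
`closure (P k) \ P k`. -/
theorem exists_not_mem_boundaries {X : Type u} [TopologicalSpace X] {ι : Type} (P : ι → Set X)
    (hP : ∀ k, IsLocallyClosed (P k)) (K : Finset ι) :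
    ∀ O : Set X, IsOpen O → (O ∩ ⋃ k, P k).Nonempty →
      ∃ x ∈ O ∩ ⋃ k, P k, ∀ k ∈ K, x ∈ closure (P k) → x ∈ P k := by
  classical
  induction K using Finset.induction_on with
  | empty =>
    rintro O _ ⟨x, hx⟩
    exact ⟨x, hx, fun k hk => absurd hk (Finset.notMem_empty k)⟩
  | insert k K _ ih =>
    intro O hO hne
    obtain ⟨x, hx, hxK⟩ := ih O hO hne
    by_cases hxk : x ∈ closure (P k) → x ∈ P k
    · refine ⟨x, hx, fun k' hk' => ?_⟩
      rcases Finset.mem_insert.mp hk' with rfl | h
      · exact hxk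
      · exact hxK k' h
    · simp only [Classical.not_imp] at hxk
      obtain ⟨hxcl, hxP⟩ := hxk
      have hclosed : ∀ k' ∈ K, IsClosed (closure (P k') \ P k') := by
        intro k' _
        have := (hP k').isOpen_coborder
        rw [coborder, isOpen_compl_iff] at this
        exact this
      have hNcl : IsClosed (⋃ k' ∈ K, closure (P k') \ P k') :=
        Set.Finite.isClosed_biUnion (Finset.finite_toSet K) hclosed
      have hO' : IsOpen (O ∩ (⋃ k' ∈ K, closure (P k') \ P k')ᶜ) := hO.inter hNcl.isOpen_compl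
      have hxO' : x ∈ O ∩ (⋃ k' ∈ K, closure (P k') \ P k')ᶜ := by
        refine ⟨hx.1, ?_⟩
        intro hmem
        simp only [Set.mem_iUnion, Set.mem_sdiff, exists_prop] at hmem
        obtain ⟨k', hk', h1, h2⟩ := hmem
        exact h2 (hxK k' hk' h1)
      obtain ⟨y, ⟨hyO, hyN⟩, hyP⟩ := mem_closure_iff.mp hxcl _ hO' hxO'
      refine ⟨y, ⟨hyO, Set.mem_iUnion.mpr ⟨k, hyP⟩⟩, fun k' hk' hycl => ?_⟩
      rcases Finset.mem_insert.mp hk' with rfl | h
      · exact hyP
      · by_contra hyP'
        apply hyN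
        simp only [Set.mem_iUnion, Set.mem_sdiff, exists_prop]
        exact ⟨k', h, hycl, hyP'⟩

end Groth.Agent.Lib.Helper68

namespace Groth.Agent.Lib.Helper68

open TopologicalSpace

theorem good_strat_aux {X : Type u} [TopologicalSpace X] [NoetherianSpace X] :
    ∀ Z : Closeds X, ∀ (ι : Type) [Finite ι] (P : ι → Set X), (∀ k, IsLocallyClosed (P k)) →
      (⋃ k, P k = (Z : Set X)) → (∀ k k', k ≠ k' → Disjoint (P k) (P k')) →
      ∃ (ι' : Type) (_ : Finite ι') (S : ι' → Set X), (∀ i, IsLocallyClosed (S i)) ∧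
        (⋃ i, S i = (Z : Set X)) ∧ (∀ i j, i ≠ j → Disjoint (S i) (S j)) ∧
        (∀ i j, (S i ∩ closure (S j)).Nonempty → S i ⊆ closure (S j)) ∧
        (∀ i k, (S i ∩ P k).Nonempty → S i ⊆ P k) := by
  have wf : WellFoundedLT (Closeds X) :=
    ((noetherianSpace_TFAE X).out 0 1).mp ‹NoetherianSpace X›
  intro Z
  induction Z using wf.wf.induction with
  | _ Z ih =>
  intro ι _ P hP hcov hdisj
  classical
  cases nonempty_fintype ι
  by_cases hZ : (Z : Set X) = ∅
  · refine ⟨Empty, inferInstance, fun e => e.elim, fun e => e.elim, ?_, fun e => e.elim,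
      fun e => e.elim, fun e => e.elim⟩
    rw [hZ]
    simp
  · have hne : (Set.univ ∩ ⋃ k, P k).Nonempty := by
      rw [hcov, Set.univ_inter]
      exact Set.nonempty_iff_ne_empty.mpr hZ
    obtain ⟨x, ⟨_, hxZ⟩, hx⟩ :=
      exists_not_mem_boundaries P hP Finset.univ Set.univ isOpen_univ hne
    obtain ⟨i, hxi⟩ := Set.mem_iUnion.mp hxZ
    have hCcl : IsClosed (⋃ k ∈ {k : ι | k ≠ i}, closure (P k)) :=
      Set.Finite.isClosed_biUnion (Set.toFinite _) (fun k _ => isClosed_closure)
    have hxC : x ∉ ⋃ k ∈ {k : ι | k ≠ i}, closure (P k) := by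
      intro h
      simp only [Set.mem_iUnion, Set.mem_setOf_eq, exists_prop] at h
      obtain ⟨k, hki, hk⟩ := h
      have := hx k (Finset.mem_univ k) hk
      exact Set.disjoint_left.mp (hdisj k i hki) this hxi
    have hxZ' : x ∈ (Z : Set X) := by
      rw [← hcov]
      exact hxZ
    have hUP : (Z : Set X) ∩ (⋃ k ∈ {k : ι | k ≠ i}, closure (P k))ᶜ ⊆ P i := by
      rintro y ⟨hyZ, hyC⟩
      rw [← hcov] at hyZ
      obtain ⟨k, hk⟩ := Set.mem_iUnion.mp hyZ
      by_cases hki : k = i
      · exact hki ▸ hk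
      · exfalso
        apply hyC
        exact Set.mem_biUnion (show k ∈ {k : ι | k ≠ i} from hki) (subset_closure hk)
    have hZ'lt : (⟨(Z : Set X) ∩ (⋃ k ∈ {k : ι | k ≠ i}, closure (P k)),
        Z.isClosed.inter hCcl⟩ : Closeds X) < Z := by
      refine lt_of_le_of_ne (fun y hy => hy.1) ?_
      intro heq
      have : x ∈ (Z : Set X) ∩ (⋃ k ∈ {k : ι | k ≠ i}, closure (P k)) := by
        have h2 : x ∈ ((⟨(Z : Set X) ∩ (⋃ k ∈ {k : ι | k ≠ i}, closure (P k)),
          Z.isClosed.inter hCcl⟩ : Closeds X) : Set X) := by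
          rw [heq]
          exact hxZ'
        exact h2
      exact hxC this.2
    -- abbreviations
    generalize hCdef : (⋃ k ∈ {k : ι | k ≠ i}, closure (P k)) = C at *
    generalize hUdef : (Z : Set X) ∩ Cᶜ = U at *
    have hUlc : IsLocallyClosed U := by
      rw [← hUdef]
      exact Z.isClosed.isLocallyClosed.inter hCcl.isOpen_compl.isLocallyClosed
    have hxU : x ∈ U := by
      rw [← hUdef]
      exact ⟨hxZ', hxC⟩
    have hUZ : U ⊆ (Z : Set X) := by
      rw [← hUdef]
      exact Set.inter_subset_left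
    have hUC : Disjoint U ((Z : Set X) ∩ C) := by
      rw [← hUdef, Set.disjoint_left]
      rintro y ⟨_, hy⟩ ⟨_, hy'⟩
      exact hy hy'
    -- the new partition
    have hP' : ∀ kb : ι × Bool, IsLocallyClosed
        ((P kb.1 ∩ ((Z : Set X) ∩ C)) ∩ (if kb.2 then closure U else (closure U)ᶜ)) := by
      rintro ⟨k, b⟩
      refine ((hP k).inter (Z.isClosed.inter hCcl).isLocallyClosed).inter ?_
      cases b
      · simpa using isClosed_closure.isOpen_compl.isLocallyClosed
      · simpa using isClosed_closure.isLocallyClosed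
    have hcov' : (⋃ kb : ι × Bool,
        (P kb.1 ∩ ((Z : Set X) ∩ C)) ∩ (if kb.2 then closure U else (closure U)ᶜ)) =
        ((⟨(Z : Set X) ∩ C, Z.isClosed.inter hCcl⟩ : Closeds X) : Set X) := by
      apply Set.Subset.antisymm
      · intro y hy
        obtain ⟨kb, hkb⟩ := Set.mem_iUnion.mp hy
        exact hkb.1.2
      · intro y hy
        have hy' : y ∈ (Z : Set X) ∩ C := hy
        have hyZ : y ∈ ⋃ k, P k := by
          rw [hcov]
          exact hy'.1
        obtain ⟨k, hk⟩ := Set.mem_iUnion.mp hyZ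
        by_cases hcl : y ∈ closure U
        · exact Set.mem_iUnion.mpr ⟨(k, true), ⟨hk, hy'⟩, by simpa using hcl⟩
        · exact Set.mem_iUnion.mpr ⟨(k, false), ⟨hk, hy'⟩, by simpa using hcl⟩
    have hdisj' : ∀ kb kb' : ι × Bool, kb ≠ kb' → Disjoint
        ((P kb.1 ∩ ((Z : Set X) ∩ C)) ∩ (if kb.2 then closure U else (closure U)ᶜ))
        ((P kb'.1 ∩ ((Z : Set X) ∩ C)) ∩ (if kb'.2 then closure U else (closure U)ᶜ)) := by
      rintro ⟨k, b⟩ ⟨k', b'⟩ hne
      rw [Set.disjoint_left]
      rintro y ⟨⟨hyk, _⟩, hyb⟩ ⟨⟨hyk', _⟩, hyb'⟩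
      by_cases hkk : k = k'
      · subst hkk
        have hbb : b ≠ b' := fun h => hne (by rw [h])
        cases b <;> cases b' <;> simp_all
      · exact Set.disjoint_left.mp (hdisj k k' hkk) hyk hyk'
    obtain ⟨ι', hι', S', hS'lc, hS'cov, hS'disj, hS'good, hS'ref⟩ :=
      ih _ hZ'lt (ι × Bool) _ hP' hcov' hdisj'
    have hS'Z : ∀ a, S' a ⊆ (Z : Set X) ∩ C := by
      intro a y hy
      have : y ∈ ⋃ a, S' a := Set.mem_iUnion.mpr ⟨a, hy⟩
      rw [hS'cov] at this
      exact this
    refine ⟨Option ι', inferInstance, fun o => o.elim U S', ?_, ?_, ?_, ?_, ?_⟩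
    · rintro (_ | a)
      · exact hUlc
      · exact hS'lc a
    · apply Set.Subset.antisymm
      · intro y hy
        obtain ⟨o, ho⟩ := Set.mem_iUnion.mp hy
        rcases o with _ | a
        · exact hUZ ho
        · exact (hS'Z a ho).1
      · intro y hy
        by_cases hyC : y ∈ C
        · have : y ∈ ⋃ a, S' a := by
            rw [hS'cov]
            exact ⟨hy, hyC⟩
          obtain ⟨a, ha⟩ := Set.mem_iUnion.mp this
          exact Set.mem_iUnion.mpr ⟨some a, ha⟩
        · refine Set.mem_iUnion.mpr ⟨none, ?_⟩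
          change y ∈ U
          rw [← hUdef]
          exact ⟨hy, hyC⟩
    · rintro (_ | a) (_ | b) hne
      · exact absurd rfl hne
      · exact hUC.mono_right (hS'Z b)
      · exact (hUC.mono_right (hS'Z a)).symm
      · exact hS'disj a b (fun h => hne (by rw [h]))
    · rintro (_ | a) (_ | b) hne
      · exact subset_closure
      · exfalso
        obtain ⟨y, hyU, hycl⟩ := hne
        have : closure (S' b) ⊆ (Z : Set X) ∩ C :=
          closure_minimal (hS'Z b) (Z.isClosed.inter hCcl)
        exact Set.disjoint_left.mp hUC hyU (this hycl)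
      · obtain ⟨y, hya, hycl⟩ := hne
        have hy' := hS'Z a hya
        have hyZ : y ∈ ⋃ k, P k := by
          rw [hcov]
          exact hy'.1
        obtain ⟨k, hk⟩ := Set.mem_iUnion.mp hyZ
        have := hS'ref a (k, true) ⟨y, hya, ⟨hk, hy'⟩, by simpa using hycl⟩
        intro z hz
        have hz' := this hz
        simpa using hz'.2
      · exact hS'good a b hne
    · rintro (_ | a) k hne
      · obtain ⟨y, hyU, hyk⟩ := hne
        have hyi : y ∈ P i := hUP hyU
        have hki : k = i := by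
          by_contra hki
          exact Set.disjoint_left.mp (hdisj k i hki) hyk hyi
        subst hki
        intro z hz
        exact hUP hz
      · obtain ⟨y, hya, hyk⟩ := hne
        have hy' := hS'Z a hya
        by_cases hcl : y ∈ closure U
        · have := hS'ref a (k, true) ⟨y, hya, ⟨hyk, hy'⟩, by simpa using hcl⟩
          exact fun z hz => (this hz).1.1
        · have := hS'ref a (k, false) ⟨y, hya, ⟨hyk, hy'⟩, by simpa using hcl⟩
          exact fun z hz => (this hz).1.1

end Groth.Agent.Lib.Helper68
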