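import Groth.Agent.S0468
import Groth.Agent.Lib.Helper26.MVTop

/-!
# Vanishing of cohomology of directed colimits of abelian sheaves

On a quasi-compact space whose quasi-compact opens form a basis stable under pairwise
intersections: if `F` is the colimit of a directed system of abelian sheaves `M i` with
`H^q(X, M i) = 0`, then `H^q(X, F) = 0`.
-/

universe u

open CategoryTheory TopologicalSpace Opposite CategoryTheory.Limits

namespace Groth.Agent.Lib.Helper68.HColim

open Groth.Agent.Lib.Helper53 Groth.Agent.Lib.Helper26.MVTop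

variable {X : TopCat.{u}}

open Abelian in
/-- cohomology over the terminal open vanishes when global cohomology does -/
theorem subsingleton_HU_top_of_subsingleton_H (F : CohTop.Ab X) (n : ℕ)
    [Subsingleton (CohTop.H F n)] : Subsingleton (CohTop.HU F n (⊤ : Opens X)) := by
  refine ⟨fun a b => ?_⟩
  have key : ∀ x : Ext (freeSheaf (⊤ : Opens X)) F n, x = 0 := fun x => by
    have h1 : (Ext.mk₀ (freeSheafTopIso (X := X)).inv).comp x (zero_add n) = 0 :=
      Subsingleton.elim (α := CohTop.H F n) _ _
    have h2 := congrArg (fun y => (Ext.mk₀ (freeSheafTopIso (X := X)).hom).comp y (zero_add n)) h1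
    simp only [Ext.comp_zero] at h2
    rwa [← Ext.comp_assoc_of_second_deg_zero, Ext.mk₀_comp_mk₀, Iso.hom_inv_id,
      Ext.mk₀_id_comp] at h2
  exact (key a).trans (key b).symm

/-- in `AddCommGrpCat`, the point of a colimit cocone over a diagram of trivial groups is trivial -/
lemma subsingleton_pt_of_isColimit {ι : Type u} [Category.{u} ι] {M : ι ⥤ AddCommGrpCat.{u}}
    {c : Cocone M} (hc : IsColimit c) (h : ∀ i, Subsingleton (M.obj i)) : Subsingleton c.pt := by
  have h0 : (𝟙 c.pt : c.pt ⟶ c.pt) = 0 := by
    apply hc.hom_ext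
    intro i
    have hz : IsZero (M.obj i) := AddCommGrpCat.isZero_of_subsingleton _
    exact hz.eq_of_src _ _
  refine ⟨fun a b => ?_⟩
  have ha : a = 0 := by
    have := congrArg (fun f : c.pt ⟶ c.pt => f.hom a) h0
    simpa using this
  have hb : b = 0 := by
    have := congrArg (fun f : c.pt ⟶ c.pt => f.hom b) h0
    simpa using this
  rw [ha, hb]

/-- directed colimits of sheaves with vanishing `H^q` have vanishing `H^q` -/
theorem subsingleton_H_of_isColimit [CompactSpace X] [PrespectralSpace X] [QuasiSeparatedSpace X]
    {ι : Type u} [Preorder ι] [IsDirected ι (· ≤ ·)] [Nonempty ι]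
    (M : ι ⥤ CohTop.Ab X) {c : Cocone M} (hc : IsColimit c) (q : ℕ)
    (h : ∀ i, Subsingleton (CohTop.H (M.obj i) q)) : Subsingleton (CohTop.H c.pt q) := by
  have hp := Groth.Agent.S0468.result (X := X) ⊤ isCompact_univ ι q
  have hc' := isColimitOfPreserves
    ((Sheaf.cohomologyPresheafFunctor (Opens.grothendieckTopology X) q).flip.obj (op ⊤)) hc
  have h1 : Subsingleton (CohTop.HU c.pt q (⊤ : Opens X)) := by
    refine subsingleton_pt_of_isColimit hc' (fun i => ?_)
    have := h i
    exact subsingleton_HU_top_of_subsingleton_H (M.obj i) q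
  exact subsingleton_H_of_subsingleton_HU_top c.pt q

end Groth.Agent.Lib.Helper68.HColim
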