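import Mathlib.Data.Set.Card
import Mathlib.Data.Fintype.Card
import Mathlib.SetTheory.Cardinal.Finite
import Mathlib.Algebra.BigOperators.Finprod
import Mathlib.Combinatorics.Enumerative.DoubleCounting
import Mathlib.Data.Finset.Prod
import Mathlib.Order.Interval.Finset.Nat

set_option autoImplicit false
universe u v

namespace Groth.Agent.Lib.Helper68

open scoped Classical in
theorem natCard_inc_eq {P : Type u} {ι : Type v} [Fintype ι] (inc : P → ι → Prop) (p : P) :
    Nat.card {j : ι // inc p j} = (Finset.univ.filter (fun j => inc p j)).card := by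
  rw [Nat.card_eq_fintype_card, Fintype.card_subtype]

theorem two_le_natCard_iff {P : Type u} {ι : Type v} [Fintype ι] (inc : P → ι → Prop) (p : P) :
    2 ≤ Nat.card {j : ι // inc p j} ↔ ∃ i j, i ≠ j ∧ inc p i ∧ inc p j := by
  classical
  rw [natCard_inc_eq, Nat.succ_le_iff, Finset.one_lt_card_iff]
  constructor
  · rintro ⟨a, b, ha, hb, hab⟩
    simp only [Finset.mem_filter, Finset.mem_univ, true_and] at ha hb
    exact ⟨a, b, hab, ha, hb⟩
  · rintro ⟨a, b, hab, ha, hb⟩
    exact ⟨a, b, by simpa using ha, by simpa using hb, hab⟩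

theorem multi_finite {P : Type u} {ι : Type v} [Fintype ι] (inc : P → ι → Prop)
    (hfin : ∀ i j : ι, i ≠ j → {p : P | inc p i ∧ inc p j}.Finite) :
    {p : P | 2 ≤ Nat.card {j : ι // inc p j}}.Finite := by
  have h1 : (⋃ x : {x : ι × ι // x.1 ≠ x.2}, {p : P | inc p x.1.1 ∧ inc p x.1.2}).Finite :=
    Set.finite_iUnion (fun x => hfin x.1.1 x.1.2 x.2)
  apply h1.subset
  intro p hp
  obtain ⟨i, j, hij, hi, hj⟩ := (two_le_natCard_iff inc p).mp hp
  exact Set.mem_iUnion.mpr ⟨⟨(i, j), hij⟩, hi, hj⟩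

end Groth.Agent.Lib.Helper68
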