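import Mathlib.AlgebraicTopology.AlternatingFaceMapComplex
import Mathlib.Algebra.Homology.ShortComplex.Ab
import Mathlib.Algebra.Homology.ShortComplex.HomologicalComplex
import Mathlib.Algebra.Homology.ShortComplex.Exact
import Mathlib.CategoryTheory.Preadditive.Yoneda.Basic
import Mathlib.CategoryTheory.Preadditive.Injective.Basic
import Mathlib.CategoryTheory.Abelian.Basic

/-! `Hom(-, G)` into an injective object of a simplicial object whose alternating face map
complex is exact in some positive degree gives a cosimplicial abelian group whose alternating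
coface map complex is exact in that degree. -/

set_option autoImplicit false
universe v u

open CategoryTheory Category Limits Opposite Simplicial AlgebraicTopology

namespace Groth.Agent.Lib.Helper68.HomInjCx

variable {𝒜 : Type u} [Category.{v} 𝒜] [Abelian 𝒜] (X : SimplicialObject 𝒜) (G : 𝒜)

/-- the cosimplicial abelian group `n ↦ Hom(X_n, G)` -/
noncomputable abbrev homCosimp : CosimplicialObject AddCommGrpCat.{v} :=
  X.rightOp ⋙ preadditiveYoneda.obj G

lemma homCosimp_δ_apply {n : ℕ} (i : Fin (n + 2)) (φ : X _⦋n⦌ ⟶ G) :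
    ((homCosimp X G).δ i).hom φ = X.δ i ≫ φ := rfl

lemma d_apply (n : ℕ) (φ : X _⦋n⦌ ⟶ G) :
    (((alternatingCofaceMapComplex AddCommGrpCat.{v}).obj (homCosimp X G)).d n (n + 1)).hom φ =
      ((alternatingFaceMapComplex 𝒜).obj X).d (n + 1) n ≫ φ := by
  have h1 : ((alternatingCofaceMapComplex AddCommGrpCat.{v}).obj (homCosimp X G)).d n (n + 1) =
      AlternatingCofaceMapComplex.objD (homCosimp X G) n := by
    exact CochainComplex.of_d (V := AddCommGrpCat.{v}) (fun n => (homCosimp X G).obj ⦋n⦌)
      (AlternatingCofaceMapComplex.objD (homCosimp X G)) n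
  have h2 : ((alternatingFaceMapComplex 𝒜).obj X).d (n + 1) n =
      AlternatingFaceMapComplex.objD X n := by
    simp
  rw [h1, h2]
  simp only [AlternatingCofaceMapComplex.objD, AlternatingFaceMapComplex.objD]
  rw [Preadditive.sum_comp]
  let ev : ((homCosimp X G).obj ⦋n⦌ ⟶ (homCosimp X G).obj ⦋n + 1⦌) →+ (X _⦋n + 1⦌ ⟶ G) :=
    { toFun := fun f => f.hom φ
      map_zero' := rfl
      map_add' := fun _ _ => rfl }
  change ev _ = _
  rw [map_sum]
  refine Finset.sum_congr rfl fun i _ => ?_
  rw [map_zsmul, Preadditive.zsmul_comp]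
  rfl

theorem exactAt_succ [Injective G] (n : ℕ)
    (h : ((alternatingFaceMapComplex 𝒜).obj X).ExactAt (n + 1)) :
    ((alternatingCofaceMapComplex AddCommGrpCat.{v}).obj (homCosimp X G)).ExactAt (n + 1) := by
  rw [HomologicalComplex.exactAt_iff' _ n (n + 1) (n + 2) (by simp) (by simp),
    ShortComplex.ab_exact_iff]
  rw [HomologicalComplex.exactAt_iff' _ (n + 2) (n + 1) n (by simp) (by simp)] at h
  intro φ hφ
  have hφ' : ((alternatingFaceMapComplex 𝒜).obj X).d (n + 2) (n + 1) ≫ φ = 0 := by
    rw [← d_apply X G (n + 1) φ]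
    exact hφ
  refine ⟨h.descToInjective φ hφ', ?_⟩
  have := d_apply X G n (h.descToInjective φ hφ')
  refine this.trans ?_
  exact h.comp_descToInjective φ hφ'

end Groth.Agent.Lib.Helper68.HomInjCx
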