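import Groth.Agent.Lib.Helper68.FilteredMod
import Mathlib.Algebra.Homology.ShortComplex.HomologicalComplex
import Mathlib.Algebra.Homology.ShortComplex.ModuleCat
import Mathlib.Algebra.Homology.HomologicalComplexAbelian

/-! Homology of complexes of modules commutes with filtered colimits: if
`Φ : C ⥤ HomologicalComplex (ModuleCat R) c` is such that every `Φ ⋙ eval i` preserves the
filtered colimit of `D`, so does `Φ ⋙ homologyFunctor i`. -/

set_option autoImplicit false
universe u v' u' w

open CategoryTheory Limits

namespace Groth.Agent.Lib.Helper68.HomologyColim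

variable {R : Type u} [Ring R] {ι : Type w} {c : ComplexShape ι}
  {C : Type u'} [Category.{v'} C] (Φ : C ⥤ HomologicalComplex (ModuleCat.{u} R) c)

/-- the cycles inclusion as a natural transformation -/
noncomputable def iCyclesNat (i : ι) :
    Φ ⋙ HomologicalComplex.cyclesFunctor _ c i ⟶ Φ ⋙ HomologicalComplex.eval _ c i where
  app X := (Φ.obj X).iCycles i
  naturality _ _ f := HomologicalComplex.cyclesMap_i (Φ.map f) i

/-- the differential as a natural transformation -/
noncomputable def dNat (i j : ι) :
    Φ ⋙ HomologicalComplex.eval _ c i ⟶ Φ ⋙ HomologicalComplex.eval _ c j where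
  app X := (Φ.obj X).d i j
  naturality _ _ f := (Φ.map f).comm i j

/-- `toCycles` as a natural transformation -/
noncomputable def toCyclesNat (i j : ι) :
    Φ ⋙ HomologicalComplex.eval _ c i ⟶ Φ ⋙ HomologicalComplex.cyclesFunctor _ c j where
  app X := (Φ.obj X).toCycles i j
  naturality X Y f := by
    show (Φ.map f).f i ≫ (Φ.obj Y).toCycles i j =
      (Φ.obj X).toCycles i j ≫ HomologicalComplex.cyclesMap (Φ.map f) j
    rw [← cancel_mono ((Φ.obj Y).iCycles j), Category.assoc, Category.assoc,
      HomologicalComplex.toCycles_i, HomologicalComplex.cyclesMap_i,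
      HomologicalComplex.toCycles_i_assoc, HomologicalComplex.Hom.comm]

/-- the projection from cycles to homology as a natural transformation -/
noncomputable def homologyπNat (i : ι) :
    Φ ⋙ HomologicalComplex.cyclesFunctor _ c i ⟶ Φ ⋙ HomologicalComplex.homologyFunctor _ c i :=
  Functor.whiskerLeft Φ (HomologicalComplex.natTransHomologyπ _ c i)

variable {J : Type u} [SmallCategory J] [IsFiltered J] (D : J ⥤ C)

theorem preservesColimit_cycles (i : ι)
    [PreservesColimit D (Φ ⋙ HomologicalComplex.eval _ c i)]
    [PreservesColimit D (Φ ⋙ HomologicalComplex.eval _ c (c.next i))] :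
    PreservesColimit D (Φ ⋙ HomologicalComplex.cyclesFunctor _ c i) := by
  refine FilteredMod.preservesColimit_of_kernel D (iCyclesNat Φ i) (dNat Φ i (c.next i)) ?_ ?_ ?_
  · intro X
    exact (ModuleCat.mono_iff_injective ((Φ.obj X).iCycles i)).mp inferInstance
  · intro X x
    exact ConcreteCategory.congr_hom ((Φ.obj X).iCycles_d i (c.next i)) x
  · intro X y hy
    have hex : (ShortComplex.mk ((Φ.obj X).iCycles i) ((Φ.obj X).d i (c.next i))
        ((Φ.obj X).iCycles_d i (c.next i))).Exact :=
      ShortComplex.exact_of_f_is_kernel _ ((Φ.obj X).cyclesIsKernel i (c.next i) rfl)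
    rw [ShortComplex.moduleCat_exact_iff] at hex
    exact hex y hy

theorem preservesColimit_homology (i : ι)
    [PreservesColimit D (Φ ⋙ HomologicalComplex.eval _ c i)]
    [PreservesColimit D (Φ ⋙ HomologicalComplex.eval _ c (c.next i))]
    [PreservesColimit D (Φ ⋙ HomologicalComplex.eval _ c (c.prev i))] :
    PreservesColimit D (Φ ⋙ HomologicalComplex.homologyFunctor _ c i) := by
  have := preservesColimit_cycles Φ D i
  refine FilteredMod.preservesColimit_of_cokernel D (toCyclesNat Φ (c.prev i) i)
    (homologyπNat Φ i) ?_ ?_ ?_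
  · intro X
    exact (ModuleCat.epi_iff_surjective ((Φ.obj X).homologyπ i)).mp inferInstance
  · intro X x
    exact ConcreteCategory.congr_hom ((Φ.obj X).toCycles_comp_homologyπ (c.prev i) i) x
  · intro X y hy
    have hex : (ShortComplex.mk ((Φ.obj X).toCycles (c.prev i) i) ((Φ.obj X).homologyπ i)
        ((Φ.obj X).toCycles_comp_homologyπ (c.prev i) i)).Exact :=
      ShortComplex.exact_of_g_is_cokernel _ ((Φ.obj X).homologyIsCokernel (c.prev i) i rfl)
    rw [ShortComplex.moduleCat_exact_iff] at hex
    exact hex y hy

end Groth.Agent.Lib.Helper68.HomologyColim
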