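import Mathlib.CategoryTheory.Abelian.LeftDerived
import Mathlib.Algebra.Homology.HomologySequence
import Mathlib.Algebra.Homology.HomologicalComplexAbelian
import Mathlib.CategoryTheory.Abelian.Refinements

/-! Horseshoe lemma: from projective resolutions of the two ends of a short exact sequence,
a projective resolution of the middle term sitting in a degreewise split short exact sequence
of complexes. -/

set_option autoImplicit false
universe v u

open CategoryTheory Category Limits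

namespace Groth.Agent.Lib.Helper68.Horseshoe

variable {C : Type u} [Category.{v} C] [Abelian C]
variable {S : ShortComplex C} (hS : S.ShortExact)
  (P₁ : ProjectiveResolution S.X₁) (P₃ : ProjectiveResolution S.X₃)

/-- the augmentation of a projective resolution, as a map to the resolved object -/
noncomputable def aug {Z : C} (P : ProjectiveResolution Z) : P.complex.X 0 ⟶ Z := P.π.f 0

instance {Z : C} (P : ProjectiveResolution Z) : Epi (aug P) :=
  inferInstanceAs (Epi (P.π.f 0))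

@[reassoc (attr := simp)]
lemma d_aug {Z : C} (P : ProjectiveResolution Z) : P.complex.d 1 0 ≫ aug P = 0 :=
  P.complex_d_comp_π_f_zero

lemma aug_exact {Z : C} (P : ProjectiveResolution Z) :
    (ShortComplex.mk (P.complex.d 1 0) (aug P) (d_aug P)).Exact := P.exact₀

/-- the lift of the augmentation of `P₃` to the middle term -/
noncomputable def sig : P₃.complex.X 0 ⟶ S.X₂ :=
  letI := hS.epi_g
  Projective.factorThru (aug P₃) S.g

@[reassoc]
lemma sig_g : sig hS P₃ ≫ S.g = aug P₃ := by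
  let _ := hS.epi_g
  exact Projective.factorThru_comp _ _

/-- auxiliary map `L₁ ⟶ X₁` -/
noncomputable def lam : P₃.complex.X 1 ⟶ S.X₁ :=
  letI := hS.mono_f
  hS.exact.lift (P₃.complex.d 1 0 ≫ sig hS P₃) (by
    rw [assoc, sig_g hS P₃, d_aug])

@[reassoc]
lemma lam_f : lam hS P₃ ≫ S.f = P₃.complex.d 1 0 ≫ sig hS P₃ := by
  let _ := hS.mono_f
  exact hS.exact.lift_f _ _

lemma d_lam : P₃.complex.d 2 1 ≫ lam hS P₃ = 0 := by
  have := hS.mono_f
  rw [← cancel_mono S.f, assoc, lam_f, zero_comp, ← assoc, P₃.complex.d_comp_d, zero_comp]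

/-- `θ₀` -/
noncomputable def theta0 : P₃.complex.X 1 ⟶ P₁.complex.X 0 :=
  Projective.factorThru (-lam hS P₃) (aug P₁)

@[reassoc]
lemma theta0_aug : theta0 hS P₁ P₃ ≫ aug P₁ = -lam hS P₃ :=
  Projective.factorThru_comp _ _

/-- `θ₁` -/
noncomputable def theta1 : P₃.complex.X 2 ⟶ P₁.complex.X 1 :=
  (aug_exact P₁).liftFromProjective (-(P₃.complex.d 2 1 ≫ theta0 hS P₁ P₃)) (by
    dsimp
    rw [Preadditive.neg_comp, assoc, theta0_aug, Preadditive.comp_neg, neg_neg, d_lam])

lemma theta1_d : theta1 hS P₁ P₃ ≫ P₁.complex.d 1 0 = -(P₃.complex.d 2 1 ≫ theta0 hS P₁ P₃) :=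
  (aug_exact P₁).liftFromProjective_comp _ _

/-- recursive data -/
noncomputable def thetaAux : ∀ n : ℕ,
    Σ' (a : P₃.complex.X (n + 1) ⟶ P₁.complex.X n) (b : P₃.complex.X (n + 2) ⟶ P₁.complex.X (n + 1)),
      b ≫ P₁.complex.d (n + 1) n = -(P₃.complex.d (n + 2) (n + 1) ≫ a)
  | 0 => ⟨theta0 hS P₁ P₃, theta1 hS P₁ P₃, theta1_d hS P₁ P₃⟩
  | n + 1 =>
    let prev := thetaAux n
    ⟨prev.2.1,
      (P₁.exact_succ n).liftFromProjective (-(P₃.complex.d (n + 3) (n + 2) ≫ prev.2.1)) (by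
        dsimp
        rw [Preadditive.neg_comp, assoc, prev.2.2, Preadditive.comp_neg, neg_neg,
          ← assoc, P₃.complex.d_comp_d, zero_comp]),
      (P₁.exact_succ n).liftFromProjective_comp _ _⟩

/-- the twisting maps `θ n : L_{n+1} ⟶ K_n` -/
noncomputable def theta (n : ℕ) : P₃.complex.X (n + 1) ⟶ P₁.complex.X n :=
  (thetaAux hS P₁ P₃ n).1

lemma theta_succ (n : ℕ) : theta hS P₁ P₃ (n + 1) = (thetaAux hS P₁ P₃ n).2.1 := rfl

@[reassoc]
lemma theta_d (n : ℕ) : theta hS P₁ P₃ (n + 1) ≫ P₁.complex.d (n + 1) n =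
    -(P₃.complex.d (n + 2) (n + 1) ≫ theta hS P₁ P₃ n) := by
  rw [theta_succ]
  exact (thetaAux hS P₁ P₃ n).2.2

@[reassoc]
lemma theta_zero_aug_f :
    theta hS P₁ P₃ 0 ≫ aug P₁ ≫ S.f = -(P₃.complex.d 1 0 ≫ sig hS P₃) := by
  show theta0 hS P₁ P₃ ≫ _ ≫ _ = _
  rw [← assoc, theta0_aug, Preadditive.neg_comp, lam_f]

end Groth.Agent.Lib.Helper68.Horseshoe
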