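import Groth.Agent.Lib.Helper68.Horseshoe

/-! Horseshoe lemma, part 2: the middle complex and its maps. -/

set_option autoImplicit false
universe v u

open CategoryTheory Category Limits

namespace Groth.Agent.Lib.Helper68.Horseshoe

variable {C : Type u} [Category.{v} C] [Abelian C]
variable {S : ShortComplex C} (hS : S.ShortExact)
  (P₁ : ProjectiveResolution S.X₁) (P₃ : ProjectiveResolution S.X₃)

/-- the differential of the horseshoe complex -/
noncomputable def midD (n : ℕ) :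
    (P₁.complex.X (n + 1) ⊞ P₃.complex.X (n + 1)) ⟶ (P₁.complex.X n ⊞ P₃.complex.X n) :=
  biprod.desc (P₁.complex.d (n + 1) n ≫ biprod.inl)
    (theta hS P₁ P₃ n ≫ biprod.inl + P₃.complex.d (n + 1) n ≫ biprod.inr)

@[reassoc (attr := simp)]
lemma inl_midD (n : ℕ) : biprod.inl ≫ midD hS P₁ P₃ n = P₁.complex.d (n + 1) n ≫ biprod.inl := by
  simp [midD]

@[reassoc (attr := simp)]
lemma inr_midD (n : ℕ) : biprod.inr ≫ midD hS P₁ P₃ n =
    theta hS P₁ P₃ n ≫ biprod.inl + P₃.complex.d (n + 1) n ≫ biprod.inr := by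
  simp [midD]

@[reassoc (attr := simp)]
lemma midD_snd (n : ℕ) : midD hS P₁ P₃ n ≫ biprod.snd = biprod.snd ≫ P₃.complex.d (n + 1) n := by
  ext <;> simp [midD]

lemma midD_comp (n : ℕ) : midD hS P₁ P₃ (n + 1) ≫ midD hS P₁ P₃ n = 0 := by
  ext
  · simp
  · simp
  · simp [theta_d]
  · simp

/-- the horseshoe complex -/
noncomputable def mid : ChainComplex C ℕ :=
  ChainComplex.of (fun n => P₁.complex.X n ⊞ P₃.complex.X n) (midD hS P₁ P₃) (midD_comp hS P₁ P₃)

lemma mid_X (n : ℕ) : (mid hS P₁ P₃).X n = (P₁.complex.X n ⊞ P₃.complex.X n) := rfl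

lemma mid_d (n : ℕ) : (mid hS P₁ P₃).d (n + 1) n = midD hS P₁ P₃ n :=
  ChainComplex.of_d (fun n => P₁.complex.X n ⊞ P₃.complex.X n) (midD hS P₁ P₃) n

/-- the inclusion of the first resolution -/
noncomputable def midι : P₁.complex ⟶ mid hS P₁ P₃ where
  f n := (biprod.inl : P₁.complex.X n ⟶ P₁.complex.X n ⊞ P₃.complex.X n)
  comm' i j hij := by
    obtain rfl : j + 1 = i := hij
    rw [mid_d]
    exact inl_midD hS P₁ P₃ j

/-- the projection to the third resolution -/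
noncomputable def midρ : mid hS P₁ P₃ ⟶ P₃.complex where
  f n := (biprod.snd : P₁.complex.X n ⊞ P₃.complex.X n ⟶ P₃.complex.X n)
  comm' i j hij := by
    obtain rfl : j + 1 = i := hij
    rw [mid_d]
    exact (midD_snd hS P₁ P₃ j).symm

@[simp] lemma midι_f (n : ℕ) : (midι hS P₁ P₃).f n =
    (biprod.inl : P₁.complex.X n ⟶ P₁.complex.X n ⊞ P₃.complex.X n) := rfl

@[simp] lemma midρ_f (n : ℕ) : (midρ hS P₁ P₃).f n =
    (biprod.snd : P₁.complex.X n ⊞ P₃.complex.X n ⟶ P₃.complex.X n) := rfl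

@[reassoc (attr := simp)]
lemma midι_midρ : midι hS P₁ P₃ ≫ midρ hS P₁ P₃ = 0 := by
  ext n
  exact biprod.inl_snd

/-- the augmentation of the horseshoe complex -/
noncomputable def midAug : (P₁.complex.X 0 ⊞ P₃.complex.X 0) ⟶ S.X₂ :=
  biprod.desc (aug P₁ ≫ S.f) (sig hS P₃)

@[reassoc (attr := simp)]
lemma inl_midAug : biprod.inl ≫ midAug hS P₁ P₃ = aug P₁ ≫ S.f := by simp [midAug]

@[reassoc (attr := simp)]
lemma inr_midAug : biprod.inr ≫ midAug hS P₁ P₃ = sig hS P₃ := by simp [midAug]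

@[reassoc]
lemma midAug_g : midAug hS P₁ P₃ ≫ S.g = biprod.snd ≫ aug P₃ := by
  ext
  · simp
  · simp [sig_g]

@[reassoc (attr := simp)]
lemma midD_midAug : midD hS P₁ P₃ 0 ≫ midAug hS P₁ P₃ = 0 := by
  ext
  · simp
  · simp [theta_zero_aug_f]

/-- the augmentation as a morphism of complexes -/
noncomputable def midπ : mid hS P₁ P₃ ⟶ (ChainComplex.single₀ C).obj S.X₂ :=
  (ChainComplex.toSingle₀Equiv _ _).symm ⟨midAug hS P₁ P₃, by
    rw [mid_d]; exact midD_midAug hS P₁ P₃⟩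

lemma midπ_f_zero : (midπ hS P₁ P₃).f 0 = midAug hS P₁ P₃ :=
  ChainComplex.toSingle₀Equiv_symm_apply_f_zero _ _

end Groth.Agent.Lib.Helper68.Horseshoe
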