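import Groth.Agent.Lib.Helper68.Horseshoe2
import Mathlib.Algebra.Homology.ShortComplex.ShortExact

/-! Horseshoe lemma, part 3: the degreewise split short exact sequence of complexes. -/

set_option autoImplicit false
universe v u v' u'

open CategoryTheory Category Limits

namespace Groth.Agent.Lib.Helper68.Horseshoe

variable {C : Type u} [Category.{v} C] [Abelian C]
variable {S : ShortComplex C} (hS : S.ShortExact)
  (P₁ : ProjectiveResolution S.X₁) (P₃ : ProjectiveResolution S.X₃)

/-- the short complex of complexes `P₁ ⟶ mid ⟶ P₃` -/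
noncomputable def midSC : ShortComplex (ChainComplex C ℕ) :=
  ShortComplex.mk (midι hS P₁ P₃) (midρ hS P₁ P₃) (midι_midρ hS P₁ P₃)

/-- degreewise splitting -/
noncomputable def midSplitting (n : ℕ) :
    ((midSC hS P₁ P₃).map (HomologicalComplex.eval C (ComplexShape.down ℕ) n)).Splitting where
  r := (biprod.fst : P₁.complex.X n ⊞ P₃.complex.X n ⟶ P₁.complex.X n)
  s := (biprod.inr : P₃.complex.X n ⟶ P₁.complex.X n ⊞ P₃.complex.X n)
  f_r := biprod.inl_fst
  s_g := biprod.inr_snd
  id := biprod.total

lemma midSC_shortExact : (midSC hS P₁ P₃).ShortExact :=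
  HomologicalComplex.shortExact_of_degreewise_shortExact _
    (fun n => (midSplitting hS P₁ P₃ n).shortExact)

variable {D : Type u'} [Category.{v'} D] [Abelian D] (F : C ⥤ D) [F.Additive]

lemma midSC_map_shortExact :
    ((midSC hS P₁ P₃).map (F.mapHomologicalComplex (ComplexShape.down ℕ))).ShortExact :=
  HomologicalComplex.shortExact_of_degreewise_shortExact _
    (fun n => ((midSplitting hS P₁ P₃ n).map F).shortExact)

end Groth.Agent.Lib.Helper68.Horseshoe
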