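import Groth.Agent.Lib.Helper68.Horseshoe3

/-! Horseshoe lemma, part 4: the middle complex is a projective resolution. -/

set_option autoImplicit false
universe v u

open CategoryTheory Category Limits

namespace Groth.Agent.Lib.Helper68.Horseshoe

variable {C : Type u} [Category.{v} C] [Abelian C]
variable {S : ShortComplex C} (hS : S.ShortExact)
  (P₁ : ProjectiveResolution S.X₁) (P₃ : ProjectiveResolution S.X₃)

lemma midAug_eq : midAug hS P₁ P₃ =
    biprod.fst ≫ aug P₁ ≫ S.f + biprod.snd ≫ sig hS P₃ := by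
  ext <;> simp

instance epi_midAug : Epi (midAug hS P₁ P₃) := by
  rw [epi_iff_surjective_up_to_refinements]
  intro A y
  obtain ⟨A₁, π₁, hπ₁, l, hl⟩ := surjective_up_to_refinements_of_epi (aug P₃) (y ≫ S.g)
  have := hS.mono_f
  have hz : (π₁ ≫ y - l ≫ sig hS P₃) ≫ S.g = 0 := by
    rw [Preadditive.sub_comp, assoc, assoc, sig_g, hl, sub_self]
  obtain ⟨A₃, π₃, hπ₃, k, hk⟩ :=
    surjective_up_to_refinements_of_epi (aug P₁) (hS.exact.lift _ hz)
  refine ⟨A₃, π₃ ≫ π₁, epi_comp _ _, k ≫ biprod.inl + (π₃ ≫ l) ≫ biprod.inr, ?_⟩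
  have key : k ≫ aug P₁ ≫ S.f = π₃ ≫ (π₁ ≫ y - l ≫ sig hS P₃) := by
    rw [← assoc, ← hk, assoc, hS.exact.lift_f]
  simp only [Preadditive.add_comp, assoc, inl_midAug, inr_midAug]
  rw [key, Preadditive.comp_sub]
  abel

lemma midAug_exact :
    (ShortComplex.mk (midD hS P₁ P₃ 0) (midAug hS P₁ P₃) (midD_midAug hS P₁ P₃)).Exact := by
  rw [ShortComplex.exact_iff_exact_up_to_refinements]
  intro A z hz
  dsimp at z hz ⊢
  have := hS.mono_f
  have hl : (z ≫ biprod.snd) ≫ aug P₃ = 0 := by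
    rw [assoc, ← midAug_g hS P₁ P₃, ← assoc, hz, zero_comp]
  obtain ⟨A₁, π₁, hπ₁, l', hl'⟩ := (aug_exact P₃).exact_up_to_refinements _ hl
  dsimp at l' hl'
  have hz' : z ≫ biprod.fst ≫ aug P₁ ≫ S.f + z ≫ biprod.snd ≫ sig hS P₃ = 0 := by
    rw [← Preadditive.comp_add, ← midAug_eq, hz]
  have hk' : (π₁ ≫ z ≫ biprod.fst - l' ≫ theta hS P₁ P₃ 0) ≫ aug P₁ = 0 := by
    rw [← cancel_mono S.f, zero_comp]
    simp only [Preadditive.sub_comp, assoc]
    rw [theta_zero_aug_f, Preadditive.comp_neg, sub_neg_eq_add, ← assoc l', ← hl']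
    simp only [assoc]
    rw [← Preadditive.comp_add, hz', comp_zero]
  obtain ⟨A₂, π₂, hπ₂, k'', hk''⟩ := (aug_exact P₁).exact_up_to_refinements _ hk'
  dsimp at k'' hk''
  refine ⟨A₂, π₂ ≫ π₁, epi_comp _ _, k'' ≫ biprod.inl + (π₂ ≫ l') ≫ biprod.inr, ?_⟩
  have hzdec : z = z ≫ biprod.fst ≫ biprod.inl + z ≫ biprod.snd ≫ biprod.inr := by
    rw [← Preadditive.comp_add, biprod.total, comp_id]
  simp only [Preadditive.add_comp, assoc, inl_midD, inr_midD, Preadditive.comp_add]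
  rw [← assoc k'', ← hk'', ← assoc l' (P₃.complex.d (0 + 1) 0), ← hl']
  conv_lhs => rw [hzdec]
  simp only [Preadditive.comp_add, Preadditive.sub_comp, Preadditive.comp_sub, assoc]
  abel

end Groth.Agent.Lib.Helper68.Horseshoe
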