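import Groth.Agent.Lib.Helper68.Horseshoe4

/-! Horseshoe lemma, part 5: the projective resolution of the middle term. -/

set_option autoImplicit false
universe v u

open CategoryTheory Category Limits

namespace Groth.Agent.Lib.Helper68.Horseshoe

variable {C : Type u} [Category.{v} C] [Abelian C]
variable {S : ShortComplex C} (hS : S.ShortExact)
  (P₁ : ProjectiveResolution S.X₁) (P₃ : ProjectiveResolution S.X₃)

lemma mid_exactAt_succ (n : ℕ) : (mid hS P₁ P₃).ExactAt (n + 1) := by
  rw [HomologicalComplex.exactAt_iff_isZero_homology]
  have h1 : IsZero (P₁.complex.homology (n + 1)) := by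
    rw [← HomologicalComplex.exactAt_iff_isZero_homology]
    exact P₁.complex_exactAt_succ n
  have h3 : IsZero (P₃.complex.homology (n + 1)) := by
    rw [← HomologicalComplex.exactAt_iff_isZero_homology]
    exact P₃.complex_exactAt_succ n
  exact ((midSC_shortExact hS P₁ P₃).homology_exact₂ (n + 1)).isZero_of_both_zeros
    (h1.eq_of_src _ _) (h3.eq_of_tgt _ _)

instance mid_projective (n : ℕ) : Projective ((mid hS P₁ P₃).X n) := by
  show Projective (P₁.complex.X n ⊞ P₃.complex.X n)
  infer_instance

/-- the horseshoe resolution of the middle term -/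
noncomputable def midRes : ProjectiveResolution S.X₂ where
  complex := mid hS P₁ P₃
  π := midπ hS P₁ P₃
  quasiIso := ⟨fun n => by
    cases n
    · rw [ChainComplex.quasiIsoAt₀_iff, ShortComplex.quasiIso_iff_of_zeros']
      · refine (ShortComplex.exact_and_epi_g_iff_of_iso ?_).2
          ⟨midAug_exact hS P₁ P₃, by dsimp; infer_instance⟩
        exact ShortComplex.isoMk (Iso.refl _) (Iso.refl _) (Iso.refl _)
          (by
            dsimp
            erw [id_comp, comp_id]
            exact (mid_d hS P₁ P₃ 0).symm)
          (by
            dsimp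
            erw [id_comp, comp_id]
            exact (midπ_f_zero hS P₁ P₃).symm)
      all_goals rfl
    · rw [quasiIsoAt_iff_exactAt']
      · apply mid_exactAt_succ
      · apply ChainComplex.exactAt_succ_single_obj⟩

end Groth.Agent.Lib.Helper68.Horseshoe
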