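import Groth.Agent.Lib.Helper68.Horseshoe5
import Mathlib.Algebra.Homology.HomologySequenceLemmas

/-! The long exact sequence of left derived functors, from the horseshoe lemma. -/

set_option autoImplicit false
universe v u v' u'

open CategoryTheory Category Limits

namespace Groth.Agent.Lib.Helper68.Horseshoe

variable {C : Type u} [Category.{v} C] [Abelian C]
variable {D : Type u'} [Category.{v'} D] [Abelian D] (F : C ⥤ D) [F.Additive]
variable {S : ShortComplex C} (hS : S.ShortExact)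
  (P₁ : ProjectiveResolution S.X₁) (P₃ : ProjectiveResolution S.X₃)

lemma midι_comm : (midι hS P₁ P₃).f 0 ≫ (midRes hS P₁ P₃).π.f 0 = P₁.π.f 0 ≫ S.f := by
  show biprod.inl ≫ (midπ hS P₁ P₃).f 0 = aug P₁ ≫ S.f
  rw [midπ_f_zero]
  exact inl_midAug hS P₁ P₃

lemma midρ_comm : (midρ hS P₁ P₃).f 0 ≫ P₃.π.f 0 = (midRes hS P₁ P₃).π.f 0 ≫ S.g := by
  show biprod.snd ≫ aug P₃ = (midπ hS P₁ P₃).f 0 ≫ S.g
  rw [midπ_f_zero]
  exact (midAug_g hS P₁ P₃).symm

/-- the mapped short exact sequence of complexes -/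
noncomputable def mapSC : ShortComplex (ChainComplex D ℕ) :=
  (midSC hS P₁ P₃).map (F.mapHomologicalComplex (ComplexShape.down ℕ))

lemma mapSC_shortExact : (mapSC F hS P₁ P₃).ShortExact := midSC_map_shortExact hS P₁ P₃ F

lemma rel_succ (n : ℕ) : (ComplexShape.down ℕ).Rel (n + 1) n := by simp

variable [HasProjectiveResolutions C]

/-- comparison isomorphism -/
noncomputable def iso₁ (n : ℕ) :
    (F.leftDerived n).obj S.X₁ ≅ (mapSC F hS P₁ P₃).X₁.homology n :=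
  P₁.isoLeftDerivedObj F n

/-- comparison isomorphism -/
noncomputable def iso₂ (n : ℕ) :
    (F.leftDerived n).obj S.X₂ ≅ (mapSC F hS P₁ P₃).X₂.homology n :=
  (midRes hS P₁ P₃).isoLeftDerivedObj F n

/-- comparison isomorphism -/
noncomputable def iso₃ (n : ℕ) :
    (F.leftDerived n).obj S.X₃ ≅ (mapSC F hS P₁ P₃).X₃.homology n :=
  P₃.isoLeftDerivedObj F n

@[reassoc]
lemma sq₁ (n : ℕ) : (F.leftDerived n).map S.f ≫ (iso₂ F hS P₁ P₃ n).hom =
    (iso₁ F hS P₁ P₃ n).hom ≫ HomologicalComplex.homologyMap (mapSC F hS P₁ P₃).f n :=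
  ProjectiveResolution.isoLeftDerivedObj_hom_naturality S.f P₁ (midRes hS P₁ P₃)
    (midι hS P₁ P₃) (midι_comm hS P₁ P₃) F n

@[reassoc]
lemma sq₂ (n : ℕ) : (F.leftDerived n).map S.g ≫ (iso₃ F hS P₁ P₃ n).hom =
    (iso₂ F hS P₁ P₃ n).hom ≫ HomologicalComplex.homologyMap (mapSC F hS P₁ P₃).g n :=
  ProjectiveResolution.isoLeftDerivedObj_hom_naturality S.g (midRes hS P₁ P₃) P₃
    (midρ hS P₁ P₃) (midρ_comm hS P₁ P₃) F n

/-- the connecting morphism (depends on the chosen resolutions) -/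
noncomputable def deltaAux (n : ℕ) :
    (F.leftDerived (n + 1)).obj S.X₃ ⟶ (F.leftDerived n).obj S.X₁ :=
  (iso₃ F hS P₁ P₃ (n + 1)).hom ≫ (mapSC_shortExact F hS P₁ P₃).δ (n + 1) n (rel_succ n) ≫
    (iso₁ F hS P₁ P₃ n).inv

include hS P₁ P₃ in
lemma map_f_map_g (n : ℕ) : (F.leftDerived n).map S.f ≫ (F.leftDerived n).map S.g = 0 := by
  rw [← cancel_mono (iso₃ F hS P₁ P₃ n).hom, assoc, sq₂, sq₁_assoc, zero_comp,
    ← HomologicalComplex.homologyMap_comp, (mapSC F hS P₁ P₃).zero,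
    HomologicalComplex.homologyMap_zero, comp_zero]

lemma exact₂_aux (n : ℕ) :
    (ShortComplex.mk ((F.leftDerived n).map S.f) ((F.leftDerived n).map S.g)
      (map_f_map_g F hS P₁ P₃ n)).Exact :=
  (ShortComplex.exact_iff_of_iso (ShortComplex.isoMk (iso₁ F hS P₁ P₃ n)
    (iso₂ F hS P₁ P₃ n) (iso₃ F hS P₁ P₃ n)
    (sq₁ F hS P₁ P₃ n).symm (sq₂ F hS P₁ P₃ n).symm)).mpr
    ((mapSC_shortExact F hS P₁ P₃).homology_exact₂ n)

lemma map_g_deltaAux (n : ℕ) :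
    (F.leftDerived (n + 1)).map S.g ≫ deltaAux F hS P₁ P₃ n = 0 := by
  unfold deltaAux
  rw [sq₂_assoc, (mapSC_shortExact F hS P₁ P₃).comp_δ_assoc, zero_comp, comp_zero]

lemma deltaAux_map_f (n : ℕ) :
    deltaAux F hS P₁ P₃ n ≫ (F.leftDerived n).map S.f = 0 := by
  unfold deltaAux
  rw [← cancel_mono (iso₂ F hS P₁ P₃ n).hom]
  simp only [assoc, zero_comp]
  rw [sq₁, Iso.inv_hom_id_assoc, (mapSC_shortExact F hS P₁ P₃).δ_comp, comp_zero]

lemma exact₃_aux (n : ℕ) :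
    (ShortComplex.mk ((F.leftDerived (n + 1)).map S.g) (deltaAux F hS P₁ P₃ n)
      (map_g_deltaAux F hS P₁ P₃ n)).Exact :=
  (ShortComplex.exact_iff_of_iso (ShortComplex.isoMk
    (iso₂ F hS P₁ P₃ (n + 1)) (iso₃ F hS P₁ P₃ (n + 1)) (iso₁ F hS P₁ P₃ n)
    (sq₂ F hS P₁ P₃ (n + 1)).symm (by simp [deltaAux]))).mpr
    ((mapSC_shortExact F hS P₁ P₃).homology_exact₃ (n + 1) n (rel_succ n))

lemma exact₁_aux (n : ℕ) :
    (ShortComplex.mk (deltaAux F hS P₁ P₃ n) ((F.leftDerived n).map S.f)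
      (deltaAux_map_f F hS P₁ P₃ n)).Exact :=
  (ShortComplex.exact_iff_of_iso (ShortComplex.isoMk
    (iso₃ F hS P₁ P₃ (n + 1)) (iso₁ F hS P₁ P₃ n) (iso₂ F hS P₁ P₃ n)
    (by simp [deltaAux]) (sq₁ F hS P₁ P₃ n).symm)).mpr
    ((mapSC_shortExact F hS P₁ P₃).homology_exact₁ (n + 1) n (rel_succ n))

include hS P₁ P₃ in
lemma epi_aux : Epi ((F.leftDerived 0).map S.g) := by
  have := (mapSC_shortExact F hS P₁ P₃).epi_g
  have h1 : Epi (HomologicalComplex.homologyMap (mapSC F hS P₁ P₃).g 0) :=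
    HomologicalComplex.epi_homologyMap_of_epi_of_not_rel _ 0 (by simp)
  have h2 := sq₂ F hS P₁ P₃ 0
  have h3 : Epi ((F.leftDerived 0).map S.g ≫ (iso₃ F hS P₁ P₃ 0).hom) := by
    rw [h2]; infer_instance
  have h4 : (F.leftDerived 0).map S.g =
      ((F.leftDerived 0).map S.g ≫ (iso₃ F hS P₁ P₃ 0).hom) ≫
        (iso₃ F hS P₁ P₃ 0).inv := by simp
  rw [h4]
  infer_instance

end Groth.Agent.Lib.Helper68.Horseshoe
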