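import Mathlib.CategoryTheory.Abelian.RightDerived
import Mathlib.Algebra.Homology.HomologySequence
import Mathlib.Algebra.Homology.HomologicalComplexAbelian
import Mathlib.CategoryTheory.Abelian.Refinements

/-! Horseshoe lemma for injective resolutions: from injective resolutions of the two ends of a
short exact sequence, an injective resolution of the middle term sitting in a degreewise split
short exact sequence of complexes. Part 1: the twisting maps. -/

set_option autoImplicit false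
universe v u

open CategoryTheory Category Limits

namespace Groth.Agent.Lib.Helper68.InjHorseshoe

variable {C : Type u} [Category.{v} C] [Abelian C]
variable {S : ShortComplex C} (hS : S.ShortExact)
  (I₁ : InjectiveResolution S.X₁) (I₃ : InjectiveResolution S.X₃)

/-- the coaugmentation of an injective resolution, as a map from the resolved object -/
noncomputable def coaug {Z : C} (I : InjectiveResolution Z) : Z ⟶ I.cocomplex.X 0 := I.ι.f 0

instance {Z : C} (I : InjectiveResolution Z) : Mono (coaug I) :=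
  inferInstanceAs (Mono (I.ι.f 0))

@[reassoc (attr := simp)]
lemma coaug_d {Z : C} (I : InjectiveResolution Z) : coaug I ≫ I.cocomplex.d 0 1 = 0 :=
  I.ι_f_zero_comp_complex_d

lemma coaug_exact {Z : C} (I : InjectiveResolution Z) :
    (ShortComplex.mk (coaug I) (I.cocomplex.d 0 1) (coaug_d I)).Exact := I.exact₀

/-- the extension of the coaugmentation of `I₁` to the middle term -/
noncomputable def lam : S.X₂ ⟶ I₁.cocomplex.X 0 :=
  letI := hS.mono_f
  Injective.factorThru (coaug I₁) S.f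

@[reassoc]
lemma f_lam : S.f ≫ lam hS I₁ = coaug I₁ := by
  let _ := hS.mono_f
  exact Injective.comp_factorThru _ _

/-- auxiliary map `X₃ ⟶ I₁¹` -/
noncomputable def kap : S.X₃ ⟶ I₁.cocomplex.X 1 :=
  letI := hS.epi_g
  hS.exact.desc (lam hS I₁ ≫ I₁.cocomplex.d 0 1) (by
    rw [← assoc, f_lam, coaug_d])

@[reassoc]
lemma g_kap : S.g ≫ kap hS I₁ = lam hS I₁ ≫ I₁.cocomplex.d 0 1 := by
  let _ := hS.epi_g
  exact hS.exact.g_desc _ _

lemma kap_d : kap hS I₁ ≫ I₁.cocomplex.d 1 2 = 0 := by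
  have := hS.epi_g
  rw [← cancel_epi S.g, g_kap_assoc, I₁.cocomplex.d_comp_d, comp_zero, comp_zero]

/-- `θ⁰` -/
noncomputable def theta0 : I₃.cocomplex.X 0 ⟶ I₁.cocomplex.X 1 :=
  Injective.factorThru (-kap hS I₁) (coaug I₃)

@[reassoc]
lemma coaug_theta0 : coaug I₃ ≫ theta0 hS I₁ I₃ = -kap hS I₁ :=
  Injective.comp_factorThru _ _

/-- `θ¹` -/
noncomputable def theta1 : I₃.cocomplex.X 1 ⟶ I₁.cocomplex.X 2 :=
  (coaug_exact I₃).descToInjective (-(theta0 hS I₁ I₃ ≫ I₁.cocomplex.d 1 2)) (by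
    dsimp
    rw [Preadditive.comp_neg, coaug_theta0_assoc, Preadditive.neg_comp, neg_neg, kap_d])

lemma d_theta1 : I₃.cocomplex.d 0 1 ≫ theta1 hS I₁ I₃ =
    -(theta0 hS I₁ I₃ ≫ I₁.cocomplex.d 1 2) :=
  (coaug_exact I₃).comp_descToInjective _ _

/-- recursive data -/
noncomputable def thetaAux : ∀ n : ℕ,
    Σ' (a : I₃.cocomplex.X n ⟶ I₁.cocomplex.X (n + 1))
      (b : I₃.cocomplex.X (n + 1) ⟶ I₁.cocomplex.X (n + 2)),
      I₃.cocomplex.d n (n + 1) ≫ b = -(a ≫ I₁.cocomplex.d (n + 1) (n + 2))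
  | 0 => ⟨theta0 hS I₁ I₃, theta1 hS I₁ I₃, d_theta1 hS I₁ I₃⟩
  | n + 1 =>
    let prev := thetaAux n
    ⟨prev.2.1,
      (I₃.exact_succ n).descToInjective (-(prev.2.1 ≫ I₁.cocomplex.d (n + 2) (n + 3))) (by
        dsimp
        rw [Preadditive.comp_neg, ← assoc, prev.2.2, Preadditive.neg_comp, neg_neg, assoc,
          I₁.cocomplex.d_comp_d, comp_zero]),
      (I₃.exact_succ n).comp_descToInjective _ _⟩

/-- the twisting maps `θ n : I₃ⁿ ⟶ I₁ⁿ⁺¹` -/
noncomputable def theta (n : ℕ) : I₃.cocomplex.X n ⟶ I₁.cocomplex.X (n + 1) :=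
  (thetaAux hS I₁ I₃ n).1

lemma theta_succ (n : ℕ) : theta hS I₁ I₃ (n + 1) = (thetaAux hS I₁ I₃ n).2.1 := rfl

@[reassoc]
lemma d_theta (n : ℕ) : I₃.cocomplex.d n (n + 1) ≫ theta hS I₁ I₃ (n + 1) =
    -(theta hS I₁ I₃ n ≫ I₁.cocomplex.d (n + 1) (n + 2)) := by
  rw [theta_succ]
  exact (thetaAux hS I₁ I₃ n).2.2

@[reassoc]
lemma g_coaug_theta_zero :
    S.g ≫ coaug I₃ ≫ theta hS I₁ I₃ 0 = -(lam hS I₁ ≫ I₁.cocomplex.d 0 1) := by
  show _ ≫ _ ≫ theta0 hS I₁ I₃ = _
  rw [coaug_theta0, Preadditive.comp_neg, g_kap]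

end Groth.Agent.Lib.Helper68.InjHorseshoe
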