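import Groth.Agent.Lib.Helper68.InjHorseshoe

/-! Horseshoe lemma for injective resolutions, part 2: the middle complex and its maps. -/

set_option autoImplicit false
universe v u

open CategoryTheory Category Limits

namespace Groth.Agent.Lib.Helper68.InjHorseshoe

variable {C : Type u} [Category.{v} C] [Abelian C]
variable {S : ShortComplex C} (hS : S.ShortExact)
  (I₁ : InjectiveResolution S.X₁) (I₃ : InjectiveResolution S.X₃)

/-- the differential of the horseshoe complex -/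
noncomputable def midD (n : ℕ) :
    (I₁.cocomplex.X n ⊞ I₃.cocomplex.X n) ⟶ (I₁.cocomplex.X (n + 1) ⊞ I₃.cocomplex.X (n + 1)) :=
  biprod.desc (I₁.cocomplex.d n (n + 1) ≫ biprod.inl)
    (theta hS I₁ I₃ n ≫ biprod.inl + I₃.cocomplex.d n (n + 1) ≫ biprod.inr)

@[reassoc (attr := simp)]
lemma inl_midD (n : ℕ) :
    biprod.inl ≫ midD hS I₁ I₃ n = I₁.cocomplex.d n (n + 1) ≫ biprod.inl := by
  simp [midD]

@[reassoc (attr := simp)]
lemma inr_midD (n : ℕ) : biprod.inr ≫ midD hS I₁ I₃ n =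
    theta hS I₁ I₃ n ≫ biprod.inl + I₃.cocomplex.d n (n + 1) ≫ biprod.inr := by
  simp [midD]

@[reassoc (attr := simp)]
lemma midD_snd (n : ℕ) :
    midD hS I₁ I₃ n ≫ biprod.snd = biprod.snd ≫ I₃.cocomplex.d n (n + 1) := by
  ext <;> simp [midD]

lemma midD_comp (n : ℕ) : midD hS I₁ I₃ n ≫ midD hS I₁ I₃ (n + 1) = 0 := by
  ext
  · simp
  · simp
  · simp [d_theta]
  · simp

/-- the horseshoe complex -/
noncomputable def mid : CochainComplex C ℕ :=
  CochainComplex.of (fun n => I₁.cocomplex.X n ⊞ I₃.cocomplex.X n) (midD hS I₁ I₃)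
    (midD_comp hS I₁ I₃)

lemma mid_X (n : ℕ) : (mid hS I₁ I₃).X n = (I₁.cocomplex.X n ⊞ I₃.cocomplex.X n) := rfl

lemma mid_d (n : ℕ) : (mid hS I₁ I₃).d n (n + 1) = midD hS I₁ I₃ n :=
  CochainComplex.of_d (fun n => I₁.cocomplex.X n ⊞ I₃.cocomplex.X n) (midD hS I₁ I₃) n

/-- the inclusion of the first resolution -/
noncomputable def midι : I₁.cocomplex ⟶ mid hS I₁ I₃ where
  f n := (biprod.inl : I₁.cocomplex.X n ⟶ I₁.cocomplex.X n ⊞ I₃.cocomplex.X n)
  comm' i j hij := by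
    obtain rfl : i + 1 = j := hij
    rw [mid_d]
    exact inl_midD hS I₁ I₃ i

/-- the projection to the third resolution -/
noncomputable def midρ : mid hS I₁ I₃ ⟶ I₃.cocomplex where
  f n := (biprod.snd : I₁.cocomplex.X n ⊞ I₃.cocomplex.X n ⟶ I₃.cocomplex.X n)
  comm' i j hij := by
    obtain rfl : i + 1 = j := hij
    rw [mid_d]
    exact (midD_snd hS I₁ I₃ i).symm

@[simp] lemma midι_f (n : ℕ) : (midι hS I₁ I₃).f n =
    (biprod.inl : I₁.cocomplex.X n ⟶ I₁.cocomplex.X n ⊞ I₃.cocomplex.X n) := rfl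

@[simp] lemma midρ_f (n : ℕ) : (midρ hS I₁ I₃).f n =
    (biprod.snd : I₁.cocomplex.X n ⊞ I₃.cocomplex.X n ⟶ I₃.cocomplex.X n) := rfl

@[reassoc (attr := simp)]
lemma midι_midρ : midι hS I₁ I₃ ≫ midρ hS I₁ I₃ = 0 := by
  ext n
  exact biprod.inl_snd

/-- the coaugmentation of the horseshoe complex -/
noncomputable def midCoaug : S.X₂ ⟶ (I₁.cocomplex.X 0 ⊞ I₃.cocomplex.X 0) :=
  biprod.lift (lam hS I₁) (S.g ≫ coaug I₃)

@[reassoc (attr := simp)]
lemma midCoaug_fst : midCoaug hS I₁ I₃ ≫ biprod.fst = lam hS I₁ := by simp [midCoaug]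

@[reassoc (attr := simp)]
lemma midCoaug_snd : midCoaug hS I₁ I₃ ≫ biprod.snd = S.g ≫ coaug I₃ := by simp [midCoaug]

@[reassoc]
lemma f_midCoaug : S.f ≫ midCoaug hS I₁ I₃ = coaug I₁ ≫ biprod.inl := by
  ext
  · simp [f_lam]
  · simp

lemma midCoaug_eq : midCoaug hS I₁ I₃ =
    lam hS I₁ ≫ biprod.inl + (S.g ≫ coaug I₃) ≫ biprod.inr := by
  ext <;> simp

@[reassoc (attr := simp)]
lemma midCoaug_midD : midCoaug hS I₁ I₃ ≫ midD hS I₁ I₃ 0 = 0 := by
  rw [midCoaug_eq]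
  simp [g_coaug_theta_zero_assoc]

/-- the coaugmentation as a morphism of complexes -/
noncomputable def midιC : (CochainComplex.single₀ C).obj S.X₂ ⟶ mid hS I₁ I₃ :=
  (CochainComplex.fromSingle₀Equiv _ _).symm ⟨midCoaug hS I₁ I₃, by
    rw [mid_d]; exact midCoaug_midD hS I₁ I₃⟩

lemma midιC_f_zero : (midιC hS I₁ I₃).f 0 = midCoaug hS I₁ I₃ :=
  CochainComplex.fromSingle₀Equiv_symm_apply_f_zero _ _

end Groth.Agent.Lib.Helper68.InjHorseshoe
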