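import Groth.Agent.Lib.Helper68.InjHorseshoe2
import Mathlib.Algebra.Homology.ShortComplex.ShortExact

/-! Horseshoe lemma for injective resolutions, part 3: the degreewise split short exact
sequence of complexes, and exactness of the middle complex in degree zero. -/

set_option autoImplicit false
universe v u v' u'

open CategoryTheory Category Limits

namespace Groth.Agent.Lib.Helper68.InjHorseshoe

variable {C : Type u} [Category.{v} C] [Abelian C]
variable {S : ShortComplex C} (hS : S.ShortExact)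
  (I₁ : InjectiveResolution S.X₁) (I₃ : InjectiveResolution S.X₃)

/-- the short complex of complexes `I₁ ⟶ mid ⟶ I₃` -/
noncomputable def midSC : ShortComplex (CochainComplex C ℕ) :=
  ShortComplex.mk (midι hS I₁ I₃) (midρ hS I₁ I₃) (midι_midρ hS I₁ I₃)

/-- degreewise splitting -/
noncomputable def midSplitting (n : ℕ) :
    ((midSC hS I₁ I₃).map (HomologicalComplex.eval C (ComplexShape.up ℕ) n)).Splitting where
  r := (biprod.fst : I₁.cocomplex.X n ⊞ I₃.cocomplex.X n ⟶ I₁.cocomplex.X n)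
  s := (biprod.inr : I₃.cocomplex.X n ⟶ I₁.cocomplex.X n ⊞ I₃.cocomplex.X n)
  f_r := biprod.inl_fst
  s_g := biprod.inr_snd
  id := biprod.total

lemma midSC_shortExact : (midSC hS I₁ I₃).ShortExact :=
  HomologicalComplex.shortExact_of_degreewise_shortExact _
    (fun n => (midSplitting hS I₁ I₃ n).shortExact)

instance mono_midCoaug : Mono (midCoaug hS I₁ I₃) := by
  rw [Preadditive.mono_iff_cancel_zero]
  intro A z hz
  have := hS.mono_f
  have h1 : z ≫ lam hS I₁ = 0 := by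
    rw [← midCoaug_fst hS I₁ I₃, ← assoc, hz, zero_comp]
  have h2 : (z ≫ S.g) ≫ coaug I₃ = 0 := by
    rw [assoc, ← midCoaug_snd hS I₁ I₃, ← assoc, hz, zero_comp]
  have h3 : z ≫ S.g = 0 := by
    rw [← cancel_mono (coaug I₃), h2, zero_comp]
  have h4 : hS.exact.lift z h3 ≫ coaug I₁ = 0 := by
    rw [← f_lam hS I₁, ← assoc, hS.exact.lift_f, h1]
  have h5 : hS.exact.lift z h3 = 0 := by
    rw [← cancel_mono (coaug I₁), h4, zero_comp]
  rw [← hS.exact.lift_f z h3, h5, zero_comp]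

lemma midCoaug_exact :
    (ShortComplex.mk (midCoaug hS I₁ I₃) (midD hS I₁ I₃ 0) (midCoaug_midD hS I₁ I₃)).Exact := by
  rw [ShortComplex.exact_iff_exact_up_to_refinements]
  intro A z hz
  dsimp at z hz ⊢
  have := hS.epi_g
  -- the third component is a cocycle
  have hz₃ : (z ≫ biprod.snd) ≫ I₃.cocomplex.d 0 1 = 0 := by
    rw [assoc, ← midD_snd hS I₁ I₃ 0, ← assoc, hz, zero_comp]
  obtain ⟨A₁, π₁, hπ₁, x₃, hx₃⟩ := (coaug_exact I₃).exact_up_to_refinements _ hz₃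
  dsimp at x₃ hx₃
  obtain ⟨A₂, π₂, hπ₂, x₂, hx₂⟩ := surjective_up_to_refinements_of_epi S.g x₃
  -- the first component, corrected
  have hz₁ : z ≫ biprod.fst ≫ I₁.cocomplex.d 0 1 + z ≫ biprod.snd ≫ theta hS I₁ I₃ 0 = 0 := by
    have hzdec : z = z ≫ biprod.fst ≫ biprod.inl + z ≫ biprod.snd ≫ biprod.inr := by
      rw [← Preadditive.comp_add, biprod.total, comp_id]
    have h : (z ≫ midD hS I₁ I₃ 0) ≫ biprod.fst = 0 := by rw [hz, zero_comp]
    rw [hzdec] at h
    simpa using h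
  have e1 : π₂ ≫ π₁ ≫ z ≫ biprod.snd ≫ theta hS I₁ I₃ 0 =
      -(x₂ ≫ lam hS I₁ ≫ I₁.cocomplex.d 0 1) := by
    rw [reassoc_of% hx₃, reassoc_of% hx₂, g_coaug_theta_zero, Preadditive.comp_neg]
  have e2 : π₂ ≫ π₁ ≫ z ≫ biprod.fst ≫ I₁.cocomplex.d 0 1 =
      -(π₂ ≫ π₁ ≫ z ≫ biprod.snd ≫ theta hS I₁ I₃ 0) := by
    rw [eq_neg_iff_add_eq_zero, ← Preadditive.comp_add, ← Preadditive.comp_add, hz₁,
      comp_zero, comp_zero]
  have hk : (π₂ ≫ π₁ ≫ z ≫ biprod.fst - x₂ ≫ lam hS I₁) ≫ I₁.cocomplex.d 0 1 = 0 := by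
    simp only [Preadditive.sub_comp, assoc]
    rw [e2, e1, neg_neg, sub_self]
  obtain ⟨A₃, π₃, hπ₃, x₁, hx₁⟩ := (coaug_exact I₁).exact_up_to_refinements _ hk
  dsimp at x₁ hx₁
  refine ⟨A₃, π₃ ≫ π₂ ≫ π₁, inferInstance, π₃ ≫ x₂ + x₁ ≫ S.f, ?_⟩
  apply biprod.hom_ext
  · simp only [assoc, Preadditive.add_comp, midCoaug_fst, f_lam]
    rw [← hx₁, Preadditive.comp_sub]
    abel
  · simp only [assoc, Preadditive.add_comp, midCoaug_snd, S.zero_assoc, zero_comp, comp_zero,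
      add_zero]
    rw [← reassoc_of% hx₂, ← hx₃]

end Groth.Agent.Lib.Helper68.InjHorseshoe
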