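import Groth.Agent.Lib.Helper68.InjHorseshoe3
import Groth.Prelude.Def_RDerDelta

/-! Horseshoe lemma for injective resolutions, part 4: the injective resolution of the middle
term and the resulting resolution of the short exact sequence. -/

set_option autoImplicit false
universe v u

open CategoryTheory Category Limits

namespace Groth.Agent.Lib.Helper68.InjHorseshoe

variable {C : Type u} [Category.{v} C] [Abelian C]
variable {S : ShortComplex C} (hS : S.ShortExact)
  (I₁ : InjectiveResolution S.X₁) (I₃ : InjectiveResolution S.X₃)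

lemma mid_exactAt_succ (n : ℕ) : (mid hS I₁ I₃).ExactAt (n + 1) := by
  rw [HomologicalComplex.exactAt_iff_isZero_homology]
  have h1 : IsZero (I₁.cocomplex.homology (n + 1)) := by
    rw [← HomologicalComplex.exactAt_iff_isZero_homology]
    exact I₁.cocomplex_exactAt_succ n
  have h3 : IsZero (I₃.cocomplex.homology (n + 1)) := by
    rw [← HomologicalComplex.exactAt_iff_isZero_homology]
    exact I₃.cocomplex_exactAt_succ n
  exact ((midSC_shortExact hS I₁ I₃).homology_exact₂ (n + 1)).isZero_of_both_zeros
    (h1.eq_of_src _ _) (h3.eq_of_tgt _ _)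

instance mid_injective (n : ℕ) : Injective ((mid hS I₁ I₃).X n) := by
  show Injective (I₁.cocomplex.X n ⊞ I₃.cocomplex.X n)
  infer_instance

/-- the horseshoe resolution of the middle term -/
noncomputable def midRes : InjectiveResolution S.X₂ where
  cocomplex := mid hS I₁ I₃
  ι := midιC hS I₁ I₃
  quasiIso := ⟨fun n => by
    cases n
    · rw [CochainComplex.quasiIsoAt₀_iff, ShortComplex.quasiIso_iff_of_zeros]
      · refine (ShortComplex.exact_and_mono_f_iff_of_iso ?_).2
          ⟨midCoaug_exact hS I₁ I₃, by dsimp; infer_instance⟩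
        exact ShortComplex.isoMk (Iso.refl _) (Iso.refl _) (Iso.refl _)
          (by
            dsimp
            erw [id_comp, comp_id]
            exact (midιC_f_zero hS I₁ I₃).symm)
          (by
            dsimp
            erw [id_comp, comp_id]
            exact (mid_d hS I₁ I₃ 0).symm)
      all_goals rfl
    · rw [quasiIsoAt_iff_exactAt]
      · apply mid_exactAt_succ
      · apply CochainComplex.exactAt_succ_single_obj⟩

lemma midι_comm : I₁.ι ≫ midι hS I₁ I₃ =
    (CochainComplex.single₀ C).map S.f ≫ (midRes hS I₁ I₃).ι := by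
  apply HomologicalComplex.from_single_hom_ext
  rw [HomologicalComplex.comp_f, HomologicalComplex.comp_f, CochainComplex.single₀_map_f_zero]
  show coaug I₁ ≫ biprod.inl = S.f ≫ (midιC hS I₁ I₃).f 0
  rw [midιC_f_zero]
  exact (f_midCoaug hS I₁ I₃).symm

lemma midρ_comm : (midRes hS I₁ I₃).ι ≫ midρ hS I₁ I₃ =
    (CochainComplex.single₀ C).map S.g ≫ I₃.ι := by
  apply HomologicalComplex.from_single_hom_ext
  rw [HomologicalComplex.comp_f, HomologicalComplex.comp_f, CochainComplex.single₀_map_f_zero]
  show (midιC hS I₁ I₃).f 0 ≫ biprod.snd = S.g ≫ coaug I₃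
  rw [midιC_f_zero]
  exact midCoaug_snd hS I₁ I₃

/-- the horseshoe resolution of a short exact sequence -/
noncomputable def sesRes : RDer.SESRes S where
  I₁ := I₁
  I₂ := midRes hS I₁ I₃
  I₃ := I₃
  f := midι hS I₁ I₃
  g := midρ hS I₁ I₃
  zero := midι_midρ hS I₁ I₃
  ι_f := midι_comm hS I₁ I₃
  ι_g := midρ_comm hS I₁ I₃
  shortExact := midSC_shortExact hS I₁ I₃

include hS in
/-- horseshoe lemma -/
theorem nonempty_sesRes [HasInjectiveResolutions C] : Nonempty (RDer.SESRes S) :=
  ⟨sesRes hS (injectiveResolution S.X₁) (injectiveResolution S.X₃)⟩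

end Groth.Agent.Lib.Helper68.InjHorseshoe
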