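import Groth.Agent.Lib.Helper68.InjLift3
import Mathlib.Algebra.Homology.HomologySequenceLemmas

/-! Naturality (hence independence of the resolution) of the connecting morphisms of right
derived functors computed from injective resolutions of short exact sequences. -/

set_option autoImplicit false
universe v u v' u'

open CategoryTheory Category Limits

namespace Groth.Agent.Lib.Helper68.InjLES

open Groth.Agent.Lib.Helper68.InjHorseshoe Groth.Agent.Lib.Helper68.InjLift

variable {C : Type u} [Category.{v} C] [Abelian C] [HasInjectiveResolutions C]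
  {D : Type u'} [Category.{v'} D] [Abelian D] (F : C ⥤ D) [F.Additive]

/-- naturality of the connecting morphism computed from resolutions -/
theorem delta_natural {S S' : ShortComplex C} (hS : S.ShortExact) (T : RDer.SESRes S)
    (T' : RDer.SESRes S') (φ : S ⟶ S') (n₀ n₁ : ℕ) (h : n₀ + 1 = n₁) :
    (F.rightDerived n₀).map φ.τ₃ ≫ T'.delta F n₀ n₁ h =
      T.delta F n₀ n₁ h ≫ (F.rightDerived n₁).map φ.τ₁ := by
  let φ₁ := InjectiveResolution.desc φ.τ₁ T'.I₁ T.I₁
  let φ₃ := InjectiveResolution.desc φ.τ₃ T'.I₃ T.I₃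
  have hφ₁ : coaug T.I₁ ≫ φ₁.f 0 = φ.τ₁ ≫ coaug T'.I₁ :=
    InjectiveResolution.desc_commutes_zero _ _ _
  have hφ₃ : coaug T.I₃ ≫ φ₃.f 0 = φ.τ₃ ≫ coaug T'.I₃ :=
    InjectiveResolution.desc_commutes_zero _ _ _
  obtain ⟨φ₂, h12, h23⟩ := exists_mid hS T T' φ φ₁ hφ₁ φ₃ hφ₃
  let Φ : T.cx ⟶ T'.cx := ShortComplex.homMk φ₁ φ₂ φ₃ h12.symm h23
  let ΦG := (F.mapHomologicalComplex (ComplexShape.up ℕ)).mapShortComplex.map Φ
  have nat := HomologicalComplex.HomologySequence.δ_naturality ΦG (T.map_shortExact F)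
    (T'.map_shortExact F) n₀ n₁ h
  have e3 : (F.rightDerived n₀).map φ.τ₃ ≫ (T'.I₃.isoRightDerivedObj F n₀).hom =
      (T.I₃.isoRightDerivedObj F n₀).hom ≫
      (HomologicalComplex.homologyFunctor D (ComplexShape.up ℕ) n₀).map
        ((F.mapHomologicalComplex (ComplexShape.up ℕ)).map φ₃) :=
    InjectiveResolution.isoRightDerivedObj_hom_naturality φ.τ₃ T.I₃ T'.I₃ φ₃ hφ₃ F n₀
  have e1 : (F.rightDerived n₁).map φ.τ₁ ≫ (T'.I₁.isoRightDerivedObj F n₁).hom =
      (T.I₁.isoRightDerivedObj F n₁).hom ≫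
      (HomologicalComplex.homologyFunctor D (ComplexShape.up ℕ) n₁).map
        ((F.mapHomologicalComplex (ComplexShape.up ℕ)).map φ₁) :=
    InjectiveResolution.isoRightDerivedObj_hom_naturality φ.τ₁ T.I₁ T'.I₁ φ₁ hφ₁ F n₁
  obtain ⟨δT, hδT⟩ : ∃ d : (HomologicalComplex.homologyFunctor D (ComplexShape.up ℕ) n₀).obj
      ((F.mapHomologicalComplex (ComplexShape.up ℕ)).obj T.I₃.cocomplex) ⟶
      (HomologicalComplex.homologyFunctor D (ComplexShape.up ℕ) n₁).obj
      ((F.mapHomologicalComplex (ComplexShape.up ℕ)).obj T.I₁.cocomplex),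
      d = (T.map_shortExact F).δ n₀ n₁ h := ⟨_, rfl⟩
  obtain ⟨δT', hδT'⟩ : ∃ d : (HomologicalComplex.homologyFunctor D (ComplexShape.up ℕ) n₀).obj
      ((F.mapHomologicalComplex (ComplexShape.up ℕ)).obj T'.I₃.cocomplex) ⟶
      (HomologicalComplex.homologyFunctor D (ComplexShape.up ℕ) n₁).obj
      ((F.mapHomologicalComplex (ComplexShape.up ℕ)).obj T'.I₁.cocomplex),
      d = (T'.map_shortExact F).δ n₀ n₁ h := ⟨_, rfl⟩
  have nat' : (HomologicalComplex.homologyFunctor D (ComplexShape.up ℕ) n₀).map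
        ((F.mapHomologicalComplex (ComplexShape.up ℕ)).map φ₃) ≫ δT' = δT ≫
      (HomologicalComplex.homologyFunctor D (ComplexShape.up ℕ) n₁).map
        ((F.mapHomologicalComplex (ComplexShape.up ℕ)).map φ₁) := by
    subst hδT hδT'
    exact nat.symm
  have hT : T.delta F n₀ n₁ h ≫ (T.I₁.isoRightDerivedObj F n₁).hom =
      (T.I₃.isoRightDerivedObj F n₀).hom ≫ δT := by
    subst hδT
    exact RDer.SESRes.delta_comp_isoRightDerivedObj_hom T F n₀ n₁ h
  have hT' : T'.delta F n₀ n₁ h ≫ (T'.I₁.isoRightDerivedObj F n₁).hom =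
      (T'.I₃.isoRightDerivedObj F n₀).hom ≫ δT' := by
    subst hδT'
    exact RDer.SESRes.delta_comp_isoRightDerivedObj_hom T' F n₀ n₁ h
  rw [← cancel_mono (T'.I₁.isoRightDerivedObj F n₁).hom, assoc, assoc, hT', reassoc_of% e3,
    nat', e1, reassoc_of% hT]

/-- independence of the resolution -/
theorem delta_eq_delta {S : ShortComplex C} (hS : S.ShortExact) (T T' : RDer.SESRes S)
    (n₀ n₁ : ℕ) (h : n₀ + 1 = n₁) : T.delta F n₀ n₁ h = T'.delta F n₀ n₁ h := by
  have := delta_natural F hS T T' (𝟙 S) n₀ n₁ h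
  simpa using this.symm

end Groth.Agent.Lib.Helper68.InjLES
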