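import Groth.Agent.Lib.Helper68.InjHorseshoe4

/-! Resolutions of short exact sequences by injectives: splittings and the twisting maps of a
general resolution. -/

set_option autoImplicit false
universe v u

open CategoryTheory Category Limits

namespace Groth.Agent.Lib.Helper68.InjLift

open Groth.Agent.Lib.Helper68.InjHorseshoe

variable {C : Type u} [Category.{v} C] [Abelian C] {S : ShortComplex C} (T : RDer.SESRes S)

/-- the chosen retraction in degree `n` -/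
noncomputable def r (n : ℕ) : T.I₂.cocomplex.X n ⟶ T.I₁.cocomplex.X n := (T.splitting n).r

/-- the chosen section in degree `n` -/
noncomputable def s (n : ℕ) : T.I₃.cocomplex.X n ⟶ T.I₂.cocomplex.X n := (T.splitting n).s

@[reassoc (attr := simp)]
lemma f_r (n : ℕ) : T.f.f n ≫ r T n = 𝟙 _ := (T.splitting n).f_r

@[reassoc (attr := simp)]
lemma s_g (n : ℕ) : s T n ≫ T.g.f n = 𝟙 _ := (T.splitting n).s_g

@[reassoc (attr := simp)]
lemma s_r (n : ℕ) : s T n ≫ r T n = 0 := (T.splitting n).s_r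

lemma r_f_add_g_s (n : ℕ) : r T n ≫ T.f.f n + T.g.f n ≫ s T n = 𝟙 _ := (T.splitting n).id

@[reassoc]
lemma r_f (n : ℕ) : r T n ≫ T.f.f n = 𝟙 _ - T.g.f n ≫ s T n := (T.splitting n).r_f

@[reassoc (attr := simp)]
lemma f_g (n : ℕ) : T.f.f n ≫ T.g.f n = 0 := by
  rw [← HomologicalComplex.comp_f, T.zero]
  rfl

instance (n : ℕ) : Mono (T.f.f n) := (T.splitting n).splitMono_f.mono

instance (n : ℕ) : Epi (T.g.f n) := (T.splitting n).splitEpi_g.epi

/-- the twisting maps of a resolution of a short exact sequence -/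
noncomputable def θ (n : ℕ) : T.I₃.cocomplex.X n ⟶ T.I₁.cocomplex.X (n + 1) :=
  s T n ≫ T.I₂.cocomplex.d n (n + 1) ≫ r T (n + 1)

@[reassoc]
lemma f_d (n : ℕ) : T.f.f n ≫ T.I₂.cocomplex.d n (n + 1) =
    T.I₁.cocomplex.d n (n + 1) ≫ T.f.f (n + 1) := T.f.comm n (n + 1)

@[reassoc]
lemma d_g (n : ℕ) : T.I₂.cocomplex.d n (n + 1) ≫ T.g.f (n + 1) =
    T.g.f n ≫ T.I₃.cocomplex.d n (n + 1) := (T.g.comm n (n + 1)).symm

lemma d₂_eq (n : ℕ) : T.I₂.cocomplex.d n (n + 1) =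
    r T n ≫ T.I₁.cocomplex.d n (n + 1) ≫ T.f.f (n + 1) + T.g.f n ≫ θ T n ≫ T.f.f (n + 1) +
      T.g.f n ≫ T.I₃.cocomplex.d n (n + 1) ≫ s T (n + 1) := by
  have h1 : T.I₂.cocomplex.d n (n + 1) =
      (r T n ≫ T.f.f n + T.g.f n ≫ s T n) ≫ T.I₂.cocomplex.d n (n + 1) := by
    rw [r_f_add_g_s, id_comp]
  have h2 : s T n ≫ T.I₂.cocomplex.d n (n + 1) =
      (s T n ≫ T.I₂.cocomplex.d n (n + 1)) ≫ (r T (n + 1) ≫ T.f.f (n + 1) +
        T.g.f (n + 1) ≫ s T (n + 1)) := by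
    rw [r_f_add_g_s, comp_id]
  rw [Preadditive.add_comp, assoc, assoc, f_d, h2] at h1
  rw [h1]
  simp only [θ, Preadditive.comp_add, assoc, d_g_assoc, s_g_assoc]
  rw [add_assoc]

lemma θ_d (n : ℕ) : θ T n ≫ T.I₁.cocomplex.d (n + 1) (n + 2) +
    T.I₃.cocomplex.d n (n + 1) ≫ θ T (n + 1) = 0 := by
  rw [← cancel_mono (T.f.f (n + 2)), zero_comp, Preadditive.add_comp]
  simp only [θ, assoc]
  rw [← f_d, r_f_assoc, r_f]
  simp only [Preadditive.sub_comp, Preadditive.comp_sub, id_comp, comp_id, assoc,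
    HomologicalComplex.d_comp_d, zero_sub, d_g_assoc, s_g_assoc]
  rw [Preadditive.comp_neg, s_g_assoc, HomologicalComplex.d_comp_d_assoc, zero_comp, sub_zero,
    neg_add_cancel]

/-- the coaugmentation followed by the retraction in degree zero -/
noncomputable def ζ : S.X₂ ⟶ T.I₁.cocomplex.X 0 := coaug T.I₂ ≫ r T 0

@[reassoc]
lemma coaug_f : coaug T.I₁ ≫ T.f.f 0 = S.f ≫ coaug T.I₂ := by
  have := HomologicalComplex.congr_hom T.ι_f 0
  rw [HomologicalComplex.comp_f, HomologicalComplex.comp_f,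
    CochainComplex.single₀_map_f_zero] at this
  exact this

@[reassoc]
lemma coaug_g : coaug T.I₂ ≫ T.g.f 0 = S.g ≫ coaug T.I₃ := by
  have := HomologicalComplex.congr_hom T.ι_g 0
  rw [HomologicalComplex.comp_f, HomologicalComplex.comp_f,
    CochainComplex.single₀_map_f_zero] at this
  exact this

@[reassoc]
lemma f_ζ : S.f ≫ ζ T = coaug T.I₁ := by
  unfold ζ
  rw [← coaug_f_assoc, f_r, comp_id]

lemma ζ_d : ζ T ≫ T.I₁.cocomplex.d 0 1 + S.g ≫ coaug T.I₃ ≫ θ T 0 = 0 := by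
  rw [← cancel_mono (T.f.f 1), zero_comp]
  have h := coaug_d T.I₂
  rw [d₂_eq T 0] at h
  simp only [Preadditive.comp_add, Preadditive.add_comp, assoc] at h ⊢
  rw [coaug_g_assoc, coaug_g_assoc, coaug_d_assoc, zero_comp, comp_zero, add_zero] at h
  simpa only [ζ, assoc] using h

end Groth.Agent.Lib.Helper68.InjLift
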