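import Groth.Agent.Lib.Helper68.InjLift

/-! Lifting a morphism of short exact sequences to a morphism between injective resolutions of
the sequences, extending given lifts on the two ends. -/

set_option autoImplicit false
universe v u

open CategoryTheory Category Limits

namespace Groth.Agent.Lib.Helper68.InjLift

open Groth.Agent.Lib.Helper68.InjHorseshoe

variable {C : Type u} [Category.{v} C] [Abelian C] {S S' : ShortComplex C} (hS : S.ShortExact)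
  (T : RDer.SESRes S) (T' : RDer.SESRes S') (φ : S ⟶ S')
  (φ₁ : T.I₁.cocomplex ⟶ T'.I₁.cocomplex)
  (hφ₁ : coaug T.I₁ ≫ φ₁.f 0 = φ.τ₁ ≫ coaug T'.I₁)
  (φ₃ : T.I₃.cocomplex ⟶ T'.I₃.cocomplex)
  (hφ₃ : coaug T.I₃ ≫ φ₃.f 0 = φ.τ₃ ≫ coaug T'.I₃)

/-- the obstruction cocycle -/
noncomputable def ψ (n : ℕ) : T.I₃.cocomplex.X n ⟶ T'.I₁.cocomplex.X (n + 1) :=
  φ₃.f n ≫ θ T' n - θ T n ≫ φ₁.f (n + 1)

lemma ψ_d (n : ℕ) : ψ T T' φ₁ φ₃ n ≫ T'.I₁.cocomplex.d (n + 1) (n + 2) +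
    T.I₃.cocomplex.d n (n + 1) ≫ ψ T T' φ₁ φ₃ (n + 1) = 0 := by
  have e1 : θ T' n ≫ T'.I₁.cocomplex.d (n + 1) (n + 2) =
      -(T'.I₃.cocomplex.d n (n + 1) ≫ θ T' (n + 1)) := eq_neg_of_add_eq_zero_left (θ_d T' n)
  have e2 : θ T n ≫ T.I₁.cocomplex.d (n + 1) (n + 2) =
      -(T.I₃.cocomplex.d n (n + 1) ≫ θ T (n + 1)) := eq_neg_of_add_eq_zero_left (θ_d T n)
  have c1 : φ₁.f (n + 1) ≫ T'.I₁.cocomplex.d (n + 1) (n + 2) =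
      T.I₁.cocomplex.d (n + 1) (n + 2) ≫ φ₁.f (n + 2) := φ₁.comm _ _
  have c3 : φ₃.f n ≫ T'.I₃.cocomplex.d n (n + 1) =
      T.I₃.cocomplex.d n (n + 1) ≫ φ₃.f (n + 1) := φ₃.comm _ _
  unfold ψ
  simp only [Preadditive.sub_comp, Preadditive.comp_sub, assoc]
  rw [e1, c1, reassoc_of% e2, Preadditive.comp_neg, reassoc_of% c3, Preadditive.neg_comp]
  simp only [assoc]
  abel

/-- the defect of compatibility with the coaugmentations -/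
noncomputable def ω₁ : S.X₂ ⟶ T'.I₁.cocomplex.X 0 := ζ T ≫ φ₁.f 0 - φ.τ₂ ≫ ζ T'

include hφ₁ in
lemma f_ω₁ : S.f ≫ ω₁ T T' φ φ₁ = 0 := by
  unfold ω₁
  rw [Preadditive.comp_sub, f_ζ_assoc, hφ₁, ← φ.comm₁₂_assoc, f_ζ, sub_self]

/-- the defect, as a map from the third term -/
noncomputable def ωbar : S.X₃ ⟶ T'.I₁.cocomplex.X 0 :=
  letI := hS.epi_g
  hS.exact.desc (ω₁ T T' φ φ₁) (f_ω₁ T T' φ φ₁ hφ₁)

@[reassoc]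
lemma g_ωbar : S.g ≫ ωbar hS T T' φ φ₁ hφ₁ = ω₁ T T' φ φ₁ := by
  let _ := hS.epi_g
  exact hS.exact.g_desc _ _

include hφ₃ in
lemma coaug_ψ_zero : coaug T.I₃ ≫ ψ T T' φ₁ φ₃ 0 =
    ωbar hS T T' φ φ₁ hφ₁ ≫ T'.I₁.cocomplex.d 0 1 := by
  have := hS.epi_g
  rw [← cancel_epi S.g, g_ωbar_assoc]
  have e1 : S'.g ≫ coaug T'.I₃ ≫ θ T' 0 = -(ζ T' ≫ T'.I₁.cocomplex.d 0 1) :=
    eq_neg_of_add_eq_zero_right (ζ_d T')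
  have e2 : S.g ≫ coaug T.I₃ ≫ θ T 0 = -(ζ T ≫ T.I₁.cocomplex.d 0 1) :=
    eq_neg_of_add_eq_zero_right (ζ_d T)
  have c1 : φ₁.f 0 ≫ T'.I₁.cocomplex.d 0 1 = T.I₁.cocomplex.d 0 1 ≫ φ₁.f 1 := φ₁.comm _ _
  unfold ψ ω₁
  simp only [Preadditive.sub_comp, Preadditive.comp_sub, assoc]
  rw [reassoc_of% hφ₃, ← φ.comm₂₃_assoc, e1, reassoc_of% e2, c1]
  simp only [Preadditive.neg_comp, Preadditive.comp_neg, assoc]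
  abel

/-- `η⁰` -/
noncomputable def η0 : T.I₃.cocomplex.X 0 ⟶ T'.I₁.cocomplex.X 0 :=
  Injective.factorThru (-ωbar hS T T' φ φ₁ hφ₁) (coaug T.I₃)

@[reassoc]
lemma coaug_η0 : coaug T.I₃ ≫ η0 hS T T' φ φ₁ hφ₁ = -ωbar hS T T' φ φ₁ hφ₁ :=
  Injective.comp_factorThru _ _

/-- `η¹` -/
noncomputable def η1 : T.I₃.cocomplex.X 1 ⟶ T'.I₁.cocomplex.X 1 :=
  (coaug_exact T.I₃).descToInjective
    (ψ T T' φ₁ φ₃ 0 + η0 hS T T' φ φ₁ hφ₁ ≫ T'.I₁.cocomplex.d 0 1) (by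
      dsimp
      rw [Preadditive.comp_add, coaug_ψ_zero hS T T' φ φ₁ hφ₁ φ₃ hφ₃, coaug_η0_assoc,
        Preadditive.neg_comp, add_neg_cancel])

lemma d_η1 : T.I₃.cocomplex.d 0 1 ≫ η1 hS T T' φ φ₁ hφ₁ φ₃ hφ₃ =
    ψ T T' φ₁ φ₃ 0 + η0 hS T T' φ φ₁ hφ₁ ≫ T'.I₁.cocomplex.d 0 1 :=
  (coaug_exact T.I₃).comp_descToInjective _ _

/-- recursive data -/
noncomputable def ηAux : ∀ n : ℕ,
    Σ' (a : T.I₃.cocomplex.X n ⟶ T'.I₁.cocomplex.X n)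
      (b : T.I₃.cocomplex.X (n + 1) ⟶ T'.I₁.cocomplex.X (n + 1)),
      T.I₃.cocomplex.d n (n + 1) ≫ b = ψ T T' φ₁ φ₃ n + a ≫ T'.I₁.cocomplex.d n (n + 1)
  | 0 => ⟨η0 hS T T' φ φ₁ hφ₁, η1 hS T T' φ φ₁ hφ₁ φ₃ hφ₃, d_η1 hS T T' φ φ₁ hφ₁ φ₃ hφ₃⟩
  | n + 1 =>
    let prev := ηAux n
    ⟨prev.2.1,
      (T.I₃.exact_succ n).descToInjective
        (ψ T T' φ₁ φ₃ (n + 1) + prev.2.1 ≫ T'.I₁.cocomplex.d (n + 1) (n + 2)) (by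
          dsimp
          rw [Preadditive.comp_add, ← assoc, prev.2.2, Preadditive.add_comp, assoc,
            HomologicalComplex.d_comp_d, comp_zero, add_zero]
          exact (add_comm _ _).trans (ψ_d T T' φ₁ φ₃ n)),
      (T.I₃.exact_succ n).comp_descToInjective _ _⟩

/-- the correcting maps -/
noncomputable def η (n : ℕ) : T.I₃.cocomplex.X n ⟶ T'.I₁.cocomplex.X n :=
  (ηAux hS T T' φ φ₁ hφ₁ φ₃ hφ₃ n).1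

lemma η_succ (n : ℕ) : η hS T T' φ φ₁ hφ₁ φ₃ hφ₃ (n + 1) =
    (ηAux hS T T' φ φ₁ hφ₁ φ₃ hφ₃ n).2.1 := rfl

@[reassoc]
lemma d_η (n : ℕ) : T.I₃.cocomplex.d n (n + 1) ≫ η hS T T' φ φ₁ hφ₁ φ₃ hφ₃ (n + 1) =
    ψ T T' φ₁ φ₃ n + η hS T T' φ φ₁ hφ₁ φ₃ hφ₃ n ≫ T'.I₁.cocomplex.d n (n + 1) := by
  rw [η_succ]
  exact (ηAux hS T T' φ φ₁ hφ₁ φ₃ hφ₃ n).2.2

end Groth.Agent.Lib.Helper68.InjLift
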