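import Groth.Agent.Lib.Helper68.InjLift2

/-! Lifting a morphism of short exact sequences to a morphism between injective resolutions of
the sequences: the middle map. -/

set_option autoImplicit false
universe v u

open CategoryTheory Category Limits

namespace Groth.Agent.Lib.Helper68.InjLift

open Groth.Agent.Lib.Helper68.InjHorseshoe

variable {C : Type u} [Category.{v} C] [Abelian C] {S S' : ShortComplex C} (hS : S.ShortExact)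
  (T : RDer.SESRes S) (T' : RDer.SESRes S') (φ : S ⟶ S')
  (φ₁ : T.I₁.cocomplex ⟶ T'.I₁.cocomplex)
  (hφ₁ : coaug T.I₁ ≫ φ₁.f 0 = φ.τ₁ ≫ coaug T'.I₁)
  (φ₃ : T.I₃.cocomplex ⟶ T'.I₃.cocomplex)
  (hφ₃ : coaug T.I₃ ≫ φ₃.f 0 = φ.τ₃ ≫ coaug T'.I₃)

/-- the components of the middle map -/
noncomputable def φ₂f (n : ℕ) : T.I₂.cocomplex.X n ⟶ T'.I₂.cocomplex.X n :=
  r T n ≫ φ₁.f n ≫ T'.f.f n + T.g.f n ≫ φ₃.f n ≫ s T' n +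
    T.g.f n ≫ η hS T T' φ φ₁ hφ₁ φ₃ hφ₃ n ≫ T'.f.f n

lemma f_φ₂f (n : ℕ) : T.f.f n ≫ φ₂f hS T T' φ φ₁ hφ₁ φ₃ hφ₃ n = φ₁.f n ≫ T'.f.f n := by
  unfold φ₂f
  simp only [Preadditive.comp_add, f_r_assoc, f_g_assoc, zero_comp, add_zero]

lemma φ₂f_g (n : ℕ) : φ₂f hS T T' φ φ₁ hφ₁ φ₃ hφ₃ n ≫ T'.g.f n = T.g.f n ≫ φ₃.f n := by
  unfold φ₂f
  simp only [Preadditive.add_comp, assoc, f_g, comp_zero, s_g, comp_id, zero_add, add_zero]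

lemma φ₂f_comm (n : ℕ) : φ₂f hS T T' φ φ₁ hφ₁ φ₃ hφ₃ n ≫ T'.I₂.cocomplex.d n (n + 1) =
    T.I₂.cocomplex.d n (n + 1) ≫ φ₂f hS T T' φ φ₁ hφ₁ φ₃ hφ₃ (n + 1) := by
  have c1 : φ₁.f n ≫ T'.I₁.cocomplex.d n (n + 1) =
      T.I₁.cocomplex.d n (n + 1) ≫ φ₁.f (n + 1) := φ₁.comm _ _
  have c3 : φ₃.f n ≫ T'.I₃.cocomplex.d n (n + 1) =
      T.I₃.cocomplex.d n (n + 1) ≫ φ₃.f (n + 1) := φ₃.comm _ _
  have key : φ₃.f n ≫ θ T' n + η hS T T' φ φ₁ hφ₁ φ₃ hφ₃ n ≫ T'.I₁.cocomplex.d n (n + 1) =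
      θ T n ≫ φ₁.f (n + 1) + T.I₃.cocomplex.d n (n + 1) ≫ η hS T T' φ φ₁ hφ₁ φ₃ hφ₃ (n + 1) := by
    rw [d_η, ψ]
    abel
  rw [d₂_eq T' n, d₂_eq T n]
  unfold φ₂f
  simp only [Preadditive.add_comp, Preadditive.comp_add, assoc, f_r_assoc, f_g_assoc,
    s_r_assoc, s_g_assoc, zero_comp, comp_zero, add_zero, zero_add]
  rw [reassoc_of% c1, reassoc_of% c3]
  have key' := congrArg (fun t => T.g.f n ≫ t ≫ T'.f.f (n + 1)) key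
  simp only [Preadditive.add_comp, Preadditive.comp_add, assoc] at key'
  have e : ∀ (A B C' D E F : T.I₂.cocomplex.X n ⟶ T'.I₂.cocomplex.X (n + 1)),
      C' + B = E + F → A + B + C' + D = A + E + D + F := by
    intro A B C' D E F h
    have h' : A + B + C' + D = A + (C' + B) + D := by abel
    rw [h', h]
    abel
  exact e _ _ _ _ _ _ key'

/-- the middle map -/
noncomputable def φ₂ : T.I₂.cocomplex ⟶ T'.I₂.cocomplex where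
  f n := φ₂f hS T T' φ φ₁ hφ₁ φ₃ hφ₃ n
  comm' i j hij := by
    obtain rfl : i + 1 = j := hij
    exact φ₂f_comm hS T T' φ φ₁ hφ₁ φ₃ hφ₃ i

lemma f_φ₂ : T.f ≫ φ₂ hS T T' φ φ₁ hφ₁ φ₃ hφ₃ = φ₁ ≫ T'.f := by
  ext n
  exact f_φ₂f hS T T' φ φ₁ hφ₁ φ₃ hφ₃ n

lemma φ₂_g : φ₂ hS T T' φ φ₁ hφ₁ φ₃ hφ₃ ≫ T'.g = T.g ≫ φ₃ := by
  ext n
  exact φ₂f_g hS T T' φ φ₁ hφ₁ φ₃ hφ₃ n

include hS hφ₁ hφ₃ in
/-- a morphism of short exact sequences lifts to a morphism between resolutions of the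
sequences, extending given lifts on the two ends -/
theorem exists_mid : ∃ ψ₂ : T.I₂.cocomplex ⟶ T'.I₂.cocomplex,
    T.f ≫ ψ₂ = φ₁ ≫ T'.f ∧ ψ₂ ≫ T'.g = T.g ≫ φ₃ :=
  ⟨φ₂ hS T T' φ φ₁ hφ₁ φ₃ hφ₃, f_φ₂ hS T T' φ φ₁ hφ₁ φ₃ hφ₃, φ₂_g hS T T' φ φ₁ hφ₁ φ₃ hφ₃⟩

end Groth.Agent.Lib.Helper68.InjLift
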