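import Mathlib.CategoryTheory.Abelian.GrothendieckAxioms.Basic
import Mathlib.Algebra.Homology.ShortComplex.ExactFunctor
import Mathlib.Algebra.Homology.ShortComplex.Abelian
import Mathlib.CategoryTheory.Limits.Preserves.Basic

/-! Two general lemmas on preservation of a colimit:
* a retract of a functor preserving a colimit preserves it;
* in a category with exact colimits of shape `Λ`, the (pointwise) kernel of a natural
  transformation between functors preserving a colimit of shape `Λ` preserves it. -/

set_option autoImplicit false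
universe w v₁ v₂ u₁ u₂

open CategoryTheory Category Limits

namespace Groth.Agent.Lib.Helper68.KerColim

section Retract

variable {A : Type u₁} [Category.{v₁} A] {B : Type u₂} [Category.{v₂} B]
  {Λ : Type w} [Category.{w} Λ] (D : Λ ⥤ A)

/-- a retract of a functor preserving a colimit preserves this colimit -/
theorem preservesColimit_of_retract {G P : A ⥤ B} (s : G ⟶ P) (r : P ⟶ G) (h : s ≫ r = 𝟙 G)
    [PreservesColimit D P] : PreservesColimit D G := by
  refine ⟨fun {c} hc => ⟨?_⟩⟩
  have hP : IsColimit (P.mapCocone c) := isColimitOfPreserves P hc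
  have hsr : ∀ X, s.app X ≫ r.app X = 𝟙 (G.obj X) := fun X => by
    rw [← NatTrans.comp_app, h]; rfl
  let tP : Cocone (D ⋙ G) → Cocone (D ⋙ P) := fun t =>
    { pt := t.pt
      ι := { app := fun j => r.app (D.obj j) ≫ t.ι.app j
             naturality := fun j j' f => by
               have h1 := t.w f
               have h2 := r.naturality (D.map f)
               dsimp at h1 h2 ⊢
               rw [comp_id, ← assoc, h2, assoc, h1] } }
  refine
    { desc := fun t => s.app c.pt ≫ hP.desc (tP t)
      fac := fun t j => ?_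
      uniq := fun t m hm => ?_ }
  · have h1 := hP.fac (tP t) j
    have h2 := s.naturality (c.ι.app j)
    dsimp at h1 h2 ⊢
    rw [← assoc, h2, assoc, h1, ← assoc, hsr, id_comp]
  · have h3 : r.app c.pt ≫ m = hP.desc (tP t) := by
      refine hP.uniq (tP t) _ fun j => ?_
      have h2 := r.naturality (c.ι.app j)
      have h4 := hm j
      dsimp at h2 h4 ⊢
      rw [← assoc, h2, assoc, h4]
    rw [← h3, ← assoc, hsr]
    exact (id_comp m).symm

end Retract

section Kernel

variable {A : Type u₁} [Category.{v₁} A] {B : Type u₂} [Category.{v₂} B] [Abelian B]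
  {Λ : Type w} [Category.{w} Λ] [HasColimitsOfShape Λ B] [HasExactColimitsOfShape Λ B]
  (D : Λ ⥤ A)

lemma exact_of_pointwise {J' : Type*} [Category J'] (S : ShortComplex (J' ⥤ B))
    (h : ∀ j, (S.map ((evaluation J' B).obj j)).Exact) : S.Exact := by
  rw [ShortComplex.exact_iff_isZero_homology]
  rw [Functor.isZero_iff]
  intro j
  have e := ShortComplex.mapHomologyIso S ((evaluation J' B).obj j)
  exact IsZero.of_iso ((ShortComplex.exact_iff_isZero_homology _).mp (h j)) e.symm

/-- the pointwise kernel of a natural transformation between functors preserving a colimit of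
shape `Λ` preserves it, when colimits of shape `Λ` are exact in the target -/
theorem preservesColimit_of_kernel {G P Q : A ⥤ B} (ι : G ⟶ P) (α : P ⟶ Q) (w : ι ≫ α = 0)
    (hmono : ∀ N, Mono (ι.app N))
    (hex : ∀ N, (ShortComplex.mk (ι.app N) (α.app N)
      (by rw [← NatTrans.comp_app, w]; rfl)).Exact)
    [PreservesColimit D P] [PreservesColimit D Q] : PreservesColimit D G := by
  refine ⟨fun {c} hc => ⟨?_⟩⟩
  have hP : IsColimit (P.mapCocone c) := isColimitOfPreserves P hc
  have hQ : IsColimit (Q.mapCocone c) := isColimitOfPreserves Q hc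
  -- the short complex of functors
  let S : ShortComplex (Λ ⥤ B) := ShortComplex.mk (Functor.whiskerLeft D ι) (Functor.whiskerLeft D α)
    (by rw [← Functor.whiskerLeft_comp, w]; rfl)
  have hS : S.Exact := exact_of_pointwise S (fun j => hex (D.obj j))
  haveI hSm : Mono S.f := by
    haveI : ∀ j, Mono ((Functor.whiskerLeft D ι).app j) := fun j => hmono (D.obj j)
    exact NatTrans.mono_of_mono_app _
  haveI : PreservesFiniteLimits (colim : (Λ ⥤ B) ⥤ B) :=
    HasExactColimitsOfShape.preservesFiniteLimits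
  haveI : PreservesFiniteColimits (colim : (Λ ⥤ B) ⥤ B) := by
    haveI : PreservesColimitsOfSize.{0, 0} (colim : (Λ ⥤ B) ⥤ B) :=
      colimConstAdj.leftAdjoint_preservesColimits
    exact PreservesColimitsOfSize.preservesFiniteColimits _
  have hS' : (S.map colim).Exact := hS.map colim
  haveI hSm' : Mono (S.map colim).f := by
    change Mono (colim.map S.f)
    infer_instance
  let T : ShortComplex B := ShortComplex.mk (ι.app c.pt) (α.app c.pt)
    (by rw [← NatTrans.comp_app, w]; rfl)
  have hT : T.Exact := hex c.pt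
  haveI hTm : Mono T.f := hmono c.pt
  -- comparison isomorphisms
  let eP : colimit (D ⋙ P) ≅ P.obj c.pt :=
    (colimit.isColimit (D ⋙ P)).coconePointUniqueUpToIso hP
  let eQ : colimit (D ⋙ Q) ≅ Q.obj c.pt :=
    (colimit.isColimit (D ⋙ Q)).coconePointUniqueUpToIso hQ
  have heP : ∀ j, colimit.ι (D ⋙ P) j ≫ eP.hom = P.map (c.ι.app j) := fun j =>
    (colimit.isColimit (D ⋙ P)).comp_coconePointUniqueUpToIso_hom hP j
  have heQ : ∀ j, colimit.ι (D ⋙ Q) j ≫ eQ.hom = Q.map (c.ι.app j) := fun j =>
    (colimit.isColimit (D ⋙ Q)).comp_coconePointUniqueUpToIso_hom hQ j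
  have hα : colim.map S.g ≫ eQ.hom = eP.hom ≫ α.app c.pt := by
    apply colimit.hom_ext
    intro j
    change colimit.ι (D ⋙ P) j ≫ colimMap (Functor.whiskerLeft D α) ≫ eQ.hom = _
    rw [ι_colimMap_assoc, heQ, ← assoc, heP]
    exact (α.naturality (c.ι.app j)).symm
  let φ : colimit (D ⋙ G) ⟶ G.obj c.pt := colimit.desc (D ⋙ G) (G.mapCocone c)
  have hφ : φ ≫ ι.app c.pt = colim.map S.f ≫ eP.hom := by
    apply colimit.hom_ext
    intro j
    change colimit.ι (D ⋙ G) j ≫ φ ≫ _ = colimit.ι (D ⋙ G) j ≫ colimMap (Functor.whiskerLeft D ι) ≫ _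
    rw [ι_colimMap_assoc, heP, ← assoc, colimit.ι_desc]
    exact ι.naturality (c.ι.app j)
  -- the inverse of `φ`
  have hz : (ι.app c.pt ≫ eP.inv) ≫ (S.map colim).g = 0 := by
    change (ι.app c.pt ≫ eP.inv) ≫ colim.map S.g = 0
    rw [← cancel_mono eQ.hom, zero_comp, assoc, assoc, hα, Iso.inv_hom_id_assoc]
    exact T.zero
  let ψ : G.obj c.pt ⟶ colimit (D ⋙ G) := hS'.lift (ι.app c.pt ≫ eP.inv) hz
  have hψ : ψ ≫ colim.map S.f = ι.app c.pt ≫ eP.inv := hS'.lift_f _ hz
  haveI : IsIso φ := by
    refine ⟨ψ, ?_, ?_⟩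
    · rw [← cancel_mono (colim.map S.f), assoc, hψ, ← assoc, hφ, assoc, Iso.hom_inv_id, comp_id,
        id_comp]
    · rw [← cancel_mono (ι.app c.pt), assoc, hφ, ← assoc, hψ, assoc, Iso.inv_hom_id, comp_id,
        id_comp]
  haveI : IsIso ((colimit.isColimit (D ⋙ G)).desc (G.mapCocone c)) := ‹IsIso φ›
  exact IsColimit.ofPointIso (colimit.isColimit (D ⋙ G))

end Kernel

end Groth.Agent.Lib.Helper68.KerColim
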