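import Groth.Agent.Lib.Helper94.KosDivDefs
import Groth.Agent.S9504
import Groth.Agent.Lib.Lead.QCohAff8
import Groth.Agent.Lib.Lead.QCohCrit

/-!
# helper68: an exterior power (in the sense of `ExtPow.IsExtPow`) of a quasi-coherent module is
quasi-coherent (QC for helper94's S15901)
-/

set_option autoImplicit false
universe u

open CategoryTheory CategoryTheory.Limits AlgebraicGeometry Opposite TopologicalSpace
open Groth.Agent.Lib.Lead.Inv Groth.Agent.Lib.Helper94.KosDiv

namespace Groth.Agent.Lib.Helper68.KosDivQC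

variable {X : Scheme.{u}}

open Groth.Agent.Lib.Lead.QCohAff Groth.Agent.S9504 TensorProduct

set_option backward.isDefEq.respectTransparency.types false

theorem locOn_of_isExtPow (E M : X.Modules) [E.IsQuasicoherent] (p : ℕ)
    (h : ExtPow.IsExtPow p E M) (U : X.Opens) (hU : IsAffineOpen U) : LocOn M U := by
  obtain ⟨φ, hφ⟩ := h
  suffices hloc : ∀ f : Γ(X, U), IsLocalizedModule (Submonoid.powers f) (resL M U f) by
    constructor
    · intro f s hs
      have h0 : resL M U f s = 0 := hs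
      obtain ⟨⟨_, n, rfl⟩, hn⟩ :=
        (IsLocalizedModule.eq_zero_iff (Submonoid.powers f) (resL M U f)).mp h0
      exact ⟨n, hn⟩
    · intro f t
      obtain ⟨⟨s, ⟨_, n, rfl⟩⟩, hs⟩ := IsLocalizedModule.surj (Submonoid.powers f) (resL M U f)
        (SecOver.ofSec f t)
      refine ⟨n, s, ?_⟩
      have hs' : (X.presheaf.map (homOfLE (X.basicOpen_le f)).op (f ^ n)) • t =
          M.presheaf.map (homOfLE (X.basicOpen_le f)).op s := hs
      rw [← hs', map_pow]
  intro f
  let U' : X.affineOpens := ⟨U, hU⟩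
  let V' : X.affineOpens := ⟨X.basicOpen f, hU.basicOpen f⟩
  have hle : V'.1 ≤ U'.1 := X.basicOpen_le f
  haveI : IsLocalization.Away f Γ(X, X.basicOpen f) := hU.isLocalization_basicOpen f
  haveI : IsLocalizedModule (Submonoid.powers f) (resL E U f) := isLocalizedModule_resL E hU f
  have hP : IsBaseChange Γ(X, X.basicOpen f) (resL E U f) :=
    IsLocalizedModule.isBaseChange (Submonoid.powers f) Γ(X, X.basicOpen f) (resL E U f)
  let W := ↥(⋀[Γ(X, U)]^p Γ(E, U))
  have hQ₀ := TensorProduct.isBaseChange Γ(X, U) W Γ(X, X.basicOpen f)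
  let Θ : Γ(X, X.basicOpen f) ⊗[Γ(X, U)] W ≃ₗ[Γ(X, X.basicOpen f)]
      ↥(⋀[Γ(X, X.basicOpen f)]^p (SecOver E U f)) := extPowEquiv p hP hQ₀
  let φV : SecOver M U f ≃ₗ[Γ(X, X.basicOpen f)]
      ↥(⋀[Γ(X, X.basicOpen f)]^p (SecOver E U f)) := φ V'
  let Ξ : Γ(X, X.basicOpen f) ⊗[Γ(X, U)] W ≃ₗ[Γ(X, X.basicOpen f)] SecOver M U f :=
    Θ ≪≫ₗ φV.symm
  let gQ : W →ₗ[Γ(X, U)] SecOver M U f := (resL M U f).comp (φ U').symm.toLinearMap
  have hΞ : ∀ x : W, Ξ ((1 : Γ(X, X.basicOpen f)) ⊗ₜ[Γ(X, U)] x) = gQ x := by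
    intro x
    have hx : x ∈ Submodule.span Γ(X, U) (Set.range (exteriorPower.ιMulti Γ(X, U) p)) := by
      rw [exteriorPower.ιMulti_span]; trivial
    induction hx using Submodule.span_induction with
    | mem x hx =>
      obtain ⟨m, rfl⟩ := hx
      have h1 : Θ ((1 : Γ(X, X.basicOpen f)) ⊗ₜ[Γ(X, U)] exteriorPower.ιMulti Γ(X, U) p m) =
          exteriorPower.ιMulti Γ(X, X.basicOpen f) p (fun j => resL E U f (m j)) :=
        extPowEquiv_apply p hP hQ₀ m
      change φV.symm (Θ _) = _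
      rw [h1]
      exact (hφ U' V' hle m).symm
    | zero => rw [TensorProduct.tmul_zero, map_zero, map_zero]
    | add x y _ _ hx hy => rw [TensorProduct.tmul_add, map_add, map_add, hx, hy]
    | smul a x _ hx =>
      rw [TensorProduct.tmul_smul, gQ.map_smul, ← hx]
      exact (Ξ.toLinearMap.restrictScalars Γ(X, U)).map_smul a _
  have hQ : IsBaseChange Γ(X, X.basicOpen f) gQ := IsBaseChange.of_equiv Ξ hΞ
  have hlocQ : IsLocalizedModule (Submonoid.powers f) gQ :=
    (isLocalizedModule_iff_isBaseChange (Submonoid.powers f) Γ(X, X.basicOpen f) gQ).mpr hQ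
  have : resL M U f = gQ.comp (φ U').toLinearMap := by
    ext s
    change _ = resL M U f ((φ U').symm ((φ U') s))
    rw [LinearEquiv.symm_apply_apply]
  rw [this]
  exact IsLocalizedModule.of_linearEquiv_right (Submonoid.powers f) gQ (φ U')

theorem isQuasicoherent_of_isExtPow (E M : X.Modules) [E.IsQuasicoherent] (p : ℕ)
    (h : ExtPow.IsExtPow p E M) : M.IsQuasicoherent :=
  (Groth.Agent.Lib.Lead.QCohCrit.isQuasicoherent_iff_locOn (F := M)).mpr
    (fun U hU => locOn_of_isExtPow E M p h U hU)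

end Groth.Agent.Lib.Helper68.KosDivQC
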