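import Groth.Agent.Lib.Helper68.ProjLES

/-! Naturality of the connecting morphism of left derived functors with respect to natural
transformations of the functor, and naturality of `fromLeftDerivedZero` in the functor. -/

set_option autoImplicit false
universe v u v' u'

open CategoryTheory Category Limits

namespace Groth.Agent.Lib.Helper68.LeftDerivedLES

open Groth.Agent.Lib.Helper68.Horseshoe Groth.Agent.Lib.Helper68.ProjSES

variable {C : Type u} [Category.{v} C] [Abelian C] [HasProjectiveResolutions C]
variable {D : Type u'} [Category.{v'} D] [Abelian D] {F G : C ⥤ D} [F.Additive] [G.Additive]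
  (α : F ⟶ G)

/-- the morphism of short exact sequences of complexes induced by a natural transformation -/
noncomputable def cxNatTrans {S : ShortComplex C} (T : PSESRes S) :
    T.cx.map (F.mapHomologicalComplex (ComplexShape.down ℕ)) ⟶
      T.cx.map (G.mapHomologicalComplex (ComplexShape.down ℕ)) :=
  ShortComplex.homMk ((NatTrans.mapHomologicalComplex α _).app T.P₁.complex)
    ((NatTrans.mapHomologicalComplex α _).app T.P₂.complex)
    ((NatTrans.mapHomologicalComplex α _).app T.P₃.complex)
    ((NatTrans.mapHomologicalComplex α (ComplexShape.down ℕ)).naturality T.f).symm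
    ((NatTrans.mapHomologicalComplex α (ComplexShape.down ℕ)).naturality T.g).symm

theorem delta_natTrans {S : ShortComplex C} (T : PSESRes S) (n : ℕ) :
    (NatTrans.leftDerived α (n + 1)).app S.X₃ ≫ T.delta G n =
      T.delta F n ≫ (NatTrans.leftDerived α n).app S.X₁ := by
  have nat := HomologicalComplex.HomologySequence.δ_naturality (cxNatTrans α T)
    (T.map_shortExact F) (T.map_shortExact G) (n + 1) n (rel_succ n)
  have e3 : (NatTrans.leftDerived α (n + 1)).app S.X₃ ≫ (T.P₃.isoLeftDerivedObj G (n + 1)).hom =
      (T.P₃.isoLeftDerivedObj F (n + 1)).hom ≫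
      (HomologicalComplex.homologyFunctor D (ComplexShape.down ℕ) (n + 1)).map
        ((NatTrans.mapHomologicalComplex α (ComplexShape.down ℕ)).app T.P₃.complex) := by
    rw [T.P₃.leftDerived_app_eq α (n + 1)]
    simp only [assoc, Iso.inv_hom_id, comp_id]
  have e1 : (NatTrans.leftDerived α n).app S.X₁ ≫ (T.P₁.isoLeftDerivedObj G n).hom =
      (T.P₁.isoLeftDerivedObj F n).hom ≫
      (HomologicalComplex.homologyFunctor D (ComplexShape.down ℕ) n).map
        ((NatTrans.mapHomologicalComplex α (ComplexShape.down ℕ)).app T.P₁.complex) := by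
    rw [T.P₁.leftDerived_app_eq α n]
    simp only [assoc, Iso.inv_hom_id, comp_id]
  obtain ⟨δF, hδF⟩ : ∃ d : (HomologicalComplex.homologyFunctor D (ComplexShape.down ℕ) (n + 1)).obj
      ((F.mapHomologicalComplex (ComplexShape.down ℕ)).obj T.P₃.complex) ⟶
      (HomologicalComplex.homologyFunctor D (ComplexShape.down ℕ) n).obj
      ((F.mapHomologicalComplex (ComplexShape.down ℕ)).obj T.P₁.complex),
      d = (T.map_shortExact F).δ (n + 1) n (rel_succ n) := ⟨_, rfl⟩
  obtain ⟨δG, hδG⟩ : ∃ d : (HomologicalComplex.homologyFunctor D (ComplexShape.down ℕ) (n + 1)).obj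
      ((G.mapHomologicalComplex (ComplexShape.down ℕ)).obj T.P₃.complex) ⟶
      (HomologicalComplex.homologyFunctor D (ComplexShape.down ℕ) n).obj
      ((G.mapHomologicalComplex (ComplexShape.down ℕ)).obj T.P₁.complex),
      d = (T.map_shortExact G).δ (n + 1) n (rel_succ n) := ⟨_, rfl⟩
  have nat' : (HomologicalComplex.homologyFunctor D (ComplexShape.down ℕ) (n + 1)).map
        ((NatTrans.mapHomologicalComplex α (ComplexShape.down ℕ)).app T.P₃.complex) ≫ δG = δF ≫
      (HomologicalComplex.homologyFunctor D (ComplexShape.down ℕ) n).map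
        ((NatTrans.mapHomologicalComplex α (ComplexShape.down ℕ)).app T.P₁.complex) := by
    subst hδF hδG
    exact nat.symm
  have hF : T.delta F n ≫ (T.P₁.isoLeftDerivedObj F n).hom =
      (T.P₃.isoLeftDerivedObj F (n + 1)).hom ≫ δF := by
    subst hδF
    exact ProjLES.delta_comp_iso F T n
  have hG : T.delta G n ≫ (T.P₁.isoLeftDerivedObj G n).hom =
      (T.P₃.isoLeftDerivedObj G (n + 1)).hom ≫ δG := by
    subst hδG
    exact ProjLES.delta_comp_iso G T n
  rw [← cancel_mono (T.P₁.isoLeftDerivedObj G n).hom, assoc, assoc, hG, reassoc_of% e3,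
    nat', e1, reassoc_of% hF]

variable {S : ShortComplex C} (hS : S.ShortExact)

/-- naturality of the connecting morphism in the functor -/
theorem δ_natTrans (n : ℕ) :
    (NatTrans.leftDerived α (n + 1)).app S.X₃ ≫ δ G hS n =
      δ F hS n ≫ (NatTrans.leftDerived α n).app S.X₁ := by
  rw [δ_eq_horseshoe, δ_eq_horseshoe]
  exact delta_natTrans α _ n

end Groth.Agent.Lib.Helper68.LeftDerivedLES

namespace Groth.Agent.Lib.Helper68.LeftDerivedLES

variable {C : Type u} [Category.{v} C] [Abelian C] [HasProjectiveResolutions C]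
variable {D : Type u'} [Category.{v'} D] [Abelian D] {F G : C ⥤ D} [F.Additive] [G.Additive]
  (α : F ⟶ G)

omit [HasProjectiveResolutions C] in
lemma fromLeftDerivedZero'_natTrans {X : C} (P : ProjectiveResolution X) :
    HomologicalComplex.opcyclesMap
      ((NatTrans.mapHomologicalComplex α (ComplexShape.down ℕ)).app P.complex) 0 ≫
      P.fromLeftDerivedZero' G = P.fromLeftDerivedZero' F ≫ α.app X := by
  rw [← cancel_epi (HomologicalComplex.pOpcycles _ 0), HomologicalComplex.p_opcyclesMap_assoc,
    ProjectiveResolution.pOpcycles_comp_fromLeftDerivedZero',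
    ProjectiveResolution.pOpcycles_comp_fromLeftDerivedZero'_assoc]
  exact (α.naturality (P.π.f 0)).symm

/-- naturality of `F.leftDerived 0 ⟶ F` in the functor `F` -/
theorem fromLeftDerivedZero_natTrans :
    NatTrans.leftDerived α 0 ≫ G.fromLeftDerivedZero = F.fromLeftDerivedZero ≫ α := by
  ext X
  have P := projectiveResolution X
  rw [NatTrans.comp_app, NatTrans.comp_app, P.fromLeftDerivedZero_eq F, P.fromLeftDerivedZero_eq G,
    P.leftDerived_app_eq α 0]
  simp only [assoc, Iso.inv_hom_id_assoc]
  congr 1
  have h1 : ∀ K : ChainComplex D ℕ, (ChainComplex.isoHomologyι₀ K).hom = K.homologyι 0 :=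
    fun K => rfl
  rw [h1, h1]
  erw [HomologicalComplex.homologyι_naturality_assoc]
  rw [fromLeftDerivedZero'_natTrans]
  rfl

end Groth.Agent.Lib.Helper68.LeftDerivedLES
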