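import Groth.Agent.Lib.Helper68.CechGen
import Groth.Agent.Lib.Helper53.TotPush
import Groth.Agent.S0864

/-! Direct images of injective abelian sheaves along a morphism of topoi are totally acyclic. -/

set_option autoImplicit false
universe u

namespace Groth.Agent.Lib.Helper68.PushAcyc

open CategoryTheory Simplicial SimplicialObject Opposite Limits AlgebraicTopology
open Groth.Agent.Lib.Helper28 Groth.Agent.Lib.Helper53

variable {C D : Type u} [SmallCategory C] [SmallCategory D]
  (J : GrothendieckTopology C) (K : GrothendieckTopology D) (u : D ⥤ C) [u.IsContinuous K J]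

/-- the pullback of sheaves of sets -/
noncomputable abbrev E : Sheaf K (Type u) ⥤ Sheaf J (Type u) := u.sheafPullback (Type u) K J

variable {K' L : Sheaf K (Type u)} (f : K' ⟶ L)

/-- the image under the pullback functor of the augmented Čech nerve of `f` -/
noncomputable abbrev EA : SimplicialObject.Augmented (Sheaf J (Type u)) :=
  ((SimplicialObject.Augmented.whiskering _ _).obj (E J K u)).obj (Arrow.mk f).augmentedCechNerve

variable [PreservesFiniteLimits (E J K u)]

lemma sectionwiseCechLike_EA : CechQ.SectionwiseCechLike (CechGen.pshAug J (EA J K u f)) := by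
  intro V
  exact CechN.isCechLike_whisker_augmentedCechNerve (Arrow.mk f)
    (E J K u ⋙ sheafToPresheaf J (Type u) ⋙ (evaluation Cᵒᵖ (Type u)).obj V)

instance epi_EA [Epi f] : Epi ((EA J K u f).hom.app (op ⦋0⦌)) := by
  have := Groth.Agent.S6161.epi_base_zero K f
  have h : (EA J K u f).hom.app (op ⦋0⦌) =
      (E J K u).map ((Arrow.mk f).augmentedCechNerve.hom.app (op ⦋0⦌)) := by
    change (E J K u).map _ ≫ 𝟙 _ = _
    rw [Category.comp_id]
  rw [h]
  haveI : (E J K u).IsLeftAdjoint := (u.sheafAdjunctionContinuous (Type u) K J).isLeftAdjoint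
  haveI : (E J K u).PreservesEpimorphisms := inferInstance
  exact (E J K u).map_epi _

theorem quasiIso_EA [Epi f] :
    QuasiIso ((AlgebraicTopology.AlternatingFaceMapComplex.ε
      (C := Sheaf J AddCommGrpCat.{u})).app (CechGen.X J (EA J K u f))) :=
  CechGen.quasiIso_of_sectionwiseCechLike J (EA J K u f) (sectionwiseCechLike_EA J K u f)


section theta

omit [PreservesFiniteLimits (E J K u)]

lemma theta₀_naturality_left {L L' : Sheaf K (Type u)} (g : L' ⟶ L)
    (G : Sheaf J AddCommGrpCat.{u})
    (y : (TotAcyc.G J).obj ((E J K u).obj L) ⟶ G) :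
    TotPush.theta₀ J K u L' G ((TotAcyc.G J).map ((E J K u).map g) ≫ y) =
      (TotAcyc.G K).map g ≫ TotPush.theta₀ J K u L G y := by
  unfold TotPush.theta₀
  simp only [Equiv.trans_apply]
  rw [(TotAcyc.adjG J).homEquiv_naturality_left,
    (u.sheafAdjunctionContinuous (Type u) K J).homEquiv_naturality_left]
  exact (TotAcyc.adjG K).homEquiv_naturality_left_symm _ _

lemma theta_naturality_left {L L' : Sheaf K (Type u)} (g : L' ⟶ L)
    (G : Sheaf J AddCommGrpCat.{u})
    (y : (TotAcyc.G J).obj ((E J K u).obj L) ⟶ G) :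
    TotPush.theta J K u L' G ((TotAcyc.G J).map ((E J K u).map g) ≫ y) =
      (TotAcyc.G K).map g ≫ TotPush.theta J K u L G y :=
  theta₀_naturality_left J K u g G y

variable (N : SimplicialObject (Sheaf K (Type u))) (I : Sheaf J AddCommGrpCat.{u})

/-- the complex of free abelian sheaves on the pullback of a simplicial sheaf of sets -/
noncomputable abbrev Mc : ChainComplex (Sheaf J AddCommGrpCat.{u}) ℕ :=
  (alternatingFaceMapComplex _).obj (N ⋙ E J K u ⋙ TotAcyc.G J)

/-- the complex of free abelian sheaves on a simplicial sheaf of sets -/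
noncomputable abbrev Lc : ChainComplex (Sheaf K AddCommGrpCat.{u}) ℕ :=
  (alternatingFaceMapComplex _).obj (N ⋙ TotAcyc.G K)

/-- the adjunction bijection in each degree -/
noncomputable abbrev θ (n : ℕ) :
    ((Mc J K u N).X n ⟶ I) ≃+ ((Lc K N).X n ⟶ (CohSite.push J K u).obj I) :=
  TotPush.theta J K u (N _⦋n⦌) I

lemma θ_d (n : ℕ) (y : (Mc J K u N).X n ⟶ I) :
    θ J K u N I (n + 1) ((Mc J K u N).d (n + 1) n ≫ y) =
      (Lc K N).d (n + 1) n ≫ θ J K u N I n y := by
  rw [alternatingFaceMapComplex_obj_d, alternatingFaceMapComplex_obj_d]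
  unfold AlternatingFaceMapComplex.objD
  rw [Preadditive.sum_comp, Preadditive.sum_comp, map_sum]
  refine Finset.sum_congr rfl (fun i _ => ?_)
  rw [Preadditive.zsmul_comp, Preadditive.zsmul_comp, map_zsmul]
  congr 1
  exact theta_naturality_left J K u (N.δ i) I y

end theta


lemma exact_Mc [Epi f] (q : ℕ) :
    ((Mc J K u (Arrow.mk f).cechNerve).sc' (q + 2) (q + 1) q).Exact := by
  have hQ := quasiIso_EA J K u f
  have h := CechH.exactAt_succ_of_quasiIso (CechGen.X J (EA J K u f)) q
  rw [HomologicalComplex.exactAt_iff' _ (q + 2) (q + 1) q (by simp) (by simp)] at h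
  exact h

/-- the direct image of an injective abelian sheaf is Čech-acyclic -/
theorem cechAcyclic_push_of_injective (I : Sheaf J AddCommGrpCat.{u}) [Injective I] :
    TotAcyc.CechAcyclic ((CohSite.push J K u).obj I) := by
  intro K' L f hf q x hx
  obtain ⟨x', rfl⟩ := (θ J K u (Arrow.mk f).cechNerve I (q + 1)).surjective x
  have hx' : (Mc J K u (Arrow.mk f).cechNerve).d (q + 2) (q + 1) ≫ x' = 0 := by
    apply (θ J K u (Arrow.mk f).cechNerve I (q + 2)).injective
    rw [θ_d, map_zero]
    exact hx
  have hex := exact_Mc J K u f q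
  refine ⟨θ J K u (Arrow.mk f).cechNerve I q (hex.descToInjective x' hx'), ?_⟩
  rw [← θ_d]
  congr 1
  exact hex.comp_descToInjective x' hx'

/-- the direct image of an injective abelian sheaf is totally acyclic -/
theorem isTotallyAcyclic_push_of_injective (I : Sheaf J AddCommGrpCat.{u}) [Injective I] :
    CohCx.IsTotallyAcyclic ((CohSite.push J K u).obj I) := by
  intro L p
  exact subsingleton_of_forall_eq 0 fun x =>
    TotAcyc.ext_eq_zero_of_cechAcyclic p _ (cechAcyclic_push_of_injective J K u I) L x

/-- `H^{p+1}(V, u_* I) = 0` for `I` injective -/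
theorem subsingleton_HU_push_of_injective (I : Sheaf J AddCommGrpCat.{u}) [Injective I] (V : D)
    (p : ℕ) : Subsingleton (CohSite.HU ((CohSite.push J K u).obj I) (p + 1) V) :=
  Groth.Agent.S0864.result _ (isTotallyAcyclic_push_of_injective J K u I) V p

end Groth.Agent.Lib.Helper68.PushAcyc
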