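import Groth.Agent.Lib.Helper68.GSSDer7
import Groth.Agent.Lib.Helper68.PushAcyc
import Groth.Agent.Lib.Helper53.SitePush

/-! Leray spectral sequences on sites (relative form), via the Grothendieck spectral sequence. -/

set_option autoImplicit false
universe u
open CategoryTheory
open scoped ZeroObject
open CohSite

namespace Groth.Agent.Lib.Helper68.LeraySite

open CategoryTheory.Limits

section aux

variable {A B : Type*} [Category A] [Category B] [Abelian A] [Abelian B] [HasInjectiveResolutions A]

/-- isomorphic functors have isomorphic right derived functors -/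
noncomputable def rightDerivedIsoOfIso {F G : A ⥤ B} [F.Additive] [G.Additive] (e : F ≅ G) (n : ℕ) :
    F.rightDerived n ≅ G.rightDerived n where
  hom := NatTrans.rightDerived e.hom n
  inv := NatTrans.rightDerived e.inv n
  hom_inv_id := by rw [← NatTrans.rightDerived_comp, e.hom_inv_id, NatTrans.rightDerived_id]
  inv_hom_id := by rw [← NatTrans.rightDerived_comp, e.inv_hom_id, NatTrans.rightDerived_id]

end aux

variable {C D B : Type u} [SmallCategory C] [SmallCategory D] [SmallCategory B]
  (J : GrothendieckTopology C) (K : GrothendieckTopology D) (L : GrothendieckTopology B)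
  (u : D ⥤ C) [u.IsContinuous K J] (w : B ⥤ D) [w.IsContinuous L K]

instance : PreservesFiniteLimits (CohSite.push K L w) := by
  haveI : (CohSite.push K L w).IsRightAdjoint := inferInstance
  infer_instance

/-- `R^q w_* G = 0` if `H^q(wW, G) = 0` for all `W` -/
lemma isZero_Rpush_of_subsingleton (G : Sheaf K AddCommGrpCat.{u}) (q : ℕ)
    (h : ∀ W : B, Subsingleton (CohSite.HU G q (w.obj W))) :
    IsZero ((CohSite.Rpush K L w q).obj G) := by
  obtain ⟨e⟩ := Groth.Agent.Lib.Helper53.SiteCoh.nonempty_Rpush_iso K L w G q
  refine IsZero.of_iso ?_ e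
  apply Functor.map_isZero
  rw [Functor.isZero_iff]
  intro W
  haveI : Subsingleton ((w.op ⋙ G.cohomologyPresheaf q).obj W) := h W.unop
  exact AddCommGrpCat.isZero_of_subsingleton _


/-- the composite of direct images is the direct image of the composite -/
noncomputable def pushCompIso [(w ⋙ u).IsContinuous L J] :
    CohSite.push J K u ⋙ CohSite.push K L w ≅ CohSite.push J L (w ⋙ u) :=
  NatIso.ofComponents (fun F => (sheafToPresheaf L _).preimageIso (Iso.refl _)) (by
    intro X Y f
    apply (sheafToPresheaf L _).map_injective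
    simp only [Functor.map_comp, Functor.preimageIso_hom, Functor.map_preimage, Iso.refl_hom]
    ext W : 2
    simp only [NatTrans.comp_app, NatTrans.id_app]
    erw [Category.comp_id])

theorem relativeLeray {C D B : Type u} [SmallCategory C] [SmallCategory D]
    [SmallCategory B] (J : GrothendieckTopology C) (K : GrothendieckTopology D) (L : GrothendieckTopology B)
    (u : D ⥤ C) [u.IsContinuous K J] [PreservesFiniteLimits (u.sheafPullback (Type u) K J)]
    (w : B ⥤ D) [w.IsContinuous L K]
    [(w ⋙ u).IsContinuous L J] (M : Sheaf J AddCommGrpCat.{u}) :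
    ∃ (E : E₂CohomologicalSpectralSequence (Sheaf L AddCommGrpCat.{u}))
      (a : SpSeq.Abutment E (fun n : ℤ =>
        if 0 ≤ n then (CohSite.Rpush J L (w ⋙ u) n.toNat).obj M else 0)),
      (∀ n, a.IsFinite n) ∧ SpSeq.IsBounded E ∧
      ∀ p q : ℤ, Nonempty ((E.page 2 le_rfl).X (p, q) ≅
        (if 0 ≤ p ∧ 0 ≤ q then (CohSite.Rpush K L w p.toNat).obj ((CohSite.Rpush J K u q.toNat).obj M) else 0)) := by
  have hT : ∀ Q : Sheaf J AddCommGrpCat.{u}, Injective Q → ∀ q : ℕ, 0 < q →
      IsZero (((CohSite.push K L w).rightDerived q).obj ((CohSite.push J K u).obj Q)) := by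
    intro Q hQ q hq
    obtain ⟨q, rfl⟩ : ∃ q', q = q' + 1 := ⟨q - 1, by lia⟩
    exact isZero_Rpush_of_subsingleton K L w _ (q + 1) (fun W =>
      Groth.Agent.Lib.Helper68.PushAcyc.subsingleton_HU_push_of_injective J K u Q (w.obj W) q)
  exact Groth.Agent.Lib.Helper68.GSSDer.exists_spectralSequence_of_iso
    (CohSite.push J K u) (CohSite.push K L w) hT M _
    (fun n hn => (rightDerivedIsoOfIso (pushCompIso J K L u w) n.toNat).app M ≪≫
      eqToIso (by rw [if_pos hn]))
    (fun n hn => by rw [if_neg (by lia)]; exact isZero_zero _)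

end Groth.Agent.Lib.Helper68.LeraySite
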