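import Groth.Agent.Lib.Helper68.LeraySite

/-! The Leray spectral sequence on sites (absolute form). -/

set_option autoImplicit false
universe u
open CategoryTheory
open scoped ZeroObject
open CohSite

namespace Groth.Agent.Lib.Helper68.LeraySite

open CategoryTheory.Limits Opposite
open Groth.Agent.Lib.Helper53.SiteCoh

variable {D : Type u} [SmallCategory D] (K : GrothendieckTopology D) (V : D)

/-- sections over `V` of abelian sheaves -/
noncomputable abbrev secF : Sheaf K AddCommGrpCat.{u} ⥤ AddCommGrpCat.{u} :=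
  sheafToPresheaf K AddCommGrpCat.{u} ⋙ (evaluation Dᵒᵖ AddCommGrpCat.{u}).obj (op V)

instance : (secF K V).Additive := inferInstance
instance : PreservesFiniteLimits (secF K V) := inferInstance

/-- `R^p Γ(V, -) (G) = H^p(V, G)` -/
theorem nonempty_rightDerived_secF_iso (G : Sheaf K AddCommGrpCat.{u}) (p : ℕ) :
    Nonempty (((secF K V).rightDerived p).obj G ≅ AddCommGrpCat.of (CohSite.HU G p V)) := by
  let I := injectiveResolution G
  let ι := sheafToPresheaf K AddCommGrpCat.{u}
  let ev := (evaluation Dᵒᵖ AddCommGrpCat.{u}).obj (op V)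
  let Lx := (ι.mapHomologicalComplex _).obj I.cocomplex
  let e1 : ((secF K V).rightDerived p).obj G ≅
      ((ev.mapHomologicalComplex _).obj Lx).homology p := I.isoRightDerivedObj (secF K V) p
  let e2 : ((ev.mapHomologicalComplex _).obj Lx).homology p ≅ ev.obj (Lx.homology p) :=
    mapHomologyIsoOfExact ev Lx p
  let e3 : Lx.homology p ≅ (ι.rightDerived p).obj G := (I.isoRightDerivedObj ι p).symm
  obtain ⟨e4⟩ := nonempty_rightDerived_sheafToPresheaf_iso K G p
  exact ⟨e1 ≪≫ e2 ≪≫ ev.mapIso (e3 ≪≫ e4)⟩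


variable {C : Type u} [SmallCategory C] (J : GrothendieckTopology C) (u : D ⥤ C)
  [u.IsContinuous K J]

/-- sections of the direct image -/
noncomputable def pushSecIso : CohSite.push J K u ⋙ secF K V ≅ secF J (u.obj V) :=
  NatIso.ofComponents (fun F => Iso.refl _)

theorem leray [PreservesFiniteLimits (u.sheafPullback (Type u) K J)]
    (M : Sheaf J AddCommGrpCat.{u}) :
    ∃ (E : E₂CohomologicalSpectralSequence AddCommGrpCat.{u})
      (a : SpSeq.Abutment E (fun n : ℤ =>
        if 0 ≤ n then AddCommGrpCat.of (CohSite.HU M n.toNat (u.obj V))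
        else AddCommGrpCat.of PUnit.{u + 1})),
      (∀ n, a.IsFinite n) ∧ SpSeq.IsBounded E ∧
      ∀ p q : ℤ, Nonempty ((E.page 2 le_rfl).X (p, q) ≅
        (if 0 ≤ p ∧ 0 ≤ q then
          AddCommGrpCat.of (CohSite.HU ((CohSite.Rpush J K u q.toNat).obj M) p.toNat V)
         else AddCommGrpCat.of PUnit.{u + 1})) := by
  have hT : ∀ Q : Sheaf J AddCommGrpCat.{u}, Injective Q → ∀ q : ℕ, 0 < q →
      IsZero (((secF K V).rightDerived q).obj ((CohSite.push J K u).obj Q)) := by
    intro Q hQ q hq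
    obtain ⟨q, rfl⟩ : ∃ q', q = q' + 1 := ⟨q - 1, by lia⟩
    obtain ⟨e⟩ := nonempty_rightDerived_secF_iso K V ((CohSite.push J K u).obj Q) (q + 1)
    refine IsZero.of_iso ?_ e
    haveI := Groth.Agent.Lib.Helper68.PushAcyc.subsingleton_HU_push_of_injective J K u Q V q
    exact AddCommGrpCat.isZero_of_subsingleton _
  obtain ⟨E, a, ha, hb, hE⟩ := Groth.Agent.Lib.Helper68.GSSDer.exists_spectralSequence_of_iso
    (CohSite.push J K u) (secF K V) hT M
    (fun n : ℤ => if 0 ≤ n then AddCommGrpCat.of (CohSite.HU M n.toNat (u.obj V))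
        else AddCommGrpCat.of PUnit.{u + 1})
    (fun n hn => (rightDerivedIsoOfIso (pushSecIso K V J u) n.toNat).app M ≪≫
      (nonempty_rightDerived_secF_iso J (u.obj V) M n.toNat).some ≪≫
      eqToIso (by rw [if_pos hn]))
    (fun n hn => by
      rw [if_neg (by lia)]
      exact AddCommGrpCat.isZero_of_subsingleton _)
  refine ⟨E, a, ha, hb, fun p q => ?_⟩
  obtain ⟨e⟩ := hE p q
  by_cases hpq : 0 ≤ p ∧ 0 ≤ q
  · rw [if_pos hpq] at e ⊢
    obtain ⟨e'⟩ := nonempty_rightDerived_secF_iso K V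
      ((CohSite.Rpush J K u q.toNat).obj M) p.toNat
    exact ⟨e ≪≫ e'⟩
  · rw [if_neg hpq] at e ⊢
    exact ⟨e ≪≫ (isZero_zero _).iso (AddCommGrpCat.isZero_of_subsingleton _)⟩

end Groth.Agent.Lib.Helper68.LeraySite
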