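import Groth.Agent.Lib.Helper68.LeraySite2
import Groth.Agent.Lib.Helper68.AcycTransfer

/-! Direct images of acyclic sheaves are acyclic. -/

set_option autoImplicit false
universe u
open CategoryTheory
open scoped ZeroObject
open CohSite

namespace Groth.Agent.Lib.Helper68.LeraySite

open CategoryTheory.Limits Opposite
open Groth.Agent.Lib.Helper53.SiteCoh

variable {C D : Type u} [SmallCategory C] [SmallCategory D]
  (J : GrothendieckTopology C) (K : GrothendieckTopology D) (u : D ⥤ C) [u.IsContinuous K J]

theorem subsingleton_HU_push [PreservesFiniteLimits (u.sheafPullback (Type u) K J)]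
    (F : Sheaf J AddCommGrpCat.{u})
    (hF : ∀ (U : C) (q : ℕ), Subsingleton (CohSite.HU F (q + 1) U)) (V : D) (q : ℕ) :
    Subsingleton (CohSite.HU ((CohSite.push J K u).obj F) (q + 1) V) := by
  have hT : ∀ Q : Sheaf J AddCommGrpCat.{u}, Injective Q → ∀ q : ℕ,
      IsZero (((secF K V).rightDerived (q + 1)).obj ((CohSite.push J K u).obj Q)) := by
    intro Q hQ q
    obtain ⟨e⟩ := nonempty_rightDerived_secF_iso K V ((CohSite.push J K u).obj Q) (q + 1)
    refine IsZero.of_iso ?_ e
    haveI := Groth.Agent.Lib.Helper68.PushAcyc.subsingleton_HU_push_of_injective J K u Q V q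
    exact AddCommGrpCat.isZero_of_subsingleton _
  have hP : AcycTransfer.P (CohSite.push J K u) (secF J (u.obj V)) F := by
    refine ⟨fun q => ?_, fun q => ?_⟩
    · exact isZero_Rpush_of_subsingleton J K u F (q + 1) (fun W => hF (u.obj W) q)
    · obtain ⟨e⟩ := nonempty_rightDerived_secF_iso J (u.obj V) F (q + 1)
      refine IsZero.of_iso ?_ e
      haveI := hF (u.obj V) q
      exact AddCommGrpCat.isZero_of_subsingleton _
  have h := AcycTransfer.isZero_rightDerived_comp (CohSite.push J K u) (secF K V)
    (secF J (u.obj V)) (pushSecIso K V J u) hT q F hP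
  obtain ⟨e⟩ := nonempty_rightDerived_secF_iso K V ((CohSite.push J K u).obj F) (q + 1)
  exact AddCommGrpCat.subsingleton_of_isZero (h.of_iso e.symm)

end Groth.Agent.Lib.Helper68.LeraySite
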