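import Mathlib
import Groth.Prelude.Def_LieS
import Groth.Agent.S12627
import Groth.Agent.S8034

/-!
# helper68: K5 for helper65's S11898
-/

set_option autoImplicit false
universe u

open CategoryTheory CategoryTheory.Limits MonoidalCategory CartesianMonoidalCategory MonObj GrpObj
  AlgebraicGeometry
open IsLocalRing
open Groth.Agent.Lib.Helper19 Groth.Agent.Lib.Helper19.Cartier
open Groth.Agent.S12627

namespace Groth.Agent.Lib.Helper68.LieKerK5

theorem K5 {S : Scheme.{u}} {A B C : Over S} [GrpObj A] [GrpObj B] [GrpObj C] (i : B ⟶ C)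
    [IsMonHom i] (α : C ⟶ A) [IsMonHom α] (hK : IsPullback i (toUnit B) α η[A]) (R : Type u)
    [CommRing R] (t : Spec (CommRingCat.of R) ⟶ S) :
    Function.Injective (LieS.map R t i) ∧ (LieS.map R t α).ker = (LieS.map R t i).range := by
  have hmap : ∀ {G H : Over S} [GrpObj G] [GrpObj H] (φ : G ⟶ H) [IsMonHom φ]
      (v : LieS.Lie G R t), (LieS.map R t φ v).1 = v.1 ≫ φ := by
    intro G H _ _ φ _ v
    rfl
  constructor
  · intro v w h
    apply Subtype.ext
    apply hK.hom_ext
    · have := congrArg Subtype.val h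
      rwa [hmap, hmap] at this
    · exact toUnit_unique _ _
  · ext w
    rw [MonoidHom.mem_ker, MonoidHom.mem_range]
    constructor
    · intro hw
      have hw' : w.1 ≫ α = 1 := by
        have := congrArg Subtype.val hw
        rwa [hmap] at this
      have hcond : w.1 ≫ α = toUnit _ ≫ η[A] := by rw [hw', Hom.one_def]
      let v := hK.lift w.1 (toUnit _) hcond
      have hv : v ≫ i = w.1 := hK.lift_fst _ _ _
      have hvmem : v ∈ LieS.Lie B R t := by
        rw [LieS.mem_Lie_iff]
        apply hK.hom_ext
        · rw [Category.assoc, hv, (LieS.mem_Lie_iff C R t w.1).1 w.2]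
          exact ((IsMonHom.monoidHom i (LieS.pt R t)).map_one).symm
        · exact toUnit_unique _ _
      refine ⟨⟨v, hvmem⟩, ?_⟩
      apply Subtype.ext
      rw [hmap]
      exact hv
    · rintro ⟨v, rfl⟩
      apply Subtype.ext
      rw [hmap, hmap, Category.assoc, hK.w, ← Category.assoc]
      rw [toUnit_unique (v.1 ≫ toUnit B) (toUnit _), ← Hom.one_def]
      rfl

end Groth.Agent.Lib.Helper68.LieKerK5
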