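import Mathlib
import Groth.Agent.Lib.Helper51.MS2Defs
import Groth.Agent.Lib.Helper55.GR.Final

/-!
# helper68: pieces of MB (model with flatness) for helper51's S14068
-/

set_option autoImplicit false
universe u

open TensorProduct

namespace Groth.Agent.Lib.Helper68.MS2MBa

attribute [local instance] Algebra.TensorProduct.rightAlgebra

/-- (a) flatness of `B' ⊗[B₁] C₁` over `B' := A ⊗[A₁] B₁`. -/
theorem flat_tensor_of_model {A B C : Type u} [CommRing A] [CommRing B] [CommRing C]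
    [Algebra A B] [Algebra B C] [Algebra A C] [IsScalarTower A B C] [Module.Flat B C]
    (A₁ : Subalgebra ℤ A) {B₁ C₁ : Type u} [CommRing B₁] [CommRing C₁] [Algebra A₁ B₁]
    [Algebra A₁ C₁] [Algebra B₁ C₁] [IsScalarTower A₁ B₁ C₁]
    (eB : A ⊗[A₁] B₁ ≃ₐ[A] B) (eC : A ⊗[A₁] C₁ ≃ₐ[A] C)
    (hcompat : ∀ x, eC (Algebra.TensorProduct.map (AlgHom.id A A)
      (IsScalarTower.toAlgHom A₁ B₁ C₁) x) = algebraMap B C (eB x)) :
    Module.Flat (A ⊗[A₁] B₁) ((A ⊗[A₁] B₁) ⊗[B₁] C₁) := by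
  suffices h : (algebraMap (A ⊗[↥A₁] B₁) ((A ⊗[↥A₁] B₁) ⊗[B₁] C₁)).Flat by
    have := RingHom.flat_algebraMap_iff.mp h
    exact this
  have hst : IsScalarTower (↥A₁) B₁ (A ⊗[↥A₁] B₁) := Algebra.TensorProduct.right_isScalarTower
  have hpo : Algebra.IsPushout (↥A₁) A B₁ (A ⊗[↥A₁] B₁) := TensorProduct.isPushout
  let Ψ := Algebra.IsPushout.cancelBaseChangeAlg (↥A₁) A B₁ (A ⊗[↥A₁] B₁) C₁
  have h1 := Algebra.IsPushout.cancelBaseChange_symm_comp_lTensor (↥A₁) B₁ C₁ A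
  have hfl : (algebraMap B C).Flat := RingHom.flat_algebraMap_iff.mpr inferInstance
  have key : algebraMap (A ⊗[↥A₁] B₁) ((A ⊗[↥A₁] B₁) ⊗[B₁] C₁) =
      (Ψ.symm.toRingEquiv.toRingHom.comp eC.symm.toRingEquiv.toRingHom).comp
        ((algebraMap B C).comp eB.toRingEquiv.toRingHom) := by
    refine RingHom.ext fun x => ?_
    have h2 := congrArg (fun f => f x) h1
    simp only [AlgHom.comp_apply] at h2
    change _ = Ψ.symm (eC.symm (algebraMap B C (eB x)))
    rw [← hcompat x, AlgEquiv.symm_apply_apply]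
    exact h2.symm
  rw [key]
  refine RingHom.Flat.comp (RingHom.Flat.comp (RingHom.Flat.of_bijective eB.bijective) hfl) ?_
  exact RingHom.Flat.of_bijective (Ψ.symm.toRingEquiv.bijective.comp eC.symm.bijective)

end Groth.Agent.Lib.Helper68.MS2MBa
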