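import Mathlib
import Groth.Agent.Lib.Helper51.MS2Defs
import Groth.Agent.Lib.Helper55.GR.Final
import Groth.Agent.Lib.Helper55.FL.GlobalDescent
import Groth.Agent.Lib.Helper68.MS2MBa

/-!
# helper68: MB (model with flatness) for helper51's S14068
-/

set_option autoImplicit false
universe u

open TensorProduct

namespace Groth.Agent.Lib.Helper68.MS2MB

attribute [local instance] Algebra.TensorProduct.rightAlgebra

section generic

variable {k A B₁ C₁ : Type u} [CommRing k] [CommRing A] [CommRing B₁] [CommRing C₁]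
  [Algebra k A] [Algebra k B₁] [Algebra k C₁] [Algebra B₁ C₁] [IsScalarTower k B₁ C₁]
  (A₃ : Type u) [CommRing A₃] [Algebra k A₃] [Algebra A₃ A] [IsScalarTower k A₃ A]

/-- the comparison map `A₃ ⊗[k] B₁ → A ⊗[k] B₁`, as a `B₁`-algebra map -/
noncomputable def fB : A₃ ⊗[k] B₁ →ₐ[B₁] A ⊗[k] B₁ :=
  { (Algebra.TensorProduct.map (IsScalarTower.toAlgHom k A₃ A) (AlgHom.id k B₁)).toRingHom with
    commutes' := fun b => by
      simp [Algebra.TensorProduct.right_algebraMap_apply] }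

@[simp]
lemma fB_tmul (a : A₃) (b : B₁) :
    fB (k := k) (A := A) A₃ (a ⊗ₜ[k] b) = algebraMap A₃ A a ⊗ₜ[k] b := by
  simp [fB]

lemma fB_injective [Module.Flat k B₁] (hinj : Function.Injective (algebraMap A₃ A)) :
    Function.Injective (fB (k := k) (A := A) (B₁ := B₁) A₃) := by
  have h := Module.Flat.rTensor_preserves_injective_linearMap (M := B₁)
    (IsScalarTower.toAlgHom k A₃ A).toLinearMap hinj
  intro x y hxy
  apply h
  have key : ∀ z : A₃ ⊗[k] B₁,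
      LinearMap.rTensor B₁ (IsScalarTower.toAlgHom k A₃ A).toLinearMap z = fB A₃ z := by
    intro z
    induction z using TensorProduct.induction_on with
    | zero => simp
    | tmul a b => simp
    | add x y hx hy => rw [map_add, map_add, hx, hy]
  rw [key, key, hxy]

theorem flat_of_le_range [Module.Flat k B₁] (hinj : Function.Injective (algebraMap A₃ A))
    (R₄ : Subalgebra B₁ (A ⊗[k] B₁)) (hR₄ : Module.Flat R₄ (R₄ ⊗[B₁] C₁))
    (hle : R₄ ≤ (fB (k := k) (A := A) (B₁ := B₁) A₃).range) :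
    Module.Flat (A₃ ⊗[k] B₁) ((A₃ ⊗[k] B₁) ⊗[B₁] C₁) := by
  have hf := fB_injective (k := k) (A := A) (B₁ := B₁) A₃ hinj
  let e := AlgEquiv.ofInjective (fB (k := k) (A := A) (B₁ := B₁) A₃) hf
  let ψ : R₄ →ₐ[B₁] A₃ ⊗[k] B₁ := e.symm.toAlgHom.comp (Subalgebra.inclusion hle)
  letI : Algebra R₄ (A₃ ⊗[k] B₁) := ψ.toRingHom.toAlgebra
  haveI : IsScalarTower B₁ R₄ (A₃ ⊗[k] B₁) :=
    IsScalarTower.of_algebraMap_eq (fun b => (ψ.commutes b).symm)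
  have h1 : Module.Flat (A₃ ⊗[k] B₁) ((A₃ ⊗[k] B₁) ⊗[R₄] (R₄ ⊗[B₁] C₁)) := inferInstance
  exact Module.Flat.of_linearEquiv (TensorProduct.AlgebraTensorModule.cancelBaseChange B₁ R₄
    (A₃ ⊗[k] B₁) (A₃ ⊗[k] B₁) C₁).symm

end generic

section assembly

variable {k A B C B₁ C₁ : Type u} [CommRing k] [CommRing A] [CommRing B] [CommRing C]
  [CommRing B₁] [CommRing C₁]
  [Algebra k A] [Algebra A B] [Algebra B C] [Algebra A C] [IsScalarTower A B C]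
  [Algebra k B₁] [Algebra k C₁] [Algebra B₁ C₁] [IsScalarTower k B₁ C₁]
  (eB : A ⊗[k] B₁ ≃ₐ[A] B) (eC : A ⊗[k] C₁ ≃ₐ[A] C)
  (hcompat : ∀ x, eC (Algebra.TensorProduct.map (AlgHom.id A A)
    (IsScalarTower.toAlgHom k B₁ C₁) x) = algebraMap B C (eB x))
  (A₃ : Type u) [CommRing A₃] [Algebra k A₃] [Algebra A₃ A] [IsScalarTower k A₃ A]

/-- `(A₃ ⊗ B₁) ⊗[B₁] C₁ ≃ A₃ ⊗ C₁` -/
noncomputable def Ψ₃ : (A₃ ⊗[k] B₁) ⊗[B₁] C₁ ≃ₐ[A₃] A₃ ⊗[k] C₁ :=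
  Algebra.IsPushout.cancelBaseChangeAlg k A₃ B₁ (A₃ ⊗[k] B₁) C₁

lemma Ψ₃_tmul_one (y : A₃ ⊗[k] B₁) :
    Ψ₃ (k := k) (C₁ := C₁) A₃ (y ⊗ₜ[B₁] (1 : C₁)) =
      Algebra.TensorProduct.map (AlgHom.id A₃ A₃) (IsScalarTower.toAlgHom k B₁ C₁) y := by
  have h1 := Algebra.IsPushout.cancelBaseChange_symm_comp_lTensor k B₁ C₁ A₃
  have h2 := congrArg (fun f => f y) h1
  simp only [AlgHom.comp_apply] at h2
  rw [Ψ₃]
  have h4 : (Algebra.IsPushout.cancelBaseChangeAlg k A₃ B₁ (A₃ ⊗[k] B₁) C₁).symm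
      ((Algebra.TensorProduct.lTensor A₃ (IsScalarTower.toAlgHom k B₁ C₁)) y) =
      y ⊗ₜ[B₁] (1 : C₁) := h2
  rw [← h4]
  exact AlgEquiv.apply_symm_apply _ _

/-- the comparison map `A₃ ⊗[k] C₁ → A ⊗[k] C₁` -/
noncomputable def fC : A₃ ⊗[k] C₁ →ₐ[k] A ⊗[k] C₁ :=
  Algebra.TensorProduct.map (IsScalarTower.toAlgHom k A₃ A) (AlgHom.id k C₁)

lemma cancel_one_tmul (D : Type u) [CommRing D] [Algebra k D] (z : A₃ ⊗[k] D) :
    Algebra.TensorProduct.cancelBaseChange k A₃ A A D ((1 : A) ⊗ₜ[A₃] z) =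
      Algebra.TensorProduct.map (IsScalarTower.toAlgHom k A₃ A) (AlgHom.id k D) z := by
  induction z using TensorProduct.induction_on with
  | zero => simp
  | tmul a c =>
    rw [Algebra.TensorProduct.cancelBaseChange_tmul, Algebra.TensorProduct.map_tmul,
      Algebra.smul_def, mul_one]
    rfl
  | add x y hx hy => rw [TensorProduct.tmul_add, map_add, map_add, hx, hy]

include hcompat in
theorem assembly [Algebra.IsStandardSmooth k B₁] [Algebra.FiniteType B₁ C₁]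
    (hfl : Module.Flat (A₃ ⊗[k] B₁) ((A₃ ⊗[k] B₁) ⊗[B₁] C₁)) (t : C) (t' : A₃ ⊗[k] C₁)
    (ht' : eC (Algebra.TensorProduct.map (IsScalarTower.toAlgHom k A₃ A) (AlgHom.id k C₁) t') = t) :
    ∃ (B₃ C₃ : Type u) (_ : CommRing B₃) (_ : CommRing C₃) (_ : Algebra A₃ B₃)
      (_ : Algebra B₃ C₃) (_ : Algebra A₃ C₃) (_ : IsScalarTower A₃ B₃ C₃)
      (eB₃ : A ⊗[A₃] B₃ ≃+* B) (eC₃ : A ⊗[A₃] C₃ ≃+* C) (t₃ : C₃),
      Algebra.IsStandardSmooth A₃ B₃ ∧ Module.Flat B₃ C₃ ∧ Algebra.FiniteType B₃ C₃ ∧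
      (∀ a : A, eB₃ (a ⊗ₜ 1) = algebraMap A B a) ∧
      (∀ x, eC₃ (Algebra.TensorProduct.map (AlgHom.id A A)
        (IsScalarTower.toAlgHom A₃ B₃ C₃) x) = algebraMap B C (eB₃ x)) ∧
      eC₃ (1 ⊗ₜ t₃) = t := by
  let eB₃ : A ⊗[A₃] (A₃ ⊗[k] B₁) ≃ₐ[A] B :=
    (Algebra.TensorProduct.cancelBaseChange k A₃ A A B₁).trans eB
  let eC₃ : A ⊗[A₃] ((A₃ ⊗[k] B₁) ⊗[B₁] C₁) ≃ₐ[A] C :=
    ((Algebra.TensorProduct.congr (AlgEquiv.refl (R := A) (A₁ := A))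
      (Ψ₃ (k := k) (B₁ := B₁) (C₁ := C₁) A₃)).trans
      (Algebra.TensorProduct.cancelBaseChange k A₃ A A C₁)).trans eC
  refine ⟨A₃ ⊗[k] B₁, (A₃ ⊗[k] B₁) ⊗[B₁] C₁, inferInstance, inferInstance, inferInstance,
    inferInstance, inferInstance, inferInstance, eB₃.toRingEquiv, eC₃.toRingEquiv,
    (Ψ₃ (k := k) (B₁ := B₁) (C₁ := C₁) A₃).symm t', inferInstance, hfl, inferInstance, ?_, ?_, ?_⟩
  · intro a
    change eB₃ (a ⊗ₜ 1) = _
    have : (a ⊗ₜ[A₃] (1 : A₃ ⊗[k] B₁)) = algebraMap A (A ⊗[A₃] (A₃ ⊗[k] B₁)) a := rfl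
    rw [this, AlgEquiv.commutes]
  · intro x
    change eC₃ _ = algebraMap B C (eB₃ x)
    induction x using TensorProduct.induction_on with
    | zero => simp
    | tmul a y =>
      simp only [eC₃, eB₃, AlgEquiv.trans_apply, Algebra.TensorProduct.map_tmul, AlgHom.id_apply,
        Algebra.TensorProduct.congr_apply, AlgEquiv.coe_toAlgHom, AlgEquiv.coe_refl, id_eq,
        IsScalarTower.coe_toAlgHom']
      have h1 : algebraMap (A₃ ⊗[k] B₁) ((A₃ ⊗[k] B₁) ⊗[B₁] C₁) y = y ⊗ₜ[B₁] (1 : C₁) := rfl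
      rw [h1, Ψ₃_tmul_one, ← hcompat]
      congr 1
      clear h1
      induction y using TensorProduct.induction_on with
      | zero => simp
      | tmul a₃ b => simp
      | add y z hy hz => simp only [TensorProduct.tmul_add, map_add, hy, hz]
    | add x y hx hy => simp only [map_add, hx, hy]
  · change eC₃ (1 ⊗ₜ _) = t
    simp only [eC₃, AlgEquiv.trans_apply, Algebra.TensorProduct.congr_apply,
      Algebra.TensorProduct.map_tmul, AlgEquiv.coe_toAlgHom, AlgEquiv.coe_refl, id_eq]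
    rw [← ht']
    congr 1
    have : ((Ψ₃ (k := k) (B₁ := B₁) (C₁ := C₁) A₃ : _ →ₐ[A₃] _))
        ((Ψ₃ (k := k) (B₁ := B₁) (C₁ := C₁) A₃).symm t') = t' := AlgEquiv.apply_symm_apply _ _
    erw [this]
    exact cancel_one_tmul A₃ C₁ t'

end assembly

open Groth.Agent.Lib.Helper51.MultiSecDescent Groth.Agent.Lib.Helper51.MS2 in
theorem exists_model_of_premodel {A B C : Type u} [CommRing A] [CommRing B] [CommRing C]
    [Algebra A B] [Algebra B C] [Algebra A C] [IsScalarTower A B C] [Module.Flat B C]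
    (A₁ : Subalgebra ℤ A) (hA₁ : A₁.FG) {B₁ C₁ : Type u} [CommRing B₁] [CommRing C₁]
    [Algebra A₁ B₁] [Algebra A₁ C₁] [Algebra B₁ C₁] [IsScalarTower A₁ B₁ C₁]
    [Algebra.IsStandardSmooth A₁ B₁] [Algebra.FiniteType B₁ C₁]
    (eB : A ⊗[A₁] B₁ ≃ₐ[A] B) (eC : A ⊗[A₁] C₁ ≃ₐ[A] C)
    (hcompat : ∀ x, eC (Algebra.TensorProduct.map (AlgHom.id A A)
      (IsScalarTower.toAlgHom A₁ B₁ C₁) x) = algebraMap B C (eB x)) (t : C) :
    ∃ (A₃ : Subalgebra ℤ A) (B₃ C₃ : Type u) (_ : CommRing B₃) (_ : CommRing C₃)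
      (_ : Algebra A₃ B₃) (_ : Algebra B₃ C₃) (_ : Algebra A₃ C₃) (_ : IsScalarTower A₃ B₃ C₃)
      (eB₃ : A ⊗[A₃] B₃ ≃+* B) (eC₃ : A ⊗[A₃] C₃ ≃+* C) (t₃ : C₃),
      A₃.FG ∧ Algebra.IsStandardSmooth A₃ B₃ ∧ Module.Flat B₃ C₃ ∧ Algebra.FiniteType B₃ C₃ ∧
      (∀ a : A, eB₃ (a ⊗ₜ 1) = algebraMap A B a) ∧
      (∀ x, eC₃ (Algebra.TensorProduct.map (AlgHom.id A A)
        (IsScalarTower.toAlgHom A₃ B₃ C₃) x) = algebraMap B C (eB₃ x)) ∧
      eC₃ (1 ⊗ₜ t₃) = t := by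
  classical
  have hA₁ft : Algebra.FiniteType ℤ A₁ := (Subalgebra.fg_iff_finiteType A₁).1 hA₁
  have hN1 : IsNoetherianRing A₁ := Algebra.FiniteType.isNoetherianRing ℤ A₁
  have hN2 : IsNoetherianRing B₁ := Algebra.FiniteType.isNoetherianRing A₁ B₁
  have hfl := Groth.Agent.Lib.Helper68.MS2MBa.flat_tensor_of_model A₁ eB eC hcompat
  obtain ⟨R₄, hR₄fg, hR₄fl⟩ := Groth.Agent.Lib.Helper55.FL.exists_fg_flat (k := B₁)
    (R := A ⊗[A₁] B₁) (N := C₁) hfl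
  obtain ⟨s, hs⟩ := hR₄fg
  have hrep : ∀ x : A ⊗[A₁] B₁, ∃ S : Finset (A × B₁), x = ∑ i ∈ S, i.1 ⊗ₜ[A₁] i.2 :=
    fun x => TensorProduct.exists_finset x
  choose Sx hSx using hrep
  obtain ⟨St, hSt⟩ := TensorProduct.exists_finset (eC.symm t)
  let T : Finset A := (s.biUnion (fun x => (Sx x).image Prod.fst)) ∪ St.image Prod.fst
  let A₃ : Subalgebra ℤ A := A₁ ⊔ Algebra.adjoin ℤ (T : Set A)
  have hle : A₁ ≤ A₃ := le_sup_left
  have hT : ∀ a ∈ T, a ∈ A₃ := fun a ha =>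
    (le_sup_right : Algebra.adjoin ℤ (T : Set A) ≤ A₃) (Algebra.subset_adjoin ha)
  have hA₃fg : A₃.FG := hA₁.sup (Subalgebra.fg_adjoin_finset T)
  letI : Algebra A₁ A₃ := (Subalgebra.inclusion hle).toRingHom.toAlgebra
  haveI : IsScalarTower A₁ A₃ A := IsScalarTower.of_algebraMap_eq (fun x => rfl)
  have hinj : Function.Injective (algebraMap A₃ A) := Subtype.val_injective
  have hflat₁ : Module.Flat A₁ B₁ := inferInstance
  have hrange : R₄ ≤ (fB (k := A₁) (A := A) (B₁ := B₁) A₃).range := by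
    rw [← hs]
    apply Algebra.adjoin_le
    intro x hx
    rw [SetLike.mem_coe, hSx x]
    apply Subalgebra.sum_mem
    intro i hi
    have hi' : i.1 ∈ T := Finset.mem_union_left _
      (Finset.mem_biUnion.mpr ⟨x, hx, Finset.mem_image_of_mem _ hi⟩)
    exact ⟨(⟨i.1, hT _ hi'⟩ : A₃) ⊗ₜ[A₁] i.2,
      (fB_tmul (k := A₁) (A := A) (B₁ := B₁) A₃ (⟨i.1, hT _ hi'⟩ : A₃) i.2).trans rfl⟩
  have hfl₃ := flat_of_le_range (k := A₁) (A := A) (B₁ := B₁) (C₁ := C₁) A₃ hinj R₄ hR₄fl hrange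
  have ht' : eC.symm t ∈ (fC (k := A₁) (A := A) (C₁ := C₁) A₃).range := by
    rw [hSt]
    apply Subalgebra.sum_mem
    intro i hi
    have hi' : i.1 ∈ T := Finset.mem_union_right _ (Finset.mem_image_of_mem _ hi)
    exact ⟨(⟨i.1, hT _ hi'⟩ : A₃) ⊗ₜ[A₁] i.2,
      (Algebra.TensorProduct.map_tmul (IsScalarTower.toAlgHom A₁ A₃ A) (AlgHom.id A₁ C₁)
        (⟨i.1, hT _ hi'⟩ : A₃) i.2).trans rfl⟩
  obtain ⟨t', ht'⟩ := ht'
  have ht'' : eC (Algebra.TensorProduct.map (IsScalarTower.toAlgHom A₁ A₃ A) (AlgHom.id A₁ C₁) t')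
      = t := by
    have : Algebra.TensorProduct.map (IsScalarTower.toAlgHom A₁ A₃ A) (AlgHom.id A₁ C₁) t' =
        eC.symm t := ht'
    rw [this, AlgEquiv.apply_symm_apply]
  obtain ⟨B₃, C₃, i1, i2, i3, i4, i5, i6, eB₃, eC₃, t₃, h1, h2, h3, h4, h5, h6⟩ :=
    assembly (k := A₁) eB eC hcompat A₃ hfl₃ t t' ht''
  exact ⟨A₃, B₃, C₃, i1, i2, i3, i4, i5, i6, eB₃, eC₃, t₃, hA₃fg, h1, h2, h3, h4, h5, h6⟩

end Groth.Agent.Lib.Helper68.MS2MB
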