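import Groth.Agent.Lib.Helper26.MVTop

/-! Mayer–Vietoris gluing of cohomology classes agreeing on the overlap (helper68). -/

set_option autoImplicit false
universe w v u

open CategoryTheory TopologicalSpace Opposite CategoryTheory.Limits Abelian

namespace Groth.Agent.Lib.Helper68.MVGlue

section General

variable {C : Type u} [Category.{v} C] {J : GrothendieckTopology C}
  [HasWeakSheafify J (Type v)] [HasSheafify J AddCommGrpCat.{v}]
  [HasExt.{w} (Sheaf J AddCommGrpCat.{v})]
  (S : J.MayerVietorisSquare) (F : Sheaf J AddCommGrpCat.{v})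

theorem mv_glue_gen (n : ℕ) (x : F.H' n S.X₂) (y : F.H' n S.X₃)
    (h : (F.cohomologyPresheaf n).map S.f₁₂.op x = (F.cohomologyPresheaf n).map S.f₁₃.op y) :
    ∃ α : F.H' n S.X₄, (F.cohomologyPresheaf n).map S.f₂₄.op α = x ∧
      (F.cohomologyPresheaf n).map S.f₃₄.op α = y := by
  have hex := (S.sequence_exact F n (n + 1) rfl).exact 0
  rw [ShortComplex.ab_exact_iff] at hex
  obtain ⟨α, hα⟩ := hex ((AddCommGrpCat.biprodIsoProd _ _).inv ⟨x, y⟩) (by
    change S.fromBiprod F n _ = 0
    rw [GrothendieckTopology.MayerVietorisSquare.fromBiprod_biprodIsoProd_inv_apply, h, sub_self])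
  let α' : F.H' n S.X₄ := α
  refine ⟨α', ?_⟩
  have hα' : S.toBiprod F n α' = (AddCommGrpCat.biprodIsoProd _ _).inv ⟨x, y⟩ := hα
  clear_value α'
  clear hα
  rename' hα' => hα
  rw [GrothendieckTopology.MayerVietorisSquare.toBiprod_apply] at hα
  have h2 := (AddCommGrpCat.biprodIsoProd _ _).symm.addCommGroupIsoToAddEquiv.injective hα
  exact ⟨congrArg Prod.fst h2, congrArg Prod.snd h2⟩

end General

variable {X : TopCat.{u}}

/-- Mayer–Vietoris: classes on `U` and `V` agreeing on `U ⊓ V` glue to a class on `U ⊔ V`. -/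
theorem mv_glue (F : CohTop.Ab X) (U V : Opens X) (n : ℕ)
    (x : CohTop.HU F n U) (y : CohTop.HU F n V)
    (h : CohTop.res F n (inf_le_left : U ⊓ V ≤ U) x = CohTop.res F n (inf_le_right : U ⊓ V ≤ V) y) :
    ∃ α : CohTop.HU F n (U ⊔ V), CohTop.res F n (le_sup_left : U ≤ U ⊔ V) α = x ∧
      CohTop.res F n (le_sup_right : V ≤ U ⊔ V) α = y :=
  mv_glue_gen (Opens.mayerVietorisSquare U V) F n x y h

/-- the same with the union only propositionally a join -/
theorem mv_glue_of_eq (F : CohTop.Ab X) (W U V : Opens X) (hW : W = U ⊔ V) (n : ℕ)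
    (x : CohTop.HU F n U) (y : CohTop.HU F n V)
    (h : CohTop.res F n (inf_le_left : U ⊓ V ≤ U) x = CohTop.res F n (inf_le_right : U ⊓ V ≤ V) y) :
    ∃ α : CohTop.HU F n W, CohTop.res F n (hW ▸ le_sup_left : U ≤ W) α = x ∧
      CohTop.res F n (hW ▸ le_sup_right : V ≤ W) α = y := by
  subst hW
  exact mv_glue F U V n x y h

end Groth.Agent.Lib.Helper68.MVGlue
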