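import Groth.Agent.Lib.Helper68.CptColim

/-! Cohomology of a subset as the colimit of the cohomology of its open neighbourhoods: an abstract
criterion (helper68). -/

set_option autoImplicit false
universe u

open CategoryTheory TopologicalSpace Opposite CategoryTheory.Limits TopCat

namespace Groth.Agent.Lib.Helper68.NbColim

open Groth.Agent.Lib.Helper68.TopRetract (adj gsec)
open Groth.Agent.Lib.Helper68.CptColim (P Nb E incl G leg leg_apply cocone ζapp ζapp_ι range_incl
  ζapp_naturality T₁ h0Iso)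
open Groth.Agent.Lib.Helper68
open Groth.Agent.Lib.Helper28 Abelian

variable {X : TopCat.{u}} (Z : Set X)
variable (hsec : ∀ (F : CohTop.Ab X) (s : ToType ((NhdSec.G (incl Z) F).obj.obj (op ⊤))),
  ∃ (U : Opens X) (g : ToType (F.obj.obj (op U))), Z ⊆ U ∧ NhdSec.Rep (incl Z) F s U g)

include hsec in
lemma ζapp_bijective (F : CohTop.Ab X) : Function.Bijective (ζapp Z F) := by
  have hc : Topology.IsInducing (incl Z) := Topology.IsInducing.subtypeVal
  constructor
  · rw [injective_iff_map_eq_zero (ζapp Z F).hom]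
    intro x hx
    obtain ⟨U, g, rfl⟩ := Concrete.colimit_exists_rep ((P Z).ι ⋙ F.obj) x
    have hx' : leg Z F U g = 0 := (ζapp_ι Z F U g).symm.trans hx
    have hη : (NhdSec.η (incl Z) F).hom.app U.obj g = 0 := by
      have h2 := congrArg (((CohTop.pull (incl Z)).obj F).obj.map
        (homOfLE (le_top : (Opens.map (incl Z)).obj U.obj.unop ≤ ⊤)).op) hx'
      rw [map_zero] at h2
      refine Eq.trans ?_ h2
      rw [leg_apply]
      refine ((NhdSec.map_map_apply ((CohTop.pull (incl Z)).obj F) _ _ (𝟙 _) _).trans ?_).symm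
      simp
    have hU : Set.range (incl Z) ⊆ (U.obj.unop : Set X) := by
      rw [range_incl]; exact U.property
    obtain ⟨U', hU', hZU', heq⟩ := NhdSec.exists_nhd_eq_of_unit_eq (F := F) hc hU g 0
      (hη.trans (map_zero _).symm)
    rw [map_zero] at heq
    let V : Nb Z := ⟨op U', by rw [← range_incl Z]; exact hZU'⟩
    let f : U ⟶ V := ObjectProperty.homMk (homOfLE hU').op
    have hw := ConcreteCategory.congr_hom (colimit.w ((P Z).ι ⋙ F.obj) f) g
    rw [← hw, ConcreteCategory.comp_apply]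
    have : ((P Z).ι ⋙ F.obj).map f g = 0 := heq
    rw [this, map_zero]
  · intro s
    obtain ⟨U, g, hU, hrep⟩ := hsec F s
    let V : Nb Z := ⟨op U, hU⟩
    refine ⟨colimit.ι ((P Z).ι ⋙ F.obj) V g, ?_⟩
    rw [ζapp_ι, leg_apply]
    unfold NhdSec.Rep at hrep
    refine Eq.trans (congrArg _ hrep) ?_
    refine (NhdSec.map_map_apply ((CohTop.pull (incl Z)).obj F) _ _ (𝟙 _) s).trans ?_
    simp

include hsec in
lemma isIso_ζapp (F : CohTop.Ab X) : IsIso (ζapp Z F) :=
  (ConcreteCategory.isIso_iff_bijective _).2 (ζapp_bijective Z hsec F)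

include hsec in
/-- `colim_{U ⊇ Z} F(U) ≅ Γ(Z, F|_Z)`, naturally in `F` -/
noncomputable def ζ : sheafToPresheaf _ _ ⋙ E Z ≅ G Z :=
  haveI := isIso_ζapp Z hsec
  NatIso.ofComponents (fun F => asIso (ζapp Z F)) (fun φ => ζapp_naturality Z φ)

include hsec in
/-- `colim_{U ⊇ Z} H^p(U, -) ≅ R^p Γ(Z, (-)|_Z)` -/
theorem nonempty_colim_iso_rightDerived (p : ℕ) :
    Nonempty (ExtPsh.extPsh.{u} (RpushIso.freeSheaf (Opens.grothendieckTopology X)) p ⋙ E Z ≅
      (G Z).rightDerived p) :=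
  ExtPshDer.nonempty_iso_rightDerived (RpushIso.freeSheaf _) (E Z) (G Z)
    (Functor.isoWhiskerRight (RpushIso.zeroIso _) (E Z) ≪≫ ζ Z hsec) p

variable (hacyc : ∀ (I : CohTop.Ab X) [Injective I] (n : ℕ),
  Subsingleton (CohTop.H ((CohTop.pull (incl Z)).obj I) (n + 1)))

include hacyc in
lemma isEffaceable_T₁ : (T₁ Z).IsEffaceable := by
  intro n F
  refine ⟨Injective.under F, Injective.ι F, inferInstance, ?_⟩
  apply ConcreteCategory.hom_ext
  intro x
  have := hacyc (Injective.under F) n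
  exact Subsingleton.elim (α := CohTop.H ((CohTop.pull (incl Z)).obj (Injective.under F)) (n + 1)) _ _

include hacyc in
theorem nonempty_T₁_iso_rightDerived (p : ℕ) :
    Nonempty ((T₁ Z).F p ≅ (G Z).rightDerived p) :=
  CechDelta.nonempty_iso_rightDerived (T₁ Z)
    (Groth.Agent.S6773.result _ (isEffaceable_T₁ Z hacyc)) (G Z)
    (Functor.isoWhiskerLeft (CohTop.pull (incl Z)) (h0Iso (TopCat.of Z))) p

include hsec hacyc in
/-- the cohomology of `Z` is the colimit of the cohomology of its open neighbourhoods -/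
theorem nonempty_addEquiv (F : CohTop.Ab X) (p : ℕ) :
    Nonempty ((colimit ((P Z).ι ⋙
        (Sheaf.cohomologyPresheafFunctor (Opens.grothendieckTopology X) p).obj F) :
          AddCommGrpCat.{u}) ≃+ CohTop.H ((CohTop.pull (incl Z)).obj F) p) := by
  obtain ⟨e₁⟩ := nonempty_colim_iso_rightDerived Z hsec p
  obtain ⟨e₂⟩ := nonempty_T₁_iso_rightDerived Z hacyc p
  exact ⟨((e₁.app F) ≪≫ (e₂.app F).symm).addCommGroupIsoToAddEquiv⟩

section cofinal

variable (Q : ObjectProperty (Opens X)ᵒᵖ) (hQZ : Q ≤ P Z)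
  (hcof : ∀ N : Opens X, Z ⊆ N → ∃ U : Opens X, Q (op U) ∧ U ≤ N)
  (hinf : ∀ U V : Opens X, Q (op U) → Q (op V) → Q (op (U ⊓ V)))

include hcof hinf in
lemma isFiltered_Q : IsFiltered Q.FullSubcategory where
  cocone_objs U V := ⟨⟨op (U.obj.unop ⊓ V.obj.unop), hinf _ _ U.property V.property⟩,
    ObjectProperty.homMk (homOfLE inf_le_left).op, ObjectProperty.homMk (homOfLE inf_le_right).op,
    trivial⟩
  cocone_maps U V f g := ⟨V, 𝟙 V, by
    apply ObjectProperty.hom_ext
    apply Quiver.Hom.unop_inj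
    exact Subsingleton.elim _ _⟩
  nonempty := by
    obtain ⟨U, hU, -⟩ := hcof ⊤ (fun _ _ => trivial)
    exact ⟨⟨op U, hU⟩⟩

include hcof hinf in
lemma final_ιOfLE : (ObjectProperty.ιOfLE hQZ).Final := by
  have := isFiltered_Q Z Q hcof hinf
  apply Functor.final_of_exists_of_isFiltered
  · intro d
    obtain ⟨U, hU, hUd⟩ := hcof d.obj.unop d.property
    exact ⟨⟨op U, hU⟩, ⟨ObjectProperty.homMk (homOfLE hUd).op⟩⟩
  · intro d c s s'
    refine ⟨c, 𝟙 c, ?_⟩
    apply ObjectProperty.hom_ext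
    apply Quiver.Hom.unop_inj
    exact Subsingleton.elim _ _

include hsec hacyc hQZ hcof hinf in
/-- the same with a cofinal family of neighbourhoods -/
theorem nonempty_addEquiv_of_cofinal (F : CohTop.Ab X) (p : ℕ) :
    Nonempty ((colimit (Q.ι ⋙
        (Sheaf.cohomologyPresheafFunctor (Opens.grothendieckTopology X) p).obj F) :
          AddCommGrpCat.{u}) ≃+ CohTop.H ((CohTop.pull (incl Z)).obj F) p) := by
  obtain ⟨e⟩ := nonempty_addEquiv Z hsec hacyc F p
  have := final_ιOfLE Z Q hQZ hcof hinf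
  let H : (Opens X)ᵒᵖ ⥤ AddCommGrpCat.{u} :=
    (Sheaf.cohomologyPresheafFunctor (Opens.grothendieckTopology X) p).obj F
  let i : colimit (ObjectProperty.ιOfLE hQZ ⋙ ((P Z).ι ⋙ H)) ≅ colimit ((P Z).ι ⋙ H) :=
    Functor.Final.colimitIso (ObjectProperty.ιOfLE hQZ) _
  let i' : colimit (Q.ι ⋙ H) ≅ colimit (ObjectProperty.ιOfLE hQZ ⋙ ((P Z).ι ⋙ H)) :=
    HasColimit.isoOfNatIso (NatIso.ofComponents (fun V => Iso.refl _) (fun {V W} i => by
      exact (Category.comp_id _).trans (Category.id_comp _).symm))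
  exact ⟨(i' ≪≫ i).addCommGroupIsoToAddEquiv.trans e⟩

end cofinal

end Groth.Agent.Lib.Helper68.NbColim
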