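import Mathlib
import Groth.Agent.Lib.Helper87.ChevalleyFibre
import Groth.Agent.Lib.Helper47.Cyc1941FIN
import Groth.Agent.Lib.Helper73.DimFormula.QuasiSection

/-!
# helper68: FC for helper52's S13422: a nonempty closed subset of a scheme locally of finite type
over `S` contains a point with finite residue field extension
-/

set_option autoImplicit false
universe u

open CategoryTheory CategoryTheory.Limits AlgebraicGeometry

namespace Groth.Agent.Lib.Helper68.NeronUnqFC

open Groth.Agent.Lib.Helper73

theorem exists_mem_finite_residueFieldMap {Z S : Scheme.{u}} (q : Z ⟶ S) [LocallyOfFiniteType q]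
    (C : Set Z) (hC : IsClosed C) (hne : C.Nonempty) :
    ∃ c ∈ C, (q.residueFieldMap c).hom.Finite := by
  obtain ⟨z, hz⟩ := hne
  let s := q z
  let F := q.fiber s
  haveI : JacobsonSpace F :=
    LocallyOfFiniteType.jacobsonSpace (q.fiberToSpecResidueField s)
  let Z' : Set F := (q.fiberι s) ⁻¹' C
  have hZ' : IsClosed Z' := hC.preimage (q.fiberι s).continuous
  have hzZ' : q.asFiber z ∈ Z' := by
    change q.fiberι s (q.asFiber z) ∈ C
    rw [q.fiberι_asFiber z]; exact hz
  obtain ⟨c, hcZ', hc⟩ := nonempty_inter_closedPoints (Z := Z') ⟨_, hzZ'⟩ hZ'.isLocallyClosed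
  let x := q.fiberι s c
  have hxC : x ∈ C := hcZ'
  have hqx : q x = s := by
    have : x ∈ Set.range (q.fiberι s) := ⟨_, rfl⟩
    rw [q.range_fiberι s] at this
    exact this
  have hcl : ∀ x' : Z, q x' = q x → x ⤳ x' → x' = x := by
    intro x' hfx' hsp
    let c' : F := (q.fiberHomeo s).symm ⟨x', hfx'.trans hqx⟩
    have hc' : q.fiberι s c' = x' := q.fiberι_fiberHomeo_symm _ ⟨x', hfx'.trans hqx⟩
    have h1 : c ⤳ c' := by
      rw [← (q.fiberι s).isEmbedding.isInducing.specializes_iff, hc']
      exact hsp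
    have h2 : c' ∈ closure {c} := h1.mem_closed isClosed_closure (subset_closure rfl)
    have h3 : IsClosed ({c} : Set F) := hc
    rw [h3.closure_eq] at h2
    rw [← hc', h2]
  have h0 : resTrdegNat q x = 0 := resTrdegNat_eq_zero_of_closed_in_fiber q x hcl
  have h1 : resTrdeg q x = 0 := by
    rw [resTrdeg_eq_resTrdegNat, h0, Nat.cast_zero]
  have hfin := Groth.Agent.Lib.Helper47.Cyc1941FIN.finite_residueField_of_trdeg_eq_zero q x h1
  refine ⟨x, hxC, ?_⟩
  exact hfin

end Groth.Agent.Lib.Helper68.NeronUnqFC
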