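import Mathlib
import Groth.Agent.Lib.Helper26.ClosedEmbSh

/-! Sections of `c_* c⁻¹ F` for an inducing map `c`, for sheaves valued in a general concrete
category (helper68). -/

set_option autoImplicit false
universe u

open CategoryTheory TopologicalSpace Opposite CategoryTheory.Limits TopCat

namespace Groth.Agent.Lib.Helper68.NhdSecGen

variable (A : Type (u + 1)) [Category.{u} A] {FA : A → A → Type*} {CA : A → Type u}
variable [∀ X Y, FunLike (FA X Y) (CA X) (CA Y)] [ConcreteCategory.{u} A FA] [HasColimits A]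
variable [HasLimits A] [PreservesLimits (CategoryTheory.forget A)]
variable [PreservesFilteredColimits (CategoryTheory.forget A)]
variable [(CategoryTheory.forget A).ReflectsIsomorphisms]

section aux
variable {A} {X : TopCat.{u}}

omit [HasColimits A] [HasLimits A] [PreservesLimits (CategoryTheory.forget A)]
  [PreservesFilteredColimits (CategoryTheory.forget A)]
  [(CategoryTheory.forget A).ReflectsIsomorphisms] in
lemma map_map_apply (F : TopCat.Sheaf A X) {U V W : Opens X} (i : V ⟶ U) (j : W ⟶ V)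
    (k : W ⟶ U) (s : ToType (F.obj.obj (op U))) :
    F.obj.map j.op (F.obj.map i.op s) = F.obj.map k.op s := by
  rw [← ConcreteCategory.comp_apply, ← F.obj.map_comp]
  congr 2

end aux

variable {A} {Z X : TopCat.{u}} (c : Z ⟶ X) (F : TopCat.Sheaf A X)

/-- `c_* c⁻¹ F` -/
noncomputable abbrev G : TopCat.Sheaf A X :=
  (TopCat.Sheaf.pushforward A c).obj ((TopCat.Sheaf.pullback A c).obj F)

/-- the unit `F ⟶ c_* c⁻¹ F` -/
noncomputable abbrev η : F ⟶ G c F :=
  (TopCat.Sheaf.pullbackPushforwardAdjunction A c).unit.app F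

/-- `g` represents `s` on `U` -/
def Rep (s : ToType ((G c F).obj.obj (op ⊤))) (U : Opens X) (g : ToType (F.obj.obj (op U))) : Prop :=
  (η c F).hom.app (op U) g = (G c F).obj.map (homOfLE (le_top : U ≤ ⊤)).op s

variable {c F}

lemma Rep.res {s : ToType ((G c F).obj.obj (op ⊤))} {U V : Opens X} {g : ToType (F.obj.obj (op U))}
    (h : Rep c F s U g) (hVU : V ≤ U) : Rep c F s V (F.obj.map (homOfLE hVU).op g) := by
  unfold Rep at *
  have nat := ConcreteCategory.congr_hom ((η c F).hom.naturality (homOfLE hVU).op) g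
  simp only [ConcreteCategory.comp_apply] at nat
  rw [nat, h, ← ConcreteCategory.comp_apply, ← (G c F).obj.map_comp]
  rfl

variable (hc : Topology.IsInducing c)

include hc in
open Classical in
lemma isIso_stalk_unit (z : Z) :
    IsIso ((TopCat.Presheaf.stalkFunctor A (c z)).map (η c F).hom) := by
  have := Groth.Agent.Lib.Helper26.ClosedEmbSh.push_full A (i := c) hc
  have := Groth.Agent.Lib.Helper26.ClosedEmbSh.push_faithful A (i := c) hc
  apply Groth.Agent.Lib.Helper26.ClosedEmbSh.isIso_stalk_of_sky_bijective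
  intro M
  exact Groth.Agent.Lib.Helper26.ClosedEmbSh.unit_precomp_bijective'
    (TopCat.Sheaf.pullbackPushforwardAdjunction A c) F (skyscraperSheaf z M) _
    (Groth.Agent.Lib.Helper26.ClosedEmbSh.skyIso c z M)

include hc in
/-- local representability at points of the range -/
lemma exists_rep_nhd (s : ToType ((G c F).obj.obj (op ⊤))) (z : Z) :
    ∃ (U : Opens X) (_ : c z ∈ U) (g : ToType (F.obj.obj (op U))), Rep c F s U g := by
  have hiso := isIso_stalk_unit (F := F) hc z
  have hbij : Function.Bijective ((TopCat.Presheaf.stalkFunctor A (c z)).map (η c F).hom) :=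
    ConcreteCategory.bijective_of_isIso _
  obtain ⟨τ, hτ⟩ := hbij.2 (TopCat.Presheaf.germ (G c F).obj ⊤ (c z) (Opens.mem_top (c z)) s)
  obtain ⟨U₁, hU₁, g₁, hg₁⟩ := TopCat.Presheaf.exists_germ_eq F.obj τ
  rw [← hg₁, TopCat.Presheaf.stalkFunctor_map_germ_apply] at hτ
  obtain ⟨W, hW, i₁, i₂, hres⟩ := TopCat.Presheaf.germ_eq (G c F).obj (c z) hU₁ (Opens.mem_top (c z)) _ _ hτ
  refine ⟨W, hW, F.obj.map i₁.op g₁, ?_⟩
  unfold Rep
  have nat := ConcreteCategory.congr_hom ((η c F).hom.naturality i₁.op) g₁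
  simp only [ConcreteCategory.comp_apply] at nat
  rw [nat, hres]
  rfl

include hc in
/-- two representatives agree near any point of the range -/
lemma exists_nhd_eq (s : ToType ((G c F).obj.obj (op ⊤))) {U₁ U₂ : Opens X}
    {g₁ : ToType (F.obj.obj (op U₁))} {g₂ : ToType (F.obj.obj (op U₂))}
    (h₁ : Rep c F s U₁ g₁) (h₂ : Rep c F s U₂ g₂) (z : Z) (hz₁ : c z ∈ U₁) (hz₂ : c z ∈ U₂) :
    ∃ (W : Opens X) (_ : c z ∈ W) (i₁ : W ⟶ U₁) (i₂ : W ⟶ U₂),
      F.obj.map i₁.op g₁ = F.obj.map i₂.op g₂ := by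
  have hiso := isIso_stalk_unit (F := F) hc z
  have hbij : Function.Bijective ((TopCat.Presheaf.stalkFunctor A (c z)).map (η c F).hom) :=
    ConcreteCategory.bijective_of_isIso _
  apply TopCat.Presheaf.germ_eq F.obj (c z) hz₁ hz₂
  apply hbij.1
  rw [TopCat.Presheaf.stalkFunctor_map_germ_apply, TopCat.Presheaf.stalkFunctor_map_germ_apply]
  unfold Rep at h₁ h₂
  rw [h₁, h₂]
  rw [TopCat.Presheaf.germ_res_apply, TopCat.Presheaf.germ_res_apply]

end Groth.Agent.Lib.Helper68.NhdSecGen
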