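import Mathlib
import Groth.Agent.Lib.Helper80.Node.Defs

set_option autoImplicit false
universe u

/-!
# GQ for S14386 (helper68, for helper80): `dx`, `dy` generate the differentials of the node.
-/

namespace Groth.Agent.Lib.Helper68.NodeGQ

open Groth.Agent.Lib.Helper80.Node

theorem gq (V : Type u) [CommRing V] (ϖ : V) :
    Submodule.span (Q V ϖ) {KaehlerDifferential.D V (Q V ϖ) (xq V ϖ),
      KaehlerDifferential.D V (Q V ϖ) (yq V ϖ)} = ⊤ := by
  set N : Submodule (Q V ϖ) (Ω[Q V ϖ⁄V]) :=
    Submodule.span (Q V ϖ) {KaehlerDifferential.D V (Q V ϖ) (xq V ϖ),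
      KaehlerDifferential.D V (Q V ϖ) (yq V ϖ)} with hN
  have hx : KaehlerDifferential.D V (Q V ϖ) (xq V ϖ) ∈ N :=
    Submodule.subset_span (Set.mem_insert _ _)
  have hy : KaehlerDifferential.D V (Q V ϖ) (yq V ϖ) ∈ N :=
    Submodule.subset_span (Set.mem_insert_of_mem _ rfl)
  have key : ∀ F : MvPolynomial (Fin 2) V,
      KaehlerDifferential.D V (Q V ϖ) (Ideal.Quotient.mk (Ideal.span {gNode V ϖ}) F) ∈ N := by
    intro F
    induction F using MvPolynomial.induction_on with
    | C a =>
      have : Ideal.Quotient.mk (Ideal.span {gNode V ϖ}) (MvPolynomial.C a) =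
          algebraMap V (Q V ϖ) a := rfl
      rw [this, Derivation.map_algebraMap]
      exact N.zero_mem
    | add p q hp hq =>
      rw [map_add, map_add]
      exact N.add_mem hp hq
    | mul_X p i hp =>
      rw [map_mul, Derivation.leibniz]
      refine N.add_mem (N.smul_mem _ ?_) (N.smul_mem _ hp)
      fin_cases i
      · exact hx
      · exact hy
  rw [eq_top_iff, ← KaehlerDifferential.span_range_derivation V (Q V ϖ), Submodule.span_le]
  rintro _ ⟨q, rfl⟩
  obtain ⟨F, rfl⟩ := Ideal.Quotient.mk_surjective q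
  exact key F

end Groth.Agent.Lib.Helper68.NodeGQ
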