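import Mathlib
import Groth.Agent.Lib.Helper80.Node.Defs

set_option autoImplicit false
universe u

/-!
# KQ for S14386 (helper68, for helper80): relations between `dx`, `dy` on the node `V[x,y]/(xy-ϖ)`.
-/

namespace Groth.Agent.Lib.Helper68.NodeKQ

open Groth.Agent.Lib.Helper80.Node
open TensorProduct KaehlerDifferential

section

variable (V : Type u) [CommRing V] (ϖ : V)

/-- the `i`-th coordinate functional on `Q ⊗ Ω[P/V]`. -/
noncomputable def coordQ (i : Fin 2) :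
    (Q V ϖ) ⊗[MvPolynomial (Fin 2) V] Ω[MvPolynomial (Fin 2) V⁄V] →ₗ[Q V ϖ] Q V ϖ :=
  ((Algebra.linearMap (MvPolynomial (Fin 2) V) (Q V ϖ)).comp
    ((mvPolynomialBasis V (Fin 2)).coord i)).liftBaseChange (Q V ϖ)

lemma coordQ_tmul_D (i : Fin 2) (q : Q V ϖ) (F : MvPolynomial (Fin 2) V) :
    coordQ V ϖ i (q ⊗ₜ D V (MvPolynomial (Fin 2) V) F) =
      q * Ideal.Quotient.mk (Ideal.span {gNode V ϖ}) (MvPolynomial.pderiv i F) := by
  rw [coordQ, LinearMap.liftBaseChange_tmul]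
  simp only [LinearMap.coe_comp, Function.comp_apply, Module.Basis.coord_apply,
    mvPolynomialBasis_repr_apply, Algebra.linearMap_apply, smul_eq_mul]
  rfl

end

theorem kq (V : Type u) [CommRing V] (ϖ : V) (s t : Q V ϖ)
    (h : s • KaehlerDifferential.D V (Q V ϖ) (xq V ϖ) +
      t • KaehlerDifferential.D V (Q V ϖ) (yq V ϖ) = 0) :
    ∃ e : Q V ϖ, s = e * yq V ϖ ∧ t = e * xq V ϖ := by
  classical
  have hsurj : Function.Surjective (algebraMap (MvPolynomial (Fin 2) V) (Q V ϖ)) :=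
    Ideal.Quotient.mk_surjective
  set z : (Q V ϖ) ⊗[MvPolynomial (Fin 2) V] Ω[MvPolynomial (Fin 2) V⁄V] :=
    s ⊗ₜ D V (MvPolynomial (Fin 2) V) (MvPolynomial.X 0) +
      t ⊗ₜ D V (MvPolynomial (Fin 2) V) (MvPolynomial.X 1) with hz
  have hz0 : KaehlerDifferential.mapBaseChange V (MvPolynomial (Fin 2) V) (Q V ϖ) z = 0 := by
    rw [hz, map_add, mapBaseChange_tmul, mapBaseChange_tmul, map_D, map_D]
    exact h
  obtain ⟨c, hc⟩ :=
    (exact_kerCotangentToTensor_mapBaseChange V (MvPolynomial (Fin 2) V) (Q V ϖ) hsurj z).1 hz0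
  obtain ⟨⟨w, hw⟩, rfl⟩ := Ideal.toCotangent_surjective _ c
  rw [kerCotangentToTensor_toCotangent] at hc
  have hw' : w ∈ Ideal.span {gNode V ϖ} := by
    have : RingHom.ker (algebraMap (MvPolynomial (Fin 2) V) (Q V ϖ)) = Ideal.span {gNode V ϖ} :=
      Ideal.mk_ker
    rw [← this]; exact hw
  obtain ⟨a, ha⟩ := Ideal.mem_span_singleton'.1 hw'
  have hg0 : Ideal.Quotient.mk (Ideal.span {gNode V ϖ}) (gNode V ϖ) = 0 :=
    Ideal.Quotient.eq_zero_iff_mem.2 (Ideal.subset_span rfl)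
  have hpd : ∀ i : Fin 2, Ideal.Quotient.mk (Ideal.span {gNode V ϖ}) (MvPolynomial.pderiv i w) =
      Ideal.Quotient.mk (Ideal.span {gNode V ϖ}) a *
        Ideal.Quotient.mk (Ideal.span {gNode V ϖ}) (MvPolynomial.pderiv i (gNode V ϖ)) := by
    intro i
    rw [← ha, Derivation.leibniz, smul_eq_mul, smul_eq_mul, map_add, map_mul, map_mul, hg0,
      zero_mul, add_zero]
  have hcoord : ∀ i : Fin 2, coordQ V ϖ i z =
      Ideal.Quotient.mk (Ideal.span {gNode V ϖ}) a *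
        Ideal.Quotient.mk (Ideal.span {gNode V ϖ}) (MvPolynomial.pderiv i (gNode V ϖ)) := by
    intro i
    rw [← hc, coordQ_tmul_D, one_mul, hpd]
  refine ⟨Ideal.Quotient.mk (Ideal.span {gNode V ϖ}) a, ?_, ?_⟩
  · have := hcoord 0
    rw [hz, map_add, coordQ_tmul_D, coordQ_tmul_D] at this
    simpa [gNode, MvPolynomial.pderiv_X, Pi.single_apply] using this
  · have := hcoord 1
    rw [hz, map_add, coordQ_tmul_D, coordQ_tmul_D] at this
    simpa [gNode, MvPolynomial.pderiv_X, Pi.single_apply] using this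

end Groth.Agent.Lib.Helper68.NodeKQ
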