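import Mathlib.RingTheory.PowerSeries.Order
import Mathlib.RingTheory.PowerSeries.Basic
import Mathlib.Algebra.Algebra.Subalgebra.Basic
import Mathlib.Tactic.FieldSimp
import Mathlib.Tactic.Ring

set_option autoImplicit false
universe u

namespace Groth.Agent.Lib.Helper68

theorem ps_reduce_step {k : Type u} [Field k] (A : Subalgebra k (PowerSeries k))
    (d : PowerSeries k) (n : ℕ) (hn : (n : ℕ∞) ≤ PowerSeries.order d)
    (b : PowerSeries k) (hbA : b ∈ A) (hb : PowerSeries.order b = n) :
    ∃ a ∈ A, ((n + 1 : ℕ) : ℕ∞) ≤ PowerSeries.order (d - a) := by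
  have hb0 : b ≠ 0 := by
    rintro rfl
    simp at hb
  have hβ : PowerSeries.coeff n b ≠ 0 := by
    have := PowerSeries.coeff_order hb0
    rwa [hb, ENat.toNat_natCast] at this
  refine ⟨(PowerSeries.coeff n d / PowerSeries.coeff n b) • b, A.smul_mem hbA _, ?_⟩
  apply PowerSeries.nat_le_order
  intro i hi
  rw [map_sub, map_smul, smul_eq_mul]
  rcases Nat.lt_succ_iff_lt_or_eq.mp hi with h | h
  · rw [PowerSeries.coeff_of_lt_order i (lt_of_lt_of_le (by exact_mod_cast h) hn),
      PowerSeries.coeff_of_lt_order i (by rw [hb]; exact_mod_cast h)]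
    simp
  · subst h
    field_simp
    ring

theorem ps_approx {k : Type u} [Field k] (A : Subalgebra k (PowerSeries k))
    (c : ℕ) (hc : ∀ n : ℕ, c ≤ n → ∃ b ∈ A, PowerSeries.order b = n)
    (h : PowerSeries k) (hh : (c : ℕ∞) ≤ PowerSeries.order h) (n : ℕ) :
    ∃ a ∈ A, (n : ℕ∞) ≤ PowerSeries.order (h - a) := by
  by_cases hnc : n ≤ c
  · refine ⟨0, A.zero_mem, ?_⟩
    rw [sub_zero]
    exact le_trans (by exact_mod_cast hnc) hh
  · have hcn : c ≤ n := le_of_lt (not_le.mp hnc)
    induction n, hcn using Nat.le_induction with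
    | base =>
      refine ⟨0, A.zero_mem, ?_⟩
      rw [sub_zero]
      exact hh
    | succ n hcn ih =>
      have ih' : ∃ a ∈ A, (n : ℕ∞) ≤ PowerSeries.order (h - a) := by
        by_cases hnc' : n ≤ c
        · refine ⟨0, A.zero_mem, ?_⟩
          rw [sub_zero]
          exact le_trans (by exact_mod_cast hnc') hh
        · exact ih hnc'
      obtain ⟨a, haA, ha⟩ := ih'
      obtain ⟨b, hbA, hb⟩ := hc n hcn
      obtain ⟨a', ha'A, ha'⟩ := ps_reduce_step A (h - a) n ha b hbA hb
      refine ⟨a + a', A.add_mem haA ha'A, ?_⟩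
      have e : h - (a + a') = h - a - a' := by ring
      rw [e]
      exact ha'

end Groth.Agent.Lib.Helper68
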