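import Groth.Agent.Lib.Helper68.ProjSES

/-! Resolutions of short exact sequences by projectives: splittings and the twisting maps of a
general resolution. -/

set_option autoImplicit false
universe v u

open CategoryTheory Category Limits

namespace Groth.Agent.Lib.Helper68.ProjLift

open Groth.Agent.Lib.Helper68.Horseshoe Groth.Agent.Lib.Helper68.ProjSES

variable {C : Type u} [Category.{v} C] [Abelian C] {S : ShortComplex C} (T : PSESRes S)

/-- the chosen retraction in degree `n` -/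
noncomputable def r (n : ℕ) : T.P₂.complex.X n ⟶ T.P₁.complex.X n := (T.splitting n).r

/-- the chosen section in degree `n` -/
noncomputable def s (n : ℕ) : T.P₃.complex.X n ⟶ T.P₂.complex.X n := (T.splitting n).s

@[reassoc (attr := simp)]
lemma f_r (n : ℕ) : T.f.f n ≫ r T n = 𝟙 _ := (T.splitting n).f_r

@[reassoc (attr := simp)]
lemma s_g (n : ℕ) : s T n ≫ T.g.f n = 𝟙 _ := (T.splitting n).s_g

@[reassoc (attr := simp)]
lemma s_r (n : ℕ) : s T n ≫ r T n = 0 := (T.splitting n).s_r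

lemma r_f_add_g_s (n : ℕ) : r T n ≫ T.f.f n + T.g.f n ≫ s T n = 𝟙 _ := (T.splitting n).id

@[reassoc]
lemma r_f (n : ℕ) : r T n ≫ T.f.f n = 𝟙 _ - T.g.f n ≫ s T n := (T.splitting n).r_f

@[reassoc (attr := simp)]
lemma f_g (n : ℕ) : T.f.f n ≫ T.g.f n = 0 := by
  rw [← HomologicalComplex.comp_f, T.zero]
  rfl

instance (n : ℕ) : Mono (T.f.f n) := (T.splitting n).splitMono_f.mono

instance (n : ℕ) : Epi (T.g.f n) := (T.splitting n).splitEpi_g.epi

/-- the twisting maps of a resolution of a short exact sequence -/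
noncomputable def θ (n : ℕ) : T.P₃.complex.X (n + 1) ⟶ T.P₁.complex.X n :=
  s T (n + 1) ≫ T.P₂.complex.d (n + 1) n ≫ r T n

@[reassoc]
lemma f_d (n : ℕ) : T.f.f (n + 1) ≫ T.P₂.complex.d (n + 1) n =
    T.P₁.complex.d (n + 1) n ≫ T.f.f n := T.f.comm (n + 1) n

@[reassoc]
lemma d_g (n : ℕ) : T.P₂.complex.d (n + 1) n ≫ T.g.f n =
    T.g.f (n + 1) ≫ T.P₃.complex.d (n + 1) n := (T.g.comm (n + 1) n).symm

lemma d₂_eq (n : ℕ) : T.P₂.complex.d (n + 1) n =
    r T (n + 1) ≫ T.P₁.complex.d (n + 1) n ≫ T.f.f n + T.g.f (n + 1) ≫ θ T n ≫ T.f.f n +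
      T.g.f (n + 1) ≫ T.P₃.complex.d (n + 1) n ≫ s T n := by
  have h1 : T.P₂.complex.d (n + 1) n =
      (r T (n + 1) ≫ T.f.f (n + 1) + T.g.f (n + 1) ≫ s T (n + 1)) ≫
        T.P₂.complex.d (n + 1) n := by
    rw [r_f_add_g_s, id_comp]
  have h2 : s T (n + 1) ≫ T.P₂.complex.d (n + 1) n =
      (s T (n + 1) ≫ T.P₂.complex.d (n + 1) n) ≫ (r T n ≫ T.f.f n +
        T.g.f n ≫ s T n) := by
    rw [r_f_add_g_s, comp_id]
  rw [Preadditive.add_comp, assoc, assoc, f_d, h2] at h1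
  rw [h1]
  simp only [θ, Preadditive.comp_add, assoc, d_g_assoc, s_g_assoc]
  rw [add_assoc]

lemma θ_d (n : ℕ) : θ T (n + 1) ≫ T.P₁.complex.d (n + 1) n +
    T.P₃.complex.d (n + 2) (n + 1) ≫ θ T n = 0 := by
  rw [← cancel_mono (T.f.f n), zero_comp, Preadditive.add_comp]
  simp only [θ, assoc]
  rw [← f_d, r_f_assoc, r_f]
  simp only [Preadditive.sub_comp, Preadditive.comp_sub, id_comp, comp_id, assoc,
    HomologicalComplex.d_comp_d, zero_sub, d_g_assoc, s_g_assoc]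
  rw [Preadditive.comp_neg, s_g_assoc, HomologicalComplex.d_comp_d_assoc, zero_comp, sub_zero,
    neg_add_cancel]

/-- the section in degree zero followed by the augmentation -/
noncomputable def ζ : T.P₃.complex.X 0 ⟶ S.X₂ := s T 0 ≫ aug T.P₂

@[reassoc]
lemma ζ_g : ζ T ≫ S.g = aug T.P₃ := by
  unfold ζ
  rw [assoc, ← T.g_aug, s_g_assoc]

lemma θ_ζ : θ T 0 ≫ aug T.P₁ ≫ S.f + T.P₃.complex.d 1 0 ≫ ζ T = 0 := by
  rw [← cancel_epi (T.g.f 1), comp_zero]
  have h := d_aug T.P₂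
  rw [d₂_eq T 0] at h
  simp only [Preadditive.comp_add, Preadditive.add_comp, assoc] at h ⊢
  rw [T.f_aug, d_aug_assoc, zero_comp, comp_zero, zero_add] at h
  simpa only [ζ, assoc] using h

end Groth.Agent.Lib.Helper68.ProjLift
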