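import Groth.Agent.Lib.Helper68.ProjLift

/-! Lifting a morphism of short exact sequences to a morphism between projective resolutions of
the sequences, extending given lifts on the two ends: the correcting maps. -/

set_option autoImplicit false
universe v u

open CategoryTheory Category Limits

namespace Groth.Agent.Lib.Helper68.ProjLift

open Groth.Agent.Lib.Helper68.Horseshoe Groth.Agent.Lib.Helper68.ProjSES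

variable {C : Type u} [Category.{v} C] [Abelian C] {S S' : ShortComplex C}
  (hS' : S'.ShortExact)
  (T : PSESRes S) (T' : PSESRes S') (φ : S ⟶ S')
  (φ₁ : T.P₁.complex ⟶ T'.P₁.complex)
  (hφ₁ : φ₁.f 0 ≫ aug T'.P₁ = aug T.P₁ ≫ φ.τ₁)
  (φ₃ : T.P₃.complex ⟶ T'.P₃.complex)
  (hφ₃ : φ₃.f 0 ≫ aug T'.P₃ = aug T.P₃ ≫ φ.τ₃)

/-- the obstruction cocycle -/
noncomputable def ψ (n : ℕ) : T.P₃.complex.X (n + 1) ⟶ T'.P₁.complex.X n :=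
  θ T n ≫ φ₁.f n - φ₃.f (n + 1) ≫ θ T' n

lemma ψ_d (n : ℕ) : ψ T T' φ₁ φ₃ (n + 1) ≫ T'.P₁.complex.d (n + 1) n +
    T.P₃.complex.d (n + 2) (n + 1) ≫ ψ T T' φ₁ φ₃ n = 0 := by
  have e1 : θ T' (n + 1) ≫ T'.P₁.complex.d (n + 1) n =
      -(T'.P₃.complex.d (n + 2) (n + 1) ≫ θ T' n) := eq_neg_of_add_eq_zero_left (θ_d T' n)
  have e2 : θ T (n + 1) ≫ T.P₁.complex.d (n + 1) n =
      -(T.P₃.complex.d (n + 2) (n + 1) ≫ θ T n) := eq_neg_of_add_eq_zero_left (θ_d T n)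
  have c1 : φ₁.f (n + 1) ≫ T'.P₁.complex.d (n + 1) n =
      T.P₁.complex.d (n + 1) n ≫ φ₁.f n := φ₁.comm _ _
  have c3 : φ₃.f (n + 2) ≫ T'.P₃.complex.d (n + 2) (n + 1) =
      T.P₃.complex.d (n + 2) (n + 1) ≫ φ₃.f (n + 1) := φ₃.comm _ _
  unfold ψ
  simp only [Preadditive.sub_comp, Preadditive.comp_sub, assoc]
  rw [e1, c1, reassoc_of% e2, Preadditive.comp_neg, reassoc_of% c3, Preadditive.neg_comp]
  simp only [assoc]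
  abel

/-- the defect of compatibility with the augmentations -/
noncomputable def ω₁ : T.P₃.complex.X 0 ⟶ S'.X₂ := φ₃.f 0 ≫ ζ T' - ζ T ≫ φ.τ₂

include hφ₃ in
lemma ω₁_g : ω₁ T T' φ φ₃ ≫ S'.g = 0 := by
  unfold ω₁
  rw [Preadditive.sub_comp, assoc, assoc, ζ_g, hφ₃, φ.comm₂₃, ζ_g_assoc, sub_self]

/-- the defect, as a map to the first term -/
noncomputable def ωbar : T.P₃.complex.X 0 ⟶ S'.X₁ :=
  letI := hS'.mono_f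
  hS'.exact.lift (ω₁ T T' φ φ₃) (ω₁_g T T' φ φ₃ hφ₃)

@[reassoc]
lemma ωbar_f : ωbar hS' T T' φ φ₃ hφ₃ ≫ S'.f = ω₁ T T' φ φ₃ := by
  let _ := hS'.mono_f
  exact hS'.exact.lift_f _ _

include hφ₁ in
lemma ψ_zero_aug : ψ T T' φ₁ φ₃ 0 ≫ aug T'.P₁ =
    T.P₃.complex.d 1 0 ≫ ωbar hS' T T' φ φ₃ hφ₃ := by
  have := hS'.mono_f
  rw [← cancel_mono S'.f, assoc, assoc, ωbar_f]
  have e1 : θ T' 0 ≫ aug T'.P₁ ≫ S'.f = -(T'.P₃.complex.d 1 0 ≫ ζ T') :=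
    eq_neg_of_add_eq_zero_left (θ_ζ T')
  have e2 : θ T 0 ≫ aug T.P₁ ≫ S.f = -(T.P₃.complex.d 1 0 ≫ ζ T) :=
    eq_neg_of_add_eq_zero_left (θ_ζ T)
  have c3 : φ₃.f 1 ≫ T'.P₃.complex.d 1 0 = T.P₃.complex.d 1 0 ≫ φ₃.f 0 := φ₃.comm _ _
  unfold ψ ω₁
  simp only [Preadditive.sub_comp, Preadditive.comp_sub, assoc]
  rw [reassoc_of% hφ₁, φ.comm₁₂, e1, reassoc_of% e2, Preadditive.comp_neg, reassoc_of% c3]
  simp only [Preadditive.neg_comp, assoc]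
  abel

/-- `η⁰` -/
noncomputable def η0 : T.P₃.complex.X 0 ⟶ T'.P₁.complex.X 0 :=
  Projective.factorThru (-ωbar hS' T T' φ φ₃ hφ₃) (aug T'.P₁)

@[reassoc]
lemma η0_aug : η0 hS' T T' φ φ₃ hφ₃ ≫ aug T'.P₁ = -ωbar hS' T T' φ φ₃ hφ₃ :=
  Projective.factorThru_comp _ _

/-- `η¹` -/
noncomputable def η1 : T.P₃.complex.X 1 ⟶ T'.P₁.complex.X 1 :=
  (aug_exact T'.P₁).liftFromProjective
    (ψ T T' φ₁ φ₃ 0 + T.P₃.complex.d 1 0 ≫ η0 hS' T T' φ φ₃ hφ₃) (by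
      dsimp
      rw [Preadditive.add_comp, ψ_zero_aug hS' T T' φ φ₁ hφ₁ φ₃ hφ₃, assoc, η0_aug,
        Preadditive.comp_neg, add_neg_cancel])

lemma η1_d : η1 hS' T T' φ φ₁ hφ₁ φ₃ hφ₃ ≫ T'.P₁.complex.d 1 0 =
    ψ T T' φ₁ φ₃ 0 + T.P₃.complex.d 1 0 ≫ η0 hS' T T' φ φ₃ hφ₃ :=
  (aug_exact T'.P₁).liftFromProjective_comp _ _

/-- recursive data -/
noncomputable def ηAux : ∀ n : ℕ,
    Σ' (a : T.P₃.complex.X n ⟶ T'.P₁.complex.X n)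
      (b : T.P₃.complex.X (n + 1) ⟶ T'.P₁.complex.X (n + 1)),
      b ≫ T'.P₁.complex.d (n + 1) n = ψ T T' φ₁ φ₃ n + T.P₃.complex.d (n + 1) n ≫ a
  | 0 => ⟨η0 hS' T T' φ φ₃ hφ₃, η1 hS' T T' φ φ₁ hφ₁ φ₃ hφ₃, η1_d hS' T T' φ φ₁ hφ₁ φ₃ hφ₃⟩
  | n + 1 =>
    let prev := ηAux n
    ⟨prev.2.1,
      (T'.P₁.exact_succ n).liftFromProjective
        (ψ T T' φ₁ φ₃ (n + 1) + T.P₃.complex.d (n + 2) (n + 1) ≫ prev.2.1) (by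
          dsimp
          rw [Preadditive.add_comp, assoc, prev.2.2, Preadditive.comp_add,
            HomologicalComplex.d_comp_d_assoc, zero_comp, add_zero]
          exact ψ_d T T' φ₁ φ₃ n),
      (T'.P₁.exact_succ n).liftFromProjective_comp _ _⟩

/-- the correcting maps -/
noncomputable def η (n : ℕ) : T.P₃.complex.X n ⟶ T'.P₁.complex.X n :=
  (ηAux hS' T T' φ φ₁ hφ₁ φ₃ hφ₃ n).1

lemma η_succ (n : ℕ) : η hS' T T' φ φ₁ hφ₁ φ₃ hφ₃ (n + 1) =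
    (ηAux hS' T T' φ φ₁ hφ₁ φ₃ hφ₃ n).2.1 := rfl

@[reassoc]
lemma η_d (n : ℕ) : η hS' T T' φ φ₁ hφ₁ φ₃ hφ₃ (n + 1) ≫ T'.P₁.complex.d (n + 1) n =
    ψ T T' φ₁ φ₃ n + T.P₃.complex.d (n + 1) n ≫ η hS' T T' φ φ₁ hφ₁ φ₃ hφ₃ n := by
  rw [η_succ]
  exact (ηAux hS' T T' φ φ₁ hφ₁ φ₃ hφ₃ n).2.2

end Groth.Agent.Lib.Helper68.ProjLift
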