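import Groth.Agent.Lib.Helper68.ProjLift2

/-! Lifting a morphism of short exact sequences to a morphism between projective resolutions of
the sequences: the middle map. -/

set_option autoImplicit false
universe v u

open CategoryTheory Category Limits

namespace Groth.Agent.Lib.Helper68.ProjLift

open Groth.Agent.Lib.Helper68.Horseshoe Groth.Agent.Lib.Helper68.ProjSES

variable {C : Type u} [Category.{v} C] [Abelian C] {S S' : ShortComplex C}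
  (hS' : S'.ShortExact)
  (T : PSESRes S) (T' : PSESRes S') (φ : S ⟶ S')
  (φ₁ : T.P₁.complex ⟶ T'.P₁.complex)
  (hφ₁ : φ₁.f 0 ≫ aug T'.P₁ = aug T.P₁ ≫ φ.τ₁)
  (φ₃ : T.P₃.complex ⟶ T'.P₃.complex)
  (hφ₃ : φ₃.f 0 ≫ aug T'.P₃ = aug T.P₃ ≫ φ.τ₃)

/-- the components of the middle map -/
noncomputable def φ₂f (n : ℕ) : T.P₂.complex.X n ⟶ T'.P₂.complex.X n :=
  r T n ≫ φ₁.f n ≫ T'.f.f n + T.g.f n ≫ φ₃.f n ≫ s T' n +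
    T.g.f n ≫ η hS' T T' φ φ₁ hφ₁ φ₃ hφ₃ n ≫ T'.f.f n

lemma f_φ₂f (n : ℕ) : T.f.f n ≫ φ₂f hS' T T' φ φ₁ hφ₁ φ₃ hφ₃ n = φ₁.f n ≫ T'.f.f n := by
  unfold φ₂f
  simp only [Preadditive.comp_add, f_r_assoc, f_g_assoc, zero_comp, add_zero]

lemma φ₂f_g (n : ℕ) : φ₂f hS' T T' φ φ₁ hφ₁ φ₃ hφ₃ n ≫ T'.g.f n = T.g.f n ≫ φ₃.f n := by
  unfold φ₂f
  simp only [Preadditive.add_comp, assoc, f_g, comp_zero, s_g, comp_id, zero_add, add_zero]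

lemma φ₂f_comm (n : ℕ) :
    φ₂f hS' T T' φ φ₁ hφ₁ φ₃ hφ₃ (n + 1) ≫ T'.P₂.complex.d (n + 1) n =
    T.P₂.complex.d (n + 1) n ≫ φ₂f hS' T T' φ φ₁ hφ₁ φ₃ hφ₃ n := by
  have c1 : φ₁.f (n + 1) ≫ T'.P₁.complex.d (n + 1) n =
      T.P₁.complex.d (n + 1) n ≫ φ₁.f n := φ₁.comm _ _
  have c3 : φ₃.f (n + 1) ≫ T'.P₃.complex.d (n + 1) n =
      T.P₃.complex.d (n + 1) n ≫ φ₃.f n := φ₃.comm _ _
  have key : φ₃.f (n + 1) ≫ θ T' n +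
      η hS' T T' φ φ₁ hφ₁ φ₃ hφ₃ (n + 1) ≫ T'.P₁.complex.d (n + 1) n =
      θ T n ≫ φ₁.f n + T.P₃.complex.d (n + 1) n ≫ η hS' T T' φ φ₁ hφ₁ φ₃ hφ₃ n := by
    rw [η_d, ψ]
    abel
  rw [d₂_eq T' n, d₂_eq T n]
  unfold φ₂f
  simp only [Preadditive.add_comp, Preadditive.comp_add, assoc, f_r_assoc, f_g_assoc,
    s_r_assoc, s_g_assoc, zero_comp, comp_zero, add_zero, zero_add]
  rw [reassoc_of% c1, reassoc_of% c3]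
  have key' := congrArg (fun t => T.g.f (n + 1) ≫ t ≫ T'.f.f n) key
  simp only [Preadditive.add_comp, Preadditive.comp_add, assoc] at key'
  have e : ∀ (A B C' D E F : T.P₂.complex.X (n + 1) ⟶ T'.P₂.complex.X n),
      C' + B = E + F → A + B + C' + D = A + E + D + F := by
    intro A B C' D E F h
    have h' : A + B + C' + D = A + (C' + B) + D := by abel
    rw [h', h]
    abel
  exact e _ _ _ _ _ _ key'

/-- the middle map -/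
noncomputable def φ₂ : T.P₂.complex ⟶ T'.P₂.complex where
  f n := φ₂f hS' T T' φ φ₁ hφ₁ φ₃ hφ₃ n
  comm' i j hij := by
    obtain rfl : j + 1 = i := hij
    exact φ₂f_comm hS' T T' φ φ₁ hφ₁ φ₃ hφ₃ j

lemma f_φ₂ : T.f ≫ φ₂ hS' T T' φ φ₁ hφ₁ φ₃ hφ₃ = φ₁ ≫ T'.f := by
  ext n
  exact f_φ₂f hS' T T' φ φ₁ hφ₁ φ₃ hφ₃ n

lemma φ₂_g : φ₂ hS' T T' φ φ₁ hφ₁ φ₃ hφ₃ ≫ T'.g = T.g ≫ φ₃ := by
  ext n
  exact φ₂f_g hS' T T' φ φ₁ hφ₁ φ₃ hφ₃ n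

include hS' hφ₁ hφ₃ in
/-- a morphism of short exact sequences lifts to a morphism between resolutions of the
sequences, extending given lifts on the two ends -/
theorem exists_mid : ∃ ψ₂ : T.P₂.complex ⟶ T'.P₂.complex,
    T.f ≫ ψ₂ = φ₁ ≫ T'.f ∧ ψ₂ ≫ T'.g = T.g ≫ φ₃ :=
  ⟨φ₂ hS' T T' φ φ₁ hφ₁ φ₃ hφ₃, f_φ₂ hS' T T' φ φ₁ hφ₁ φ₃ hφ₃,
    φ₂_g hS' T T' φ φ₁ hφ₁ φ₃ hφ₃⟩

end Groth.Agent.Lib.Helper68.ProjLift
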