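import Groth.Agent.Lib.Helper68.Horseshoe6

/-! Resolutions of short exact sequences by short exact sequences of projective resolutions:
the structure, its degreewise splittings, twisting maps and connecting morphisms. -/

set_option autoImplicit false
universe v u v' u'

open CategoryTheory Category Limits

namespace Groth.Agent.Lib.Helper68.ProjSES

open Groth.Agent.Lib.Helper68.Horseshoe

variable {C : Type u} [Category.{v} C] [Abelian C]

/-- a projective resolution of a short complex: projective resolutions of the three objects with
compatible chain maps forming a short exact sequence of complexes -/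
structure PSESRes (S : ShortComplex C) where
  /-- resolution of the left object -/
  P₁ : ProjectiveResolution S.X₁
  /-- resolution of the middle object -/
  P₂ : ProjectiveResolution S.X₂
  /-- resolution of the right object -/
  P₃ : ProjectiveResolution S.X₃
  /-- chain map over `S.f` -/
  f : P₁.complex ⟶ P₂.complex
  /-- chain map over `S.g` -/
  g : P₂.complex ⟶ P₃.complex
  zero : f ≫ g = 0
  f_aug : f.f 0 ≫ aug P₂ = aug P₁ ≫ S.f
  g_aug : g.f 0 ≫ aug P₃ = aug P₂ ≫ S.g
  shortExact : (ShortComplex.mk f g zero).ShortExact

namespace PSESRes

variable {S : ShortComplex C} (T : PSESRes S)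

/-- the short exact sequence of complexes -/
abbrev cx : ShortComplex (ChainComplex C ℕ) := ShortComplex.mk T.f T.g T.zero

/-- degreewise splitting -/
noncomputable def splitting (n : ℕ) :
    (T.cx.map (HomologicalComplex.eval C _ n)).Splitting :=
  have h : (T.cx.map (HomologicalComplex.eval C _ n)).ShortExact :=
    T.shortExact.map_of_exact (HomologicalComplex.eval C _ n)
  have : Mono (T.cx.map (HomologicalComplex.eval C _ n)).f := h.mono_f
  have : Epi (T.cx.map (HomologicalComplex.eval C _ n)).g := h.epi_g
  have : Projective (T.cx.map (HomologicalComplex.eval C _ n)).X₃ := T.P₃.projective n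
  ShortComplex.Splitting.ofExactOfSection _ h.exact
    (Projective.factorThru (𝟙 _) (T.cx.map (HomologicalComplex.eval C _ n)).g) (by simp)
    inferInstance

variable {D : Type u'} [Category.{v'} D] [Abelian D] (F : C ⥤ D) [F.Additive]

theorem map_shortExact :
    (T.cx.map (F.mapHomologicalComplex (ComplexShape.down ℕ))).ShortExact := by
  apply HomologicalComplex.shortExact_of_degreewise_shortExact
  intro n
  exact ((T.splitting n).map F).shortExact

variable [HasProjectiveResolutions C]

/-- the connecting morphism computed from the resolution -/
noncomputable def delta (n : ℕ) :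
    (F.leftDerived (n + 1)).obj S.X₃ ⟶ (F.leftDerived n).obj S.X₁ :=
  (T.P₃.isoLeftDerivedObj F (n + 1)).hom ≫ (T.map_shortExact F).δ (n + 1) n (rel_succ n) ≫
    (T.P₁.isoLeftDerivedObj F n).inv

end PSESRes

/-- the horseshoe resolution of a short exact sequence -/
noncomputable def horseshoe {S : ShortComplex C} (hS : S.ShortExact)
    (P₁ : ProjectiveResolution S.X₁) (P₃ : ProjectiveResolution S.X₃) : PSESRes S where
  P₁ := P₁
  P₂ := midRes hS P₁ P₃
  P₃ := P₃
  f := midι hS P₁ P₃
  g := midρ hS P₁ P₃
  zero := midι_midρ hS P₁ P₃
  f_aug := midι_comm hS P₁ P₃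
  g_aug := midρ_comm hS P₁ P₃
  shortExact := midSC_shortExact hS P₁ P₃

end Groth.Agent.Lib.Helper68.ProjSES
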