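import Groth.Agent.Lib.Helper68.CovSS

/-! The spectral sequence `H^p(R, ℋ^q(M)) ⇒ H^{p+q}(aR, M)` for a presheaf of sets `R`. -/

set_option autoImplicit false
universe u

open CategoryTheory Opposite Limits Abelian

namespace Groth.Agent.Lib.Helper68.PshSS

open Groth.Agent.Lib.Helper68.CovSS

variable {C : Type u} [SmallCategory C] (J : GrothendieckTopology C) (R : Cᵒᵖ ⥤ Type u)

lemma isIso_free_toSheafify :
    IsIso ((presheafToSheaf J AddCommGrpCat.{u}).map
      (Functor.whiskerRight (toSheafify J R) AddCommGrpCat.free.{u})) := by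
  have hW : J.W (A := AddCommGrpCat.{u})
      (Functor.whiskerRight (toSheafify J R) AddCommGrpCat.free.{u}) := by
    intro Z hZ
    have h1 := (AddCommGrpCat.adj.{u}.whiskerRight Cᵒᵖ).map_comp_bijective_iff (toSheafify J R) Z
    refine h1.2 ?_
    exact (J.W_toSheafify R) (Z ⋙ forget AddCommGrpCat.{u})
      ((Presheaf.isSheaf_iff_isSheaf_forget J Z (forget AddCommGrpCat.{u})).1 hZ)
  exact (J.W_iff _).1 hW

/-- the free abelian sheaf on the sheaf associated to `R` -/
noncomputable abbrev ZaR : Sheaf J AddCommGrpCat.{u} :=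
  (presheafToSheaf J AddCommGrpCat.{u}).obj
    (((presheafToSheaf J (Type u)).obj R).obj ⋙ AddCommGrpCat.free.{u})

/-- `a(ℤ[R]) ≅ ℤ[aR]` -/
noncomputable def freeIso :
    (presheafToSheaf J AddCommGrpCat.{u}).obj (R ⋙ AddCommGrpCat.free.{u}) ≅ ZaR J R :=
  haveI := isIso_free_toSheafify J R
  asIso ((presheafToSheaf J AddCommGrpCat.{u}).map
    (Functor.whiskerRight (toSheafify J R) AddCommGrpCat.free.{u}))

/-- the presheaf of sets as a sheaf for the trivial topology -/
abbrev RK : Sheaf (⊥ : GrothendieckTopology C) (Type u) := ⟨R, Presheaf.isSheaf_bot _⟩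

/-- morphisms out of the free abelian presheaf on `R` -/
noncomputable def θ (M : Sheaf J AddCommGrpCat.{u}) :
    (T J ⋙ S (RK R)).obj M ≃+ (ZaR J R ⟶ M) :=
  (((sheafificationAdjunction (⊥ : GrothendieckTopology C) AddCommGrpCat.{u}).homAddEquiv
      (R ⋙ AddCommGrpCat.free.{u}) ((T J).obj M)).trans
    ((sheafificationAdjunction J AddCommGrpCat.{u}).homAddEquiv
      (R ⋙ AddCommGrpCat.free.{u}) M).symm).trans
    (precompAddEquiv (freeIso J R).symm M)

lemma θ_naturality {M M' : Sheaf J AddCommGrpCat.{u}} (f : M ⟶ M')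
    (x : (T J ⋙ S (RK R)).obj M) :
    θ J R M' ((T J ⋙ S (RK R)).map f x) = θ J R M x ≫ f := by
  change (freeIso J R).symm.hom ≫
      ((sheafificationAdjunction J AddCommGrpCat.{u}).homEquiv _ M').symm
        ((sheafificationAdjunction (⊥ : GrothendieckTopology C) AddCommGrpCat.{u}).homEquiv _
          ((T J).obj M') (x ≫ (T J).map f)) =
    ((freeIso J R).symm.hom ≫
      ((sheafificationAdjunction J AddCommGrpCat.{u}).homEquiv _ M).symm
        ((sheafificationAdjunction (⊥ : GrothendieckTopology C) AddCommGrpCat.{u}).homEquiv _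
          ((T J).obj M) x)) ≫ f
  rw [Adjunction.homEquiv_naturality_right, Category.assoc,
    ← Adjunction.homEquiv_naturality_right_symm]
  rfl

/-- **The spectral sequence of a presheaf of sets**. -/
theorem presheaf_spectralSequence (M : Sheaf J AddCommGrpCat.{u}) :
    ∃ (E : E₂CohomologicalSpectralSequence AddCommGrpCat.{u})
      (a : SpSeq.Abutment E (fun n : ℤ =>
        if 0 ≤ n then AddCommGrpCat.of (CohCx.HK ((presheafToSheaf J (Type u)).obj R) M n.toNat)
        else AddCommGrpCat.of PUnit.{u + 1})),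
      (∀ n, a.IsFinite n) ∧ SpSeq.IsBounded E ∧
      ∀ p q : ℤ, Nonempty ((E.page 2 le_rfl).X (p, q) ≅
        (if 0 ≤ p ∧ 0 ≤ q then
          AddCommGrpCat.of (CohCx.HK (J := (⊥ : GrothendieckTopology C)) ⟨R, Presheaf.isSheaf_bot _⟩
            ⟨M.cohomologyPresheaf q.toNat, Presheaf.isSheaf_bot _⟩ p.toNat)
         else AddCommGrpCat.of PUnit.{u + 1})) := by
  have hT : ∀ Q : Sheaf J AddCommGrpCat.{u}, Injective Q → ∀ q : ℕ, 0 < q →
      IsZero (((S (RK R)).rightDerived q).obj ((T J).obj Q)) :=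
    fun Q hQ q hq => isZero_rightDerived_S_T J (RK R) Q q hq
  obtain ⟨E, a, ha, hb, hE⟩ := Groth.Agent.Lib.Helper68.GSSDer.exists_spectralSequence_of_iso
    (T J) (S (RK R)) hT M
    (fun n : ℤ => if 0 ≤ n then
        AddCommGrpCat.of (CohCx.HK ((presheafToSheaf J (Type u)).obj R) M n.toNat)
        else AddCommGrpCat.of PUnit.{u + 1})
    (fun n hn => (ExtRD.nonempty_iso (T J ⋙ S (RK R)) (ZaR J R) (θ J R)
      (fun f x => θ_naturality J R f x) M n.toNat).some ≪≫ eqToIso (by rw [if_pos hn]))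
    (fun n hn => by
      rw [if_neg (by lia)]
      exact AddCommGrpCat.isZero_of_subsingleton _)
  refine ⟨E, a, ha, hb, fun p q => ?_⟩
  obtain ⟨e⟩ := hE p q
  by_cases hpq : 0 ≤ p ∧ 0 ≤ q
  · rw [if_pos hpq] at e ⊢
    obtain ⟨e1⟩ := nonempty_rightDerived_T_iso J M q.toNat
    obtain ⟨e2⟩ := nonempty_rightDerived_S_iso (RK R)
      ⟨Sheaf.cohomologyPresheaf.{u} M q.toNat, Presheaf.isSheaf_bot _⟩ p.toNat
    exact ⟨e ≪≫ ((S (RK R)).rightDerived p.toNat).mapIso e1 ≪≫ e2⟩
  · rw [if_neg hpq] at e ⊢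
    exact ⟨e ≪≫ (isZero_zero _).iso (AddCommGrpCat.isZero_of_subsingleton _)⟩

end Groth.Agent.Lib.Helper68.PshSS
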