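import Mathlib
import Groth.Agent.Lib.Helper26.ClosedEmbSh

/-!
# Quasi-homeomorphisms and sheaf pullback (helper68)

* `exists_res_eq_of_unit_res_eq`: stalkwise injectivity of `H_{f x₀} → (f⁻¹H)_{x₀}` in elementwise form.
* `injective_of_isEquivalence`, `surjective_of_isEquivalence`: if `f⁻¹` on `A`-valued sheaves is an
  equivalence (and there is suitable test data), `U ↦ f⁻¹ U` is bijective on opens.
* `isEquivalence_pullback_of_bijective`: the converse.
-/

set_option autoImplicit false
set_option linter.unusedSectionVars false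
universe w v u

open CategoryTheory TopologicalSpace Opposite CategoryTheory.Limits TopCat

namespace Groth.Agent.Lib.Helper68.QHomeo

section VL

variable (A : Type u) [Category.{w} A] {FA : A → A → Type*} {CA : A → Type w}
variable [∀ X Y, FunLike (FA X Y) (CA X) (CA Y)] [ConcreteCategory.{w} A FA] [HasColimits A]
variable [HasLimits A] [PreservesLimits (CategoryTheory.forget A)]
variable [PreservesFilteredColimits (CategoryTheory.forget A)]
variable [(CategoryTheory.forget A).ReflectsIsomorphisms]
variable {X₀ X : TopCat.{w}} (f : X₀ ⟶ X)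

open Classical in
lemma isIso_skyscraper_map {Y : TopCat.{w}} (p : Y) (M : A) {U V : (Opens Y)ᵒᵖ} (i : U ⟶ V)
    (h : p ∈ V.unop) : IsIso ((skyscraperPresheaf p M).map i) := by
  dsimp [skyscraperPresheaf]
  rw [dif_pos h]
  infer_instance

open Classical in
/-- If two sections of `H` over `U ∋ f x₀` have images under the unit `H ⟶ f_* f⁻¹ H` which agree
on some neighbourhood `V` of `x₀`, then they agree on a neighbourhood of `f x₀`. -/
theorem exists_res_eq_of_unit_res_eq (H : TopCat.Sheaf A X) (x₀ : X₀) (U : Opens X)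
    (hU : f x₀ ∈ U) (t t' : ToType (H.obj.obj (op U))) (V : Opens X₀) (hx : x₀ ∈ V)
    (hV : V ≤ (Opens.map f).obj U)
    (h : ((TopCat.Sheaf.pullback A f).obj H).obj.map (homOfLE hV).op
        (((TopCat.Sheaf.pullbackPushforwardAdjunction A f).unit.app H).hom.app (op U) t) =
      ((TopCat.Sheaf.pullback A f).obj H).obj.map (homOfLE hV).op
        (((TopCat.Sheaf.pullbackPushforwardAdjunction A f).unit.app H).hom.app (op U) t')) :
    ∃ (W : Opens X) (_ : f x₀ ∈ W) (hW : W ≤ U),
      H.obj.map (homOfLE hW).op t = H.obj.map (homOfLE hW).op t' := by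
  let adj := TopCat.Sheaf.pullbackPushforwardAdjunction A f
  let M : A := TopCat.Presheaf.stalk H.obj (f x₀)
  let φ : H ⟶ skyscraperSheaf (f x₀) M :=
    ⟨StalkSkyscraperPresheafAdjunctionAuxs.toSkyscraperPresheaf (f x₀) (𝟙 M)⟩
  let ψ : H ⟶ (TopCat.Sheaf.pushforward A f).obj (skyscraperSheaf x₀ M) :=
    φ ≫ (Groth.Agent.Lib.Helper26.ClosedEmbSh.skyIso f x₀ M).hom
  let φt : (TopCat.Sheaf.pullback A f).obj H ⟶ skyscraperSheaf x₀ M :=
    (adj.homEquiv H (skyscraperSheaf x₀ M)).symm ψ
  have e1 : ψ = adj.unit.app H ≫ (TopCat.Sheaf.pushforward A f).map φt := by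
    have h0 := (adj.homEquiv H (skyscraperSheaf x₀ M)).apply_symm_apply ψ
    rw [Adjunction.homEquiv_unit] at h0
    exact h0.symm
  -- evaluate on sections over `U`
  have e2 : ψ.hom.app (op U) t = φt.hom.app (op ((Opens.map f).obj U)) ((adj.unit.app H).hom.app (op U) t) := by
    rw [e1]
    exact ConcreteCategory.comp_apply ((adj.unit.app H).hom.app (op U))
      (((TopCat.Sheaf.pushforward A f).map φt).hom.app (op U)) t
  have e2' : ψ.hom.app (op U) t' = φt.hom.app (op ((Opens.map f).obj U)) ((adj.unit.app H).hom.app (op U) t') := by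
    rw [e1]
    exact ConcreteCategory.comp_apply ((adj.unit.app H).hom.app (op U))
      (((TopCat.Sheaf.pushforward A f).map φt).hom.app (op U)) t'
  have nat := fun k => ConcreteCategory.congr_hom (φt.hom.naturality (homOfLE hV).op) k
  simp only [ConcreteCategory.comp_apply] at nat
  have hiso : IsIso ((skyscraperSheaf x₀ M).obj.map (homOfLE hV).op) :=
    isIso_skyscraper_map A x₀ M (homOfLE hV).op hx
  have hinj : Function.Injective ((skyscraperSheaf x₀ M).obj.map (homOfLE hV).op) :=
    (ConcreteCategory.bijective_of_isIso _).1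
  have e3 : ψ.hom.app (op U) t = ψ.hom.app (op U) t' := by
    rw [e2, e2']
    apply hinj
    exact (nat _).symm.trans ((congrArg _ h).trans (nat _))
  -- `ψ` on `U` is the germ map followed by an isomorphism
  have e4 : ψ.hom.app (op U) = TopCat.Presheaf.germ H.obj U (f x₀) hU ≫ 𝟙 M ≫
      eqToHom (if_pos hU).symm := by
    change (StalkSkyscraperPresheafAdjunctionAuxs.toSkyscraperPresheaf (f x₀) (𝟙 M)).app (op U) ≫
      𝟙 _ = _
    rw [Category.comp_id]
    exact dif_pos hU
  have e4' : ∀ k, ψ.hom.app (op U) k = (eqToHom (if_pos hU).symm :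
      M ⟶ (if f x₀ ∈ U then M else ⊤_ A)) (TopCat.Presheaf.germ H.obj U (f x₀) hU k) := by
    intro k
    refine (ConcreteCategory.congr_hom e4 k).trans ?_
    rw [Category.id_comp]
    exact ConcreteCategory.comp_apply _ _ k
  rw [e4', e4'] at e3
  have hinj2 : Function.Injective (eqToHom (if_pos hU).symm :
      M ⟶ (if f x₀ ∈ U then M else ⊤_ A)) :=
    (ConcreteCategory.bijective_of_isIso _).1
  have e5 := hinj2 e3
  obtain ⟨W, hW, iU, iV, hres⟩ := TopCat.Presheaf.germ_eq H.obj (f x₀) hU hU t t' e5
  refine ⟨W, hW, iU.le, ?_⟩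
  have hiU : homOfLE iU.le = iU := Subsingleton.elim _ _
  have hiV : iV = iU := Subsingleton.elim _ _
  rw [hiU]
  rw [hiV] at hres
  exact hres

/-- test data: a sheaf with a family of global sections `s C` and a section `z` such that
`s C` and `z` agree on `V` exactly when `V` is disjoint from `C`. -/
structure TestData (Y : TopCat.{w}) where
  T : TopCat.Sheaf A Y
  s : Set Y → ToType (T.obj.obj (op ⊤))
  z : ToType (T.obj.obj (op ⊤))
  h : ∀ (C : Set Y) (V : Opens Y),
    T.obj.map (homOfLE (le_top : V ≤ ⊤)).op (s C) = T.obj.map (homOfLE (le_top : V ≤ ⊤)).op z ↔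
      Disjoint (V : Set Y) C

variable {A}

theorem injective_of_isEquivalence (D : TestData A X)
    [(TopCat.Sheaf.pullback A f).IsEquivalence] :
    Function.Injective (fun U : Opens X => (Opens.map f).obj U) := by
  let adj := TopCat.Sheaf.pullbackPushforwardAdjunction A f
  have key : ∀ U V : Opens X, (Opens.map f).obj U = (Opens.map f).obj V → U ≤ V := by
    intro U V heq
    let K := (TopCat.Sheaf.pullback A f).obj D.T
    let η : D.T ⟶ (TopCat.Sheaf.pushforward A f).obj K := adj.unit.app D.T
    have : IsIso adj.unit := Adjunction.unit_isIso_of_L_fully_faithful adj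
    have hη : IsIso η := (inferInstance : IsIso (adj.unit.app D.T))
    have hηU : IsIso (η.hom.app (op U)) := by
      have h1 : IsIso ((TopCat.Sheaf.forget A X).map η) := Functor.map_isIso _ η
      have h2 : IsIso η.hom := h1
      infer_instance
    have hinj : Function.Injective (η.hom.app (op U)) := (ConcreteCategory.bijective_of_isIso _).1
    have hV : D.T.obj.map (homOfLE (le_top : V ≤ ⊤)).op (D.s (V : Set X)ᶜ) =
        D.T.obj.map (homOfLE (le_top : V ≤ ⊤)).op D.z := by
      rw [D.h]
      exact disjoint_compl_right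
    -- naturality of η
    have natU := fun k => ConcreteCategory.congr_hom (η.hom.naturality (homOfLE (le_top : U ≤ ⊤)).op) k
    have natV := fun k => ConcreteCategory.congr_hom (η.hom.naturality (homOfLE (le_top : V ≤ ⊤)).op) k
    simp only [ConcreteCategory.comp_apply] at natU natV
    have hle : (Opens.map f).obj U ≤ (Opens.map f).obj V := heq.le
    have hU : D.T.obj.map (homOfLE (le_top : U ≤ ⊤)).op (D.s (V : Set X)ᶜ) =
        D.T.obj.map (homOfLE (le_top : U ≤ ⊤)).op D.z := by
      apply hinj
      rw [natU, natU]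
      have e : ∀ k, ((TopCat.Sheaf.pushforward A f).obj K).obj.map (homOfLE (le_top : U ≤ ⊤)).op k =
          K.obj.map (homOfLE hle).op
            (((TopCat.Sheaf.pushforward A f).obj K).obj.map (homOfLE (le_top : V ≤ ⊤)).op k) := by
        intro k
        have e0 : K.obj.map ((Opens.map f).op.map (homOfLE (le_top : U ≤ ⊤)).op) =
            K.obj.map ((Opens.map f).op.map (homOfLE (le_top : V ≤ ⊤)).op) ≫
              K.obj.map (homOfLE hle).op := by
          rw [← K.obj.map_comp]
          rfl
        exact (ConcreteCategory.congr_hom e0 k).trans (ConcreteCategory.comp_apply _ _ k)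
      rw [e, e, ← natV, ← natV, hV]
    rw [D.h] at hU
    intro x hx
    by_contra hxV
    exact (Set.disjoint_left.1 hU) hx hxV
  intro U V heq
  exact le_antisymm (key U V heq) (key V U heq.symm)

theorem surjective_of_isEquivalence (D : TestData A X₀)
    [(TopCat.Sheaf.pullback A f).IsEquivalence] :
    Function.Surjective (fun U : Opens X => (Opens.map f).obj U) := by
  intro W
  let adj := TopCat.Sheaf.pullbackPushforwardAdjunction A f
  have hR : (TopCat.Sheaf.pushforward A f).IsEquivalence :=
    adj.isEquivalence_right_of_isEquivalence_left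
  have hcounit : IsIso adj.counit := Adjunction.counit_isIso_of_R_fully_faithful adj
  let H : TopCat.Sheaf A X := (TopCat.Sheaf.pushforward A f).obj D.T
  let K : TopCat.Sheaf A X₀ := (TopCat.Sheaf.pullback A f).obj H
  let η : H ⟶ (TopCat.Sheaf.pushforward A f).obj K := adj.unit.app H
  let ε : K ⟶ D.T := adj.counit.app D.T
  have hε : IsIso ε := (inferInstance : IsIso (adj.counit.app D.T))
  have hεW : IsIso (ε.hom.app (op W)) := by
    have h1 : IsIso ((TopCat.Sheaf.forget A X₀).map ε) := Functor.map_isIso _ ε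
    have h2 : IsIso ε.hom := h1
    infer_instance
  have hinj : Function.Injective (ε.hom.app (op W)) := (ConcreteCategory.bijective_of_isIso _).1
  -- the two sections of `H` over `⊤`
  let ι : (Opens.map f).obj ⊤ ⟶ (⊤ : Opens X₀) := homOfLE le_top
  let t : ToType (H.obj.obj (op ⊤)) := D.T.obj.map ι.op (D.s (W : Set X₀)ᶜ)
  let t' : ToType (H.obj.obj (op ⊤)) := D.T.obj.map ι.op D.z
  -- triangle identity on sections
  have tri : ∀ k : ToType (H.obj.obj (op ⊤)),
      ε.hom.app (op ((Opens.map f).obj ⊤)) (η.hom.app (op ⊤) k) = k := by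
    intro k
    have h0 := adj.right_triangle_components D.T
    have h1 := congrArg (fun φ : H ⟶ H => φ.hom.app (op ⊤)) h0
    have h2 : η.hom.app (op ⊤) ≫ ε.hom.app (op ((Opens.map f).obj ⊤)) = 𝟙 _ := h1
    have h3 := ConcreteCategory.congr_hom h2 k
    exact (ConcreteCategory.comp_apply (η.hom.app (op ⊤))
      (ε.hom.app (op ((Opens.map f).obj ⊤))) k).symm.trans (h3.trans (ConcreteCategory.id_apply k))
  let U₀ : Opens X := sSup {U : Opens X | (Opens.map f).obj U ≤ W}
  refine ⟨U₀, le_antisymm ?_ ?_⟩
  · intro x₀ hx₀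
    obtain ⟨U, hU, hxU⟩ := Opens.mem_sSup.1 (show f x₀ ∈ U₀ from hx₀)
    exact hU hxU
  · intro x₀ hx₀
    have hWtop : W ≤ (Opens.map f).obj ⊤ := fun _ _ => trivial
    have hD : D.T.obj.map (homOfLE (le_top : W ≤ ⊤)).op (D.s (W : Set X₀)ᶜ) =
        D.T.obj.map (homOfLE (le_top : W ≤ ⊤)).op D.z := by
      rw [D.h]
      exact disjoint_compl_right
    have natε := fun k => ConcreteCategory.congr_hom (ε.hom.naturality (homOfLE hWtop).op) k
    simp only [ConcreteCategory.comp_apply] at natε
    have hcomp : ∀ k : ToType (D.T.obj.obj (op ⊤)),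
        D.T.obj.map (homOfLE hWtop).op (D.T.obj.map ι.op k) =
          D.T.obj.map (homOfLE (le_top : W ≤ ⊤)).op k := by
      intro k
      have e0 : D.T.obj.map (homOfLE (le_top : W ≤ ⊤)).op =
          D.T.obj.map ι.op ≫ D.T.obj.map (homOfLE hWtop).op := by
        rw [← D.T.obj.map_comp]
        rfl
      exact ((ConcreteCategory.congr_hom e0 k).trans (ConcreteCategory.comp_apply _ _ k)).symm
    have h : K.obj.map (homOfLE hWtop).op (η.hom.app (op ⊤) t) =
        K.obj.map (homOfLE hWtop).op (η.hom.app (op ⊤) t') := by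
      apply hinj
      refine (natε _).trans (Eq.trans ?_ (natε _).symm)
      rw [tri, tri]
      exact (hcomp _).trans (hD.trans (hcomp _).symm)
    obtain ⟨U', hxU', hU', hres⟩ := exists_res_eq_of_unit_res_eq A f H x₀ ⊤ trivial t t' W hx₀ hWtop h
    have hU'W : (Opens.map f).obj U' ≤ W := by
      have hres' : D.T.obj.map (homOfLE (le_top : (Opens.map f).obj U' ≤ ⊤)).op (D.s (W : Set X₀)ᶜ) =
          D.T.obj.map (homOfLE (le_top : (Opens.map f).obj U' ≤ ⊤)).op D.z := by
        have e0 : D.T.obj.map (homOfLE (le_top : (Opens.map f).obj U' ≤ ⊤)).op =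
            D.T.obj.map ι.op ≫ D.T.obj.map ((Opens.map f).op.map (homOfLE hU').op) := by
          rw [← D.T.obj.map_comp]
          rfl
        rw [e0, ConcreteCategory.comp_apply, ConcreteCategory.comp_apply]
        exact hres
      rw [D.h] at hres'
      intro y hy
      by_contra hyW
      exact (Set.disjoint_left.1 hres') hy hyW
    exact Opens.mem_sSup.2 ⟨U', hU'W, hxU'⟩

end VL

section data

variable (Y : TopCat.{u})

/-- the presheaf of all `ℤ`-valued functions, as a presheaf of abelian groups -/
def funPresheaf : TopCat.Presheaf AddCommGrpCat.{u} Y where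
  obj V := AddCommGrpCat.of (V.unop → ℤ)
  map {V W} i := AddCommGrpCat.ofHom
    { toFun := fun g => g ∘ i.unop
      map_zero' := rfl
      map_add' := fun _ _ => rfl }

lemma funPresheaf_isSheaf : (funPresheaf Y).IsSheaf := by
  rw [TopCat.Presheaf.isSheaf_iff_isSheaf_comp (forget AddCommGrpCat.{u})]
  exact TopCat.Presheaf.toType_isSheaf Y ℤ

def funSheaf : TopCat.Sheaf AddCommGrpCat.{u} Y := ⟨funPresheaf Y, funPresheaf_isSheaf Y⟩

open Classical in
noncomputable def testDataAb : TestData AddCommGrpCat.{u} Y where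
  T := funSheaf Y
  s C := fun x : (⊤ : Opens Y) => if x.1 ∈ C then (1 : ℤ) else 0
  z := fun _ => (0 : ℤ)
  h C V := by
    constructor
    · intro h
      rw [Set.disjoint_left]
      intro x hxV hxC
      have := congrFun h ⟨x, hxV⟩
      change (if x ∈ C then (1 : ℤ) else 0) = 0 at this
      rw [if_pos hxC] at this
      exact one_ne_zero this
    · intro h
      funext x
      change (if x.1 ∈ C then (1 : ℤ) else 0) = 0
      rw [if_neg]
      exact fun hxC => (Set.disjoint_left.1 h) x.2 hxC

open Classical in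
noncomputable def testDataType : TestData (Type u) Y where
  T := TopCat.sheafToType Y (ULift.{u} Bool)
  s C := fun x : (⊤ : Opens Y) => ULift.up (decide (x.1 ∈ C))
  z := fun _ => ULift.up false
  h C V := by
    constructor
    · intro h
      rw [Set.disjoint_left]
      intro x hxV hxC
      have := congrFun h ⟨x, hxV⟩
      change ULift.up (decide (x ∈ C)) = ULift.up false at this
      simp [hxC] at this
    · intro h
      funext x
      change ULift.up (decide (x.1 ∈ C)) = ULift.up false
      have : x.1 ∉ C := fun hxC => (Set.disjoint_left.1 h) x.2 hxC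
      simp [this]

end data

section equiv

variable {X₀ X : TopCat.{w}} (f : X₀ ⟶ X)
  (hbij : Function.Bijective (fun U : Opens X => (Opens.map f).obj U))

include hbij in
lemma le_of_map_le {U V : Opens X} (h : (Opens.map f).obj U ≤ (Opens.map f).obj V) : U ≤ V := by
  have h1 : (Opens.map f).obj (U ⊓ V) = (Opens.map f).obj U := by
    apply le_antisymm
    · intro x hx; exact hx.1
    · intro x hx; exact ⟨hx, h hx⟩
  have h2 : U ⊓ V = U := hbij.1 h1
  exact inf_eq_left.1 h2

/-- the order isomorphism `U ↦ f⁻¹ U` -/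
noncomputable def oiso : Opens X ≃o Opens X₀ where
  toEquiv := Equiv.ofBijective _ hbij
  map_rel_iff' := ⟨le_of_map_le f hbij, fun h => (Opens.map f).monotone h⟩

lemma oiso_apply (U : Opens X) : oiso f hbij U = (Opens.map f).obj U := rfl

lemma map_oiso_symm (W : Opens X₀) : (Opens.map f).obj ((oiso f hbij).symm W) = W :=
  (oiso f hbij).apply_symm_apply W

lemma oiso_symm_map (U : Opens X) : (oiso f hbij).symm ((Opens.map f).obj U) = U :=
  (oiso f hbij).symm_apply_apply U

/-- the inverse functor on opens -/
noncomputable def invF : Opens X₀ ⥤ Opens X := (oiso f hbij).symm.monotone.functor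

instance : (invF f hbij).IsEquivalence :=
  (oiso f hbij).equivalence.isEquivalence_inverse

lemma coverPreserving_invF : CoverPreserving (Opens.grothendieckTopology X₀)
    (Opens.grothendieckTopology X) (invF f hbij) := by
  constructor
  intro W S hS x hx
  let T : Opens X := sSup {U | ∃ (V₀ : Opens X₀) (g : V₀ ⟶ W), S g ∧ U = (oiso f hbij).symm V₀}
  have hT : (Opens.map f).obj T = (Opens.map f).obj ((oiso f hbij).symm W) := by
    rw [map_oiso_symm]
    apply le_antisymm
    · intro x₀ hx₀
      obtain ⟨U, ⟨V₀, g, hg, rfl⟩, hxU⟩ := Opens.mem_sSup.1 (show f x₀ ∈ T from hx₀)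
      have : x₀ ∈ (Opens.map f).obj ((oiso f hbij).symm V₀) := hxU
      rw [map_oiso_symm] at this
      exact g.le this
    · intro x₀ hx₀
      obtain ⟨V₀, g, hg, hxV₀⟩ := hS x₀ hx₀
      have : x₀ ∈ (Opens.map f).obj ((oiso f hbij).symm V₀) := by
        rw [map_oiso_symm]; exact hxV₀
      exact Opens.mem_sSup.2 ⟨_, ⟨V₀, g, hg, rfl⟩, this⟩
  have hT' : T = (oiso f hbij).symm W := hbij.1 hT
  have hx' : x ∈ T := hT' ▸ hx
  obtain ⟨U, ⟨V₀, g, hg, rfl⟩, hxU⟩ := Opens.mem_sSup.1 hx'
  exact ⟨_, (invF f hbij).map g, ⟨_, g, 𝟙 _, hg, Subsingleton.elim _ _⟩, hxU⟩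

instance : (invF f hbij).IsContinuous (Opens.grothendieckTopology X₀)
    (Opens.grothendieckTopology X) := by
  apply Functor.isContinuous_of_coverPreserving
  · exact compatiblePreservingOfFlat _ _
  · exact coverPreserving_invF f hbij

include hbij in
lemma isInducing : Topology.IsInducing f := by
  refine ⟨TopologicalSpace.ext (funext fun s => propext ?_)⟩
  change IsOpen s ↔ @IsOpen _ (TopologicalSpace.induced f _) s
  rw [isOpen_induced_iff]
  constructor
  · intro hs
    obtain ⟨U, hU⟩ := hbij.2 ⟨s, hs⟩
    exact ⟨U.1, U.2, congrArg (fun V : Opens X₀ => (V : Set X₀)) hU⟩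
  · rintro ⟨t, ht, rfl⟩
    exact ht.preimage f.hom.continuous

variable (A : Type u) [Category.{v} A]

/-- the sheaf on `X₀` corresponding to a sheaf on `X` -/
noncomputable def transport (F : TopCat.Sheaf A X) : TopCat.Sheaf A X₀ :=
  ⟨(invF f hbij).op ⋙ F.obj,
    Functor.op_comp_isSheaf (invF f hbij) (Opens.grothendieckTopology X₀)
      (Opens.grothendieckTopology X) ⟨_, F.property⟩⟩

noncomputable def pushTransportIso (F : TopCat.Sheaf A X) :
    (TopCat.Sheaf.pushforward A f).obj (transport f hbij A F) ≅ F :=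
  (fullyFaithfulSheafToPresheaf _ _).preimageIso
    (NatIso.ofComponents
      (fun U => F.obj.mapIso (eqToIso (by
        show op ((oiso f hbij).symm ((Opens.map f).obj U.unop)) = U
        rw [oiso_symm_map])))
      (by
        intro U V g
        dsimp
        change F.obj.map _ ≫ F.obj.map _ = F.obj.map _ ≫ F.obj.map _
        rw [← F.obj.map_comp, ← F.obj.map_comp]
        congr 1))

end equiv

section final

variable (A : Type u) [Category.{w} A] {FA : A → A → Type*} {CA : A → Type w}
variable [∀ X Y, FunLike (FA X Y) (CA X) (CA Y)] [ConcreteCategory.{w} A FA] [HasColimits A]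
variable [HasLimits A] [PreservesLimits (CategoryTheory.forget A)]
variable [PreservesFilteredColimits (CategoryTheory.forget A)]
variable [(CategoryTheory.forget A).ReflectsIsomorphisms]
variable {X₀ X : TopCat.{w}} (f : X₀ ⟶ X)

theorem isEquivalence_pullback_of_bijective
    (hbij : Function.Bijective (fun U : Opens X => (Opens.map f).obj U)) :
    (TopCat.Sheaf.pullback A f).IsEquivalence := by
  have hind := isInducing f hbij
  have h1 := Groth.Agent.Lib.Helper26.ClosedEmbSh.push_full A (i := f) hind
  have h2 := Groth.Agent.Lib.Helper26.ClosedEmbSh.push_faithful A (i := f) hind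
  have h3 : (TopCat.Sheaf.pushforward A f).EssSurj :=
    ⟨fun F => ⟨transport f hbij A F, ⟨pushTransportIso f hbij A F⟩⟩⟩
  have : (TopCat.Sheaf.pushforward A f).IsEquivalence := {}
  exact (TopCat.Sheaf.pullbackPushforwardAdjunction A f).isEquivalence_left_of_isEquivalence_right

theorem bijective_of_isEquivalence (D : TestData A X) (D₀ : TestData A X₀)
    [(TopCat.Sheaf.pullback A f).IsEquivalence] :
    Function.Bijective (fun U : Opens X => (Opens.map f).obj U) :=
  ⟨injective_of_isEquivalence f D, surjective_of_isEquivalence f D₀⟩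

end final

end Groth.Agent.Lib.Helper68.QHomeo
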