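import Groth.Agent.Lib.Helper4.QcGen.Defs
import Groth.Agent.Lib.Helper28.OverProd

set_option autoImplicit false

/-!
# QA3 for S0948 (helper68, for helper4): the objects of the Čech nerve of a map between `S`-coherent
sheaves are `S`-coherent.
-/

namespace Groth.Agent.Lib.Helper68.QcGenA3

universe v u

open CategoryTheory Limits Opposite Simplicial Groth.Agent.Lib.Helper4.QcGen
open Groth.Agent.Lib.Helper28

section General

variable {D : Type u} [Category.{v} D] {T K' : D} (f : K' ⟶ T) (n : ℕ)
  [HasFiniteProducts (Over T)]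
  [HasWidePullback T (fun _ : Fin (n + 1) => K') (fun _ => f)]

/-- the `(n+1)`-fold product of `f` in `Over T` is the wide pullback. -/
noncomputable def prodIsoWidePullback :
    (∏ᶜ fun _ : Fin (n + 1) => Over.mk f).left ≅
      widePullback T (fun _ : Fin (n + 1) => K') (fun _ => f) where
  hom := WidePullback.lift (∏ᶜ fun _ : Fin (n + 1) => Over.mk f).hom
    (fun i => (Pi.π (fun _ : Fin (n + 1) => Over.mk f) i).left)
    (fun i => Over.w (Pi.π (fun _ : Fin (n + 1) => Over.mk f) i))
  inv := (Pi.lift (fun i : Fin (n + 1) =>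
    (Over.homMk (WidePullback.π (fun _ : Fin (n + 1) => f) i)
      (WidePullback.π_arrow (fun _ : Fin (n + 1) => f) i) :
      Over.mk (WidePullback.base (fun _ : Fin (n + 1) => f)) ⟶ Over.mk f)) :
    Over.mk (WidePullback.base (fun _ : Fin (n + 1) => f)) ⟶
      ∏ᶜ fun _ : Fin (n + 1) => Over.mk f).left
  hom_inv_id := by
    set P : Over T := ∏ᶜ fun _ : Fin (n + 1) => Over.mk f with hP
    set Wo : Over T := Over.mk (WidePullback.base (fun _ : Fin (n + 1) => f)) with hWo
    set a : Wo ⟶ P := Pi.lift (fun i : Fin (n + 1) =>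
      (Over.homMk (WidePullback.π (fun _ : Fin (n + 1) => f) i)
        (WidePullback.π_arrow (fun _ : Fin (n + 1) => f) i) : Wo ⟶ Over.mk f)) with ha
    set b : P.left ⟶ widePullback T (fun _ : Fin (n + 1) => K') (fun _ => f) :=
      WidePullback.lift P.hom (fun i => (Pi.π (fun _ : Fin (n + 1) => Over.mk f) i).left)
        (fun i => Over.w (Pi.π (fun _ : Fin (n + 1) => Over.mk f) i)) with hb
    have hbb : b ≫ Wo.hom = P.hom := WidePullback.lift_base _ _ _ _
    let b' : P ⟶ Wo := Over.homMk b hbb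
    have h : b' ≫ a = 𝟙 P := by
      apply Pi.hom_ext
      intro i
      rw [Category.assoc, ha, Pi.lift_π, Category.id_comp]
      apply Over.OverMorphism.ext
      change b ≫ WidePullback.π (fun _ : Fin (n + 1) => f) i = _
      rw [hb, WidePullback.lift_π]
    exact congrArg (fun z => z.left) h
  inv_hom_id := by
    set P : Over T := ∏ᶜ fun _ : Fin (n + 1) => Over.mk f with hP
    set Wo : Over T := Over.mk (WidePullback.base (fun _ : Fin (n + 1) => f)) with hWo
    set a : Wo ⟶ P := Pi.lift (fun i : Fin (n + 1) =>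
      (Over.homMk (WidePullback.π (fun _ : Fin (n + 1) => f) i)
        (WidePullback.π_arrow (fun _ : Fin (n + 1) => f) i) : Wo ⟶ Over.mk f)) with ha
    apply WidePullback.hom_ext
    · intro i
      rw [Category.assoc, WidePullback.lift_π, Category.id_comp]
      have := congrArg (fun z => z.left)
        (Pi.lift_π (fun i : Fin (n + 1) =>
          (Over.homMk (WidePullback.π (fun _ : Fin (n + 1) => f) i)
            (WidePullback.π_arrow (fun _ : Fin (n + 1) => f) i) : Wo ⟶ Over.mk f)) i)
      exact this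
    · rw [Category.assoc, WidePullback.lift_base, Category.id_comp]
      exact Over.w a

end General

variable {C : Type u} [SmallCategory C] {J : GrothendieckTopology C} {S : Set (Sheaf J (Type u))}

lemma scoh_cechNerve (hpb : ∀ {P Z₁ Z₂ W : Sheaf J (Type u)} {fst : P ⟶ Z₁} {snd : P ⟶ Z₂}
      {f : Z₁ ⟶ W} {g : Z₂ ⟶ W}, IsPullback fst snd f g → SCoh S Z₁ → SCoh S Z₂ → SCoh S W →
      SCoh S P)
    {K' T : Sheaf J (Type u)} (f : K' ⟶ T) (hK' : SCoh S K') (hT : SCoh S T) (n : ℕ) :
    SCoh S ((Arrow.mk f).cechNerve.obj (op ⦋n⦌)) := by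
  have h1 : SCoh S (∏ᶜ fun _ : Fin (n + 1) => Over.mk f).left :=
    OverProd.prod_left_mem {Z | SCoh S Z} (fun sq h₁ h₂ h₃ => hpb sq h₁ h₂ h₃) hT n
      (fun _ => Over.mk f) (fun _ => hK')
  have e := prodIsoWidePullback f n
  have sq : IsPullback e.inv e.inv (𝟙 _) (𝟙 _) := IsPullback.of_horiz_isIso ⟨rfl⟩
  exact hpb sq h1 h1 h1

end Groth.Agent.Lib.Helper68.QcGenA3
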