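import Groth.Agent.Lib.Helper68.SuppFlasque
import Groth.Agent.Lib.Helper42.FunctorSESR
import Groth.Agent.Lib.Helper42.QuotExact
import Groth.Prelude.Def_ExtSupp

set_option autoImplicit false
universe u

open CategoryTheory Category Limits Opposite Abelian ModSite

namespace Groth.Agent.Lib.Helper68.RelExt

open Groth.Agent.Lib.Helper42.TensorSheaf Groth.Agent.Lib.Helper42.TensorColim
open Groth.Agent.Lib.Helper42.Flat Groth.Agent.Lib.Helper42.Flat2

section Conj

universe v₁ v₂ u₁ u₂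

variable {𝒜 : Type u₁} [Category.{v₁} 𝒜] {ℬ : Type u₂} [Category.{v₂} ℬ]
  {L₁ L₂ : 𝒜 ⥤ ℬ} {R₁ R₂ : ℬ ⥤ 𝒜} (adj₁ : L₁ ⊣ R₁) (adj₂ : L₂ ⊣ R₂)

lemma homEquiv_comp_conjugate (α : L₂ ⟶ L₁) (A : 𝒜) (B : ℬ) (φ : L₁.obj A ⟶ B) :
    adj₁.homEquiv A B φ ≫ (conjugateEquiv adj₁ adj₂ α).app B =
      adj₂.homEquiv A B (α.app A ≫ φ) := by
  rw [Adjunction.homEquiv_unit, Adjunction.homEquiv_unit, assoc,
    (conjugateEquiv adj₁ adj₂ α).naturality φ, ← assoc, unit_conjugateEquiv, assoc,
    Functor.map_comp]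

end Conj

variable {C : Type u} [SmallCategory C] {J : GrothendieckTopology C} {O : Sheaf J CommRingCat.{u}}

/-- the basic compatibility of `sheafHomMap` with the adjunctions -/
lemma homEquiv_comp_sheafHomMap {M M' : Mod O} [HasSheafHom M] [HasSheafHom M'] (g : M' ⟶ M)
    (A I : Mod O) (φ : ((tensorBi O).flip.obj M).obj A ⟶ I) :
    (sheafHomAdj M).homEquiv A I φ ≫ (ExtSupp.sheafHomMap g).app I =
      (sheafHomAdj M').homEquiv A I (((tensorBi O).obj A).map g ≫ φ) :=
  homEquiv_comp_conjugate (sheafHomAdj M) (sheafHomAdj M') ((tensorBi O).flip.map g) A I φ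

lemma homEquiv_zero' {M : Mod O} [HasSheafHom M] (A I : Mod O) :
    (sheafHomAdj M).homEquiv A I 0 = 0 := by
  rw [Adjunction.homEquiv_unit, Functor.map_zero, comp_zero]

section K

variable (P : Mod O) (hP : IsFlat P) {S : ShortComplex (Mod O)} (hS : S.ShortExact)
  [HasSheafHom S.X₁] [HasSheafHom S.X₂] [HasSheafHom S.X₃] (I : Mod O) [Injective I]

include hP hS

lemma tens_shortExact : (S.map (tensL O P)).ShortExact := by
  have h1 : PreservesFiniteLimits (tensR O P) := (isFlat_iff O P).1 hP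
  have h2 : PreservesFiniteColimits (tensR O P) :=
    PreservesColimitsOfSize.preservesFiniteColimits (tensR O P)
  haveI : PreservesFiniteLimits (tensL O P) :=
    preservesFiniteLimits_of_natIso (tensLRIso O P).symm
  haveI : PreservesFiniteColimits (tensL O P) :=
    preservesFiniteColimits_of_natIso (tensLRIso O P).symm
  exact hS.map_of_exact (tensL O P)

/-- injectivity -/
lemma K1 (x : P ⟶ (sheafHom S.X₃).obj I) (hx : x ≫ (ExtSupp.sheafHomMap S.g).app I = 0) :
    x = 0 := by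
  have hS' := tens_shortExact P hP hS
  obtain ⟨φ, rfl⟩ := ((sheafHomAdj S.X₃).homEquiv P I).surjective x
  rw [homEquiv_comp_sheafHomMap, ← homEquiv_zero' (M := S.X₂) P I] at hx
  have h1 := ((sheafHomAdj S.X₂).homEquiv P I).injective hx
  have hepi : Epi (((tensorBi O).obj P).map S.g) := hS'.epi_g
  have h2 : φ = 0 := (cancel_epi (((tensorBi O).obj P).map S.g)).1 (h1.trans comp_zero.symm)
  rw [h2, homEquiv_zero']

/-- exactness in the middle -/
lemma K2 (y : P ⟶ (sheafHom S.X₂).obj I) (hy : y ≫ (ExtSupp.sheafHomMap S.f).app I = 0) :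
    ∃ x : P ⟶ (sheafHom S.X₃).obj I, x ≫ (ExtSupp.sheafHomMap S.g).app I = y := by
  have hS' := tens_shortExact P hP hS
  obtain ⟨ψ, rfl⟩ := ((sheafHomAdj S.X₂).homEquiv P I).surjective y
  rw [homEquiv_comp_sheafHomMap, ← homEquiv_zero' (M := S.X₁) P I] at hy
  have h1 : (tensL O P).map S.f ≫ ψ = 0 := ((sheafHomAdj S.X₁).homEquiv P I).injective hy
  have hepi : Epi (S.map (tensL O P)).g := hS'.epi_g
  obtain ⟨φ, hφ⟩ : ∃ φ, (tensL O P).map S.g ≫ φ = ψ :=
    ⟨hS'.exact.desc ψ h1, hS'.exact.g_desc ψ h1⟩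
  refine ⟨(sheafHomAdj S.X₃).homEquiv P I φ, ?_⟩
  rw [homEquiv_comp_sheafHomMap]
  exact congrArg _ hφ

/-- surjectivity -/
lemma K3 (z : P ⟶ (sheafHom S.X₁).obj I) :
    ∃ y : P ⟶ (sheafHom S.X₂).obj I, y ≫ (ExtSupp.sheafHomMap S.f).app I = z := by
  have hS' := tens_shortExact P hP hS
  obtain ⟨φ, rfl⟩ := ((sheafHomAdj S.X₁).homEquiv P I).surjective z
  have hmono : Mono (((tensorBi O).obj P).map S.f) := hS'.mono_f
  refine ⟨(sheafHomAdj S.X₂).homEquiv P I
    (Injective.factorThru φ (((tensorBi O).obj P).map S.f)), ?_⟩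
  rw [homEquiv_comp_sheafHomMap]
  exact congrArg _ (Injective.comp_factorThru φ (((tensorBi O).obj P).map S.f))

end K

section Sections

open Groth.Agent.Lib.Helper68.SuppGlob (pfreeHomEquiv_zero)

variable {S : ShortComplex (Mod O)} (hS : S.ShortExact)
  [HasSheafHom S.X₁] [HasSheafHom S.X₂] [HasSheafHom S.X₃] (I : Mod O) [Injective I] (V : C)

include hS

lemma sec_K1 (x : ((sheafHom S.X₃).obj I).val.obj (op V))
    (hx : ((ExtSupp.sheafHomMap S.g).app I).val.app (op V) x = 0) : x = 0 := by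
  obtain ⟨x', rfl⟩ := (pfreeHomEquiv O V _).surjective x
  rw [← pfreeHomEquiv_comp, ← pfreeHomEquiv_zero _ V] at hx
  have h := K1 _ (isFlat_shf_pfree O V) hS I x' ((pfreeHomEquiv O V _).injective hx)
  rw [h]
  exact pfreeHomEquiv_zero _ V

lemma sec_K2 (y : ((sheafHom S.X₂).obj I).val.obj (op V))
    (hy : ((ExtSupp.sheafHomMap S.f).app I).val.app (op V) y = 0) :
    ∃ x, ((ExtSupp.sheafHomMap S.g).app I).val.app (op V) x = y := by
  obtain ⟨y', rfl⟩ := (pfreeHomEquiv O V _).surjective y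
  rw [← pfreeHomEquiv_comp, ← pfreeHomEquiv_zero _ V] at hy
  obtain ⟨x', hx'⟩ := K2 _ (isFlat_shf_pfree O V) hS I y' ((pfreeHomEquiv O V _).injective hy)
  refine ⟨pfreeHomEquiv O V _ x', ?_⟩
  rw [← pfreeHomEquiv_comp, hx']

lemma sec_K3 (z : ((sheafHom S.X₁).obj I).val.obj (op V)) :
    ∃ y, ((ExtSupp.sheafHomMap S.f).app I).val.app (op V) y = z := by
  obtain ⟨z', rfl⟩ := (pfreeHomEquiv O V _).surjective z
  obtain ⟨y', hy'⟩ := K3 _ (isFlat_shf_pfree O V) hS I z'
  refine ⟨pfreeHomEquiv O V _ y', ?_⟩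
  rw [← pfreeHomEquiv_comp, hy']

end Sections


lemma hom_eq_zero_of_sections {A B : Mod O} (φ : A ⟶ B)
    (h : ∀ (V : C) (x : A.val.obj (op V)), φ.val.app (op V) x = 0) : φ = 0 := by
  apply (SheafOfModules.toSheaf _).map_injective
  ext Y m
  exact h Y.unop m

lemma shortExact_of_sections (S : ShortComplex (Mod O))
    (h1 : ∀ (V : C) (x : S.X₁.val.obj (op V)), S.f.val.app (op V) x = 0 → x = 0)
    (h2 : ∀ (V : C) (y : S.X₂.val.obj (op V)), S.g.val.app (op V) y = 0 →
      ∃ x, S.f.val.app (op V) x = y)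
    (h3 : ∀ (V : C) (z : S.X₃.val.obj (op V)), ∃ y, S.g.val.app (op V) y = z) :
    S.ShortExact := by
  have hm : Mono S.f := by
    apply Preadditive.mono_of_cancel_zero
    intro W g hg
    apply hom_eq_zero_of_sections
    intro V x
    apply h1
    have := congrArg (fun ψ : W ⟶ S.X₂ => ψ.val.app (op V) x) hg
    exact this
  have he : Epi S.g := by
    apply Preadditive.epi_of_cancel_zero
    intro W g hg
    apply hom_eq_zero_of_sections
    intro V z
    obtain ⟨y, rfl⟩ := h3 V z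
    have := congrArg (fun ψ : S.X₂ ⟶ W => ψ.val.app (op V) y) hg
    exact this
  have hP : (S.map (fgt O)).Exact := by
    apply Groth.Agent.Lib.Helper42.QuotExact.exact_of_evaluation
    intro X
    rw [ShortComplex.moduleCat_exact_iff]
    intro t ht
    exact h2 X.unop t ht
  have h3 : PreservesFiniteLimits (shf O) :=
    inferInstanceAs (PreservesFiniteLimits
      (PresheafOfModules.sheafification (𝟙 (ringSh O).obj)))
  have h4 : PreservesFiniteColimits (shf O) := by
    have : PreservesColimitsOfSize.{u, u} (shf O) := (adjS O).leftAdjoint_preservesColimits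
    infer_instance
  have hP' := hP.map (shf O)
  have e : (S.map (fgt O)).map (shf O) ≅ S :=
    S.mapNatIso (asIso (adjS O).counit) ≪≫ ShortComplex.isoMk (Iso.refl _) (Iso.refl _) (Iso.refl _)
      (by simp) (by simp)
  exact { exact := ShortComplex.exact_of_iso e hP' }

lemma sheafHomMap_comp_eq_zero {M₁ M₂ M₃ : Mod O} [HasSheafHom M₁] [HasSheafHom M₂]
    [HasSheafHom M₃] (f : M₁ ⟶ M₂) (g : M₂ ⟶ M₃) (w : f ≫ g = 0) :
    ExtSupp.sheafHomMap g ≫ ExtSupp.sheafHomMap f = 0 := by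
  ext I
  let A := (sheafHom M₃).obj I
  have h0 : (sheafHomAdj M₃).homEquiv A I ((sheafHomAdj M₃).counit.app I) = 𝟙 A := by
    rw [← Adjunction.homEquiv_symm_id, Equiv.apply_symm_apply]
  have h1 := homEquiv_comp_sheafHomMap g A I ((sheafHomAdj M₃).counit.app I)
  rw [h0, id_comp] at h1
  have hz : (tensL O A).map f ≫ (tensL O A).map g = 0 := by
    rw [← Functor.map_comp, w, Functor.map_zero]
  have h2 : (ExtSupp.sheafHomMap g).app I ≫ (ExtSupp.sheafHomMap f).app I =
      (sheafHomAdj M₁).homEquiv A I (((tensorBi O).obj A).map f ≫ ((tensorBi O).obj A).map g ≫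
        (sheafHomAdj M₃).counit.app I) := by
    rw [h1, homEquiv_comp_sheafHomMap]
  have h3 : ((tensorBi O).obj A).map f ≫ ((tensorBi O).obj A).map g ≫
      (sheafHomAdj M₃).counit.app I = 0 := by
    have hz' : ((tensorBi O).obj A).map f ≫ ((tensorBi O).obj A).map g = 0 := hz
    rw [← assoc, hz', zero_comp]
  rw [NatTrans.comp_app, h2, h3, homEquiv_zero']
  rfl



section Sch

open AlgebraicGeometry Groth.Agent.Lib.Helper42.FunctorSESR

variable {X Y : Scheme.{u}} (f : X ⟶ Y)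

lemma push_shortExact (S : ShortComplex X.Modules)
    (h1 : ∀ (V : X.Opens) (x : S.X₁.val.obj (op V)), S.f.val.app (op V) x = 0 → x = 0)
    (h2 : ∀ (V : X.Opens) (y : S.X₂.val.obj (op V)), S.g.val.app (op V) y = 0 →
      ∃ x, S.f.val.app (op V) x = y)
    (h3 : ∀ (V : X.Opens) (z : S.X₃.val.obj (op V)), ∃ y, S.g.val.app (op V) y = z) :
    (S.map (Scheme.Modules.pushforward f)).ShortExact := by
  apply shortExact_of_sections (O := Y.sheaf)
  · intro V x hx
    exact h1 (f ⁻¹ᵁ V) x hx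
  · intro V y hy
    exact h2 (f ⁻¹ᵁ V) y hy
  · intro V z
    exact h3 (f ⁻¹ᵁ V) z

theorem exactOnInj_push (S : ShortComplex (Mod X.sheaf)) (hS : S.ShortExact)
    [HasSheafHom (O := X.sheaf) S.X₁] [HasSheafHom (O := X.sheaf) S.X₂]
    [HasSheafHom (O := X.sheaf) S.X₃]
    [(sheafHom (O := X.sheaf) S.X₁ ⋙ Scheme.Modules.pushforward f).Additive]
    [(sheafHom (O := X.sheaf) S.X₂ ⋙ Scheme.Modules.pushforward f).Additive]
    [(sheafHom (O := X.sheaf) S.X₃ ⋙ Scheme.Modules.pushforward f).Additive] :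
    ExactOnInj
      (Functor.whiskerRight (ExtSupp.sheafHomMap (O := X.sheaf) S.g)
        (Scheme.Modules.pushforward f))
      (Functor.whiskerRight (ExtSupp.sheafHomMap (O := X.sheaf) S.f)
        (Scheme.Modules.pushforward f)) where
  zero := by
    rw [← Functor.whiskerRight_comp, sheafHomMap_comp_eq_zero S.f S.g S.zero]
    ext I
    rfl
  shortExact I _ := by
    have hz : (ExtSupp.sheafHomMap (O := X.sheaf) S.g).app I ≫
        (ExtSupp.sheafHomMap (O := X.sheaf) S.f).app I = 0 := by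
      rw [← NatTrans.comp_app, sheafHomMap_comp_eq_zero S.f S.g S.zero]
      rfl
    exact push_shortExact f (ShortComplex.mk _ _ hz)
      (fun V x hx => sec_K1 hS I V x hx) (fun V y hy => sec_K2 hS I V y hy)
      (fun V z => sec_K3 hS I V z)

end Sch

end Groth.Agent.Lib.Helper68.RelExt
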