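import Groth.Agent.Lib.Helper68.RelExt
import Groth.Agent.Lib.Helper68.DimShift
import Groth.Agent.Lib.Helper42.KerDer

/-! Relative Ext sheaves `R^p (f_* ℋom(M, -))` computed by an acyclic left resolution of `M`. -/

set_option autoImplicit false
universe u

open CategoryTheory Category Limits Opposite Abelian ModSite AlgebraicGeometry

namespace Groth.Agent.Lib.Helper68.RelExt2

open Groth.Agent.Lib.Helper42.TensorSheaf Groth.Agent.Lib.Helper42.TensorColim
open Groth.Agent.Lib.Helper42.Flat Groth.Agent.Lib.Helper42.Flat2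
open Groth.Agent.Lib.Helper42.FunctorSESR Groth.Agent.Lib.Helper68.RelExt
open Groth.Agent.Lib.Helper68.DimShift

section Site

variable {C : Type u} [SmallCategory C] {J : GrothendieckTopology C} {O : Sheaf J CommRingCat.{u}}

lemma sheafHomMap_comp {M₁ M₂ M₃ : Mod O} [HasSheafHom M₁] [HasSheafHom M₂] [HasSheafHom M₃]
    (u : M₁ ⟶ M₂) (v : M₂ ⟶ M₃) :
    ExtSupp.sheafHomMap (u ≫ v) = ExtSupp.sheafHomMap v ≫ ExtSupp.sheafHomMap u := by
  unfold ExtSupp.sheafHomMap
  rw [Functor.map_comp, conjugateEquiv_comp]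

end Site

variable {X Y : Scheme.{u}} (f : X ⟶ Y)

/-- the functor `f_* ℋom(M, -)` -/
noncomputable abbrev T (M : Mod X.sheaf) [HasSheafHom (O := X.sheaf) M] :
    Mod X.sheaf ⥤ Y.Modules :=
  sheafHom (O := X.sheaf) M ⋙ Scheme.Modules.pushforward f

lemma preservesFiniteLimits_T (M : Mod X.sheaf) [HasSheafHom (O := X.sheaf) M] :
    PreservesFiniteLimits (T f M) := by
  have h1 : PreservesLimitsOfSize.{0, 0} (sheafHom (O := X.sheaf) M) :=
    (sheafHomAdj (O := X.sheaf) M).rightAdjoint_preservesLimits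
  have h2 : PreservesLimitsOfSize.{0, 0} (Scheme.Modules.pushforward f) :=
    (Scheme.Modules.pullbackPushforwardAdjunction f).rightAdjoint_preservesLimits
  have h1' : PreservesFiniteLimits (sheafHom (O := X.sheaf) M) :=
    PreservesLimitsOfSize.preservesFiniteLimits _
  have h2' : PreservesFiniteLimits (Scheme.Modules.pushforward f) :=
    PreservesLimitsOfSize.preservesFiniteLimits _
  exact @comp_preservesFiniteLimits _ _ _ _ _ _ _ _ h1' h2'

section Chain

variable (G : Mod X.sheaf) (Z Lx : ℕ → Mod X.sheaf) (ι : ∀ j, Z (j + 1) ⟶ Lx j) (κ : ∀ j, Lx j ⟶ Z j)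
  (w : ∀ j, ι j ≫ κ j = 0) (hS : ∀ j, (ShortComplex.mk (ι j) (κ j) (w j)).ShortExact)
  [∀ j, HasSheafHom (O := X.sheaf) (Z j)] [∀ j, HasSheafHom (O := X.sheaf) (Lx j)]
  [HasInjectiveResolutions (Mod X.sheaf)]
  [∀ j, (T f (Z j)).Additive] [∀ j, (T f (Lx j)).Additive]
  (hL : ∀ j p, 1 ≤ p → IsZero (((T f (Lx j)).rightDerived p).obj G))

include hS in
lemma exactOnInj (j : ℕ) :
    ExactOnInj
      (Functor.whiskerRight (ExtSupp.sheafHomMap (O := X.sheaf) (κ j))
        (Scheme.Modules.pushforward f))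
      (Functor.whiskerRight (ExtSupp.sheafHomMap (O := X.sheaf) (ι j))
        (Scheme.Modules.pushforward f)) :=
  exactOnInj_push f (ShortComplex.mk (ι j) (κ j) (w j)) (hS j)

/-- the shift data of the chain -/
noncomputable def shiftData : ShiftData Y.Modules where
  A j p := ((T f (Z j)).rightDerived p).obj G
  B j p := ((T f (Lx j)).rightDerived p).obj G
  a j p := (NatTrans.rightDerived (Functor.whiskerRight
    (ExtSupp.sheafHomMap (O := X.sheaf) (κ j)) (Scheme.Modules.pushforward f)) p).app G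
  b j p := (NatTrans.rightDerived (Functor.whiskerRight
    (ExtSupp.sheafHomMap (O := X.sheaf) (ι j)) (Scheme.Modules.pushforward f)) p).app G
  δ j p := δ (exactOnInj f Z Lx ι κ w hS j) G p
  mono_a j := mono_app_zero (exactOnInj f Z Lx ι κ w hS j) G
  ab j p := app_comp_app' (exactOnInj f Z Lx ι κ w hS j) G p
  bδ j p := app_δ (exactOnInj f Z Lx ι κ w hS j) G p
  δa j p := δ_app (exactOnInj f Z Lx ι κ w hS j) G p
  exact_ab j p := exact₂ (exactOnInj f Z Lx ι κ w hS j) G p
  exact_bδ j p := exact₃ (exactOnInj f Z Lx ι κ w hS j) G p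
  exact_δa j p := exact₁ (exactOnInj f Z Lx ι κ w hS j) G p
  isZero_B j p := hL j (p + 1) (by lia)

variable (C : CochainComplex Y.Modules ℕ)
  (e : ∀ j : ℕ, C.X j ≅ (Scheme.Modules.pushforward f).obj ((sheafHom (O := X.sheaf) (Lx j)).obj G))
  (hC : ∀ j : ℕ, C.d j (j + 1) ≫ (e (j + 1)).hom =
    (e j).hom ≫ (Scheme.Modules.pushforward f).map
      ((ExtSupp.sheafHomMap (O := X.sheaf) (κ (j + 1) ≫ ι j)).app G))

include hS hL hC in
/-- relative Ext computed by an acyclic resolution, chain form -/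
theorem nonempty_homology_iso_of_chain (i : ℕ) :
    Nonempty (C.homology i ≅ ((T f (Z 0)).rightDerived i).obj G) := by
  let D := shiftData f G Z Lx ι κ w hS hL
  have hP : ∀ j, PreservesFiniteLimits (T f (Lx j)) := fun j => preservesFiniteLimits_T f (Lx j)
  have hI : ∀ j, IsIso ((T f (Lx j)).toRightDerivedZero.app G) := fun j => by
    have := hP j
    infer_instance
  let t : ∀ j, (T f (Lx j)).obj G ≅ ((T f (Lx j)).rightDerived 0).obj G := fun j =>
    @asIso _ _ _ _ ((T f (Lx j)).toRightDerivedZero.app G) (hI j)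
  let e' : ∀ j, C.X j ≅ D.B j 0 := fun j => e j ≪≫ t j
  refine ShiftData.nonempty_homology_iso' D C e' ?_ i
  intro j
  change C.d j (j + 1) ≫ (e (j + 1)).hom ≫ (T f (Lx (j + 1))).toRightDerivedZero.app G =
    ((e j).hom ≫ (T f (Lx j)).toRightDerivedZero.app G) ≫
      (NatTrans.rightDerived (Functor.whiskerRight
        (ExtSupp.sheafHomMap (O := X.sheaf) (ι j)) (Scheme.Modules.pushforward f)) 0).app G ≫
      (NatTrans.rightDerived (Functor.whiskerRight
        (ExtSupp.sheafHomMap (O := X.sheaf) (κ (j + 1))) (Scheme.Modules.pushforward f)) 0).app G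
  rw [← assoc, hC j, assoc, assoc, ← NatTrans.comp_app, ← NatTrans.rightDerived_comp,
    ← Functor.whiskerRight_comp, ← sheafHomMap_comp]
  congr 1
  exact Groth.Agent.Lib.Helper42.KerDer.toRightDerivedZero_naturality
    (Functor.whiskerRight (ExtSupp.sheafHomMap (O := X.sheaf) (κ (j + 1) ≫ ι j))
      (Scheme.Modules.pushforward f)) G

end Chain

section Resolution

lemma additive_T (M : Mod X.sheaf) [HasSheafHom (O := X.sheaf) M] : (T f M).Additive := by
  have h1 : (sheafHom (O := X.sheaf) M).Additive :=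
    (sheafHomAdj (O := X.sheaf) M).right_adjoint_additive
  refine ⟨fun {A B} {g h} => ?_⟩
  have e1 : (sheafHom (O := X.sheaf) M).map (g + h) =
      (sheafHom (O := X.sheaf) M).map g + (sheafHom (O := X.sheaf) M).map h := Functor.map_add _
  have e2 := (Scheme.Modules.pushforward f).map_add
    (f := (sheafHom (O := X.sheaf) M).map g) (g := (sheafHom (O := X.sheaf) M).map h)
  exact (congrArg (Scheme.Modules.pushforward f).map e1).trans e2

variable (F G : Mod X.sheaf) (L : ChainComplex (Mod X.sheaf) ℕ) (π : L.X 0 ⟶ F) [Epi π]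
  (hπ : L.d 1 0 ≫ π = 0)
  (hex0 : (ShortComplex.mk (L.d 1 0) π hπ).Exact) (hex : ∀ j : ℕ, L.ExactAt (j + 1))
  [∀ j : ℕ, HasSheafHom (O := X.sheaf) (L.X j)] [HasSheafHom (O := X.sheaf) F]
  [HasInjectiveResolutions (Mod X.sheaf)]
  [∀ j : ℕ, (T f (L.X j)).Additive] [(T f F).Additive]
  (hL : ∀ (j : ℕ) (p : ℕ), 1 ≤ p → IsZero (((T f (L.X j)).rightDerived p).obj G))
  (C : CochainComplex Y.Modules ℕ)
  (e : ∀ j : ℕ, C.X j ≅ (Scheme.Modules.pushforward f).obj ((sheafHom (O := X.sheaf) (L.X j)).obj G))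
  (hC : ∀ j : ℕ, C.d j (j + 1) ≫ (e (j + 1)).hom =
    (e j).hom ≫ (Scheme.Modules.pushforward f).map
      ((ExtSupp.sheafHomMap (O := X.sheaf) (L.d (j + 1) j)).app G))

include hex0 hex hL hC in
/-- relative Ext computed by an acyclic left resolution -/
theorem nonempty_homology_iso_of_resolution (i : ℕ) :
    Nonempty (C.homology i ≅ ((T f F).rightDerived i).obj G) := by
  have hZ : ∀ j, HasSheafHom (O := X.sheaf) (Res.Z L π j) := fun j => hasSheafHom _ _
  have hA : ∀ j, (T f (Res.Z L π j)).Additive := fun j => additive_T f _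
  have hC' : ∀ j : ℕ, C.d j (j + 1) ≫ (e (j + 1)).hom =
      (e j).hom ≫ (Scheme.Modules.pushforward f).map
        ((ExtSupp.sheafHomMap (O := X.sheaf) (Res.κ L π hπ (j + 1) ≫ Res.ι L π j)).app G) := by
    intro j
    rw [Res.κ_ι]
    exact hC j
  exact nonempty_homology_iso_of_chain f G (Res.Z L π) L.X (Res.ι L π) (Res.κ L π hπ)
    (Res.ι_κ L π hπ) (Res.shortExact L π hπ hex0 hex) hL C e hC' i

end Resolution

end Groth.Agent.Lib.Helper68.RelExt2
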