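import Groth.Agent.Lib.Helper68.RelExt2
import Groth.Agent.Lib.Helper68.LeraySite3
import Groth.Agent.Lib.Helper68.GSSDer7
import Groth.Agent.Lib.Helper53.TotPush
import Groth.Agent.S0864
import Groth.Agent.S3090

/-! Grothendieck spectral sequence for relative Ext sheaves. -/

set_option autoImplicit false
universe u

open CategoryTheory Category Limits Opposite Abelian ModSite AlgebraicGeometry
open scoped ZeroObject

namespace Groth.Agent.Lib.Helper68.RelExtGSS

open Groth.Agent.Lib.Helper42.TensorSheaf Groth.Agent.Lib.Helper42.TensorColim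
open Groth.Agent.Lib.Helper68.RelExt Groth.Agent.Lib.Helper68.RelExt2
open Groth.Agent.Lib.Helper68.LeraySite Groth.Agent.Lib.Helper68.LerayAcyclic
open Groth.Agent.Lib.Helper68.InjModAcyclic Groth.Agent.Lib.Helper68.SuppFlasque
open Groth.Agent.Lib.Helper68.AcycTransfer (injSeq injSeq_shortExact Qc)

section Site

variable {C : Type u} [SmallCategory C] {J : GrothendieckTopology C} {O : Sheaf J CommRingCat.{u}}

lemma epi_of_sections {A B : Mod O} (φ : A ⟶ B)
    (h : ∀ (V : C) (z : B.val.obj (op V)), ∃ y, φ.val.app (op V) y = z) : Epi φ := by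
  apply Preadditive.epi_of_cancel_zero
  intro W g hg
  apply hom_eq_zero_of_sections
  intro V z
  obtain ⟨y, rfl⟩ := h V z
  have := congrArg (fun ψ : A ⟶ W => ψ.val.app (op V) y) hg
  exact this

lemma sections_surjective {S : ShortComplex (Mod O)} (hS : S.ShortExact)
    (h : CohCx.IsTotallyAcyclic (toAb S.X₁)) (V : C) (z : S.X₃.val.obj (op V)) :
    ∃ y : S.X₂.val.obj (op V), S.g.val.app (op V) y = z := by
  have hS' : (S.map (SheafOfModules.toSheaf (ringSh O))).ShortExact :=
    hS.map_of_exact (SheafOfModules.toSheaf (ringSh O))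
  have hz : IsZero (((secF J V).rightDerived 1).obj (toAb S.X₁)) := by
    obtain ⟨e⟩ := nonempty_rightDerived_secF_iso J V (toAb S.X₁) 1
    refine IsZero.of_iso ?_ e
    haveI := Groth.Agent.S0864.result _ h V 0
    exact AddCommGrpCat.isZero_of_subsingleton _
  have hepi : Epi ((secF J V).map ((SheafOfModules.toSheaf (ringSh O)).map S.g)) :=
    epi_map_g (secF J V) hS' hz
  exact (AddCommGrpCat.epi_iff_surjective _).1 hepi z

end Site

section Sch

variable {X Y Z : Scheme.{u}} (f : X ⟶ Y) (g : Y ⟶ Z)

/-- the abelian sheaf underlying a direct image -/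
noncomputable def toAbPushIso (A : Mod X.sheaf) :
    (CohSite.push (Opens.grothendieckTopology X) (Opens.grothendieckTopology Y)
      (TopologicalSpace.Opens.map f.base)).obj (toAb (O := X.sheaf) A) ≅
      toAb (O := Y.sheaf) ((Scheme.Modules.pushforward f).obj A) :=
  Iso.refl _

lemma isTotallyAcyclic_push (A : Mod X.sheaf)
    (hA : CohCx.IsTotallyAcyclic (toAb (O := X.sheaf) A)) :
    CohCx.IsTotallyAcyclic (toAb (O := Y.sheaf) ((Scheme.Modules.pushforward f).obj A)) := by
  have hflat : PreservesFiniteLimits (TopologicalSpace.Opens.map f.base) :=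
    preservesFiniteLimits_of_flat _
  have h := Groth.Agent.S3090.result (Opens.grothendieckTopology X) (Opens.grothendieckTopology Y)
    (TopologicalSpace.Opens.map f.base) (coverPreserving_opens_map f.base)
    (toAb (O := X.sheaf) A) hA
  exact isTotallyAcyclic_of_iso (toAbPushIso f A) h

/-- higher direct images (of modules) vanish on flasque modules -/
theorem isZero_Rpush_of_totallyAcyclic [HasInjectiveResolutions Y.Modules]
    (B : Y.Modules) (hB : CohCx.IsTotallyAcyclic (toAb (O := Y.sheaf) B)) (q : ℕ) :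
    IsZero (((Scheme.Modules.pushforward g).rightDerived (q + 1)).obj B) := by
  have hE : EnoughInjectives Y.Modules :=
    Groth.Agent.Lib.Helper68.GSSDer.enoughInjectives_of_hasInjectiveResolutions
  have hE' : EnoughInjectives (Mod Y.sheaf) := hE
  have hP : PreservesFiniteLimits (Scheme.Modules.pushforward g) := by
    have h2 : PreservesLimitsOfSize.{0, 0} (Scheme.Modules.pushforward g) :=
      (Scheme.Modules.pullbackPushforwardAdjunction g).rightAdjoint_preservesLimits
    exact PreservesLimitsOfSize.preservesFiniteLimits _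
  have h1 : ∀ F : Y.Modules, CohCx.IsTotallyAcyclic (toAb (O := Y.sheaf) F) →
      CohCx.IsTotallyAcyclic (toAb (O := Y.sheaf) (Qc F)) := by
    intro F hF
    have hI : CohCx.IsTotallyAcyclic (toAb (O := Y.sheaf) (Injective.under F)) :=
      isTotallyAcyclic_toAb_of_injective Y.sheaf _
    exact isTotallyAcyclic_X₃ Y.sheaf (S := injSeq F) (injSeq_shortExact F) hF hI
  have h2 : ∀ F : Y.Modules, CohCx.IsTotallyAcyclic (toAb (O := Y.sheaf) F) →
      Epi ((Scheme.Modules.pushforward g).map (cokernel.π (Injective.ι F))) := by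
    intro F hF
    apply epi_of_sections (O := Z.sheaf)
    intro V z
    exact sections_surjective (O := Y.sheaf) (S := injSeq F) (injSeq_shortExact F) hF
      (g ⁻¹ᵁ V) z
  refine isZero_rightDerived_succ_of_class (𝒜 := Y.Modules) (ℬ := Z.Modules)
    (Scheme.Modules.pushforward g)
    (fun F : Y.Modules => CohCx.IsTotallyAcyclic (toAb (O := Y.sheaf) F)) ?_ ?_ q B hB
  · exact h1
  · exact h2

open Groth.Agent.Lib.Helper68.SheafHomFlasque in
/-- **Grothendieck spectral sequence** `R^a g_* ℰxt^b_f(F, G) ⟹ ℰxt^{a+b}_{g ∘ f}(F, G)` -/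
theorem exists_spectralSequence (F G : Mod X.sheaf) [HasSheafHom (O := X.sheaf) F]
    [HasInjectiveResolutions (Mod X.sheaf)] [HasInjectiveResolutions Y.Modules]
    [(T f F).Additive] [(T (f ≫ g) F).Additive] :
    ∃ (E : E₂CohomologicalSpectralSequence Z.Modules)
      (a : SpSeq.Abutment E (fun n : ℤ =>
        if 0 ≤ n then ((T (f ≫ g) F).rightDerived n.toNat).obj G else (0 : Z.Modules))),
      (∀ n : ℤ, a.IsFinite n) ∧ SpSeq.IsBounded E ∧
      ∀ p q : ℤ, Nonempty ((E.page 2 le_rfl).X (p, q) ≅
        (if 0 ≤ p ∧ 0 ≤ q then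
          ((Scheme.Modules.pushforward g).rightDerived p.toNat).obj
            (((T f F).rightDerived q.toNat).obj G)
          else (0 : Z.Modules))) := by
  have hP : PreservesFiniteLimits (Scheme.Modules.pushforward g) := by
    have h2 : PreservesLimitsOfSize.{0, 0} (Scheme.Modules.pushforward g) :=
      (Scheme.Modules.pullbackPushforwardAdjunction g).rightAdjoint_preservesLimits
    exact PreservesLimitsOfSize.preservesFiniteLimits _
  have hT : ∀ Q : Mod X.sheaf, Injective Q → ∀ q : ℕ, 0 < q →
      IsZero (((Scheme.Modules.pushforward g).rightDerived q).obj ((T f F).obj Q)) := by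
    intro Q hQ q hq
    obtain ⟨q', rfl⟩ : ∃ q', q = q' + 1 := ⟨q - 1, by lia⟩
    exact isZero_Rpush_of_totallyAcyclic g ((T f F).obj Q)
      (isTotallyAcyclic_push f _ (isTotallyAcyclic_sheafHom X.sheaf F Q)) q'
  let eF : T f F ⋙ Scheme.Modules.pushforward g ≅ T (f ≫ g) F :=
    Functor.associator _ _ _ ≪≫
      Functor.isoWhiskerLeft (sheafHom (O := X.sheaf) F) (Scheme.Modules.pushforwardComp f g)
  have hA : (T f F ⋙ Scheme.Modules.pushforward g).Additive := inferInstance
  exact Groth.Agent.Lib.Helper68.GSSDer.exists_spectralSequence_of_iso (T f F)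
    (Scheme.Modules.pushforward g) hT G
    (fun n : ℤ =>
        if 0 ≤ n then ((T (f ≫ g) F).rightDerived n.toNat).obj G else (0 : Z.Modules))
    (fun n hn => (rightDerivedIsoOfIso eF n.toNat).app G ≪≫ eqToIso (by rw [if_pos hn]))
    (fun n hn => by
      rw [if_neg (by lia)]
      exact isZero_zero _)

end Sch

end Groth.Agent.Lib.Helper68.RelExtGSS
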