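import Mathlib
import Groth.Prelude.Def_CInt

/-!
# helper68: K1 for helper33's S3843
-/

set_option autoImplicit false
universe u

open TensorProduct AlgebraicGeometry CategoryTheory TopologicalSpace

namespace Groth.Agent.Lib.Helper68.SDK1

variable {A : Type u} [CommRing A]

/-- the comparison map `(A_g / J A_g) ⊗_A N → N_g` for `J`-torsion `N`. -/
theorem exists_toLocalized (g : A) (J : Ideal A) (N : Type u) [AddCommGroup N] [Module A N]
    (hJN : ∀ a ∈ J, ∀ p : N, a • p = 0) :
    ∃ f : (Localization.Away g ⧸ J.map (algebraMap A (Localization.Away g))) ⊗[A] N →ₗ[A]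
        LocalizedModule (Submonoid.powers g) N,
      ∀ p : N, f (1 ⊗ₜ[A] p) = LocalizedModule.mkLinearMap (Submonoid.powers g) N p := by
  let S := Submonoid.powers g
  let Ng := LocalizedModule S N
  let ψ' : Localization S →ₗ[Localization S] (N →ₗ[A] Ng) :=
    LinearMap.toSpanSingleton _ _ (LocalizedModule.mkLinearMap S N)
  have hker : J.map (algebraMap A (Localization S)) ≤ LinearMap.ker ψ' := by
    rw [Ideal.map_le_iff_le_comap]
    intro a ha
    rw [Ideal.mem_comap, LinearMap.mem_ker]
    ext p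
    simp only [ψ', LinearMap.toSpanSingleton_apply, LinearMap.smul_apply,
      LocalizedModule.mkLinearMap_apply, LinearMap.zero_apply]
    rw [algebraMap_smul, LocalizedModule.smul'_mk, hJN a ha p, LocalizedModule.zero_mk]
  let ψ'' : (Localization S ⧸ J.map (algebraMap A (Localization S))) →ₗ[Localization S]
      (N →ₗ[A] Ng) := Submodule.liftQ _ ψ' hker
  let ψ : (Localization S ⧸ J.map (algebraMap A (Localization S))) →ₗ[A] (N →ₗ[A] Ng) :=
    ψ''.restrictScalars A
  refine ⟨TensorProduct.lift ψ, ?_⟩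
  intro p
  rw [TensorProduct.lift.tmul]
  change (ψ'' (Submodule.Quotient.mk 1)) p = _
  rw [Submodule.liftQ_apply]
  simp only [ψ', LinearMap.toSpanSingleton_apply, one_smul]
  rfl

theorem K1 (g : A) (J : Ideal A) (N : Type u) [AddCommGroup N] [Module A N]
    (hJN : ∀ a ∈ J, ∀ p : N, a • p = 0) :
    (∀ p : N, (1 : Localization.Away g ⧸ J.map (algebraMap A (Localization.Away g))) ⊗ₜ[A] p = 0 →
      ∃ m : ℕ, g ^ m • p = 0) ∧
    (∀ z : (Localization.Away g ⧸ J.map (algebraMap A (Localization.Away g))) ⊗[A] N,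
      ∃ (k : ℕ) (p : N), g ^ k • z = 1 ⊗ₜ[A] p) := by
  constructor
  · intro p hp
    obtain ⟨f, hf⟩ := exists_toLocalized g J N hJN
    have h0 : LocalizedModule.mkLinearMap (Submonoid.powers g) N p = 0 := by
      rw [← hf p, hp, map_zero]
    rw [IsLocalizedModule.eq_zero_iff (Submonoid.powers g)] at h0
    obtain ⟨⟨s, m, hm⟩, hs⟩ := h0
    refine ⟨m, ?_⟩
    have : g ^ m = s := hm
    rw [this]
    exact hs
  · intro z
    induction z using TensorProduct.induction_on with
    | zero => exact ⟨0, 0, by simp⟩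
    | tmul c p =>
      obtain ⟨c, rfl⟩ := Ideal.Quotient.mk_surjective c
      obtain ⟨a, s, rfl⟩ := IsLocalization.exists_mk'_eq (Submonoid.powers g) c
      obtain ⟨k, hk⟩ := s.2
      have hk' : g ^ k = (s : A) := hk
      refine ⟨k, a • p, ?_⟩
      rw [TensorProduct.smul_tmul', ← TensorProduct.smul_tmul]
      congr 1
      change Ideal.Quotient.mk _ (g ^ k • IsLocalization.mk' (Localization.Away g) a s) =
        Ideal.Quotient.mk _ (a • (1 : Localization.Away g))
      congr 1
      rw [Algebra.smul_def, Algebra.smul_def, mul_one, hk']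
      exact IsLocalization.mk'_spec' _ a s
    | add z w hz hw =>
      obtain ⟨k, p, hk⟩ := hz
      obtain ⟨l, q, hl⟩ := hw
      refine ⟨k + l, g ^ l • p + g ^ k • q, ?_⟩
      rw [smul_add, TensorProduct.tmul_add, TensorProduct.tmul_smul, TensorProduct.tmul_smul,
        ← hk, ← hl, smul_smul, smul_smul, pow_add, mul_comm (g ^ l)]

end Groth.Agent.Lib.Helper68.SDK1
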