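import Groth.Agent.Lib.Helper21.SepPull
import Groth.Agent.S4875
import Groth.Agent.Lib.Lead.QCohAff8

/-!
# helper68: G2M for helper78's S4911
-/

set_option autoImplicit false
universe u

open AlgebraicGeometry CategoryTheory Opposite TopologicalSpace
open Scheme.Modules TensorProduct Groth.Agent.Lib.Helper21.QCohSections

namespace Groth.Agent.Lib.Helper68.SDMG2M

open Groth.Agent.Lib.Lead.QCohAff

theorem G2M {X : Scheme.{u}} (F : X.Modules) [F.IsQuasicoherent] {ι : Type u}
    (G : ι → X.Modules) [∀ i, (G i).IsQuasicoherent] (u : ∀ i, F ⟶ G i)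
    (h : ∀ (V : X.Opens) (t : Γ(F, V)), (∀ i, (u i).app V t = 0) → t = 0) (U : X.Opens)
    (hU : IsAffineOpen U) (g : Γ(X, U)) (x : Γ(F, U))
    (hx : ∀ i, ∃ m : ℕ, g ^ m • (appL (u i) U x) = 0) : ∃ m : ℕ, g ^ m • x = 0 := by
  have hle : X.basicOpen g ≤ U := X.basicOpen_le g
  apply exists_pow_smul_eq_zero F hU g x
  apply h (X.basicOpen g)
  intro i
  obtain ⟨m, hm⟩ := hx i
  have hnat : (u i).app (X.basicOpen g) (F.presheaf.map (homOfLE hle).op x) =
      (G i).presheaf.map (homOfLE hle).op ((u i).app U x) := by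
    exact congr($((u i).mapPresheaf.naturality (homOfLE hle).op) x)
  rw [hnat]
  have h1 : (G i).presheaf.map (homOfLE hle).op (g ^ m • (u i).app U x) = 0 := by
    have : g ^ m • (u i).app U x = 0 := hm
    rw [this, map_zero]
  rw [res_smul, map_pow] at h1
  have hu : IsUnit ((X.presheaf.map (homOfLE hle).op g) ^ m) := (isUnit_res_basicOpen g).pow m
  exact (hu.smul_eq_zero).mp h1

end Groth.Agent.Lib.Helper68.SDMG2M
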