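import Mathlib

/-!
# helper68: abstract PURITY lemma for RCM (helper78's S4911)
-/

set_option autoImplicit false
universe u

open TensorProduct

namespace Groth.Agent.Lib.Helper68.SDMPUR

section
variable {A P Q : Type u} [CommRing A] [CommRing P] [CommRing Q] [Algebra A P] [Algebra A Q]
  {N : Type u} [AddCommGroup N] [Module A N]

theorem rT_smul (f : P →ₐ[A] Q) (p : P) (w : P ⊗[A] N) :
    f.toLinearMap.rTensor N (p • w) = f p • f.toLinearMap.rTensor N w := by
  induction w using TensorProduct.induction_on with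
  | zero => simp
  | tmul a n => simp [TensorProduct.smul_tmul', map_mul]
  | add x y hx hy => simp only [smul_add, map_add, hx, hy]

end

/-- kernel of `T ⊗ N → Bu ⊗ N` is `b`-power torsion. -/
theorem ker_torsion {A T Bu : Type u} [CommRing A] [CommRing T] [CommRing Bu] [Algebra A T]
    [Algebra A Bu] [Algebra T Bu] [IsScalarTower A T Bu] (b : T) [IsLocalization.Away b Bu]
    (N : Type u) [AddCommGroup N] [Module A N] (v : T ⊗[A] N)
    (hv : (IsScalarTower.toAlgHom A T Bu).toLinearMap.rTensor N v = 0) :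
    ∃ m : ℕ, b ^ m • v = 0 := by
  let g : T ⊗[A] N →ₗ[T] Bu ⊗[A] N :=
    TensorProduct.AlgebraTensorModule.map (Algebra.linearMap T Bu) (LinearMap.id : N →ₗ[A] N)
  have hg : ∀ w, g w = (IsScalarTower.toAlgHom A T Bu).toLinearMap.rTensor N w := by
    intro w
    induction w using TensorProduct.induction_on with
    | zero => simp
    | tmul a n => simp [g]
    | add x y hx hy => simp only [map_add, hx, hy]
  have hbc : IsBaseChange Bu g := by
    apply IsBaseChange.of_comp (TensorProduct.isBaseChange A N T)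
    have : (g.restrictScalars A) ∘ₗ (TensorProduct.mk A T N 1) = TensorProduct.mk A Bu N 1 := by
      ext n
      simp [g]
    rw [this]
    exact TensorProduct.isBaseChange A N Bu
  have hloc : IsLocalizedModule (Submonoid.powers b) g :=
    (isLocalizedModule_iff_isBaseChange (Submonoid.powers b) Bu g).mpr hbc
  have h0 : g v = 0 := by rw [hg, hv]
  obtain ⟨⟨_, m, rfl⟩, hm⟩ := (IsLocalizedModule.eq_zero_iff (Submonoid.powers b) g).mp h0
  exact ⟨m, hm⟩

/-- PURITY: `j ⊗ N : B₀ ⊗[A] N → Bu ⊗[A] N` is injective when `T₀ → T` has an `A`-linear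
retraction, `B₀ = T₀[1/b₀]`, `Bu = T[1/ι b₀]`. -/
theorem PUR {A T₀ T B₀ Bu : Type u} [CommRing A] [CommRing T₀] [CommRing T] [CommRing B₀]
    [CommRing Bu] [Algebra A T₀] [Algebra A T] [Algebra A B₀] [Algebra A Bu] [Algebra T₀ B₀]
    [Algebra T Bu] [IsScalarTower A T₀ B₀] [IsScalarTower A T Bu]
    (ι : T₀ →ₐ[A] T) (r : T →ₗ[A] T₀) (hr : ∀ t, r (ι t) = t)
    (b₀ : T₀) [IsLocalization.Away b₀ B₀] [IsLocalization.Away (ι b₀) Bu]
    (j : B₀ →ₐ[A] Bu) (hj : ∀ t : T₀, j (algebraMap T₀ B₀ t) = algebraMap T Bu (ι t))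
    (N : Type u) [AddCommGroup N] [Module A N] :
    Function.Injective (j.toLinearMap.rTensor N) := by
  rw [injective_iff_map_eq_zero]
  intro z hz
  set β : B₀ := algebraMap T₀ B₀ b₀ with hβ
  have hβu : IsUnit β := IsLocalization.Away.algebraMap_isUnit b₀
  let alg₀ : T₀ →ₐ[A] B₀ := IsScalarTower.toAlgHom A T₀ B₀
  let algT : T →ₐ[A] Bu := IsScalarTower.toAlgHom A T Bu
  -- clearing denominators
  have hclear : ∀ z : B₀ ⊗[A] N, ∃ (n : ℕ) (w : T₀ ⊗[A] N),
      alg₀.toLinearMap.rTensor N w = β ^ n • z := by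
    intro z
    induction z using TensorProduct.induction_on with
    | zero => exact ⟨0, 0, by simp⟩
    | tmul c n' =>
      obtain ⟨k, t, hk⟩ := IsLocalization.Away.surj b₀ c
      refine ⟨k, t ⊗ₜ n', ?_⟩
      rw [LinearMap.rTensor_tmul, TensorProduct.smul_tmul', smul_eq_mul, mul_comm]
      congr 1
      exact hk.symm
    | add x y hx hy =>
      obtain ⟨n₁, w₁, h₁⟩ := hx
      obtain ⟨n₂, w₂, h₂⟩ := hy
      refine ⟨n₁ + n₂, b₀ ^ n₂ • w₁ + b₀ ^ n₁ • w₂, ?_⟩
      rw [map_add, rT_smul, rT_smul, h₁, h₂, smul_add, map_pow, map_pow]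
      have e1 : alg₀ b₀ = β := rfl
      rw [e1, ← mul_smul, ← mul_smul, ← pow_add, ← pow_add, add_comm n₂ n₁]
  obtain ⟨n, w, hw⟩ := hclear z
  -- the square
  have hsq : ∀ w : T₀ ⊗[A] N, algT.toLinearMap.rTensor N (ι.toLinearMap.rTensor N w) =
      j.toLinearMap.rTensor N (alg₀.toLinearMap.rTensor N w) := by
    intro w
    induction w using TensorProduct.induction_on with
    | zero => simp
    | tmul t n' =>
      simp only [LinearMap.rTensor_tmul, AlgHom.toLinearMap_apply]
      congr 1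
      exact (hj t).symm
    | add x y hx hy => simp only [map_add, hx, hy]
  have h1 : algT.toLinearMap.rTensor N (ι.toLinearMap.rTensor N w) = 0 := by
    rw [hsq, hw, rT_smul, hz, smul_zero]
  obtain ⟨m, hm⟩ := ker_torsion (ι b₀) N _ h1
  have h2 : ι.toLinearMap.rTensor N (b₀ ^ m • w) = 0 := by
    rw [rT_smul, map_pow]; exact hm
  have hretr : ∀ w : T₀ ⊗[A] N, r.rTensor N (ι.toLinearMap.rTensor N w) = w := by
    intro w
    induction w using TensorProduct.induction_on with
    | zero => simp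
    | tmul t n' => simp [hr]
    | add x y hx hy => simp only [map_add, hx, hy]
  have h3 : b₀ ^ m • w = 0 := by
    rw [← hretr (b₀ ^ m • w), h2, map_zero]
  have h4 : β ^ m • (β ^ n • z) = 0 := by
    rw [← hw]
    have e1 : alg₀ (b₀ ^ m) = β ^ m := by rw [map_pow]; rfl
    rw [← e1, ← rT_smul, h3, map_zero]
  exact ((hβu.pow n).smul_eq_zero).mp (((hβu.pow m).smul_eq_zero).mp h4)

end Groth.Agent.Lib.Helper68.SDMPUR
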