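import Groth.Agent.Lib.Helper21.SepPull
import Groth.Agent.S4875
import Groth.Agent.Lib.Helper73.SepLim.Ring
import Groth.Agent.Lib.Helper68.SDMPUR

/-!
# helper68: RCM for helper78's S4911
-/

set_option autoImplicit false
universe u

open AlgebraicGeometry CategoryTheory Opposite TopologicalSpace
open Scheme.Modules TensorProduct Groth.Agent.Lib.Helper21.QCohSections

namespace Groth.Agent.Lib.Helper68.SDMRCM

open Groth.Agent.Lib.Helper73.SepLim Groth.Agent.Lib.Helper68.SDMPUR

attribute [local instance] Algebra.TensorProduct.rightAlgebra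

set_option maxHeartbeats 1000000 in
theorem RCM_T {K : Type u} [Field K] {A R : Type u} [CommRing A] [Algebra K A] [CommRing R]
    [Algebra K R] {Bu : Type u} [CommRing Bu] [Algebra (A ⊗[K] R) Bu] [Algebra A Bu]
    [IsScalarTower A (A ⊗[K] R) Bu] (b : A ⊗[K] R) [IsLocalization.Away b Bu]
    {M : Type u} [AddCommGroup M] [Module A M] {Λ : Type u} (N : Λ → Type u)
    [∀ i, AddCommGroup (N i)] [∀ i, Module A (N i)] (φ : ∀ i, M →ₗ[A] N i)
    (hSL : ∀ (g : A) (x : M), (∀ i, ∃ m : ℕ, g ^ m • φ i x = 0) → ∃ m : ℕ, g ^ m • x = 0)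
    (x : Bu ⊗[A] M) (hx : ∀ i, LinearMap.lTensor Bu (φ i) x = 0) : x = 0 := by
  classical
  obtain ⟨S, hbS, hxS⟩ := exists_fg (A := K) (A' := R) A b x
  set R₀ : Subalgebra K R := Algebra.adjoin K (S : Set R) with hR₀
  let θ' : A ⊗[K] R₀ →ₐ[A] A ⊗[K] R := Algebra.TensorProduct.map (AlgHom.id A A) R₀.val
  have hT : ∀ a ∈ R₀, algebraMap R (A ⊗[K] R) a ∈ θ'.range := fun a ha =>
    ⟨(1 : A) ⊗ₜ ⟨a, ha⟩, by
      rw [show algebraMap R (A ⊗[K] R) a = (1 : A) ⊗ₜ a from rfl]
      simp [θ']⟩
  obtain ⟨b₀, hb₀⟩ := (T_le_range A θ' hT) hbS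
  have hb₀' : θ' b₀ = b := hb₀
  have : Algebra.FiniteType K R₀ :=
    (Subalgebra.fg_iff_finiteType _).mp (Subalgebra.fg_adjoin_finset _)
  have : Algebra.FinitePresentation K R₀ :=
    Algebra.FinitePresentation.of_finiteType.mp inferInstance
  have : Algebra.FinitePresentation A (A ⊗[K] R₀) := Algebra.FinitePresentation.baseChange A
  have : Algebra.FinitePresentation (A ⊗[K] R₀) (Localization.Away b₀) :=
    IsLocalization.Away.finitePresentation b₀
  have : Algebra.FinitePresentation A (Localization.Away b₀) :=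
    Algebra.FinitePresentation.trans A (A ⊗[K] R₀) _
  have : Module.Flat (A ⊗[K] R₀) (Localization.Away b₀) :=
    IsLocalization.flat _ (Submonoid.powers b₀)
  have : Module.Flat A (Localization.Away b₀) := Module.Flat.trans A (A ⊗[K] R₀) _
  have hunit : ∀ y : Submonoid.powers b₀,
      IsUnit (((IsScalarTower.toAlgHom A (A ⊗[K] R) Bu).comp θ') y) := by
    rintro ⟨_, n, rfl⟩
    simp only [AlgHom.comp_apply, map_pow, hb₀']
    exact (IsLocalization.Away.algebraMap_isUnit b).pow n
  let ψ : Localization.Away b₀ →ₐ[A] Bu := IsLocalization.liftAlgHom hunit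
  have hψ : ∀ t : A ⊗[K] R₀, ψ (algebraMap (A ⊗[K] R₀) (Localization.Away b₀) t) =
      algebraMap (A ⊗[K] R) Bu (θ' t) := by
    intro t
    show IsLocalization.lift hunit _ = _
    rw [IsLocalization.lift_eq]
    rfl
  have hu : IsUnit (algebraMap (A ⊗[K] R₀) (Localization.Away b₀) b₀) :=
    IsLocalization.Away.algebraMap_isUnit b₀
  obtain ⟨x₀, hx₀⟩ := mem_range_of_mem_Pred A b θ' ψ hψ hT b₀ hb₀' hu x hxS
  -- retraction
  obtain ⟨r₀, hr₀⟩ := LinearMap.exists_leftInverse_of_injective R₀.val.toLinearMap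
    (LinearMap.ker_eq_bot.mpr Subtype.val_injective)
  let r : A ⊗[K] R →ₗ[A] A ⊗[K] R₀ := LinearMap.baseChange A r₀
  have hr : ∀ t, r (θ' t) = t := by
    intro t
    induction t using TensorProduct.induction_on with
    | zero => simp
    | tmul a s =>
      have : r₀ (s : R) = s := congrArg (fun f => f s) hr₀
      simp [r, θ', this]
    | add y z hy hz => simp only [map_add, hy, hz]
  have : IsLocalization.Away (θ' b₀) Bu := by rw [hb₀']; infer_instance
  have hinj : ∀ (N' : Type u) [AddCommGroup N'] [Module A N'],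
      Function.Injective (ψ.toLinearMap.rTensor N') := fun N' _ _ =>
    PUR θ' r hr b₀ ψ hψ N'
  have hx₀i : ∀ i, LinearMap.lTensor (Localization.Away b₀) (φ i) x₀ = 0 := by
    intro i
    apply hinj (N i)
    rw [map_zero, ← LinearMap.comp_apply, LinearMap.rTensor_comp_lTensor,
      ← LinearMap.lTensor_comp_rTensor, LinearMap.comp_apply, hx₀, hx i]
  obtain ⟨l, hl, hfree⟩ := Groth.Agent.S2591.result (A := A) (B := Localization.Away b₀)
    (Localization.Away b₀)
  have hcomm : ∀ i (y : Localization.Away b₀ ⊗[A] M),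
      (φ i).rTensor (Localization.Away b₀) (TensorProduct.comm A (Localization.Away b₀) M y) =
        TensorProduct.comm A (Localization.Away b₀) (N i) ((φ i).lTensor _ y) := by
    intro i y
    induction y using TensorProduct.induction_on with
    | zero => simp
    | tmul c m => simp
    | add y z hy hz => simp only [map_add, hy, hz]
  have h := Groth.Agent.S4875.sep_aux (Localization.Away b₀) l hl hfree Λ l.length 0 (by simp)
    M N φ
    (by
      intro a ha p
      have : a = 0 := by simpa using ha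
      rw [this, zero_smul])
    (by
      intro j a ha p
      have : a = 0 := by simpa using ha
      rw [this, zero_smul])
    hSL (TensorProduct.comm A (Localization.Away b₀) M x₀)
    (fun i => by rw [hcomm, hx₀i, map_zero])
  have hx₀0 : x₀ = 0 := (TensorProduct.comm A (Localization.Away b₀) M).injective
    (h.trans (map_zero _).symm)
  rw [← hx₀, hx₀0, map_zero]

theorem RCM {K : Type u} [Field K] {A R : Type u} [CommRing A] [Algebra K A] [CommRing R]
    [Algebra K R] {Bp Bu : Type u} [CommRing Bp] [CommRing Bu] [Algebra Bp Bu] [Algebra A Bu]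
    (θ : A ⊗[K] R ≃+* Bp) (b' : Bp) [IsLocalization.Away b' Bu]
    (hA : ∀ a : A, algebraMap A Bu a = algebraMap Bp Bu (θ (a ⊗ₜ[K] (1 : R))))
    {M : Type u} [AddCommGroup M] [Module A M] {Λ : Type u} (N : Λ → Type u)
    [∀ i, AddCommGroup (N i)] [∀ i, Module A (N i)] (φ : ∀ i, M →ₗ[A] N i)
    (hSL : ∀ (g : A) (x : M), (∀ i, ∃ m : ℕ, g ^ m • φ i x = 0) → ∃ m : ℕ, g ^ m • x = 0)
    (x : Bu ⊗[A] M) (hx : ∀ i, LinearMap.lTensor Bu (φ i) x = 0) : x = 0 := by
  letI : Algebra (A ⊗[K] R) Bu := ((algebraMap Bp Bu).comp θ.toRingHom).toAlgebra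
  have : IsScalarTower A (A ⊗[K] R) Bu := IsScalarTower.of_algebraMap_eq (fun a => hA a)
  have : IsLocalization.Away (θ.symm b') Bu := by
    have h := IsLocalization.isLocalization_of_base_ringEquiv (Submonoid.powers b') Bu θ.symm
    have e : (Submonoid.powers b').map θ.symm =
        Submonoid.powers (θ.symm b') := Submonoid.map_powers _ _
    rw [e] at h
    exact h
  exact RCM_T (θ.symm b') N φ hSL x hx

end Groth.Agent.Lib.Helper68.SDMRCM
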