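import Groth.Agent.Lib.Helper68.EdgeOutLow
import Groth.Agent.Lib.Helper4.LocCoh
import Groth.Prelude.Def_EtDepth

/-! For an open immersion `j : U ⟶ X` and an injective abelian étale sheaf `I` on `X`, the sheaf
`Γ_Y(I) = ker (I ⟶ j_* j^* I)` is acyclic for the global sections functor. -/

set_option autoImplicit false
universe u

open CategoryTheory Category Limits AlgebraicGeometry Opposite

namespace Groth.Agent.Lib.Helper68.SecSuppAcyc

open Groth.Agent.Lib.Helper68 Groth.Agent.Lib.Helper4

variable {X U : Scheme.{u}} (j : U ⟶ X) [IsOpenImmersion j]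

/-- global sections of abelian étale sheaves -/
noncomputable abbrev Γ (X : Scheme.{u}) : EtCoh.Ab X ⥤ AddCommGrpCat.{u+1} :=
  sheafToPresheaf X.smallEtaleTopology AddCommGrpCat.{u+1} ⋙
    (evaluation X.Etaleᵒᵖ AddCommGrpCat.{u+1}).obj (op (EtCoh.top X))

theorem surjective_unitApp_app (I : EtCoh.Ab X) [Injective I] (V : X.Etaleᵒᵖ) :
    Function.Surjective ((EtDual.unitApp j I).hom.app V) := by
  have h := Adjunction.unit_leftAdjointUniq_hom_app (EtRestr.restrPushAdj j)
    (EtCoh.pullPushAdj j) I
  have h2 : EtDual.unitApp j I = (EtRestr.restrPushAdj j).unit.app I ≫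
      (EtCoh.push j).map (((EtRestr.restrPushAdj j).leftAdjointUniq
        (EtCoh.pullPushAdj j)).hom.app I) := h.symm
  rw [h2]
  have h3 : Function.Surjective (((EtRestr.restrPushAdj j).unit.app I).hom.app V) := by
    rw [LocCoh.restrPushAdj_unit_app]
    have := LocCoh.mono_adjSite_counit j V.unop
    exact FreeRep.surjective_map_of_injective.{u+1} X.smallEtaleTopology
      ((EtRestr.adjSite j).counit.app V.unop) I
  have h4 : IsIso (((EtCoh.push j).map (((EtRestr.restrPushAdj j).leftAdjointUniq
        (EtCoh.pullPushAdj j)).hom.app I)).hom.app V) := by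
    have : IsIso ((EtCoh.push j).map (((EtRestr.restrPushAdj j).leftAdjointUniq
        (EtCoh.pullPushAdj j)).hom.app I)) := inferInstance
    have h5 : IsIso ((sheafToPresheaf _ _).map ((EtCoh.push j).map
        (((EtRestr.restrPushAdj j).leftAdjointUniq (EtCoh.pullPushAdj j)).hom.app I))) :=
      Functor.map_isIso _ _
    exact (NatTrans.isIso_iff_isIso_app _).1 h5 V
  have h6 : Function.Bijective (((EtCoh.push j).map (((EtRestr.restrPushAdj j).leftAdjointUniq
        (EtCoh.pullPushAdj j)).hom.app I)).hom.app V) :=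
    (ConcreteCategory.isIso_iff_bijective _).1 h4
  intro t
  obtain ⟨s, hs⟩ := h6.2 t
  obtain ⟨r, hr⟩ := h3 s
  refine ⟨r, ?_⟩
  rw [← hs, ← hr]
  rfl

theorem acyc_secSupp_of_injective (I : EtCoh.Ab X) [Injective I] :
    EdgeOutIso.Acyc (Γ X) ((EtDual.secSupp j).obj I) := by
  let S : ShortComplex (EtCoh.Ab X) :=
    ShortComplex.mk (kernel.ι (EtDual.unitApp j I)) (EtDual.unitApp j I) (kernel.condition _)
  have hS : S.ShortExact :=
    { exact := ShortComplex.exact_of_f_is_kernel _ (kernelIsKernel _)
      mono_f := by dsimp [S]; infer_instance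
      epi_g := LocCoh.epi_unitApp j I }
  have hI2 : ∀ p : ℕ, IsZero (((Γ X).rightDerived (p + 1)).obj S.X₂) := fun p =>
    Functor.isZero_rightDerived_obj_injective_succ (Γ X) p I
  haveI : Etale j := inferInstance
  haveI : Injective ((EtCoh.pull j).obj I) := InjPull.injective_pull j I
  haveI : Injective ((EtCoh.push j).obj ((EtCoh.pull j).obj I)) := InjPull.injective_push j _
  have hI3 : ∀ p : ℕ, IsZero (((Γ X).rightDerived (p + 1)).obj S.X₃) := fun p =>
    Functor.isZero_rightDerived_obj_injective_succ (Γ X) p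
      ((EtCoh.push j).obj ((EtCoh.pull j).obj I))
  intro p
  cases p with
  | zero =>
    have hepi : Epi (((Γ X).rightDerived 0).map S.g) := by
      have hepi0 : Epi ((Γ X).map S.g) := by
        rw [AddCommGrpCat.epi_iff_surjective]
        exact surjective_unitApp_app j I (op (EtCoh.top X))
      have hnat := (Γ X).rightDerivedZeroIsoSelf.hom.naturality S.g
      have : ((Γ X).rightDerived 0).map S.g =
          (Γ X).rightDerivedZeroIsoSelf.hom.app _ ≫ (Γ X).map S.g ≫
            (Γ X).rightDerivedZeroIsoSelf.inv.app _ := by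
        rw [← assoc, ← hnat, assoc, Iso.hom_inv_id_app, comp_id]
      rw [this]
      infer_instance
    have hδ : RightDerivedLES.δ (Γ X) hS 0 = 0 := by
      rw [← cancel_epi (((Γ X).rightDerived 0).map S.g), RightDerivedLES.map_g_δ, comp_zero]
    exact (RightDerivedLES.exact₁ (Γ X) hS 0).isZero_of_both_zeros hδ ((hI2 0).eq_of_tgt _ _)
  | succ p =>
    exact RightDerivedLES.isZero_left (Γ X) hS (p + 1) (hI3 p) (hI2 (p + 1))

end Groth.Agent.Lib.Helper68.SecSuppAcyc
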