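import Groth.Agent.Lib.Helper68.Devissage2
import Mathlib.RingTheory.Nakayama
import Mathlib.Algebra.Category.ModuleCat.Basic
import Mathlib.CategoryTheory.Linear.LinearFunctor

/-! A semi-exact linear functor on modules over a Noetherian ring that preserves finiteness and
kills all `B/m` kills all finite modules. -/

set_option autoImplicit false
universe u

open CategoryTheory Limits

namespace Groth.Agent.Lib.Helper68.SemiExact

variable {B : Type u} [CommRing B] [IsNoetherianRing B]
  (F : ModuleCat.{u} B ⥤ ModuleCat.{u} B) [F.Additive] [F.Linear B]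

omit [IsNoetherianRing B] [F.Additive] in
/-- a linear functor sends multiplication by `x` to multiplication by `x` -/
lemma map_smul_id (L : ModuleCat.{u} B) (x : B) (n : F.obj L) :
    (F.map (x • 𝟙 L)).hom n = x • n := by
  rw [F.map_smul, F.map_id]
  rfl

variable
  (hfg : ∀ M : ModuleCat.{u} B, Module.Finite B M → Module.Finite B (F.obj M))
  (hex : ∀ S : ShortComplex (ModuleCat.{u} B), S.ShortExact → Module.Finite B S.X₂ →
    (S.map F).Exact)
  (h0 : ∀ m : Ideal B, m.IsMaximal → IsZero (F.obj (ModuleCat.of B (B ⧸ m))))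

omit [IsNoetherianRing B] in
include hfg hex h0 in
theorem core (p : Ideal B) [p.IsPrime]
    (IH : ∀ J : Ideal B, p < J → Devissage.PI (fun L => IsZero (F.obj L)) J) :
    IsZero (F.obj (ModuleCat.of B (B ⧸ p))) := by
  set L : ModuleCat.{u} B := ModuleCat.of B (B ⧸ p) with hL
  have hfinL : Module.Finite B L := inferInstanceAs (Module.Finite B (B ⧸ p))
  have hfinN : Module.Finite B (F.obj L) := hfg L hfinL
  -- `p` kills `N`
  have hpN : ∀ a ∈ p, ∀ n : F.obj L, a • n = 0 := by
    intro a ha n
    have h1 : a • 𝟙 L = 0 := by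
      apply ModuleCat.hom_ext
      apply LinearMap.ext
      intro y
      obtain ⟨b, rfl⟩ := Ideal.Quotient.mk_surjective (y : B ⧸ p)
      show a • (Ideal.Quotient.mk p b) = 0
      rw [Algebra.smul_def, Ideal.Quotient.algebraMap_eq, ← map_mul,
        Ideal.Quotient.eq_zero_iff_mem]
      exact Ideal.mul_mem_right _ _ ha
    rw [← map_smul_id F L a n, h1, F.map_zero]
    rfl
  -- multiplication by `x ∉ p` is surjective on `N`
  have hsurj : ∀ x : B, x ∉ p → ∀ n : F.obj L, ∃ n' : F.obj L, x • n' = n := by
    intro x hx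
    let mulx : (B ⧸ p) →ₗ[B] (B ⧸ p) := x • LinearMap.id
    have hinj : Function.Injective mulx := by
      rw [← LinearMap.ker_eq_bot, LinearMap.ker_eq_bot']
      intro y hy
      obtain ⟨b, rfl⟩ := Ideal.Quotient.mk_surjective y
      have h1 : Ideal.Quotient.mk p (x * b) = 0 := by
        have : mulx (Ideal.Quotient.mk p b) = Ideal.Quotient.mk p (x * b) := by
          show x • (Ideal.Quotient.mk p b) = _
          rw [Algebra.smul_def, Ideal.Quotient.algebraMap_eq, ← map_mul]
        rw [← this, hy]
      rw [Ideal.Quotient.eq_zero_iff_mem] at h1 ⊢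
      exact (Ideal.IsPrime.mem_or_mem inferInstance h1).resolve_left hx
    have hexq : Function.Exact mulx (LinearMap.range mulx).mkQ := LinearMap.exact_map_mkQ_range _
    let S : ShortComplex (ModuleCat.{u} B) :=
      ShortComplex.mk (ModuleCat.ofHom mulx) (ModuleCat.ofHom (LinearMap.range mulx).mkQ) (by
        apply ModuleCat.hom_ext
        apply LinearMap.ext
        intro y
        exact hexq.apply_apply_eq_zero y)
    have hS : S.ShortExact :=
      ModuleCat.shortComplex_shortExact S hexq hinj (Submodule.mkQ_surjective _)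
    have hlt : p < p ⊔ Ideal.span {x} := by
      refine lt_of_le_of_ne le_sup_left (fun h => hx ?_)
      rw [h]
      exact Ideal.mem_sup_right (Ideal.subset_span rfl)
    have hQ : IsZero (F.obj S.X₃) := by
      refine IH _ hlt ((B ⧸ p) ⧸ LinearMap.range mulx) ?_
      intro a ha z
      obtain ⟨y, rfl⟩ := Submodule.mkQ_surjective _ z
      obtain ⟨b, hb, c, hc, rfl⟩ := Submodule.mem_sup.mp ha
      obtain ⟨d, rfl⟩ := Ideal.mem_span_singleton'.mp hc
      rw [← map_smul, Submodule.mkQ_apply, Submodule.Quotient.mk_eq_zero]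
      refine ⟨d • y, ?_⟩
      obtain ⟨y', rfl⟩ := Ideal.Quotient.mk_surjective y
      show x • (d • Ideal.Quotient.mk p y') = (b + d * x) • Ideal.Quotient.mk p y'
      simp only [Algebra.smul_def, Ideal.Quotient.algebraMap_eq, ← map_mul]
      rw [Ideal.Quotient.eq]
      have : x * (d * y') - (b + d * x) * y' = -(b * y') := by ring
      rw [this]
      exact neg_mem (Ideal.mul_mem_right _ _ hb)
    have hE := hex S hS hfinL
    have hepi : Epi (F.map S.f) := hE.epi_f (hQ.eq_of_tgt _ _)
    have hSf : S.f = x • 𝟙 L := by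
      apply ModuleCat.hom_ext
      apply LinearMap.ext
      intro y
      rfl
    rw [hSf, ModuleCat.epi_iff_surjective] at hepi
    intro n
    obtain ⟨n', hn'⟩ := hepi n
    exact ⟨n', by rw [← hn']; exact (map_smul_id F L x n').symm⟩
  -- conclusion
  by_contra hne
  have hnt : ¬ Subsingleton (F.obj L) := fun h => hne (ModuleCat.isZero_of_subsingleton _)
  have hann : Module.annihilator B (F.obj L) ≠ ⊤ := by
    rwa [ne_eq, Module.annihilator_eq_top_iff]
  obtain ⟨m, hm, hle⟩ := Ideal.exists_le_maximal _ hann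
  have hpm : p ≤ m := fun a ha => hle (Module.mem_annihilator.mpr (hpN a ha))
  rcases eq_or_lt_of_le hpm with heq | hlt
  · subst heq
    exact hne (h0 p hm)
  · obtain ⟨x, hxm, hxp⟩ := SetLike.exists_of_lt hlt
    have hle' : (⊤ : Submodule B (F.obj L)) ≤ Ideal.span {x} • ⊤ := by
      intro n _
      obtain ⟨n', rfl⟩ := hsurj x hxp n
      exact Submodule.smul_mem_smul (Ideal.subset_span rfl) Submodule.mem_top
    obtain ⟨r, hr1, hr2⟩ := Submodule.exists_sub_one_mem_and_smul_eq_zero_of_fg_of_le_smul
      (Ideal.span {x}) ⊤ (Module.finite_def.mp hfinN) hle'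
    have hrm : r ∈ m := hle (Module.mem_annihilator.mpr (fun n => hr2 n Submodule.mem_top))
    have hxm' : r - 1 ∈ m := (Ideal.span_singleton_le_iff_mem m |>.mpr hxm) hr1
    have h1 : (1 : B) ∈ m := by
      have := m.sub_mem hrm hxm'
      simpa using this
    exact hm.ne_top ((Ideal.eq_top_iff_one m).mpr h1)

include hfg hex h0 in
theorem isZero_of_finite (M : ModuleCat.{u} B) (hM : Module.Finite B M) : IsZero (F.obj M) := by
  have := Devissage.fg_of_core (fun L => IsZero (F.obj L))
    (fun e h => h.of_iso (F.mapIso e.symm))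
    (fun L hL => F.map_isZero hL)
    (fun S hS _ hf₂ _ h1 h3 => (hex S hS hf₂).isZero_of_both_zeros (h1.eq_of_src _ _)
      (h3.eq_of_tgt _ _))
    (fun p _ IH => core F hfg hex h0 p IH) M
  exact this

end Groth.Agent.Lib.Helper68.SemiExact
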