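import Groth.Agent.Lib.Helper68.ShGen
import Mathlib.CategoryTheory.Abelian.GrothendieckAxioms.Sheaf
import Mathlib.Topology.Sheaves.Abelian

/-!
# Dévissage for abelian sheaves on a space with a basis of quasi-compact opens

A property of abelian sheaves which is stable under isomorphisms, extensions and directed colimits
and holds for all quotients of the free sheaves on quasi-compact opens holds for all sheaves.
-/

universe u

open CategoryTheory TopologicalSpace Opposite CategoryTheory.Limits

namespace Groth.Agent.Lib.Helper68.ShDeviss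

open Groth.Agent.Lib.Helper53

section Abstract

variable {𝒜 : Type*} [Category 𝒜] [Abelian 𝒜]

/-- the two inclusions into a binary supremum of subobjects are jointly epimorphic -/
lemma epi_coprod_desc_ofLE {F : 𝒜} (S T : Subobject F) :
    Epi (coprod.desc (Subobject.ofLE S (S ⊔ T) le_sup_left)
      (Subobject.ofLE T (S ⊔ T) le_sup_right)) := by
  let φ : (S : 𝒜) ⨿ (T : 𝒜) ⟶ F := coprod.desc S.arrow T.arrow
  let I := imageSubobject φ
  have hS : S ≤ I := Subobject.le_of_comm (coprod.inl ≫ factorThruImageSubobject φ) (by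
    rw [Category.assoc, imageSubobject_arrow_comp]; exact coprod.inl_desc _ _)
  have hT : T ≤ I := Subobject.le_of_comm (coprod.inr ≫ factorThruImageSubobject φ) (by
    rw [Category.assoc, imageSubobject_arrow_comp]; exact coprod.inr_desc _ _)
  have h1 : S ⊔ T ≤ I := sup_le hS hT
  have h2 : I ≤ S ⊔ T := imageSubobject_le φ
    (coprod.desc (Subobject.ofLE S (S ⊔ T) le_sup_left) (Subobject.ofLE T (S ⊔ T) le_sup_right))
    (by
      apply coprod.hom_ext
      · rw [coprod.inl_desc_assoc, Subobject.ofLE_arrow]; exact (coprod.inl_desc _ _).symm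
      · rw [coprod.inr_desc_assoc, Subobject.ofLE_arrow]; exact (coprod.inr_desc _ _).symm)
  have e : coprod.desc (Subobject.ofLE S (S ⊔ T) le_sup_left)
      (Subobject.ofLE T (S ⊔ T) le_sup_right) =
      factorThruImageSubobject φ ≫ Subobject.ofLE I (S ⊔ T) h2 := by
    rw [← cancel_mono (S ⊔ T).arrow, Category.assoc, Subobject.ofLE_arrow,
      imageSubobject_arrow_comp]
    apply coprod.hom_ext
    · rw [coprod.inl_desc_assoc, Subobject.ofLE_arrow]; exact (coprod.inl_desc _ _).symm
    · rw [coprod.inr_desc_assoc, Subobject.ofLE_arrow]; exact (coprod.inr_desc _ _).symm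
  have : IsIso (Subobject.ofLE I (S ⊔ T) h2) :=
    ⟨Subobject.ofLE _ _ h1, by simp, by simp⟩
  rw [e]
  infer_instance

variable (P : 𝒜 → Prop)

/-- every quotient of `G` satisfies `P` -/
def QuotP (G : 𝒜) : Prop := ∀ (Q : 𝒜) (π : G ⟶ Q), Epi π → P Q

variable {P}

lemma QuotP.self {G : 𝒜} (h : QuotP P G) : P G := h G (𝟙 G) inferInstance

lemma quotP_sup
    (hext : ∀ S : ShortComplex 𝒜, S.ShortExact → P S.X₁ → P S.X₃ → P S.X₂)
    {F : 𝒜} (S T : Subobject F) (hS : QuotP P (S : 𝒜)) (hT : QuotP P (T : 𝒜)) :
    QuotP P ((S ⊔ T : Subobject F) : 𝒜) := by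
  intro Q π hπ
  let iS := Subobject.ofLE S (S ⊔ T) le_sup_left
  let iT := Subobject.ofLE T (S ⊔ T) le_sup_right
  -- the image of `S` in `Q`
  let ι : Abelian.image (iS ≫ π) ⟶ Q := Abelian.image.ι (iS ≫ π)
  let e : (S : 𝒜) ⟶ Abelian.image (iS ≫ π) := Abelian.factorThruImage (iS ≫ π)
  have he : e ≫ ι = iS ≫ π := Abelian.image.fac _
  have h1 : P (Abelian.image (iS ≫ π)) := hS _ e inferInstance
  let p : Q ⟶ cokernel ι := cokernel.π ι
  have hepi : Epi (iT ≫ π ≫ p) := by
    constructor
    intro D g h hgh
    have hz : ∀ k : cokernel ι ⟶ D, iT ≫ π ≫ p ≫ k = 0 → k = 0 := by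
      intro k hk
      have hSk : iS ≫ π ≫ p ≫ k = 0 := by
        have h0 : (e ≫ ι) ≫ p ≫ k = 0 := by
          rw [Category.assoc, cokernel.condition_assoc, zero_comp, comp_zero]
        have h0' : (iS ≫ π) ≫ p ≫ k = 0 :=
          (congrArg (fun z => z ≫ p ≫ k) he.symm).trans h0
        simpa only [Category.assoc] using h0'
      have : (π ≫ p ≫ k) = 0 := by
        have := epi_coprod_desc_ofLE S T
        rw [← cancel_epi (coprod.desc iS iT)]
        apply coprod.hom_ext
        · rw [coprod.inl_desc_assoc, comp_zero, comp_zero]; exact hSk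
        · rw [coprod.inr_desc_assoc, comp_zero, comp_zero]; exact hk
      rw [← cancel_epi p, ← cancel_epi π]
      simpa using this
    have : g - h = 0 := hz _ (by
      rw [Preadditive.comp_sub, Preadditive.comp_sub, Preadditive.comp_sub]
      simp only [Category.assoc] at hgh
      rw [hgh, sub_self])
    exact sub_eq_zero.1 this
  have h3 : P (cokernel ι) := hT _ _ hepi
  let SC : ShortComplex 𝒜 := ShortComplex.mk ι p (cokernel.condition ι)
  have hSC : SC.ShortExact :=
    { exact := ShortComplex.exact_cokernel ι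
      mono_f := by dsimp [SC, ι]; infer_instance
      epi_g := by dsimp [SC, p]; infer_instance }
  exact hext SC hSC h1 h3

end Abstract

section Main

variable {X : TopCat.{u}}

noncomputable instance instCompleteLatticeSubobject (F : CohTop.Ab X) :
    CompleteLattice (Subobject F) := by
  haveI : IsGrothendieckAbelian.{u} (CohTop.Ab X) := inferInstance
  haveI : WellPowered.{u} (CohTop.Ab X) := IsGrothendieckAbelian.wellPowered _
  haveI : LocallySmall.{u} (CohTop.Ab X) := inferInstance
  haveI : HasCoproducts.{u} (CohTop.Ab X) := inferInstance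
  haveI : HasWidePullbacks.{u} (CohTop.Ab X) := inferInstance
  exact Subobject.instCompleteLattice.{u}

/-- the generators of an abelian sheaf: sections over quasi-compact opens -/
abbrev Gen (F : CohTop.Ab X) : Type u :=
  Σ (V : {V : Opens X // IsCompact (V : Set X)}), (freeSheaf V.1 ⟶ F)

/-- the subsheaf generated by a finite set of sections over quasi-compact opens -/
noncomputable def sub (F : CohTop.Ab X) (A : Finset (Gen F)) : Subobject F :=
  A.sup (fun a => imageSubobject a.2)

lemma sub_mono (F : CohTop.Ab X) : Monotone (sub F) := fun _ _ h => Finset.sup_mono h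

lemma iSup_sub [PrespectralSpace X] (F : CohTop.Ab X) : (⨆ A, sub F A) = ⊤ := by
  apply ShGen.eq_top_of_forall_factors
  intro V hV s
  have h1 : imageSubobject s ≤ sub F {⟨⟨V, hV⟩, s⟩} :=
    Finset.le_sup (f := fun a : Gen F => imageSubobject a.2)
      (Finset.mem_singleton_self (⟨⟨V, hV⟩, s⟩ : Gen F))
  have h2 : imageSubobject s ≤ ⨆ A, sub F A := h1.trans (le_iSup (sub F) _)
  refine Subobject.factors_of_le _ h2 ?_
  have := Subobject.factors_comp_arrow (factorThruImageSubobject s)
  rwa [imageSubobject_arrow_comp] at this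

variable {P : CohTop.Ab X → Prop}

lemma quotP_bot (hcyc : ∀ (U : Opens X), IsCompact (U : Set X) → QuotP P (freeSheaf U))
    {F : CohTop.Ab X} (S : Subobject F) (hS : S = ⊥) : QuotP P (S : CohTop.Ab X) := by
  subst hS
  intro Q π hπ
  have hz : IsZero ((⊥ : Subobject F) : CohTop.Ab X) :=
    (isZero_zero _).of_iso Subobject.botCoeIsoZero
  have hQ : IsZero Q := by
    rw [IsZero.iff_id_eq_zero, ← cancel_epi π]
    exact hz.eq_of_src _ _
  refine hcyc ⊥ (by simp) Q 0 ?_
  constructor
  intro D g h _
  exact hQ.eq_of_src _ _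

lemma quotP_imageSubobject (hcyc : ∀ (U : Opens X), IsCompact (U : Set X) → QuotP P (freeSheaf U))
    {F : CohTop.Ab X} (a : Gen F) : QuotP P ((imageSubobject a.2 : Subobject F) : CohTop.Ab X) := by
  intro Q π hπ
  exact hcyc a.1.1 a.1.2 Q (factorThruImageSubobject a.2 ≫ π) (epi_comp _ _)

lemma quotP_sub
    (hext : ∀ S : ShortComplex (CohTop.Ab X), S.ShortExact → P S.X₁ → P S.X₃ → P S.X₂)
    (hcyc : ∀ (U : Opens X), IsCompact (U : Set X) → QuotP P (freeSheaf U))
    (F : CohTop.Ab X) (A : Finset (Gen F)) : QuotP P (sub F A : CohTop.Ab X) := by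
  classical
  induction A using Finset.induction with
  | empty => exact quotP_bot hcyc _ (by simp [sub])
  | insert a A _ ih =>
    have e : sub F (insert a A) = imageSubobject a.2 ⊔ sub F A := by
      simp [sub, Finset.sup_insert]
    rw [e]
    exact quotP_sup hext _ _ (quotP_imageSubobject hcyc a) ih

/-- **Dévissage.** -/
theorem devissage [PrespectralSpace X]
    (hext : ∀ S : ShortComplex (CohTop.Ab X), S.ShortExact → P S.X₁ → P S.X₃ → P S.X₂)
    (hcolim : ∀ (ι : Type u) [Preorder ι] [IsDirected ι (· ≤ ·)] [Nonempty ι]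
      (M : ι ⥤ CohTop.Ab X) (c : Cocone M), IsColimit c → (∀ i, P (M.obj i)) → P c.pt)
    (hcyc : ∀ (U : Opens X), IsCompact (U : Set X) → QuotP P (freeSheaf U))
    (F : CohTop.Ab X) : P F := by
  classical
  let Fm : Finset (Gen F) ⥤ MonoOver F := (sub_mono F).functor ⋙ Subobject.representative
  let c : Cocone (Fm ⋙ MonoOver.forget F) :=
    { pt := Over.mk (𝟙 F)
      ι :=
        { app := fun A => Over.homMk (sub F A).arrow (by simp; rfl)
          naturality := fun A B f => by
            apply Over.OverMorphism.ext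
            simp
            exact MonoOver.w (Fm.map f) } }
  have : Mono c.pt.hom := by dsimp [c]; infer_instance
  have h : Subobject.mk c.pt.hom = ⨆ j, Subobject.mk (Fm.obj j).obj.hom := by
    have h1 : Subobject.mk c.pt.hom = ⊤ := (Subobject.top_eq_id F).symm
    have h2 : ∀ j, Subobject.mk (Fm.obj j).obj.hom = sub F j := fun j => Subobject.mk_arrow _
    rw [h1]
    simp only [h2]
    exact (iSup_sub F).symm
  have hc := IsGrothendieckAbelian.isColimitMapCoconeOfSubobjectMkEqISup Fm c h
  refine hcolim _ _ _ hc (fun A => ?_)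
  exact (quotP_sub hext hcyc F A).self

end Main

end Groth.Agent.Lib.Helper68.ShDeviss
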