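import Groth.Agent.Lib.Helper68.ShDeviss

/-!
# Further dévissage tools: directed families of subobjects, generators, torsion induction
-/

universe u

open CategoryTheory TopologicalSpace Opposite CategoryTheory.Limits

namespace Groth.Agent.Lib.Helper68.ShDeviss

open Groth.Agent.Lib.Helper53

section Family

variable {X : TopCat.{u}} {P : CohTop.Ab X → Prop}

/-- a sheaf which is the directed union of subsheaves satisfying `P` satisfies `P` -/
theorem of_family
    (hcolim : ∀ (ι : Type u) [Preorder ι] [IsDirected ι (· ≤ ·)] [Nonempty ι]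
      (M : ι ⥤ CohTop.Ab X) (c : Cocone M), IsColimit c → (∀ i, P (M.obj i)) → P c.pt)
    {ι : Type u} [Preorder ι] [IsDirected ι (· ≤ ·)] [Nonempty ι]
    (F : CohTop.Ab X) (g : ι → Subobject F) (hg : Monotone g) (htop : (⨆ i, g i) = ⊤)
    (h : ∀ i, P (g i : CohTop.Ab X)) : P F := by
  classical
  let Fm : ι ⥤ MonoOver F := hg.functor ⋙ Subobject.representative
  let c : Cocone (Fm ⋙ MonoOver.forget F) :=
    { pt := Over.mk (𝟙 F)
      ι :=
        { app := fun A => Over.homMk (g A).arrow (by simp; rfl)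
          naturality := fun A B f => by
            apply Over.OverMorphism.ext
            simp
            exact MonoOver.w (Fm.map f) } }
  have : Mono c.pt.hom := by dsimp [c]; infer_instance
  have h' : Subobject.mk c.pt.hom = ⨆ j, Subobject.mk (Fm.obj j).obj.hom := by
    have h1 : Subobject.mk c.pt.hom = ⊤ := (Subobject.top_eq_id F).symm
    have h2 : ∀ j, Subobject.mk (Fm.obj j).obj.hom = g j := fun j => Subobject.mk_arrow _
    rw [h1]
    simp only [h2]
    exact htop.symm
  have hc := IsGrothendieckAbelian.isColimitMapCoconeOfSubobjectMkEqISup Fm c h'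
  exact hcolim _ _ _ hc (fun A => h A)

lemma sub_arrow_comp_eq_zero {F : CohTop.Ab X} (A : Finset (Gen F)) {D : CohTop.Ab X}
    (g : F ⟶ D) (h : ∀ a ∈ A, a.2 ≫ g = 0) : (sub F A).arrow ≫ g = 0 := by
  have hle : sub F A ≤ kernelSubobject g := by
    apply Finset.sup_le
    intro a ha
    exact imageSubobject_le a.2 (factorThruKernelSubobject g a.2 (h a ha))
      (factorThruKernelSubobject_comp_arrow _ _ _)
  rw [← Subobject.ofLE_arrow hle, Category.assoc, kernelSubobject_arrow_comp, comp_zero]

lemma gen_factor {F : CohTop.Ab X} {A : Finset (Gen F)} {a : Gen F} (ha : a ∈ A) :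
    ∃ ā : freeSheaf a.1.1 ⟶ (sub F A : CohTop.Ab X), ā ≫ (sub F A).arrow = a.2 := by
  have hle : imageSubobject a.2 ≤ sub F A :=
    Finset.le_sup (f := fun a : Gen F => imageSubobject a.2) ha
  refine ⟨factorThruImageSubobject a.2 ≫ Subobject.ofLE _ _ hle, ?_⟩
  rw [Category.assoc, Subobject.ofLE_arrow, imageSubobject_arrow_comp]

open scoped Classical in
lemma iSup_sub_insert [PrespectralSpace X] (F : CohTop.Ab X) (a₀ : Gen F) :
    (⨆ A, sub F (insert a₀ A)) = ⊤ := by
  rw [eq_top_iff, ← iSup_sub F]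
  apply iSup_le
  intro A
  exact (sub_mono F (Finset.subset_insert a₀ A)).trans (le_iSup (fun A => sub F (insert a₀ A)) A)

end Family

section Torsion

variable {𝒜 : Type*} [Category 𝒜] [Abelian 𝒜] {P : 𝒜 → Prop}

/-- if the quotients of `G` killed by a prime satisfy `P`, so do the quotients of `G` killed by
a positive integer -/
theorem torsion_induction
    (hext : ∀ S : ShortComplex 𝒜, S.ShortExact → P S.X₁ → P S.X₃ → P S.X₂)
    (hzero : ∀ Q : 𝒜, IsZero Q → P Q) (G : 𝒜)
    (hprime : ∀ p : ℕ, p.Prime → ∀ (Q : 𝒜) (π : G ⟶ Q), Epi π → (p : ℤ) • π = 0 → P Q) :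
    ∀ N : ℕ, 0 < N → ∀ (Q : 𝒜) (π : G ⟶ Q), Epi π → (N : ℤ) • π = 0 → P Q := by
  intro N
  induction N using Nat.strong_induction_on with
  | _ N ih =>
    intro hN Q π hπ hNπ
    by_cases h1 : N = 1
    · subst h1
      apply hzero
      rw [IsZero.iff_id_eq_zero, ← cancel_epi π]
      simpa using hNπ
    · have hp := Nat.minFac_prime h1
      set p := N.minFac with hp_def
      have hdvd : p ∣ N := Nat.minFac_dvd N
      obtain ⟨N', hN'⟩ := hdvd
      have hN'pos : 0 < N' := by
        rcases Nat.eq_zero_or_pos N' with h | h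
        · subst h; omega
        · exact h
      have hN'lt : N' < N := by
        have : 2 ≤ p := hp.two_le
        nlinarith
      let m : Abelian.image ((p : ℤ) • 𝟙 Q) ⟶ Q := Abelian.image.ι _
      let e : Q ⟶ Abelian.image ((p : ℤ) • 𝟙 Q) := Abelian.factorThruImage _
      have hem : e ≫ m = (p : ℤ) • 𝟙 Q := Abelian.image.fac _
      have h1' : P (Abelian.image ((p : ℤ) • 𝟙 Q)) := by
        refine ih N' hN'lt hN'pos _ (π ≫ e) (epi_comp _ _) ?_
        rw [← cancel_mono m]
        rw [Preadditive.zsmul_comp, Category.assoc, hem, Preadditive.comp_zsmul, Category.comp_id,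
          smul_smul, zero_comp]
        have : ((N' : ℤ) * (p : ℤ)) = (N : ℤ) := by rw [hN']; push_cast; ring
        rw [this]
        exact hNπ
      have h3' : P (cokernel m) := by
        refine hprime p hp _ (π ≫ cokernel.π m) (epi_comp _ _) ?_
        have : (p : ℤ) • (π ≫ cokernel.π m) = π ≫ ((p : ℤ) • 𝟙 Q) ≫ cokernel.π m := by
          rw [Preadditive.zsmul_comp, Category.id_comp, Preadditive.comp_zsmul]
        have h0 : π ≫ (e ≫ m) ≫ cokernel.π m = 0 := by
          rw [Category.assoc, cokernel.condition, comp_zero, comp_zero]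
        have h0' : π ≫ ((p : ℤ) • 𝟙 Q) ≫ cokernel.π m = 0 :=
          (congrArg (fun z => π ≫ z ≫ cokernel.π m) hem.symm).trans h0
        rw [this]
        exact h0'
      let SC : ShortComplex 𝒜 := ShortComplex.mk m (cokernel.π m) (cokernel.condition m)
      have hSC : SC.ShortExact :=
        { exact := ShortComplex.exact_cokernel m
          mono_f := by dsimp [SC, m]; infer_instance
          epi_g := by dsimp [SC]; infer_instance }
      exact hext SC hSC h1' h3'

/-- two quotients of `G` through each other are isomorphic -/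
lemma quot_iso {G Q₁ Q₂ : 𝒜} (π₁ : G ⟶ Q₁) (π₂ : G ⟶ Q₂) [Epi π₁] [Epi π₂]
    (c : Q₂ ⟶ Q₁) (d : Q₁ ⟶ Q₂) (hc : π₂ ≫ c = π₁) (hd : π₁ ≫ d = π₂) : Nonempty (Q₁ ≅ Q₂) :=
  ⟨⟨d, c, by rw [← cancel_epi π₁, ← Category.assoc, hd, hc, Category.comp_id],
    by rw [← cancel_epi π₂, ← Category.assoc, hc, hd, Category.comp_id]⟩⟩

end Torsion

end Groth.Agent.Lib.Helper68.ShDeviss
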