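import Groth.Agent.Lib.Helper53.Flasque
import Mathlib.Topology.Sheaves.LocallySurjective
import Mathlib.CategoryTheory.Abelian.GrothendieckCategory.Subobject
import Mathlib.CategoryTheory.Sites.Abelian
import Mathlib.Topology.Spectral.Prespectral

/-!
# Abelian sheaves on a space with a basis of quasi-compact opens are generated by the
free sheaves on quasi-compact opens
-/

universe u

open CategoryTheory TopologicalSpace Opposite CategoryTheory.Limits

namespace Groth.Agent.Lib.Helper68.ShGen

open Groth.Agent.Lib.Helper53

variable {X : TopCat.{u}}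

/-- A subobject of an abelian sheaf through which every section over a quasi-compact open
factors is everything. -/
theorem eq_top_of_forall_factors [PrespectralSpace X] {F : CohTop.Ab X} (F' : Subobject F)
    (h : ∀ (V : Opens X), IsCompact (V : Set X) → ∀ s : freeSheaf V ⟶ F, F'.Factors s) :
    F' = ⊤ := by
  have hls : TopCat.Presheaf.IsLocallySurjective (F'.arrow.hom) := by
    rw [TopCat.Presheaf.isLocallySurjective_iff]
    intro U t x hx
    obtain ⟨W, ⟨hWo, hWc⟩, hxW, hWU⟩ :=
      (PrespectralSpace.isTopologicalBasis (X := X)).exists_subset_of_mem_open hx U.2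
    let V : Opens X := ⟨W, hWo⟩
    have hVU : V ≤ U := hWU
    refine ⟨V, hVU, ?_, hxW⟩
    let s : freeSheaf V ⟶ F := (freeSheafHomEquiv V F).symm (F.obj.map (homOfLE hVU).op t)
    have hs := h V hWc s
    refine ⟨freeSheafHomEquiv V _ (F'.factorThru s hs), ?_⟩
    have := freeSheafHomEquiv_naturality_right V F'.arrow (F'.factorThru s hs)
    rw [Subobject.factorThru_arrow] at this
    rw [← this]
    simp only [s, Equiv.apply_symm_apply]
    rfl
  have : Epi F'.arrow := by
    rw [← Sheaf.isLocallySurjective_iff_epi']
    exact hls
  have : IsIso F'.arrow := isIso_of_mono_of_epi _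
  exact Subobject.eq_top_of_isIso_arrow F'

end Groth.Agent.Lib.Helper68.ShGen
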