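import Groth.Agent.Lib.Helper68.KerColim
import Groth.Agent.Lib.Helper68.FrameHom
import Groth.Agent.Lib.Helper42.FinPres
import Groth.Agent.Lib.Helper53.ModGroth

/-! `ℋom(F, -)` commutes with filtered colimits when `F` has a global finite presentation. -/

set_option autoImplicit false
universe w v₁ v₂ u₁ u₂ u

open CategoryTheory Category Limits Opposite ModSite

namespace Groth.Agent.Lib.Helper68.ShHomColim

section SumRetract

variable {A : Type u₁} [Category.{v₁} A] {B : Type u₂} [Category.{v₂} B] [Preadditive B]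
  {Λ : Type w} [Category.{w} Λ] (D : Λ ⥤ A)

/-- if `𝟙 G = ∑ aᵢ ≫ bᵢ` with `aᵢ : G ⟶ Uᵢ`, `bᵢ : Uᵢ ⟶ G` and every `Uᵢ` preserves a colimit, so
does `G` -/
theorem preservesColimit_of_sum_retract {I : Type*} [Fintype I] {G : A ⥤ B} (U : I → (A ⥤ B))
    (a : ∀ i, G ⟶ U i) (b : ∀ i, U i ⟶ G)
    (h : ∀ X : A, ∑ i, (a i).app X ≫ (b i).app X = 𝟙 (G.obj X))
    [∀ i, PreservesColimit D (U i)] : PreservesColimit D G := by
  refine ⟨fun {c} hc => ⟨?_⟩⟩
  have hU : ∀ i, IsColimit ((U i).mapCocone c) := fun i => isColimitOfPreserves (U i) hc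
  let tU : ∀ i, Cocone (D ⋙ G) → Cocone (D ⋙ U i) := fun i t =>
    { pt := t.pt
      ι := { app := fun j => (b i).app (D.obj j) ≫ t.ι.app j
             naturality := fun j j' f => by
               have h1 := t.w f
               have h2 := (b i).naturality (D.map f)
               dsimp at h1 h2 ⊢
               rw [comp_id, ← assoc, h2, assoc, h1] } }
  refine
    { desc := fun t => ∑ i, (a i).app c.pt ≫ (hU i).desc (tU i t)
      fac := fun t j => ?_
      uniq := fun t m hm => ?_ }
  · dsimp
    rw [Preadditive.comp_sum]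
    have : ∀ i, G.map (c.ι.app j) ≫ (a i).app c.pt ≫ (hU i).desc (tU i t) =
        ((a i).app (D.obj j) ≫ (b i).app (D.obj j)) ≫ t.ι.app j := by
      intro i
      have h1 := (hU i).fac (tU i t) j
      have h2 := (a i).naturality (c.ι.app j)
      dsimp at h1 h2 ⊢
      rw [← assoc, h2, assoc, h1, assoc]
    rw [Finset.sum_congr rfl (fun i _ => this i), ← Preadditive.sum_comp, h, id_comp]
  · have h3 : ∀ i, (b i).app c.pt ≫ m = (hU i).desc (tU i t) := by
      intro i
      refine (hU i).uniq (tU i t) _ fun j => ?_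
      have h2 := (b i).naturality (c.ι.app j)
      have h4 := hm j
      dsimp at h2 h4 ⊢
      rw [← assoc, h2, assoc, h4]
    have h5 : m = (∑ i, (a i).app c.pt ≫ (b i).app c.pt) ≫ m := by
      rw [h, id_comp]
    rw [h5, Preadditive.sum_comp]
    refine Finset.sum_congr rfl fun i _ => ?_
    rw [assoc, h3]

end SumRetract

open Groth.Agent.Lib.Helper42.TensorSheaf Groth.Agent.Lib.Helper42.TensorColim
open Groth.Agent.Lib.Helper42.Flat Groth.Agent.Lib.Helper42.Flat2
open Groth.Agent.Lib.Helper68.RelExt Groth.Agent.Lib.Helper68.RelExt2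
open Groth.Agent.Lib.Helper68.InjModAcyclic Groth.Agent.Lib.Helper68.FrameHom

variable {C : Type u} [SmallCategory C] {J : GrothendieckTopology C} {O : Sheaf J CommRingCat.{u}}

section RightExact

variable {S : ShortComplex (Mod O)} (hS : S.Exact) [Epi S.g]
  [HasSheafHom S.X₁] [HasSheafHom S.X₂] [HasSheafHom S.X₃] (N : Mod O)

omit [Epi S.g] in
lemma sheafHomMap_zero' : (ExtSupp.sheafHomMap S.g).app N ≫ (ExtSupp.sheafHomMap S.f).app N = 0 := by
  rw [← NatTrans.comp_app, sheafHomMap_comp_eq_zero S.f S.g S.zero]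
  rfl

include hS in
/-- `ℋom(-, N)` turns the epimorphism of a right exact sequence into a monomorphism -/
lemma mono_sheafHomMap_g : Mono ((ExtSupp.sheafHomMap S.g).app N) := by
  apply Preadditive.mono_of_cancel_zero
  intro T x hx
  obtain ⟨φ, rfl⟩ := ((sheafHomAdj S.X₃).homEquiv T N).surjective x
  rw [homEquiv_comp_sheafHomMap, ← homEquiv_zero' (M := S.X₂) T N] at hx
  have h1 := ((sheafHomAdj S.X₂).homEquiv T N).injective hx
  haveI hepi : Epi ((tensL O T).map S.g) := inferInstance
  have h2 : φ = 0 := (cancel_epi ((tensL O T).map S.g)).1 (h1.trans comp_zero.symm)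
  rw [h2, homEquiv_zero']

include hS in
/-- `ℋom(-, N)` is left exact -/
lemma exact_sheafHomMap :
    (ShortComplex.mk ((ExtSupp.sheafHomMap S.g).app N) ((ExtSupp.sheafHomMap S.f).app N)
      (sheafHomMap_zero' N)).Exact := by
  haveI := mono_sheafHomMap_g hS N
  refine ShortComplex.exact_of_f_is_kernel _
    (KernelFork.IsLimit.ofι' ((ExtSupp.sheafHomMap S.g).app N) (sheafHomMap_zero' N) ?_)
  intro T y hy
  let ψ : (tensL O T).obj S.X₂ ⟶ N := ((sheafHomAdj S.X₂).homEquiv T N).symm y
  have hψ : (sheafHomAdj S.X₂).homEquiv T N ψ = y := Equiv.apply_symm_apply _ _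
  rw [← hψ, homEquiv_comp_sheafHomMap, ← homEquiv_zero' (M := S.X₁) T N] at hy
  have h1 : (tensL O T).map S.f ≫ ψ = 0 := ((sheafHomAdj S.X₁).homEquiv T N).injective hy
  have hc : IsColimit (CokernelCofork.ofπ S.g S.zero) := hS.gIsCokernel
  have hc' := CokernelCofork.mapIsColimit _ hc (tensL O T)
  let d : (tensL O T).obj S.X₃ ⟶ N := hc'.desc (CokernelCofork.ofπ ψ h1)
  have hd : (tensL O T).map S.g ≫ d = ψ := hc'.fac (CokernelCofork.ofπ ψ h1) WalkingParallelPair.one
  refine ⟨(sheafHomAdj S.X₃).homEquiv T N d, ?_⟩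
  have h3 := homEquiv_comp_sheafHomMap S.g T N d
  refine h3.trans ?_
  rw [← hψ]
  exact congrArg _ hd

end RightExact

section Free

variable {Λ : Type u} [SmallCategory Λ] (D : Λ ⥤ Mod O)

/-- `ℋom(O^I, -)` preserves all colimits for finite `I` -/
theorem preservesColimit_sheafHom_free (I : Type u) [Finite I]
    [HasSheafHom (SheafOfModules.free (R := ringSh O) I)] :
    PreservesColimit D (sheafHom (SheafOfModules.free (R := ringSh O) I)) := by
  classical
  haveI := Fintype.ofFinite I
  haveI : HasSheafHom (ModSite.unit O) := hasSheafHom O (ModSite.unit O)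
  haveI : PreservesColimit D (sheafHom (ModSite.unit O)) :=
    preservesColimit_of_natIso D (sheafHomUnitIso O).symm
  refine preservesColimit_of_sum_retract D (I := I) (fun _ => sheafHom (ModSite.unit O))
    (fun j => ExtSupp.sheafHomMap (SheafOfModules.ιFree (R := ringSh O) j))
    (fun j => ExtSupp.sheafHomMap (Groth.Agent.Lib.Helper42.FinPres.proj (O := O) j)) ?_
  intro X
  have hsum : ∑ j : I, ExtSupp.sheafHomMap (SheafOfModules.ιFree (R := ringSh O) j) ≫
      ExtSupp.sheafHomMap (Groth.Agent.Lib.Helper42.FinPres.proj (O := O) j) =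
      𝟙 (sheafHom (SheafOfModules.free (R := ringSh O) I)) := by
    rw [← sheafHomMap_id, ← Groth.Agent.Lib.Helper42.FinPres.sum_proj_ιFree (O := O) (I := I),
      sheafHomMap_sum]
    refine Finset.sum_congr rfl fun i _ => ?_
    rw [sheafHomMap_comp]
  have h2 := congrArg (fun τ : sheafHom (SheafOfModules.free (R := ringSh O) I) ⟶
      sheafHom (SheafOfModules.free (R := ringSh O) I) => τ.app X) hsum
  rw [NatTrans.app_sum] at h2
  exact h2

end Free

section Local

variable {Λ : Type u} [SmallCategory Λ] [IsFiltered Λ] (D : Λ ⥤ Mod O)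

/-- **local statement**: `ℋom(F, -)` preserves filtered colimits when `F` has a global finite
presentation -/
theorem preservesColimit_sheafHom_of_presentation {Ir Ig : Type u} [Finite Ir] [Finite Ig]
    (F : Mod O) [HasSheafHom F]
    (Rm : SheafOfModules.free (R := ringSh O) Ir ⟶ SheafOfModules.free (R := ringSh O) Ig)
    (π : SheafOfModules.free (R := ringSh O) Ig ⟶ F) (w : Rm ≫ π = 0)
    (hex : (ShortComplex.mk Rm π w).Exact) [Epi π] :
    PreservesColimit D (sheafHom F) := by
  haveI : HasSheafHom (SheafOfModules.free (R := ringSh O) Ir) := hasSheafHom O _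
  haveI : HasSheafHom (SheafOfModules.free (R := ringSh O) Ig) := hasSheafHom O _
  haveI := preservesColimit_sheafHom_free D (O := O) Ir
  haveI := preservesColimit_sheafHom_free D (O := O) Ig
  haveI : HasExactColimitsOfShape Λ (Mod O) :=
    Groth.Agent.Lib.Helper53.ModGroth.sheafOfModules_hasExactColimitsOfShape J (ringSh O) Λ
  let S : ShortComplex (Mod O) := ShortComplex.mk Rm π w
  haveI : Epi S.g := ‹Epi π›
  haveI : HasSheafHom S.X₁ := hasSheafHom O _
  haveI : HasSheafHom S.X₂ := hasSheafHom O _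
  haveI : HasSheafHom S.X₃ := ‹HasSheafHom F›
  exact KerColim.preservesColimit_of_kernel D (ExtSupp.sheafHomMap π) (ExtSupp.sheafHomMap Rm)
    (sheafHomMap_comp_eq_zero Rm π w)
    (fun N => mono_sheafHomMap_g (S := S) hex N)
    (fun N => exact_sheafHomMap (S := S) hex N)

end Local

end Groth.Agent.Lib.Helper68.ShHomColim
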