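import Groth.Agent.Lib.Helper68.ShHomColim
import Groth.Agent.Lib.Helper42.RestrExact
import Groth.Agent.Lib.Helper42.Proj
import Mathlib.CategoryTheory.Sites.LocalProperties

/-! Local-to-global: restrictions to a family covering the terminal object jointly reflect
isomorphisms of `O`-modules, hence preservation of a colimit can be checked locally. -/

set_option autoImplicit false
universe u

open CategoryTheory Category Limits Opposite ModSite

namespace Groth.Agent.Lib.Helper68.ShHomColim

open Groth.Agent.Lib.Helper42.TensorColim Groth.Agent.Lib.Helper42.RestrExact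

variable {C : Type u} [SmallCategory C] {J : GrothendieckTopology C} {O : Sheaf J CommRingCat.{u}}

/-- restrictions to a covering family of the terminal object jointly reflect isomorphisms -/
theorem isIso_of_restr {ι : Type*} {X : ι → C} (hX : J.CoversTop X) {M N : Mod O} (f : M ⟶ N)
    (h : ∀ i, IsIso ((restr O (X i)).map f)) : IsIso f := by
  have h1 : IsIso ((SheafOfModules.toSheaf.{u} (ringSh O)).map f) := by
    apply Sheaf.isIso_of_coversTop hX
    intro i
    have h2 : IsIso ((restr O (X i) ⋙ SheafOfModules.toSheaf.{u} (ringSh (O.over (X i)))).map f) := by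
      haveI := h i
      exact Functor.map_isIso (SheafOfModules.toSheaf.{u} (ringSh (O.over (X i)))) _
    exact (NatIso.isIso_map_iff (restrToSheafIso O (X i)) f).1 h2
  exact isIso_of_reflects_iso f (SheafOfModules.toSheaf.{u} (ringSh O))

/-- preservation of a colimit by an endofunctor of `O`-modules can be checked after restriction
to a covering family of the terminal object -/
theorem preservesColimit_of_restr {ι : Type*} {X : ι → C} (hX : J.CoversTop X)
    {Λ : Type u} [SmallCategory Λ] (D : Λ ⥤ Mod O) (G : Mod O ⥤ Mod O)
    (h : ∀ i, PreservesColimit D (G ⋙ restr O (X i))) : PreservesColimit D G := by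
  refine ⟨fun {c} hc => ⟨?_⟩⟩
  let φ : colimit (D ⋙ G) ⟶ G.obj c.pt := colimit.desc (D ⋙ G) (G.mapCocone c)
  haveI : IsIso φ := by
    apply isIso_of_restr hX
    intro i
    haveI := h i
    -- both cocones are colimit cocones of `D ⋙ G ⋙ restr`
    have h1 : IsColimit ((restr O (X i)).mapCocone (colimit.cocone (D ⋙ G))) :=
      isColimitOfPreserves (restr O (X i)) (colimit.isColimit (D ⋙ G))
    have h2 : IsColimit ((G ⋙ restr O (X i)).mapCocone c) :=
      isColimitOfPreserves (G ⋙ restr O (X i)) hc
    have h3 : (restr O (X i)).map φ = h1.desc ((G ⋙ restr O (X i)).mapCocone c) := by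
      refine h1.uniq ((G ⋙ restr O (X i)).mapCocone c) _ fun j => ?_
      change (restr O (X i)).map (colimit.ι (D ⋙ G) j) ≫ (restr O (X i)).map φ = _
      rw [← Functor.map_comp, colimit.ι_desc]
      rfl
    rw [h3]
    exact inferInstanceAs (IsIso (h1.coconePointUniqueUpToIso h2).hom)
  haveI : IsIso ((colimit.isColimit (D ⋙ G)).desc (G.mapCocone c)) := ‹IsIso φ›
  exact IsColimit.ofPointIso (colimit.isColimit (D ⋙ G))

end Groth.Agent.Lib.Helper68.ShHomColim
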