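import Groth.Agent.Lib.Helper68.HomInjCx
import Groth.Agent.Lib.Helper68.HomFree
import Groth.Agent.Lib.Helper68.FreeTensorRes
import Groth.Agent.S6161
import Groth.Agent.S12106

/-! `Hom_O(F, G)` is totally acyclic (flasque) for `G` an injective `O`-module. -/

set_option autoImplicit false
universe u

open CategoryTheory Category Limits Opposite ModSite Simplicial SimplicialObject AlgebraicTopology

namespace Groth.Agent.Lib.Helper68.SheafHomFlasque

open Groth.Agent.Lib.Helper68.HomFree

variable {C : Type u} [SmallCategory C] {J : GrothendieckTopology C} (O : Sheaf J CommRingCat.{u})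

theorem isTotallyAcyclic_sheafHom (F G : Mod O) [HasSheafHom F] [Injective G] :
    CohCx.IsTotallyAcyclic (toAb ((sheafHom F).obj G)) := by
  apply Groth.Agent.S12106.result
  intro K' K f _ q
  rw [← HomologicalComplex.exactAt_iff_isZero_homology]
  let P := (Arrow.mk f).cechNerve
  let Aug := Groth.Agent.S6161.pshAug J f
  let X : SimplicialObject (Mod O) := ((SimplicialObject.whiskering _ _).obj (Lft O F)).obj Aug.left
  have hX := FreeTensorRes.exactAt_succ O F (Groth.Agent.S6161.sectionwiseCechLike_pshAug J f) q
  have hY := HomInjCx.exactAt_succ X G q hX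
  let eC : (P.rightOp ⋙ CohCx.HK0Functor J (toAb ((sheafHom F).obj G))) ≅ HomInjCx.homCosimp X G :=
    Functor.isoWhiskerLeft (P.rightOp ⋙ (sheafToPresheaf J (Type u)).op) (homIso O F G)
  exact hY.of_iso ((alternatingCofaceMapComplex _).mapIso eC.symm)

end Groth.Agent.Lib.Helper68.SheafHomFlasque
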