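import Groth.Agent.Lib.Helper68.AcycClass
import Groth.Agent.Lib.Helper26.MVTop

/-! Dimension shifting: surjectivity of restriction in degree `d` on a basis of quasi-compact opens
forces vanishing of cohomology above degree `d` (helper68). -/

set_option autoImplicit false
universe w v u' u

open CategoryTheory TopologicalSpace Opposite CategoryTheory.Limits TopCat

namespace Groth.Agent.Lib.Helper68.SpecShift

open Abelian Groth.Agent.Lib.Helper53 Groth.Agent.Lib.Helper26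
open Groth.Agent.Lib.Helper68

section Gen

variable {C : Type u'} [Category.{v} C] [Abelian C] [HasExt.{w} C]
variable {S : ShortComplex C} (hS : S.ShortExact) [Injective S.X₂] {A B : C} (i : A ⟶ B)

include hS in
lemma step_succ (k : ℕ)
    (h : ∀ y : Ext A S.X₁ (k + 2), ∃ x : Ext B S.X₁ (k + 2), (Ext.mk₀ i).comp x (zero_add _) = y)
    (y : Ext A S.X₃ (k + 1)) :
    ∃ x : Ext B S.X₃ (k + 1), (Ext.mk₀ i).comp x (zero_add _) = y := by
  obtain ⟨ζ, hζ⟩ := h (y.comp hS.extClass rfl)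
  obtain ⟨η, hη⟩ := Ext.covariant_sequence_exact₁ _ hS ζ (Ext.eq_zero_of_injective _)
    (rfl : k + 1 + 1 = k + 2)
  have h0 : ((Ext.mk₀ i).comp η (zero_add _) - y).comp hS.extClass
      (rfl : k + 1 + 1 = k + 2) = 0 := by
    rw [sub_eq_add_neg, Ext.add_comp, Ext.neg_comp,
      Ext.comp_assoc (Ext.mk₀ i) η hS.extClass (zero_add _) rfl (by omega), hη, hζ, add_neg_cancel]
  obtain ⟨x₂, hx₂⟩ := Ext.covariant_sequence_exact₃ _ hS _ rfl h0
  have hz : x₂ = 0 := Ext.eq_zero_of_injective _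
  refine ⟨η, ?_⟩
  rw [hz, Ext.zero_comp] at hx₂
  exact sub_eq_zero.1 hx₂.symm

include hS in
lemma step_zero [Mono i]
    (h : ∀ y : Ext A S.X₁ 1, ∃ x : Ext B S.X₁ 1, (Ext.mk₀ i).comp x (zero_add _) = y)
    (y : Ext A S.X₃ 0) :
    ∃ x : Ext B S.X₃ 0, (Ext.mk₀ i).comp x (zero_add _) = y := by
  obtain ⟨ζ, hζ⟩ := h (y.comp hS.extClass (zero_add 1))
  obtain ⟨η, hη⟩ := Ext.covariant_sequence_exact₁ _ hS ζ (Ext.eq_zero_of_injective _)
    (zero_add 1)
  have h0 : ((Ext.mk₀ i).comp η (zero_add _) - y).comp hS.extClass (zero_add 1) = 0 := by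
    rw [sub_eq_add_neg, Ext.add_comp, Ext.neg_comp,
      Ext.comp_assoc (Ext.mk₀ i) η hS.extClass (zero_add _) (zero_add 1) (by omega), hη, hζ,
      add_neg_cancel]
  obtain ⟨x₂, hx₂⟩ := Ext.covariant_sequence_exact₃ _ hS _ (zero_add 1) h0
  obtain ⟨g₂, rfl⟩ := (Ext.mk₀_bijective _ _).2 x₂
  refine ⟨η - Ext.mk₀ (Injective.factorThru g₂ i ≫ S.g), ?_⟩
  rw [sub_eq_add_neg, Ext.comp_add, Ext.comp_neg, Ext.mk₀_comp_mk₀, ← Category.assoc,
    Injective.comp_factorThru, ← Ext.mk₀_comp_mk₀, hx₂]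
  abel

end Gen

variable {X : TopCat.{u}}

lemma surj_succ (S : ShortComplex (CohTop.Ab X)) (hS : S.ShortExact) [Injective S.X₂] (k : ℕ)
    (U : Opens X) (h : Function.Surjective (CohTop.res S.X₁ (k + 2) (le_top : U ≤ ⊤))) :
    Function.Surjective (CohTop.res S.X₃ (k + 1) (le_top : U ≤ ⊤)) :=
  fun y => step_succ hS (freeSheafMap (homOfLE (le_top : U ≤ ⊤))) k h y

lemma surj_zero (S : ShortComplex (CohTop.Ab X)) (hS : S.ShortExact) [Injective S.X₂]
    (U : Opens X) (h : Function.Surjective (CohTop.res S.X₁ 1 (le_top : U ≤ ⊤))) :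
    Function.Surjective (CohTop.res S.X₃ 0 (le_top : U ≤ ⊤)) :=
  fun y => step_zero hS (freeSheafMap (homOfLE (le_top : U ≤ ⊤))) h y

lemma cls_injective (F : CohTop.Ab X) (U : Opens X) : Function.Injective (MVTop.cls F U) := by
  intro s t h
  have h1 := (Ext.mk₀_bijective (freeSheaf U) F).1 h
  exact (freeSheafHomEquiv U F).symm.injective h1

variable (ℬ : Set (Opens X))
variable (hb : ∀ (U : Opens X) (y : X), y ∈ U → ∃ V ∈ ℬ, y ∈ V ∧ V ≤ U)
  (hinf : ∀ V₁ ∈ ℬ, ∀ V₂ ∈ ℬ, V₁ ⊓ V₂ ∈ ℬ) (hsup : ∀ V₁ ∈ ℬ, ∀ V₂ ∈ ℬ, V₁ ⊔ V₂ ∈ ℬ)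
  (hcpt : ∀ V ∈ ℬ, IsCompact (V : Set X)) (hbot : ⊥ ∈ ℬ) (htop : ⊤ ∈ ℬ)

include hb hinf hsup hcpt hbot htop in
/-- surjectivity of the restrictions `H^d(X, F) → H^d(U, F)` for `U ∈ ℬ` kills `H^q(X, F)`, `q > d` -/
theorem subsingleton_H_of_surjective : ∀ (d : ℕ) (F : CohTop.Ab X),
    (∀ U ∈ ℬ, Function.Surjective (CohTop.res F d (le_top : U ≤ ⊤))) →
      ∀ n : ℕ, Subsingleton (CohTop.H F (d + n + 1)) := by
  intro d
  induction d with
  | zero =>
    intro F h n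
    rw [zero_add]
    refine AcycClass.subsingleton_H_succ hb hinf hsup hcpt hbot htop F ?_ n
    intro V hV t
    obtain ⟨ξ, hξ⟩ := h V hV (MVTop.cls F V t)
    obtain ⟨s, rfl⟩ := MVTop.cls_surjective F ⊤ ξ
    rw [MVTop.res_cls] at hξ
    exact ⟨s, cls_injective F V hξ⟩
  | succ d ih =>
    intro F h n
    have hS := injSeq_shortExact F
    have h' : ∀ U ∈ ℬ, Function.Surjective (CohTop.res (injSeq F).X₃ d (le_top : U ≤ ⊤)) := by
      intro U hU
      cases d with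
      | zero => exact surj_zero (injSeq F) hS U (h U hU)
      | succ k => exact surj_succ (injSeq F) hS k U (h U hU)
    have hsub := ih (injSeq F).X₃ h' n
    refine subsingleton_of_forall_eq 0 fun x => ?_
    have e1 : x.comp (Ext.mk₀ (injSeq F).f) (add_zero _) = 0 := Ext.eq_zero_of_injective _
    obtain ⟨y, hy⟩ := Ext.covariant_sequence_exact₁ _ hS x e1
      (show d + n + 1 + 1 = d + 1 + n + 1 by omega)
    have hy0 : y = 0 := Subsingleton.elim (α := CohTop.H (injSeq F).X₃ (d + n + 1)) _ _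
    rw [← hy, hy0, Ext.zero_comp]
    rfl

end Groth.Agent.Lib.Helper68.SpecShift
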