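import Groth.Agent.Lib.Helper68.SpecPatch
import Mathlib.Topology.KrullDimension
import Mathlib.Topology.Spectral.Basic

/-! Quasi-compact generalization-stable subspaces of spectral spaces are spectral; dimension drop
(helper68). -/

set_option autoImplicit false
universe u

open TopologicalSpace Topology Set

namespace Groth.Agent.Lib.Helper68.SpecSub

open Groth.Agent.Lib.Helper68.SpecPatch

variable {X : Type u} [TopologicalSpace X]

lemma quasiSober_of_genStable [QuasiSober X] {W : Set X} (hgen : GenStable W) : QuasiSober W where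
  sober {S} hS hS' := by
    have hf : IsInducing (Subtype.val : W → X) := IsInducing.subtypeVal
    have hS'' := hS.image (Subtype.val : W → X) continuous_subtype_val.continuousOn
    obtain ⟨x, hx⟩ := QuasiSober.sober hS''.closure isClosed_closure
    obtain ⟨T, hT, rfl⟩ := hf.isClosed_iff.mp hS'
    rw [image_preimage_eq_inter_range] at hx hS''
    have hxT : x ∈ T := by
      rw [← hT.closure_eq]
      exact closure_mono inter_subset_left hx.mem
    obtain ⟨y, rfl⟩ : x ∈ range (Subtype.val : W → X) := by
      obtain ⟨t, htT, htW⟩ := hS''.1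
      have htx : t ∈ closure {x} := by
        rw [hx.def]
        exact subset_closure ⟨htT, htW⟩
      rw [Subtype.range_coe] at htW ⊢
      exact hgen htW htx
    use y
    change _ = _
    rw [IsEmbedding.subtypeVal.closure_eq_preimage_closure_image, image_singleton,
      show _ = _ from hx]
    apply image_injective.mpr Subtype.val_injective
    ext z
    simp only [image_preimage_eq_inter_range, mem_inter_iff, and_congr_left_iff]
    exact fun hy => ⟨fun h => hT.closure_eq ▸ closure_mono inter_subset_left h,
      fun h => subset_closure ⟨h, hy⟩⟩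

lemma isCompact_preimage [SpectralSpace X] {W : Set X} (hW : IsCompact W) (hgen : GenStable W)
    {s : Set X} (hso : IsOpen s) (hsc : IsCompact s) :
    IsCompact ((Subtype.val : W → X) ⁻¹' s) := by
  rw [Subtype.isCompact_iff, Subtype.image_preimage_coe]
  exact isCompact_inter hW hgen hso hsc

theorem spectralSpace_of_genStable [SpectralSpace X] {W : Set X} (hW : IsCompact W)
    (hgen : GenStable W) : SpectralSpace W := by
  have h1 : CompactSpace W := isCompact_iff_compactSpace.mp hW
  have h2 : QuasiSober W := quasiSober_of_genStable hgen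
  have h3 : PrespectralSpace W :=
    PrespectralSpace.of_isInducing (Subtype.val : W → X) IsInducing.subtypeVal
      ⟨continuous_subtype_val, fun s hso hsc => isCompact_preimage hW hgen hso hsc⟩
  have h4 : QuasiSeparatedSpace W := by
    let b : {U : Set X // IsOpen U ∧ IsCompact U} → Set W := fun U => Subtype.val ⁻¹' U.1
    have hb : IsTopologicalBasis (range b) := by
      have := (PrespectralSpace.isTopologicalBasis (X := X)).isInducing
        (IsInducing.subtypeVal (t := W))
      convert this using 1
      ext s
      constructor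
      · rintro ⟨U, rfl⟩
        exact ⟨U.1, U.2, rfl⟩
      · rintro ⟨U, hU, rfl⟩
        exact ⟨⟨U, hU⟩, rfl⟩
    refine QuasiSeparatedSpace.of_isTopologicalBasis hb ?_
    intro U V
    have : b U ∩ b V = Subtype.val ⁻¹' (U.1 ∩ V.1) := rfl
    rw [this]
    exact isCompact_preimage hW hgen (U.2.1.inter V.2.1)
      (QuasiSeparatedSpace.inter_isCompact _ _ U.2.1 U.2.2 V.2.1 V.2.2)
  exact { }

/-- a chain of irreducible closed subsets of `W`, all of whose points specialize outside the open
`U` while `W ⊆ U`, extends by one step in `X` -/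
theorem length_succ_le {W U : Set X} (hU : IsOpen U) (hWU : W ⊆ U)
    (hsp : ∀ t ∈ W, ∃ z, z ∉ U ∧ z ∈ closure {t})
    (p : LTSeries (IrreducibleCloseds W)) :
    ((p.length + 1 : ℕ) : WithBot ℕ∞) ≤ topologicalKrullDim X := by
  have hf : IsInducing (Subtype.val : W → X) := IsInducing.subtypeVal
  let q₀ : LTSeries (IrreducibleCloseds X) :=
    p.map (IrreducibleCloseds.map Subtype.val hf.continuous)
      (IrreducibleCloseds.map_strictMono_of_isInducing hf)
  obtain ⟨t, ht⟩ := p.head.isIrreducible.nonempty
  obtain ⟨z, hzU, hzt⟩ := hsp t.1 t.2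
  let Z : IrreducibleCloseds X :=
    ⟨closure {z}, isIrreducible_singleton.closure, isClosed_closure⟩
  have htq : t.1 ∈ (q₀.head : Set X) := subset_closure ⟨t, ht, rfl⟩
  have hlt : Z < q₀.head := by
    refine lt_of_le_of_ne ?_ ?_
    · change closure {z} ⊆ (q₀.head : Set X)
      refine closure_minimal ?_ q₀.head.isClosed
      rw [singleton_subset_iff]
      exact closure_minimal (singleton_subset_iff.2 htq) q₀.head.isClosed hzt
    · intro h
      have h1 : t.1 ∈ (Z : Set X) := by
        rw [h]
        exact htq
      have h2 : closure {z} ⊆ Uᶜ :=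
        closure_minimal (singleton_subset_iff.2 hzU) hU.isClosed_compl
      exact h2 h1 (hWU t.2)
  let q : LTSeries (IrreducibleCloseds X) := RelSeries.cons q₀ Z hlt
  have hq : q.length = p.length + 1 := by
    simp [q, q₀, RelSeries.cons, RelSeries.append]
  have := Order.LTSeries.length_le_krullDim q
  rw [hq] at this
  exact this

theorem dim_le_of_succ {W U : Set X} (hU : IsOpen U) (hWU : W ⊆ U)
    (hsp : ∀ t ∈ W, ∃ z, z ∉ U ∧ z ∈ closure {t}) (d : ℕ)
    (hd : topologicalKrullDim X ≤ ((d + 1 : ℕ) : WithBot ℕ∞)) :
    topologicalKrullDim W ≤ (d : WithBot ℕ∞) := by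
  unfold topologicalKrullDim Order.krullDim
  refine iSup_le fun p => ?_
  have h := (length_succ_le hU hWU hsp p).trans hd
  have h' : p.length + 1 ≤ d + 1 := by exact_mod_cast h
  exact_mod_cast Nat.le_of_succ_le_succ h'

theorem isEmpty_of_dim_le_zero {W U : Set X} (hU : IsOpen U) (hWU : W ⊆ U)
    (hsp : ∀ t ∈ W, ∃ z, z ∉ U ∧ z ∈ closure {t})
    (hd : topologicalKrullDim X ≤ ((0 : ℕ) : WithBot ℕ∞)) : W = ∅ := by
  by_contra hne
  obtain ⟨t, ht⟩ := nonempty_iff_ne_empty.2 hne
  let T : IrreducibleCloseds W :=
    ⟨closure {⟨t, ht⟩}, isIrreducible_singleton.closure, isClosed_closure⟩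
  let p : LTSeries (IrreducibleCloseds W) := RelSeries.singleton _ T
  have h := (length_succ_le hU hWU hsp p).trans hd
  have h' : p.length + 1 ≤ 0 := by exact_mod_cast h
  omega

end Groth.Agent.Lib.Helper68.SpecSub
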