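import Groth.Agent.Lib.Helper68.SpecStep
import Groth.Agent.Lib.Helper68.SpecShift
import Groth.Agent.Lib.Helper68.SpecSub

/-! Cohomological dimension of spectral spaces is bounded by the Krull dimension (helper68). -/

set_option autoImplicit false
universe u

open CategoryTheory TopologicalSpace Opposite CategoryTheory.Limits TopCat

namespace Groth.Agent.Lib.Helper68.SpecVanish

open Groth.Agent.Lib.Helper68.SpecPatch
open Groth.Agent.Lib.Helper68 Groth.Agent.Lib.Helper26

lemma subsingleton_H_of_isEmpty {Y : TopCat.{u}} [IsEmpty Y] (G : CohTop.Ab Y) (n : ℕ) :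
    Subsingleton (CohTop.H G n) := by
  have h1 : (⊤ : Opens Y) = ⊥ := by
    ext x
    exact (IsEmpty.false x).elim
  have h2 : Subsingleton (CohTop.HU G n (⊤ : Opens Y)) := by
    rw [h1]
    exact MVTop.subsingleton_HU_bot G n
  exact MVTop.subsingleton_H_of_subsingleton_HU_top G n

lemma hsp {X : TopCat.{u}} (U : Opens X) :
    ∀ t ∈ SpecStep.bdry U, ∃ z, z ∉ (U : Set X) ∧ z ∈ closure {t} := by
  rintro t ⟨⟨e, he, het⟩, -⟩
  exact ⟨e, he, het⟩

/-- vanishing above `d` from top-degree surjectivity -/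
lemma key (X : TopCat.{u}) [SpectralSpace X] (F : CohTop.Ab X) (d : ℕ)
    (h : ∀ U : Opens X, IsCompact (U : Set X) →
      Function.Surjective (CohTop.res F d (le_top : U ≤ ⊤))) :
    ∀ n : ℕ, Subsingleton (CohTop.H F (d + n + 1)) := by
  refine SpecShift.subsingleton_H_of_surjective {U : Opens X | IsCompact (U : Set X)}
    ?_ ?_ ?_ ?_ ?_ ?_ d F (fun U hU => h U hU)
  · intro U y hy
    obtain ⟨V₀, ⟨hV₀o, hV₀c⟩, hyV₀, hV₀U⟩ :=
      PrespectralSpace.isTopologicalBasis.exists_subset_of_mem_open hy U.isOpen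
    exact ⟨⟨V₀, hV₀o⟩, hV₀c, hyV₀, hV₀U⟩
  · intro V₁ h₁ V₂ h₂
    exact IsCompact.inter_of_isOpen h₁ h₂ V₁.isOpen V₂.isOpen
  · intro V₁ h₁ V₂ h₂
    change IsCompact ((V₁ ⊔ V₂ : Opens X) : Set X)
    rw [Opens.coe_sup]
    exact h₁.union h₂
  · intro V hV
    exact hV
  · change IsCompact ((⊥ : Opens X) : Set X)
    simp
  · change IsCompact ((⊤ : Opens X) : Set X)
    rw [Opens.coe_top]
    exact isCompact_univ

theorem main : ∀ (d : ℕ) (X : TopCat.{u}) [SpectralSpace X],
    topologicalKrullDim X ≤ (d : WithBot ℕ∞) → ∀ F : CohTop.Ab X,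
      (∀ U : Opens X, IsCompact (U : Set X) →
        Function.Surjective (CohTop.res F d (le_top : U ≤ ⊤))) ∧
      (∀ n : ℕ, Subsingleton (CohTop.H F (d + n + 1))) := by
  intro d
  induction d with
  | zero =>
    intro X _ hd F
    have h2 : ∀ F : CohTop.Ab X, ∀ U : Opens X, IsCompact (U : Set X) →
        Function.Surjective (CohTop.res F 0 (le_top : U ≤ ⊤)) := by
      intro F U hU
      apply SpecStep.surjective_res F 0 U hU
      have hemp : SpecStep.bdry U = ∅ :=
        SpecSub.isEmpty_of_dim_le_zero U.isOpen Set.inter_subset_right (hsp U) hd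
      have : IsEmpty (TopCat.of (SpecStep.bdry U)) := by
        rw [hemp]
        exact Set.isEmpty_coe_sort.2 rfl
      exact subsingleton_H_of_isEmpty _ 0
    exact ⟨h2 F, key X F 0 (h2 F)⟩
  | succ d ih =>
    intro X _ hd F
    have h2 : ∀ F : CohTop.Ab X, ∀ U : Opens X, IsCompact (U : Set X) →
        Function.Surjective (CohTop.res F (d + 1) (le_top : U ≤ ⊤)) := by
      intro F U hU
      apply SpecStep.surjective_res F (d + 1) U hU
      have hsp' : SpectralSpace (TopCat.of (SpecStep.bdry U)) :=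
        SpecSub.spectralSpace_of_genStable (SpecStep.isCompact_bdry U hU) (SpecStep.genStable_bdry U)
      have hdim : topologicalKrullDim (TopCat.of (SpecStep.bdry U)) ≤ (d : WithBot ℕ∞) :=
        SpecSub.dim_le_of_succ U.isOpen Set.inter_subset_right (hsp U) d hd
      exact (ih (TopCat.of (SpecStep.bdry U)) hdim _).2 0
    exact ⟨h2 F, key X F (d + 1) (h2 F)⟩

end Groth.Agent.Lib.Helper68.SpecVanish
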