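import Groth.Agent.Lib.Helper68.Sobrify
import Groth.Agent.Lib.Helper68.QHomeo
import Groth.Agent.Lib.Helper68.SpecVanish
import Groth.Agent.Lib.Helper26.DerivedExactComp
import Groth.Agent.S0462

/-! Cohomology of a space and of its sobrification; Grothendieck vanishing for Noetherian spaces
(helper68). -/

set_option autoImplicit false
universe u

open CategoryTheory TopologicalSpace Opposite CategoryTheory.Limits TopCat

namespace Groth.Agent.Lib.Helper68.SobCoh

open Groth.Agent.Lib.Helper68.Sobrify
open Groth.Agent.Lib.Helper68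

variable (X : TopCat.{u})

/-- the sobrification as an object of `TopCat` -/
def Sob : TopCat.{u} := TopCat.of (Pt X)

/-- the canonical map to the sobrification -/
def qmap : X ⟶ Sob X := TopCat.ofHom ⟨q, continuous_q⟩

instance : T0Space (Sob X) := inferInstanceAs (T0Space (Pt X))
instance : QuasiSober (Sob X) := inferInstanceAs (QuasiSober (Pt X))

lemma dim_le_sob : topologicalKrullDim (Sob X) ≤ topologicalKrullDim X := dim_le (X := X)

lemma hbij : Function.Bijective (fun U : Opens (Sob X) => (Opens.map (qmap X)).obj U) := by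
  constructor
  · intro V V' h
    apply Opens.ext
    exact preimage_injective_opens (X := X) (V := V.1) (V' := V'.1) V.2 V'.2
      (congrArg (fun W : Opens X => (W : Set X)) h)
  · intro U
    refine ⟨⟨(tilde (U : Set X) : Set (Pt X)), isOpen_tilde U.isOpen⟩, ?_⟩
    apply Opens.ext
    exact q_preimage_tilde U.isOpen

instance [NoetherianSpace X] : NoetherianSpace (Sob X) :=
  (QHomeo.oiso (qmap X) (hbij X)).toOrderEmbedding.wellFoundedGT

instance [NoetherianSpace X] : SpectralSpace (Sob X) := { }

lemma isEquivalence_push : (CohTop.push (qmap X)).IsEquivalence := by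
  have hind := QHomeo.isInducing (qmap X) (hbij X)
  have h1 : (CohTop.push (qmap X)).Full :=
    Groth.Agent.Lib.Helper26.ClosedEmbSh.push_full AddCommGrpCat.{u} (i := qmap X) hind
  have h2 : (CohTop.push (qmap X)).Faithful :=
    Groth.Agent.Lib.Helper26.ClosedEmbSh.push_faithful AddCommGrpCat.{u} (i := qmap X) hind
  have h3 : (CohTop.push (qmap X)).EssSurj :=
    ⟨fun F => ⟨QHomeo.transport (qmap X) (hbij X) _ F,
      ⟨QHomeo.pushTransportIso (qmap X) (hbij X) _ F⟩⟩⟩
  exact { }

theorem nonempty_addEquiv (F : CohTop.Ab X) (p : ℕ) :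
    Nonempty (CohTop.H F p ≃+ CohTop.H ((CohTop.push (qmap X)).obj F) p) := by
  have := isEquivalence_push X
  have hl : PreservesFiniteLimits (CohTop.push (qmap X)) := inferInstance
  have hc : PreservesFiniteColimits (CohTop.push (qmap X)) := inferInstance
  exact Groth.Agent.S0462.result (qmap X) F
    (fun n => Groth.Agent.Lib.Helper26.DerivedExactComp.isZero_rightDerived_succ_of_exact
      (CohTop.push (qmap X)) F n) p

theorem vanishing [NoetherianSpace X] (d : ℕ) (hd : topologicalKrullDim X ≤ (d : WithBot ℕ∞))
    (F : CohTop.Ab X) (n : ℕ) : Subsingleton (CohTop.H F (d + n + 1)) := by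
  obtain ⟨e⟩ := nonempty_addEquiv X F (d + n + 1)
  have := (SpecVanish.main d (Sob X) ((dim_le_sob X).trans hd) ((CohTop.push (qmap X)).obj F)).2 n
  exact e.toEquiv.subsingleton

end Groth.Agent.Lib.Helper68.SobCoh
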