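import Mathlib.Topology.KrullDimension
import Mathlib.Topology.Spectral.Basic
import Mathlib.Topology.NoetherianSpace
import Mathlib.Topology.Sets.Opens

/-! The sobrification of a topological space (helper68). -/

set_option autoImplicit false
universe u

open TopologicalSpace Topology Set

namespace Groth.Agent.Lib.Helper68.Sobrify

variable (X : Type u) [TopologicalSpace X]

/-- the points of the sobrification: irreducible closed subsets -/
structure Pt where
  /-- the underlying irreducible closed subset -/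
  val : IrreducibleCloseds X

variable {X}

/-- the carrier of a point -/
def Pt.set (T : Pt X) : Set X := (T.val : Set X)

lemma Pt.ext' {T T' : Pt X} (h : T.set = T'.set) : T = T' := by
  cases T; cases T'
  congr 1
  exact SetLike.coe_injective h

lemma Pt.isIrreducible (T : Pt X) : IsIrreducible T.set := T.val.isIrreducible
lemma Pt.isClosed (T : Pt X) : IsClosed T.set := T.val.isClosed

/-- the open of the sobrification attached to an open of `X` -/
def tilde (U : Set X) : Set (Pt X) := {T | (T.set ∩ U).Nonempty}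

lemma tilde_mono {U V : Set X} (h : U ⊆ V) : tilde U ⊆ tilde V :=
  fun _ ⟨x, hxT, hxU⟩ => ⟨x, hxT, h hxU⟩

instance : TopologicalSpace (Pt X) where
  IsOpen s := ∃ U : Set X, IsOpen U ∧ s = tilde U
  isOpen_univ := ⟨univ, isOpen_univ, by
    ext T
    simp only [mem_univ, tilde, inter_univ, true_iff]
    exact T.isIrreducible.nonempty⟩
  isOpen_inter := by
    rintro _ _ ⟨U, hU, rfl⟩ ⟨V, hV, rfl⟩
    refine ⟨U ∩ V, hU.inter hV, ?_⟩
    ext T
    constructor
    · rintro ⟨h1, h2⟩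
      exact T.isIrreducible.isPreirreducible U V hU hV h1 h2
    · rintro ⟨x, hxT, hxU, hxV⟩
      exact ⟨⟨x, hxT, hxU⟩, ⟨x, hxT, hxV⟩⟩
  isOpen_sUnion := by
    intro S hS
    choose! U hU using hS
    refine ⟨⋃ s ∈ S, U s, isOpen_biUnion (fun s hs => (hU s hs).1), ?_⟩
    ext T
    constructor
    · rintro ⟨s, hs, hTs⟩
      rw [(hU s hs).2] at hTs
      obtain ⟨x, hxT, hxU⟩ := hTs
      exact ⟨x, hxT, mem_biUnion hs hxU⟩
    · rintro ⟨x, hxT, hxU⟩
      obtain ⟨s, hs, hxs⟩ := mem_iUnion₂.1 hxU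
      refine ⟨s, hs, ?_⟩
      rw [(hU s hs).2]
      exact ⟨x, hxT, hxs⟩

lemma isOpen_iff {s : Set (Pt X)} : IsOpen s ↔ ∃ U : Set X, IsOpen U ∧ s = tilde U := Iff.rfl

lemma isOpen_tilde {U : Set X} (hU : IsOpen U) : IsOpen (tilde U) := ⟨U, hU, rfl⟩

/-- the canonical map to the sobrification -/
def q (x : X) : Pt X := ⟨⟨closure {x}, isIrreducible_singleton.closure, isClosed_closure⟩⟩

lemma q_set (x : X) : (q x).set = closure {x} := rfl

lemma q_preimage_tilde {U : Set X} (hU : IsOpen U) : q ⁻¹' (tilde U) = U := by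
  ext x
  constructor
  · rintro ⟨y, hy, hyU⟩
    obtain ⟨z, hzU, hz⟩ := mem_closure_iff.1 hy U hU hyU
    rw [mem_singleton_iff] at hz
    rwa [hz] at hzU
  · intro hx
    exact ⟨x, subset_closure rfl, hx⟩

lemma continuous_q : Continuous (q : X → Pt X) := by
  refine ⟨?_⟩
  rintro _ ⟨U, hU, rfl⟩
  rw [q_preimage_tilde hU]
  exact hU

/-- closed subsets of the sobrification are downward closed -/
lemma mem_of_subset {S : Set (Pt X)} (hS : IsClosed S) {T T' : Pt X} (hT : T ∈ S)
    (h : T'.set ⊆ T.set) : T' ∈ S := by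
  by_contra hT'
  obtain ⟨U, hU, hSU⟩ := isOpen_iff.1 hS.isOpen_compl
  have h1 : T' ∈ tilde U := by
    rw [← hSU]
    exact hT'
  have h2 : T ∈ tilde U := by
    obtain ⟨x, hx, hxU⟩ := h1
    exact ⟨x, h hx, hxU⟩
  rw [← hSU] at h2
  exact h2 hT

lemma q_mem_of_mem {S : Set (Pt X)} (hS : IsClosed S) {T : Pt X} (hT : T ∈ S) {x : X}
    (hx : x ∈ T.set) : q x ∈ S :=
  mem_of_subset hS hT (closure_minimal (singleton_subset_iff.2 hx) T.isClosed)

lemma preimage_injective_opens {V V' : Set (Pt X)} (hV : IsOpen V) (hV' : IsOpen V')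
    (h : q ⁻¹' V = q ⁻¹' V') : V = V' := by
  obtain ⟨U, hU, rfl⟩ := hV
  obtain ⟨U', hU', rfl⟩ := hV'
  rw [q_preimage_tilde hU, q_preimage_tilde hU'] at h
  rw [h]

instance : T0Space (Pt X) := by
  refine ⟨fun T T' h => ?_⟩
  rw [inseparable_iff_forall_isOpen] at h
  have key : ∀ A B : Pt X, (∀ s : Set (Pt X), IsOpen s → (A ∈ s ↔ B ∈ s)) → A.set ⊆ B.set := by
    intro A B hAB x hxA
    by_contra hxB
    have h1 : A ∈ tilde (B.set)ᶜ := ⟨x, hxA, hxB⟩
    have h2 := (hAB _ (isOpen_tilde B.isClosed.isOpen_compl)).1 h1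
    obtain ⟨y, hyB, hyB'⟩ := h2
    exact hyB' hyB
  exact Pt.ext' (subset_antisymm (key T T' h) (key T' T fun s hs => (h s hs).symm))

lemma isIrreducible_preimage {S : Set (Pt X)} (hS : IsIrreducible S) (hSc : IsClosed S) :
    IsIrreducible (q ⁻¹' S : Set X) := by
  constructor
  · obtain ⟨T, hT⟩ := hS.nonempty
    obtain ⟨x, hx⟩ := T.isIrreducible.nonempty
    exact ⟨x, q_mem_of_mem hSc hT hx⟩
  · intro V V' hV hV' ⟨x, hxS, hxV⟩ ⟨x', hxS', hxV'⟩
    have h1 : (S ∩ tilde V).Nonempty := ⟨q x, hxS, x, subset_closure rfl, hxV⟩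
    have h2 : (S ∩ tilde V').Nonempty := ⟨q x', hxS', x', subset_closure rfl, hxV'⟩
    obtain ⟨T, hTS, hTV, hTV'⟩ :=
      hS.isPreirreducible (tilde V) (tilde V') (isOpen_tilde hV) (isOpen_tilde hV') h1 h2
    obtain ⟨y, hyT, hyV, hyV'⟩ := T.isIrreducible.isPreirreducible V V' hV hV' hTV hTV'
    exact ⟨y, q_mem_of_mem hSc hTS hyT, hyV, hyV'⟩

lemma subset_of_preimage_subset {S S' : Set (Pt X)} (hS : IsClosed S) (hS' : IsClosed S')
    (h : q ⁻¹' S ⊆ q ⁻¹' S') : S ⊆ S' := by
  intro T hT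
  by_contra hT'
  obtain ⟨U', hU', hSU'⟩ := isOpen_iff.1 hS'.isOpen_compl
  have h1 : T ∈ tilde U' := by
    rw [← hSU']
    exact hT'
  obtain ⟨y, hyT, hyU'⟩ := h1
  have h2 : q y ∈ S' := h (q_mem_of_mem hS hT hyT)
  have h3 : q y ∈ tilde U' := ⟨y, subset_closure rfl, hyU'⟩
  rw [← hSU'] at h3
  exact h3 h2

instance : QuasiSober (Pt X) where
  sober {S} hS hSc := by
    let c : Pt X := ⟨⟨q ⁻¹' S, isIrreducible_preimage hS hSc, hSc.preimage continuous_q⟩⟩
    have hcS : c ∈ S := by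
      by_contra hc
      obtain ⟨U, hU, hSU⟩ := isOpen_iff.1 hSc.isOpen_compl
      have h1 : c ∈ tilde U := by
        rw [← hSU]
        exact hc
      obtain ⟨y, hyc, hyU⟩ := h1
      have h3 : q y ∈ tilde U := ⟨y, subset_closure rfl, hyU⟩
      rw [← hSU] at h3
      exact h3 hyc
    refine ⟨c, ?_⟩
    rw [isGenericPoint_iff_forall_closed hSc hcS]
    intro Z hZ hcZ
    apply subset_of_preimage_subset hSc hZ
    intro y hy
    exact q_mem_of_mem hZ hcZ hy

/-- the strictly monotone map on irreducible closed subsets -/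
def irrMap (S : IrreducibleCloseds (Pt X)) : IrreducibleCloseds X :=
  ⟨q ⁻¹' (S : Set (Pt X)), isIrreducible_preimage S.isIrreducible S.isClosed,
    S.isClosed.preimage continuous_q⟩

lemma irrMap_strictMono : StrictMono (irrMap : IrreducibleCloseds (Pt X) → IrreducibleCloseds X) := by
  intro S S' h
  refine lt_of_le_of_ne (fun x hx => h.le hx) ?_
  intro heq
  have h1 : (q ⁻¹' (S' : Set (Pt X)) : Set X) ⊆ q ⁻¹' (S : Set (Pt X)) := by
    intro x hx
    have : x ∈ (irrMap S' : Set X) := hx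
    rw [← heq] at this
    exact this
  have h2 : (S' : Set (Pt X)) ⊆ S := subset_of_preimage_subset S'.isClosed S.isClosed h1
  exact absurd (lt_of_lt_of_le h (show S' ≤ S from h2)) (lt_irrefl _)

theorem dim_le : topologicalKrullDim (Pt X) ≤ topologicalKrullDim X :=
  Order.krullDim_le_of_strictMono _ irrMap_strictMono

end Groth.Agent.Lib.Helper68.Sobrify
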