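import Groth.Agent.Lib.Helper68.SpecPatch2
import Groth.Agent.Lib.Helper68.NhdSecGen

/-! Sections of a sheaf of sets over a closed subset `Z` of a spectral space such that
`Z ∩ closure {x}` is connected for all `x` (helper68). -/

set_option autoImplicit false
universe u

open CategoryTheory TopologicalSpace Opposite CategoryTheory.Limits TopCat

namespace Groth.Agent.Lib.Helper68.SpecClosedSec

open Groth.Agent.Lib.Helper68.SpecPatch
open Groth.Agent.Lib.Helper68.NhdSecGen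

variable {X : TopCat.{u}}

section germ

variable (F : TopCat.Sheaf (Type u) X)

/-- two sections have the same germ at `x` -/
def SameGerm (x : X) {U₁ U₂ : Opens X} (g₁ : ToType (F.obj.obj (op U₁)))
    (g₂ : ToType (F.obj.obj (op U₂))) : Prop :=
  ∃ (W : Opens X) (_ : x ∈ W) (h₁ : W ≤ U₁) (h₂ : W ≤ U₂),
    F.obj.map (homOfLE h₁).op g₁ = F.obj.map (homOfLE h₂).op g₂

variable {F}

lemma SameGerm.refl {x : X} {U : Opens X} (hx : x ∈ U) (g : ToType (F.obj.obj (op U))) :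
    SameGerm F x g g := ⟨U, hx, le_rfl, le_rfl, rfl⟩

lemma SameGerm.symm {x : X} {U₁ U₂ : Opens X} {g₁ : ToType (F.obj.obj (op U₁))}
    {g₂ : ToType (F.obj.obj (op U₂))} (h : SameGerm F x g₁ g₂) : SameGerm F x g₂ g₁ := by
  obtain ⟨W, hx, h₁, h₂, e⟩ := h
  exact ⟨W, hx, h₂, h₁, e.symm⟩

lemma SameGerm.trans {x : X} {U₁ U₂ U₃ : Opens X} {g₁ : ToType (F.obj.obj (op U₁))}
    {g₂ : ToType (F.obj.obj (op U₂))} {g₃ : ToType (F.obj.obj (op U₃))}
    (h : SameGerm F x g₁ g₂) (h' : SameGerm F x g₂ g₃) : SameGerm F x g₁ g₃ := by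
  obtain ⟨W, hx, h₁, h₂, e⟩ := h
  obtain ⟨W', hx', h₂', h₃', e'⟩ := h'
  refine ⟨W ⊓ W', ⟨hx, hx'⟩, inf_le_left.trans h₁, inf_le_right.trans h₃', ?_⟩
  rw [← map_map_apply F (homOfLE h₁) (homOfLE (inf_le_left : W ⊓ W' ≤ W)) _ g₁, e,
    map_map_apply F (homOfLE h₂) (homOfLE (inf_le_left : W ⊓ W' ≤ W))
      (homOfLE (inf_le_right.trans h₂')) g₂,
    ← map_map_apply F (homOfLE h₂') (homOfLE (inf_le_right : W ⊓ W' ≤ W')) _ g₂, e',
    map_map_apply F (homOfLE h₃') (homOfLE (inf_le_right : W ⊓ W' ≤ W')) _ g₃]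

/-- germs propagate to generalizations -/
lemma SameGerm.of_mem_closure {x z : X} (hz : z ∈ closure {x}) {U₁ U₂ : Opens X}
    {g₁ : ToType (F.obj.obj (op U₁))} {g₂ : ToType (F.obj.obj (op U₂))}
    (h : SameGerm F z g₁ g₂) : SameGerm F x g₁ g₂ := by
  obtain ⟨W, hzW, h₁, h₂, e⟩ := h
  obtain ⟨y, hyW, hy⟩ := mem_closure_iff.1 hz W W.isOpen hzW
  rw [Set.mem_singleton_iff] at hy
  exact ⟨W, hy ▸ hyW, h₁, h₂, e⟩

lemma SameGerm.res_left {x : X} {U₁ U₂ V : Opens X} {g₁ : ToType (F.obj.obj (op U₁))}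
    {g₂ : ToType (F.obj.obj (op U₂))} (h : SameGerm F x g₁ g₂) (hV : V ≤ U₁) (hx : x ∈ V) :
    SameGerm F x (F.obj.map (homOfLE hV).op g₁) g₂ := by
  obtain ⟨W, hxW, h₁, h₂, e⟩ := h
  refine ⟨W ⊓ V, ⟨hxW, hx⟩, inf_le_right, inf_le_left.trans h₂, ?_⟩
  rw [map_map_apply F (homOfLE hV) (homOfLE (inf_le_right : W ⊓ V ≤ V))
      (homOfLE (inf_le_left.trans h₁)) g₁,
    ← map_map_apply F (homOfLE h₁) (homOfLE (inf_le_left : W ⊓ V ≤ W)) _ g₁, e,
    map_map_apply F (homOfLE h₂) (homOfLE (inf_le_left : W ⊓ V ≤ W)) _ g₂]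

lemma isOpen_sameGerm {U₁ U₂ : Opens X} (g₁ : ToType (F.obj.obj (op U₁)))
    (g₂ : ToType (F.obj.obj (op U₂))) : IsOpen {x : X | SameGerm F x g₁ g₂} := by
  rw [isOpen_iff_forall_mem_open]
  rintro x ⟨W, hxW, h₁, h₂, e⟩
  exact ⟨W, fun y hy => ⟨W, hy, h₁, h₂, e⟩, W.isOpen, hxW⟩

/-- sections with the same germs on `V` agree on `V` -/
lemma eq_of_sameGerm {U₁ U₂ V : Opens X} (g₁ : ToType (F.obj.obj (op U₁)))
    (g₂ : ToType (F.obj.obj (op U₂))) (h₁ : V ≤ U₁) (h₂ : V ≤ U₂)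
    (h : ∀ x ∈ V, SameGerm F x g₁ g₂) :
    F.obj.map (homOfLE h₁).op g₁ = F.obj.map (homOfLE h₂).op g₂ := by
  choose W hxW hW₁ hW₂ e using h
  have hWV : ∀ x : V, W x.1 x.2 ⊓ V ≤ V := fun x => inf_le_right
  apply F.eq_of_locally_eq' (fun x : V => W x.1 x.2 ⊓ V) V (fun x => homOfLE (hWV x))
  · intro x hx
    exact Opens.mem_iSup.2 ⟨⟨x, hx⟩, hxW x hx, hx⟩
  · intro x
    rw [map_map_apply F (homOfLE h₁) (homOfLE (hWV x)) (homOfLE (inf_le_left.trans (hW₁ x.1 x.2))) g₁,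
      map_map_apply F (homOfLE h₂) (homOfLE (hWV x)) (homOfLE (inf_le_left.trans (hW₂ x.1 x.2))) g₂,
      ← map_map_apply F (homOfLE (hW₁ x.1 x.2)) (homOfLE (inf_le_left : W x.1 x.2 ⊓ V ≤ W x.1 x.2)) _ g₁,
      e x.1 x.2,
      map_map_apply F (homOfLE (hW₂ x.1 x.2)) (homOfLE (inf_le_left : W x.1 x.2 ⊓ V ≤ W x.1 x.2)) _ g₂]

end germ

section main

variable [SpectralSpace X] (Z : Set X)

/-- the inclusion of `Z` -/
abbrev c : TopCat.of Z ⟶ X := TopCat.ofHom ⟨Subtype.val, continuous_subtype_val⟩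

omit [SpectralSpace X] in
lemma hc : Topology.IsInducing (c Z) := Topology.IsInducing.subtypeVal

omit [SpectralSpace X] in
lemma mem_of_mem_closure {x z : X} (hz : z ∈ closure {x}) {U : Opens X} (hzU : z ∈ U) : x ∈ U := by
  obtain ⟨y, hyU, hy⟩ := mem_closure_iff.1 hz U U.isOpen hzU
  rw [Set.mem_singleton_iff] at hy
  exact hy ▸ hyU

variable (F : TopCat.Sheaf (Type u) X)

omit [SpectralSpace X] in
lemma map_self {U : Opens X} (M : TopCat.Sheaf (Type u) X) (h : U ≤ U)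
    (g : ToType (M.obj.obj (op U))) : M.obj.map (homOfLE h).op g = g := by
  have : (homOfLE h).op = 𝟙 (op U) := rfl
  rw [this, M.obj.map_id]
  rfl

variable {Z F}

omit [SpectralSpace X] in
/-- representatives agree near points of `Z` -/
lemma sameGerm_of_rep {s : ToType ((G (c Z) F).obj.obj (op ⊤))} {U₁ U₂ : Opens X}
    {g₁ : ToType (F.obj.obj (op U₁))} {g₂ : ToType (F.obj.obj (op U₂))}
    (h₁ : Rep (c Z) F s U₁ g₁) (h₂ : Rep (c Z) F s U₂ g₂) {z : X} (hz : z ∈ Z)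
    (hz₁ : z ∈ U₁) (hz₂ : z ∈ U₂) : SameGerm F z g₁ g₂ := by
  obtain ⟨W, hzW, i₁, i₂, e⟩ := exists_nhd_eq (hc Z) s h₁ h₂ ⟨z, hz⟩ hz₁ hz₂
  exact ⟨W, hzW, leOfHom i₁, leOfHom i₂, e⟩

variable (hZ : IsClosed Z) (hconn : ∀ x : X, IsConnected (Z ∩ closure {x}))

omit [SpectralSpace X] in
include hconn in
/-- the key consequence of connectedness -/
lemma key {s : ToType ((G (c Z) F).obj.obj (op ⊤))} {U U' : Opens X}
    {g : ToType (F.obj.obj (op U))} {g' : ToType (F.obj.obj (op U'))}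
    (h : Rep (c Z) F s U g) (h' : Rep (c Z) F s U' g') {x : X}
    (hx : x ∈ gens (Z ∩ (U : Set X))) (hx' : x ∈ gens (Z ∩ (U' : Set X))) :
    SameGerm F x g g' := by
  obtain ⟨z, ⟨hzZ, hzU⟩, hzx⟩ := hx
  obtain ⟨z', ⟨hz'Z, hz'U'⟩, hz'x⟩ := hx'
  by_contra hne
  let u : Set X := {y | ∃ (V : Opens X) (gV : ToType (F.obj.obj (op V))),
    y ∈ V ∧ Rep (c Z) F s V gV ∧ SameGerm F x gV g}
  let v : Set X := {y | ∃ (V : Opens X) (gV : ToType (F.obj.obj (op V))),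
    y ∈ V ∧ Rep (c Z) F s V gV ∧ ¬ SameGerm F x gV g}
  have hu : IsOpen u := by
    rw [isOpen_iff_forall_mem_open]
    rintro y ⟨V, gV, hyV, hrep, hg⟩
    exact ⟨V, fun y' hy' => ⟨V, gV, hy', hrep, hg⟩, V.isOpen, hyV⟩
  have hv : IsOpen v := by
    rw [isOpen_iff_forall_mem_open]
    rintro y ⟨V, gV, hyV, hrep, hg⟩
    exact ⟨V, fun y' hy' => ⟨V, gV, hy', hrep, hg⟩, V.isOpen, hyV⟩
  have hcov : Z ∩ closure {x} ⊆ u ∪ v := by
    rintro y ⟨hyZ, -⟩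
    obtain ⟨V, hyV, gV, hrep⟩ := exists_rep_nhd (hc Z) s ⟨y, hyZ⟩
    by_cases hg : SameGerm F x gV g
    · exact Or.inl ⟨V, gV, hyV, hrep, hg⟩
    · exact Or.inr ⟨V, gV, hyV, hrep, hg⟩
  have hxU : x ∈ U := mem_of_mem_closure hzx hzU
  have h1 : ((Z ∩ closure {x}) ∩ u).Nonempty :=
    ⟨z, ⟨hzZ, hzx⟩, U, g, hzU, h, SameGerm.refl hxU g⟩
  have h2 : ((Z ∩ closure {x}) ∩ v).Nonempty :=
    ⟨z', ⟨hz'Z, hz'x⟩, U', g', hz'U', h', fun hg => hne hg.symm⟩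
  obtain ⟨y, ⟨hyZ, hyx⟩, ⟨V₁, g₁, hy₁, hr₁, hg₁⟩, ⟨V₂, g₂, hy₂, hr₂, hg₂⟩⟩ :=
    (hconn x).isPreconnected u v hu hv hcov h1 h2
  have h3 : SameGerm F y g₂ g₁ := sameGerm_of_rep hr₂ hr₁ hyZ hy₂ hy₁
  exact hg₂ ((h3.of_mem_closure hyx).trans hg₁)

variable (Z F) in
/-- representatives on quasi-compact opens -/
structure RP (s : ToType ((G (c Z) F).obj.obj (op ⊤))) where
  /-- the open -/
  U : Opens X
  /-- the section -/
  g : ToType (F.obj.obj (op U))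
  hc : IsCompact (U : Set X)
  rep : Rep (c Z) F s U g

lemma exists_RP (s : ToType ((G (c Z) F).obj.obj (op ⊤))) {z : X} (hz : z ∈ Z) :
    ∃ i : RP Z F s, z ∈ i.U := by
  obtain ⟨U₀, hzU₀, g₀, hrep⟩ := exists_rep_nhd (hc Z) s ⟨z, hz⟩
  obtain ⟨U₁, ⟨hU₁o, hU₁c⟩, hzU₁, hU₁U₀⟩ :=
    PrespectralSpace.isTopologicalBasis.exists_subset_of_mem_open hzU₀ U₀.isOpen
  exact ⟨⟨⟨U₁, hU₁o⟩, F.obj.map (homOfLE (show (⟨U₁, hU₁o⟩ : Opens X) ≤ U₀ from hU₁U₀)).op g₀,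
    hU₁c, hrep.res _⟩, hzU₁⟩

include hZ hconn in
lemma exists_good (s : ToType ((G (c Z) F).obj.obj (op ⊤))) (i : RP Z F s) :
    ∃ (V : Opens X) (_ : V ≤ i.U), gens (Z ∩ (i.U : Set X)) ⊆ V ∧
      ∀ x ∈ V, ∀ (U' : Opens X) (g' : ToType (F.obj.obj (op U'))), Rep (c Z) F s U' g' →
        x ∈ gens (Z ∩ (U' : Set X)) → SameGerm F x i.g g' := by
  have hZc : IsCompact Z := hZ.isCompact
  obtain ⟨K, hK⟩ := hZc.elim_finite_subcover (fun k : RP Z F s => (k.U : Set X))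
    (fun k => k.U.isOpen) (fun z hz => by
      obtain ⟨k, hk⟩ := exists_RP s hz
      exact Set.mem_iUnion.2 ⟨k, hk⟩)
  have hWc : IsCompact (gens (Z ∩ (i.U : Set X))) := isCompact_gens (i.hc.inter_left hZ)
  have hWg := genStable_gens (Z ∩ (i.U : Set X))
  have hO : ∀ k : RP Z F s, ∃ O : Set X, IsOpen O ∧ IsCompact O ∧
      gens (Z ∩ (i.U : Set X)) ⊆ O ∧
      O ∩ gens (Z ∩ (k.U : Set X)) ⊆ {x | SameGerm F x i.g k.g} := by
    intro k
    exact exists_nhd_inter_subset' hWc hWg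
      (isClosed_constructible_of_genStable (isCompact_gens (k.hc.inter_left hZ))
        (genStable_gens _))
      (isOpen_sameGerm i.g k.g) (fun x hx => key hconn i.rep k.rep hx.1 hx.2)
  choose O hOo hOc hWO hOE using hO
  let V : Opens X := ⟨(i.U : Set X) ∩ ⋂ k ∈ K, O k,
    i.U.isOpen.inter (isOpen_biInter_finset fun k _ => hOo k)⟩
  refine ⟨V, fun x hx => hx.1, ?_, ?_⟩
  · intro x hx
    exact ⟨gens_subset_of_isOpen i.U.isOpen Set.inter_subset_right hx,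
      Set.mem_iInter₂.2 fun k _ => hWO k hx⟩
  · intro x hx U' g' hrep' hxU'
    obtain ⟨z', ⟨hz'Z, hz'U'⟩, hz'x⟩ := hxU'
    obtain ⟨k, hkK, hz'k⟩ := Set.mem_iUnion₂.1 (hK hz'Z)
    have hxk : x ∈ gens (Z ∩ (k.U : Set X)) := ⟨z', ⟨hz'Z, hz'k⟩, hz'x⟩
    have h1 : SameGerm F x i.g k.g := hOE k ⟨Set.mem_iInter₂.1 hx.2 k hkK, hxk⟩
    have h2 : SameGerm F x k.g g' := key hconn k.rep hrep' hxk ⟨z', ⟨hz'Z, hz'U'⟩, hz'x⟩
    exact h1.trans h2

include hZ hconn in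
theorem surjective (s : ToType ((G (c Z) F).obj.obj (op ⊤))) :
    ∃ t : ToType (F.obj.obj (op ⊤)), (η (c Z) F).hom.app (op ⊤) t = s := by
  have hsp : ∀ x : X, (Z ∩ closure {x}).Nonempty := fun x => (hconn x).nonempty
  choose i hzi using fun z : Z => exists_RP (F := F) s z.2
  choose V hVU hWV hgood using fun z : Z => exists_good hZ hconn s (i z)
  let t₀ : ∀ z : Z, ToType (F.obj.obj (op (V z))) := fun z =>
    F.obj.map (homOfLE (hVU z)).op (i z).g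
  have hzV : ∀ z : Z, z.1 ∈ V z := fun z => hWV z (subset_gens _ ⟨z.2, hzi z⟩)
  have hcover : (⊤ : Opens X) ≤ iSup V := by
    have h1 : ((iSup V : Opens X) : Set X) = Set.univ :=
      eq_univ_of_forall_specializes (iSup V).isOpen
        (fun z hz => Opens.mem_iSup.2 ⟨⟨z, hz⟩, hzV ⟨z, hz⟩⟩) hsp
    intro x _
    have h2 : x ∈ ((iSup V : Opens X) : Set X) := by
      rw [h1]
      trivial
    exact h2
  have hgerm : ∀ z z' : Z, ∀ x ∈ V z ⊓ V z', SameGerm F x (i z).g (i z').g := by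
    intro z z' x hx
    obtain ⟨y, hyZ, hyx⟩ := hsp x
    have hxy : x ∈ gens (Z ∩ ((i ⟨y, hyZ⟩).U : Set X)) := ⟨y, ⟨hyZ, hzi ⟨y, hyZ⟩⟩, hyx⟩
    exact (hgood z x hx.1 _ _ (i ⟨y, hyZ⟩).rep hxy).trans
      (hgood z' x hx.2 _ _ (i ⟨y, hyZ⟩).rep hxy).symm
  have hcompat : TopCat.Presheaf.IsCompatible F.obj V t₀ := by
    intro z z'
    change F.obj.map (Opens.infLELeft (V z) (V z')).op (F.obj.map (homOfLE (hVU z)).op (i z).g) =
      F.obj.map (Opens.infLERight (V z) (V z')).op (F.obj.map (homOfLE (hVU z')).op (i z').g)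
    rw [map_map_apply F _ _ (homOfLE (inf_le_left.trans (hVU z))),
      map_map_apply F _ _ (homOfLE (inf_le_right.trans (hVU z')))]
    exact eq_of_sameGerm _ _ _ _ (hgerm z z')
  obtain ⟨t, ht, -⟩ := F.existsUnique_gluing' V ⊤ (fun z => homOfLE le_top) hcover t₀ hcompat
  refine ⟨t, ?_⟩
  have hloc : ∀ z : Z, ∃ (W : Opens X), z.1 ∈ W ∧
      (G (c Z) F).obj.map (homOfLE (le_top : W ≤ ⊤)).op ((η (c Z) F).hom.app (op ⊤) t) =
        (G (c Z) F).obj.map (homOfLE (le_top : W ≤ ⊤)).op s := by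
    intro z
    have h1 : SameGerm F z.1 t (i z).g := ⟨V z, hzV z, le_top, hVU z, ht z⟩
    obtain ⟨W, hzW, h₁, h₂, e⟩ := h1
    refine ⟨W, hzW, ?_⟩
    have nat := ConcreteCategory.congr_hom
      ((η (c Z) F).hom.naturality (homOfLE (le_top : W ≤ ⊤)).op) t
    simp only [ConcreteCategory.comp_apply] at nat
    rw [← nat]
    have e' : F.obj.map (homOfLE (le_top : W ≤ ⊤)).op t = F.obj.map (homOfLE h₂).op (i z).g := e
    rw [e']
    exact (i z).rep.res h₂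
  choose W hzW hW using hloc
  apply (G (c Z) F).eq_of_locally_eq' W ⊤ (fun z => homOfLE le_top)
  · have h1 : ((iSup W : Opens X) : Set X) = Set.univ :=
      eq_univ_of_forall_specializes (iSup W).isOpen
        (fun z hz => Opens.mem_iSup.2 ⟨⟨z, hz⟩, hzW ⟨z, hz⟩⟩) hsp
    intro x _
    have h2 : x ∈ ((iSup W : Opens X) : Set X) := by
      rw [h1]
      trivial
    exact h2
  · intro z
    exact hW z

omit [SpectralSpace X] in
include hconn in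
theorem injective (t t' : ToType (F.obj.obj (op ⊤)))
    (h : (η (c Z) F).hom.app (op ⊤) t = (η (c Z) F).hom.app (op ⊤) t') : t = t' := by
  have hsp : ∀ x : X, (Z ∩ closure {x}).Nonempty := fun x => (hconn x).nonempty
  have hr : Rep (c Z) F ((η (c Z) F).hom.app (op ⊤) t) ⊤ t := by
    unfold NhdSecGen.Rep
    exact (map_self (G (c Z) F) _ _).symm
  have hr' : Rep (c Z) F ((η (c Z) F).hom.app (op ⊤) t) ⊤ t' := by
    unfold NhdSecGen.Rep
    rw [← h]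
    exact (map_self (G (c Z) F) _ _).symm
  have hg : ∀ x ∈ (⊤ : Opens X), SameGerm F x t t' := by
    intro x _
    obtain ⟨z, hzZ, hzx⟩ := hsp x
    exact (sameGerm_of_rep hr hr' hzZ trivial trivial).of_mem_closure hzx
  have h3 := eq_of_sameGerm t t' le_rfl le_rfl hg
  rwa [map_self, map_self] at h3

include hZ hconn in
theorem bijective : Function.Bijective ((η (c Z) F).hom.app (op ⊤)) :=
  ⟨fun t t' h => injective hconn t t' h, fun s => surjective hZ hconn s⟩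

end main

end Groth.Agent.Lib.Helper68.SpecClosedSec
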