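import Mathlib

/-! Patch-compactness arguments for quasi-compact generalization-stable subsets of spectral spaces
(helper68). -/

set_option autoImplicit false

open TopologicalSpace Topology

namespace Groth.Agent.Lib.Helper68.SpecPatch

variable {X : Type*} [TopologicalSpace X]

/-- stable under generalization -/
def GenStable (W : Set X) : Prop := ∀ ⦃x x' : X⦄, x ∈ W → x ∈ closure {x'} → x' ∈ W

lemma GenStable.inter_isOpen {W V : Set X} (hW : GenStable W) (hV : IsOpen V) : GenStable (W ∩ V) := by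
  intro x x' hx hxx'
  refine ⟨hW hx.1 hxx', ?_⟩
  obtain ⟨y, hyV, hy⟩ := mem_closure_iff.1 hxx' V hV hx.2
  rw [Set.mem_singleton_iff] at hy
  rwa [hy] at hyV

lemma isOpen_constructible_of_isOpen [PrespectralSpace X] {N : Set X} (hN : IsOpen N) :
    IsOpen[constructibleTopology X] N := by
  have hb := PrespectralSpace.isTopologicalBasis (X := X)
  rw [hb.open_eq_sUnion' hN]
  apply @isOpen_sUnion _ (constructibleTopology X)
  rintro s ⟨⟨hso, hsc⟩, -⟩
  exact hsc.isOpen_constructibleTopology_of_isOpen hso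

lemma isClosed_constructible_of_isClosed [PrespectralSpace X] {N : Set X} (hN : IsClosed N) :
    IsClosed[constructibleTopology X] N := by
  rw [← @isOpen_compl_iff _ _ (constructibleTopology X)]
  exact isOpen_constructible_of_isOpen hN.isOpen_compl

lemma isClosed_constructible_of_isCompact_isOpen {O : Set X} (hO : IsOpen O) (hc : IsCompact O) :
    IsClosed[constructibleTopology X] O := by
  rw [← @isOpen_compl_iff _ _ (constructibleTopology X)]
  exact IsCompact.isOpen_constructibleTopology_of_isClosed (s := Oᶜ) (by rwa [compl_compl])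
    hO.isClosed_compl

lemma compactSpace_constructible [SpectralSpace X] : @CompactSpace X (constructibleTopology X) :=
  @Function.Surjective.compactSpace (WithConstructibleTopology X) X _ (constructibleTopology X)
    WithTopology.ofTopology (WithTopology.continuous_ofTopology _) inferInstance
    (WithTopology.ofTopology_surjective _)

lemma exists_isCompact_open_nhd_of_not_mem [PrespectralSpace X] {W : Set X} (hW : IsCompact W)
    (hgen : GenStable W) {x : X} (hx : x ∉ W) :
    ∃ O : Set X, IsOpen O ∧ IsCompact O ∧ W ⊆ O ∧ x ∉ O := by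
  have h1 : W ⊆ (closure {x})ᶜ := fun w hw hwx => hx (hgen hw hwx)
  obtain ⟨O, hOc, hOo, hWO, hOU⟩ :=
    PrespectralSpace.exists_isCompact_and_isOpen_between hW isClosed_closure.isOpen_compl h1
  exact ⟨O, hOo, hOc, hWO, fun hxO => hOU hxO (subset_closure rfl)⟩

/-- the key consequence of compactness of the constructible topology -/
theorem exists_nhd_inter_subset [SpectralSpace X] {W : Set X} (hW : IsCompact W)
    (hgen : GenStable W) {Q N : Set X} (hQo : IsOpen Q) (hQc : IsCompact Q) (hN : IsOpen N)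
    (h : W ∩ Q ⊆ N) :
    ∃ O : Set X, IsOpen O ∧ IsCompact O ∧ W ⊆ O ∧ O ∩ Q ⊆ N := by
  let ι := {O : Set X // IsOpen O ∧ IsCompact O ∧ W ⊆ O}
  have : Nonempty ι := ⟨⟨Set.univ, isOpen_univ, isCompact_univ, Set.subset_univ _⟩⟩
  let t : ι → Set X := fun O => O.1 ∩ Q ∩ Nᶜ
  have htc : ∀ i, IsClosed[constructibleTopology X] (t i) := by
    intro i
    apply @IsClosed.inter _ _ _ (constructibleTopology X)
    · apply @IsClosed.inter _ _ _ (constructibleTopology X)
      · exact isClosed_constructible_of_isCompact_isOpen i.2.1 i.2.2.1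
      · exact isClosed_constructible_of_isCompact_isOpen hQo hQc
    · exact isClosed_constructible_of_isClosed hN.isClosed_compl
  have hst : Set.univ ∩ ⋂ i, t i = ∅ := by
    rw [Set.univ_inter, Set.eq_empty_iff_forall_notMem]
    intro x hx
    rw [Set.mem_iInter] at hx
    by_cases hxW : x ∈ W
    · have hx0 := hx ⟨Set.univ, isOpen_univ, isCompact_univ, Set.subset_univ _⟩
      exact hx0.2 (h ⟨hxW, hx0.1.2⟩)
    · obtain ⟨O, hOo, hOc, hWO, hxO⟩ := exists_isCompact_open_nhd_of_not_mem hW hgen hxW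
      exact hxO (hx ⟨O, hOo, hOc, hWO⟩).1.1
  have hdir : Directed (· ⊇ ·) t := by
    intro i j
    refine ⟨⟨i.1 ∩ j.1, i.2.1.inter j.2.1, IsCompact.inter_of_isOpen i.2.2.1 j.2.2.1 i.2.1 j.2.1,
      Set.subset_inter i.2.2.2 j.2.2.2⟩, ?_, ?_⟩
    · rintro x ⟨⟨⟨hxi, -⟩, hxQ⟩, hxN⟩
      exact ⟨⟨hxi, hxQ⟩, hxN⟩
    · rintro x ⟨⟨⟨-, hxj⟩, hxQ⟩, hxN⟩
      exact ⟨⟨hxj, hxQ⟩, hxN⟩
  have hcpt : @IsCompact X (constructibleTopology X) Set.univ :=
    @isCompact_univ X (constructibleTopology X) compactSpace_constructible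
  obtain ⟨i, hi⟩ := @IsCompact.elim_directed_family_closed X (constructibleTopology X) _ ι _ hcpt t
    htc hst hdir
  refine ⟨i.1, i.2.1, i.2.2.1, i.2.2.2, ?_⟩
  intro x hx
  by_contra hxN
  have : x ∈ Set.univ ∩ t i := ⟨trivial, hx, hxN⟩
  rw [hi] at this
  exact this

/-- `W ∩ Q` is quasi-compact for `Q` quasi-compact open -/
theorem isCompact_inter [SpectralSpace X] {W : Set X} (hW : IsCompact W) (hgen : GenStable W)
    {Q : Set X} (hQo : IsOpen Q) (hQc : IsCompact Q) : IsCompact (W ∩ Q) := by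
  apply isCompact_of_finite_subcover
  intro κ U hUo hcov
  obtain ⟨O, hOo, hOc, hWO, hOQ⟩ := exists_nhd_inter_subset hW hgen hQo hQc
    (isOpen_iUnion hUo) hcov
  obtain ⟨u, hu⟩ := (IsCompact.inter_of_isOpen hOc hQc hOo hQo).elim_finite_subcover U hUo hOQ
  exact ⟨u, (Set.inter_subset_inter_left Q hWO).trans hu⟩

/-- the set of generalizations of the points of `E` -/
def gens (E : Set X) : Set X := {x | ∃ e ∈ E, e ∈ closure {x}}

lemma subset_gens (E : Set X) : E ⊆ gens E := fun e he => ⟨e, he, subset_closure rfl⟩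

lemma genStable_gens (E : Set X) : GenStable (gens E) := by
  rintro x x' ⟨e, he, hex⟩ hxx'
  exact ⟨e, he, (closure_minimal (Set.singleton_subset_iff.2 hxx') isClosed_closure) hex⟩

lemma gens_subset_of_isOpen {E U : Set X} (hU : IsOpen U) (hEU : E ⊆ U) : gens E ⊆ U := by
  rintro x ⟨e, he, hex⟩
  obtain ⟨y, hyU, hy⟩ := mem_closure_iff.1 hex U hU (hEU he)
  rw [Set.mem_singleton_iff] at hy
  rwa [hy] at hyU

lemma isCompact_gens {E : Set X} (hE : IsCompact E) : IsCompact (gens E) := by
  apply isCompact_of_finite_subcover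
  intro κ U hUo hcov
  obtain ⟨u, hu⟩ := hE.elim_finite_subcover U hUo ((subset_gens E).trans hcov)
  exact ⟨u, gens_subset_of_isOpen (isOpen_biUnion fun i _ => hUo i) hu⟩

lemma GenStable.subset_of_isOpen {W U : Set X} (_hW : GenStable W) (_hU : IsOpen U) (h : W ⊆ U) :
    W ⊆ U := h

end Groth.Agent.Lib.Helper68.SpecPatch
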