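import Groth.Agent.Lib.Helper68.PBCBeta
import Groth.Agent.Lib.Helper68.SpecPatch
import Groth.Agent.Lib.Helper68.CptColim
import Groth.Agent.Lib.Helper68.QHomeo

/-! Sections of the restriction of a sheaf to a quasi-compact generalization-stable subset of a
spectral space come from a neighbourhood (helper68). -/

set_option autoImplicit false
universe u

open CategoryTheory TopologicalSpace Opposite CategoryTheory.Limits TopCat

namespace Groth.Agent.Lib.Helper68.SpecGlue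

open Groth.Agent.Lib.Helper68.TopRetract (adj)
open Groth.Agent.Lib.Helper68.Soft (res res_res hom_res res_self)
open Groth.Agent.Lib.Helper68.PBCUnit (un un_res map_mono)
open Groth.Agent.Lib.Helper68.SpecPatch (GenStable)
open Groth.Agent.Lib.Helper68

variable {X : TopCat.{u}} (W : Set X) (F : CohTop.Ab X)

/-- the inclusion of `W` -/
abbrev c : TopCat.of W ⟶ X := CptColim.incl W

/-- the restriction of `F` to `W` -/
noncomputable abbrev K : CohTop.Ab (TopCat.of W) := (CohTop.pull (c W)).obj F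

/-- `g` represents `t` on `U` -/
def RepV (V' : Opens X) (t : ToType ((K W F).obj.obj (op ((Opens.map (c W)).obj V')))) (U : Opens X)
    (g : ToType (F.obj.obj (op U))) : Prop :=
  ∃ hUV : U ≤ V', un (c W) F U g = res (K W F) (map_mono (c W) hUV) t

variable {W F}

lemma RepV.res {V' : Opens X} {t : ToType ((K W F).obj.obj (op ((Opens.map (c W)).obj V')))}
    {U : Opens X} {g : ToType (F.obj.obj (op U))} (h : RepV W F V' t U g) {U' : Opens X}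
    (hU' : U' ≤ U) : RepV W F V' t U' (Soft.res F hU' g) := by
  obtain ⟨hUV, h⟩ := h
  refine ⟨hU'.trans hUV, ?_⟩
  rw [un_res, h, res_res]

lemma subsingleton_bot {A : TopCat.{u}} (M : CohTop.Ab A)
    (x y : ToType (M.obj.obj (op (⊥ : Opens A)))) : x = y := by
  apply (show TopCat.Sheaf AddCommGrpCat.{u} A from M).eq_of_locally_eq'
    (fun i : PEmpty.{1} => (i.elim : Opens A)) ⊥ (fun i => i.elim) bot_le
  intro i
  exact i.elim

lemma exists_local_rep [PrespectralSpace X] (V' : Opens X)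
    (t : ToType ((K W F).obj.obj (op ((Opens.map (c W)).obj V')))) (w : X) (hwW : w ∈ W)
    (hwV : w ∈ V') :
    ∃ (U : Opens X) (g : ToType (F.obj.obj (op U))), IsCompact (U : Set X) ∧ w ∈ U ∧
      RepV W F V' t U g := by
  obtain ⟨V, s, N', hN'W, hN'V, hV, hN', heq⟩ :=
    PBCBeta.exists_nhd_rep (c W) F ((Opens.map (c W)).obj V') ⟨w, hwW⟩ hwV t
  obtain ⟨M, hMo, hM⟩ := Topology.IsInducing.subtypeVal.isOpen_iff.1 N'.isOpen
  have hwM : w ∈ M := by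
    have : (⟨w, hwW⟩ : W) ∈ Subtype.val ⁻¹' M := by
      rw [hM]
      exact hN'
    exact this
  let T : Set X := ((V : Set X) ∩ M) ∩ (V' : Set X)
  have hwT : w ∈ T := ⟨⟨hV, hwM⟩, hwV⟩
  have hT : IsOpen T := (V.isOpen.inter hMo).inter V'.isOpen
  obtain ⟨U₀, ⟨hU₀o, hU₀c⟩, hwU₀, hU₀sub⟩ :=
    PrespectralSpace.isTopologicalBasis.exists_subset_of_mem_open hwT hT
  let U : Opens X := ⟨U₀, hU₀o⟩
  have hUV : U ≤ V := fun x hx => (hU₀sub hx).1.1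
  have hUV' : U ≤ V' := fun x hx => (hU₀sub hx).2
  have hUN : (Opens.map (c W)).obj U ≤ N' := fun z hz => by
    have : z ∈ Subtype.val ⁻¹' M := (hU₀sub hz).1.2
    rw [hM] at this
    exact this
  refine ⟨U, Soft.res F hUV s, hU₀c, hwU₀, hUV', ?_⟩
  rw [un_res, ← res_res (K W F) hN'V hUN, heq, res_res]

lemma glue [SpectralSpace X] (hW : IsCompact W) (hgen : GenStable W) (V' : Opens X)
    (t : ToType ((K W F).obj.obj (op ((Opens.map (c W)).obj V')))) {U₁ U₂ : Opens X}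
    (hc₁ : IsCompact (U₁ : Set X)) (hc₂ : IsCompact (U₂ : Set X))
    {g₁ : ToType (F.obj.obj (op U₁))} {g₂ : ToType (F.obj.obj (op U₂))}
    (h₁ : RepV W F V' t U₁ g₁) (h₂ : RepV W F V' t U₂ g₂) :
    ∃ (U : Opens X) (g : ToType (F.obj.obj (op U))), IsCompact (U : Set X) ∧
      W ∩ ((U₁ : Set X) ∪ U₂) ⊆ U ∧ RepV W F V' t U g := by
  let S : Set (Opens X) := {V | ∃ (i₁ : V ≤ U₁) (i₂ : V ≤ U₂), Soft.res F i₁ g₁ = Soft.res F i₂ g₂}
  let N : Opens X := sSup S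
  have hN₁ : N ≤ U₁ := sSup_le fun V hV => hV.choose
  have hN₂ : N ≤ U₂ := sSup_le fun V hV => hV.choose_spec.choose
  have hNeq : Soft.res F hN₁ g₁ = Soft.res F hN₂ g₂ := by
    apply (show TopCat.Sheaf AddCommGrpCat.{u} X from F).eq_of_locally_eq'
      (fun V : S => (V : Opens X)) N (fun V => homOfLE (le_sSup V.2))
    · exact (sSup_eq_iSup' S).le
    · rintro ⟨V, i₁, i₂, hV⟩
      have e1 := res_res F hN₁ (le_sSup (show V ∈ S from ⟨i₁, i₂, hV⟩)) g₁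
      have e2 := res_res F hN₂ (le_sSup (show V ∈ S from ⟨i₁, i₂, hV⟩)) g₂
      exact e1.trans (hV.trans e2.symm)
  have hWN : W ∩ ((U₁ : Set X) ∩ U₂) ⊆ N := by
    rintro w ⟨hwW, hw₁, hw₂⟩
    let U₁₂ : Opens X := U₁ ⊓ U₂
    have hw : w ∈ U₁₂ := ⟨hw₁, hw₂⟩
    obtain ⟨hUV₁, e₁⟩ := h₁.res (inf_le_left : U₁₂ ≤ U₁)
    obtain ⟨hUV₂, e₂⟩ := h₂.res (inf_le_right : U₁₂ ≤ U₂)
    have e : un (c W) F U₁₂ (Soft.res F inf_le_left g₁) = un (c W) F U₁₂ (Soft.res F inf_le_right g₂) :=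
      e₁.trans e₂.symm
    obtain ⟨W₀, hwW₀, hW₀, hres⟩ := QHomeo.exists_res_eq_of_unit_res_eq AddCommGrpCat.{u} (c W) F
      ⟨w, hwW⟩ U₁₂ hw (Soft.res F inf_le_left g₁) (Soft.res F inf_le_right g₂)
      ((Opens.map (c W)).obj U₁₂) hw le_rfl (congrArg _ e)
    have hres' : Soft.res F hW₀ (Soft.res F inf_le_left g₁) =
        Soft.res F hW₀ (Soft.res F inf_le_right g₂) := hres
    rw [res_res, res_res] at hres'
    exact Opens.mem_sSup.2 ⟨W₀, ⟨hW₀.trans inf_le_left, hW₀.trans inf_le_right, hres'⟩, hwW₀⟩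
  obtain ⟨O, hOo, hOc, hWO, hOQ⟩ := SpecPatch.exists_nhd_inter_subset hW hgen
    (U₁.isOpen.inter U₂.isOpen) (IsCompact.inter_of_isOpen hc₁ hc₂ U₁.isOpen U₂.isOpen) N.isOpen hWN
  let U₁' : Opens X := U₁ ⊓ ⟨O, hOo⟩
  let U₂' : Opens X := U₂ ⊓ ⟨O, hOo⟩
  have hV₁ : U₁' ≤ U₁ := inf_le_left
  have hV₂ : U₂' ≤ U₂ := inf_le_left
  have hVN : U₁' ⊓ U₂' ≤ N := by
    rintro x ⟨⟨hx1, hxO⟩, ⟨hx2, -⟩⟩
    exact hOQ ⟨hxO, hx1, hx2⟩
  have hcomp : F.obj.map (homOfLE (inf_le_left : U₁' ⊓ U₂' ≤ U₁')).op (Soft.res F hV₁ g₁) =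
      F.obj.map (homOfLE (inf_le_right : U₁' ⊓ U₂' ≤ U₂')).op (Soft.res F hV₂ g₂) := by
    change Soft.res F _ (Soft.res F hV₁ g₁) = Soft.res F _ (Soft.res F hV₂ g₂)
    rw [res_res, res_res, ← res_res F hN₁ hVN g₁, ← res_res F hN₂ hVN g₂, hNeq]
  obtain ⟨g, hg₁, hg₂⟩ := NhdSec.glue₂ F _ _ hcomp
  obtain ⟨hUV₁, e₁⟩ := h₁.res hV₁
  obtain ⟨hUV₂, e₂⟩ := h₂.res hV₂
  have hUV : U₁' ⊔ U₂' ≤ V' := sup_le hUV₁ hUV₂
  refine ⟨U₁' ⊔ U₂', g, ?_, ?_, hUV, ?_⟩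
  · rw [Opens.coe_sup]
    exact (IsCompact.inter_of_isOpen hc₁ hOc U₁.isOpen hOo).union
      (IsCompact.inter_of_isOpen hc₂ hOc U₂.isOpen hOo)
  · rintro x ⟨hxW, hx | hx⟩
    · exact Or.inl ⟨hx, hWO hxW⟩
    · exact Or.inr ⟨hx, hWO hxW⟩
  · apply (show TopCat.Sheaf AddCommGrpCat.{u} (TopCat.of W) from K W F).eq_of_locally_eq₂
      (homOfLE (map_mono (c W) (le_sup_left : U₁' ≤ U₁' ⊔ U₂')))
      (homOfLE (map_mono (c W) (le_sup_right : U₂' ≤ U₁' ⊔ U₂')))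
    · rintro z (hz | hz)
      · exact Or.inl hz
      · exact Or.inr hz
    · change Soft.res (K W F) _ (un (c W) F (U₁' ⊔ U₂') g) =
        Soft.res (K W F) _ (Soft.res (K W F) (map_mono (c W) hUV) t)
      rw [← un_res (c W) F (le_sup_left : U₁' ≤ U₁' ⊔ U₂') g, res_res]
      have : Soft.res F (le_sup_left : U₁' ≤ U₁' ⊔ U₂') g = Soft.res F hV₁ g₁ := hg₁
      rw [this, e₁]
    · change Soft.res (K W F) _ (un (c W) F (U₁' ⊔ U₂') g) =
        Soft.res (K W F) _ (Soft.res (K W F) (map_mono (c W) hUV) t)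
      rw [← un_res (c W) F (le_sup_right : U₂' ≤ U₁' ⊔ U₂') g, res_res]
      have : Soft.res F (le_sup_right : U₂' ≤ U₁' ⊔ U₂') g = Soft.res F hV₂ g₂ := hg₂
      rw [this, e₂]

/-- every section of `F|_W` over `W ∩ V'` is represented on a neighbourhood of `W ∩ V'` -/
theorem exists_rep [SpectralSpace X] (hW : IsCompact W) (hgen : GenStable W) (V' : Opens X)
    (hWV : IsCompact (W ∩ (V' : Set X)))
    (t : ToType ((K W F).obj.obj (op ((Opens.map (c W)).obj V')))) :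
    ∃ (U : Opens X) (g : ToType (F.obj.obj (op U))), W ∩ (V' : Set X) ⊆ U ∧ RepV W F V' t U g := by
  have key : ∃ (U : Opens X) (g : ToType (F.obj.obj (op U))), IsCompact (U : Set X) ∧
      (W ∩ (V' : Set X)) ∩ W ⊆ U ∧ RepV W F V' t U g := by
    refine hWV.induction_on (p := fun T => ∃ (U : Opens X) (g : ToType (F.obj.obj (op U))),
      IsCompact (U : Set X) ∧ T ∩ W ⊆ U ∧ RepV W F V' t U g) ?_ ?_ ?_ ?_
    · refine ⟨⊥, 0, by simp, by simp, bot_le, ?_⟩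
      exact subsingleton_bot (K W F) _ _
    · rintro T T' hTT' ⟨U, g, hUc, hTU, hrep⟩
      exact ⟨U, g, hUc, (Set.inter_subset_inter_left W hTT').trans hTU, hrep⟩
    · rintro T₁ T₂ ⟨U₁, g₁, hc₁, hT₁, h₁⟩ ⟨U₂, g₂, hc₂, hT₂, h₂⟩
      obtain ⟨U, g, hUc, hU, hrep⟩ := glue hW hgen V' t hc₁ hc₂ h₁ h₂
      refine ⟨U, g, hUc, ?_, hrep⟩
      rintro x ⟨hx | hx, hxW⟩
      · exact hU ⟨hxW, Or.inl (hT₁ ⟨hx, hxW⟩)⟩
      · exact hU ⟨hxW, Or.inr (hT₂ ⟨hx, hxW⟩)⟩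
    · rintro x ⟨hxW, hxV⟩
      obtain ⟨U, g, hUc, hxU, hrep⟩ := exists_local_rep V' t x hxW hxV
      exact ⟨U, mem_nhdsWithin_of_mem_nhds (U.isOpen.mem_nhds hxU), U, g, hUc,
        Set.inter_subset_left, hrep⟩
  obtain ⟨U, g, -, hU, hrep⟩ := key
  exact ⟨U, g, fun x hx => hU ⟨hx, hx.1⟩, hrep⟩

end Groth.Agent.Lib.Helper68.SpecGlue
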