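import Groth.Agent.Lib.Helper68.NbColim
import Groth.Agent.Lib.Helper68.SpecGlue
import Groth.Agent.Lib.Helper68.AcycClass

/-! Cohomology of a quasi-compact generalization-stable subset of a spectral space as a colimit over
its quasi-compact open neighbourhoods (helper68). -/

set_option autoImplicit false
universe u

open CategoryTheory TopologicalSpace Opposite CategoryTheory.Limits TopCat

namespace Groth.Agent.Lib.Helper68.SpecColim

open Groth.Agent.Lib.Helper68.TopRetract (adj)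
open Groth.Agent.Lib.Helper68.Soft (res res_res hom_res res_self)
open Groth.Agent.Lib.Helper68.PBCUnit (un un_res map_mono)
open Groth.Agent.Lib.Helper68.SpecPatch (GenStable)
open Groth.Agent.Lib.Helper68.SpecGlue (c K RepV)
open Groth.Agent.Lib.Helper68

variable {X : TopCat.{u}} [SpectralSpace X] (W : Set X) (hW : IsCompact W) (hgen : GenStable W)

include hW hgen in
lemma hsec (F : CohTop.Ab X) (s : ToType ((NhdSec.G (CptColim.incl W) F).obj.obj (op ⊤))) :
    ∃ (U : Opens X) (g : ToType (F.obj.obj (op U))), W ⊆ U ∧ NhdSec.Rep (CptColim.incl W) F s U g := by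
  have hWV : IsCompact (W ∩ ((⊤ : Opens X) : Set X)) := by
    rw [Opens.coe_top, Set.inter_univ]
    exact hW
  obtain ⟨U, g, hU, hUV, hrep⟩ := SpecGlue.exists_rep (F := F) hW hgen ⊤ hWV s
  refine ⟨U, g, fun x hx => hU ⟨hx, trivial⟩, ?_⟩
  exact hrep

/-- the basis of `W` given by the traces of the quasi-compact opens of `X` -/
def ℬ : Set (Opens (TopCat.of W)) :=
  {V' | ∃ V : Opens X, IsCompact (V : Set X) ∧ V' = (Opens.map (c W)).obj V}

include hW hgen in
lemma isQF_pull (I : CohTop.Ab X) [Injective I] : AcycClass.IsQF (ℬ W) (K W I) := by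
  have : TopCat.Sheaf.IsFlasque I := Groth.Agent.Lib.Helper53.isFlasque_of_injective I
  rintro V' ⟨V, hVc, rfl⟩ t
  obtain ⟨U, g, hU, hUV, hrep⟩ := SpecGlue.exists_rep (F := I) hW hgen V
    (SpecPatch.isCompact_inter hW hgen V.isOpen hVc) t
  obtain ⟨g', hg'⟩ : ∃ g' : ToType (I.obj.obj (op ⊤)), res I (le_top : U ≤ ⊤) g' = g := by
    have hepi : Epi (I.obj.map (homOfLE (le_top : U ≤ ⊤)).op) := TopCat.Presheaf.IsFlasque.epi _
    exact (AddCommGrpCat.epi_iff_surjective _).1 hepi g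
  have htop : (⊤ : Opens (TopCat.of W)) ≤ (Opens.map (c W)).obj ⊤ := fun _ _ => trivial
  refine ⟨res (K W I) htop (un (c W) I ⊤ g'), ?_⟩
  have hVU' : (Opens.map (c W)).obj V ≤ (Opens.map (c W)).obj U := fun z hz => hU ⟨z.2, hz⟩
  have e1 : t = res (K W I) hVU' (res (K W I) (map_mono (c W) hUV) t) := by
    rw [res_res, res_self]
  rw [res_res, e1, ← hrep, ← hg', un_res, res_res]

include hW hgen in
lemma hacyc (I : CohTop.Ab X) [Injective I] (n : ℕ) :
    Subsingleton (CohTop.H ((CohTop.pull (CptColim.incl W)).obj I) (n + 1)) := by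
  refine AcycClass.subsingleton_H_succ (ℬ := ℬ W) ?_ ?_ ?_ ?_ ?_ ?_ (K W I) (isQF_pull W hW hgen I) n
  · -- basis
    intro U' y hy
    obtain ⟨M, hMo, hM⟩ := Topology.IsInducing.subtypeVal.isOpen_iff.1 U'.isOpen
    have hyM : y.1 ∈ M := by
      have : y ∈ Subtype.val ⁻¹' M := by
        rw [hM]
        exact hy
      exact this
    obtain ⟨V₀, ⟨hV₀o, hV₀c⟩, hyV₀, hV₀M⟩ :=
      PrespectralSpace.isTopologicalBasis.exists_subset_of_mem_open hyM hMo
    refine ⟨(Opens.map (c W)).obj ⟨V₀, hV₀o⟩, ⟨⟨V₀, hV₀o⟩, hV₀c, rfl⟩, hyV₀, ?_⟩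
    intro z hz
    have : z ∈ Subtype.val ⁻¹' M := hV₀M hz
    rw [hM] at this
    exact this
  · rintro _ ⟨V₁, hc₁, rfl⟩ _ ⟨V₂, hc₂, rfl⟩
    exact ⟨V₁ ⊓ V₂, IsCompact.inter_of_isOpen hc₁ hc₂ V₁.isOpen V₂.isOpen, rfl⟩
  · rintro _ ⟨V₁, hc₁, rfl⟩ _ ⟨V₂, hc₂, rfl⟩
    refine ⟨V₁ ⊔ V₂, ?_, rfl⟩
    rw [Opens.coe_sup]
    exact hc₁.union hc₂
  · rintro _ ⟨V, hVc, rfl⟩
    have h1 : IsCompact (W ∩ (V : Set X)) := SpecPatch.isCompact_inter hW hgen V.isOpen hVc
    rw [Subtype.isCompact_iff]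
    have : (Subtype.val '' (((Opens.map (c W)).obj V : Opens (TopCat.of W)) : Set (TopCat.of W))) =
        W ∩ (V : Set X) := Subtype.image_preimage_coe W (V : Set X)
    rw [this]
    exact h1
  · exact ⟨⊥, by simp, rfl⟩
  · exact ⟨⊤, by rw [Opens.coe_top]; exact isCompact_univ, rfl⟩

include hW hgen in
/-- cohomology of `W` as a colimit over a family `Q` of quasi-compact open neighbourhoods -/
theorem nonempty_addEquiv (Q : ObjectProperty (Opens X)ᵒᵖ)
    (hQ : ∀ U : Opens X, Q (op U) ↔ (W ⊆ (U : Set X) ∧ IsCompact (U : Set X)))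
    (F : CohTop.Ab X) (p : ℕ) :
    Nonempty ((colimit (Q.ι ⋙
        (Sheaf.cohomologyPresheafFunctor (Opens.grothendieckTopology X) p).obj F) :
          AddCommGrpCat.{u}) ≃+ CohTop.H ((CohTop.pull (CptColim.incl W)).obj F) p) := by
  refine NbColim.nonempty_addEquiv_of_cofinal W (hsec W hW hgen) (hacyc W hW hgen) Q ?_ ?_ ?_ F p
  · intro U hU
    exact ((hQ U.unop).1 hU).1
  · intro N hN
    obtain ⟨U₀, hU₀c, hU₀o, hWU₀, hU₀N⟩ :=
      PrespectralSpace.exists_isCompact_and_isOpen_between hW N.isOpen hN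
    exact ⟨⟨U₀, hU₀o⟩, (hQ _).2 ⟨hWU₀, hU₀c⟩, hU₀N⟩
  · intro U V hU hV
    obtain ⟨hWU, hUc⟩ := (hQ U).1 hU
    obtain ⟨hWV, hVc⟩ := (hQ V).1 hV
    exact (hQ _).2 ⟨Set.subset_inter hWU hWV, IsCompact.inter_of_isOpen hUc hVc U.isOpen V.isOpen⟩

end Groth.Agent.Lib.Helper68.SpecColim
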