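import Groth.Agent.Lib.Helper68.SpecPatch

/-! More consequences of compactness of the constructible topology (helper68). -/

set_option autoImplicit false
universe u

open TopologicalSpace Topology Set

namespace Groth.Agent.Lib.Helper68.SpecPatch

variable {X : Type u} [TopologicalSpace X]

/-- a quasi-compact generalization-stable subset is closed in the constructible topology -/
lemma isClosed_constructible_of_genStable [SpectralSpace X] {W : Set X} (hW : IsCompact W)
    (hgen : GenStable W) : IsClosed[constructibleTopology X] W := by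
  let ι := {O : Set X // IsOpen O ∧ IsCompact O ∧ W ⊆ O}
  have hWeq : W = ⋂ i : ι, i.1 := by
    apply Set.Subset.antisymm
    · exact Set.subset_iInter fun i => i.2.2.2
    · intro x hx
      by_contra hxW
      obtain ⟨O, hOo, hOc, hWO, hxO⟩ := exists_isCompact_open_nhd_of_not_mem hW hgen hxW
      exact hxO (Set.mem_iInter.1 hx ⟨O, hOo, hOc, hWO⟩)
  rw [hWeq]
  apply @isClosed_iInter _ _ (constructibleTopology X)
  intro i
  exact isClosed_constructible_of_isCompact_isOpen i.2.1 i.2.2.1

/-- variant of `exists_nhd_inter_subset` with `Q` only closed in the constructible topology -/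
theorem exists_nhd_inter_subset' [SpectralSpace X] {W : Set X} (hW : IsCompact W)
    (hgen : GenStable W) {Q N : Set X} (hQ : IsClosed[constructibleTopology X] Q) (hN : IsOpen N)
    (h : W ∩ Q ⊆ N) :
    ∃ O : Set X, IsOpen O ∧ IsCompact O ∧ W ⊆ O ∧ O ∩ Q ⊆ N := by
  let ι := {O : Set X // IsOpen O ∧ IsCompact O ∧ W ⊆ O}
  have : Nonempty ι := ⟨⟨Set.univ, isOpen_univ, isCompact_univ, Set.subset_univ _⟩⟩
  let t : ι → Set X := fun O => O.1 ∩ Q ∩ Nᶜ
  have htc : ∀ i, IsClosed[constructibleTopology X] (t i) := by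
    intro i
    apply @IsClosed.inter _ _ _ (constructibleTopology X)
    · apply @IsClosed.inter _ _ _ (constructibleTopology X)
      · exact isClosed_constructible_of_isCompact_isOpen i.2.1 i.2.2.1
      · exact hQ
    · exact isClosed_constructible_of_isClosed hN.isClosed_compl
  have hst : Set.univ ∩ ⋂ i, t i = ∅ := by
    rw [Set.univ_inter, Set.eq_empty_iff_forall_notMem]
    intro x hx
    rw [Set.mem_iInter] at hx
    by_cases hxW : x ∈ W
    · have hx0 := hx ⟨Set.univ, isOpen_univ, isCompact_univ, Set.subset_univ _⟩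
      exact hx0.2 (h ⟨hxW, hx0.1.2⟩)
    · obtain ⟨O, hOo, hOc, hWO, hxO⟩ := exists_isCompact_open_nhd_of_not_mem hW hgen hxW
      exact hxO (hx ⟨O, hOo, hOc, hWO⟩).1.1
  have hdir : Directed (· ⊇ ·) t := by
    intro i j
    refine ⟨⟨i.1 ∩ j.1, i.2.1.inter j.2.1, IsCompact.inter_of_isOpen i.2.2.1 j.2.2.1 i.2.1 j.2.1,
      Set.subset_inter i.2.2.2 j.2.2.2⟩, ?_, ?_⟩
    · rintro x ⟨⟨⟨hxi, -⟩, hxQ⟩, hxN⟩
      exact ⟨⟨hxi, hxQ⟩, hxN⟩
    · rintro x ⟨⟨⟨-, hxj⟩, hxQ⟩, hxN⟩
      exact ⟨⟨hxj, hxQ⟩, hxN⟩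
  have hcpt : @IsCompact X (constructibleTopology X) Set.univ :=
    @isCompact_univ X (constructibleTopology X) compactSpace_constructible
  obtain ⟨i, hi⟩ := @IsCompact.elim_directed_family_closed X (constructibleTopology X) _ ι _ hcpt t
    htc hst hdir
  refine ⟨i.1, i.2.1, i.2.2.1, i.2.2.2, ?_⟩
  intro x hx
  by_contra hxN
  have : x ∈ Set.univ ∩ t i := ⟨trivial, hx, hxN⟩
  rw [hi] at this
  exact this

/-- an open set containing a closed set that every point specializes into is everything -/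
lemma eq_univ_of_forall_specializes {Z O : Set X} (hO : IsOpen O) (hZO : Z ⊆ O)
    (hsp : ∀ x : X, (Z ∩ closure {x}).Nonempty) : O = Set.univ := by
  rw [Set.eq_univ_iff_forall]
  intro x
  obtain ⟨z, hzZ, hzx⟩ := hsp x
  obtain ⟨y, hyO, hy⟩ := mem_closure_iff.1 hzx O hO (hZO hzZ)
  rw [Set.mem_singleton_iff] at hy
  rwa [hy] at hyO

end Groth.Agent.Lib.Helper68.SpecPatch
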