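import Groth.Agent.Lib.Helper68.SpecColim
import Groth.Agent.Lib.Helper68.FiberStalk

/-! The stalk of `R^p f_* F` for a spectral map of spectral spaces (helper68). -/

set_option autoImplicit false
universe u

open CategoryTheory TopologicalSpace Opposite CategoryTheory.Limits TopCat Topology

namespace Groth.Agent.Lib.Helper68.SpecStalk

open Groth.Agent.Lib.Helper68.SpecPatch (GenStable)
open Groth.Agent.Lib.Helper68

variable {X Y : TopCat.{u}} [SpectralSpace X] [SpectralSpace Y] (f : X ⟶ Y) (y : Y)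

/-- the preimage of the generalizations of `y` -/
abbrev Wf : Set X := {x : X | y ∈ closure {f x}}

omit [SpectralSpace X] [SpectralSpace Y] in
lemma genStable_Wf : GenStable (Wf f y) := by
  intro x x' hx hxx'
  have h1 : f x ∈ closure {f x'} := by
    have := image_closure_subset_closure_image f.hom.continuous (s := {x'}) ⟨x, hxx', rfl⟩
    rwa [Set.image_singleton] at this
  exact (closure_minimal (Set.singleton_subset_iff.2 h1) isClosed_closure) hx

omit [SpectralSpace X] [SpectralSpace Y] in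
lemma Wf_subset (V : Opens Y) (hy : y ∈ V) : Wf f y ⊆ ((Opens.map f).obj V : Opens X) := by
  intro x hx
  obtain ⟨z, hzV, hz⟩ := mem_closure_iff.1 hx V V.isOpen hy
  rw [Set.mem_singleton_iff] at hz
  change f x ∈ V
  rw [← hz]
  exact hzV

variable (hf : IsSpectralMap f)

include hf in
/-- every neighbourhood of `Wf` contains the preimage of a neighbourhood of `y` -/
theorem exists_nhd (N : Opens X) (hN : Wf f y ⊆ N) :
    ∃ V : Opens Y, y ∈ V ∧ IsCompact (V : Set Y) ∧ (Opens.map f).obj V ≤ N := by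
  let ι := {V : Opens Y // y ∈ V ∧ IsCompact (V : Set Y)}
  have : Nonempty ι := ⟨⟨⊤, trivial, by rw [Opens.coe_top]; exact isCompact_univ⟩⟩
  let t : ι → Set X := fun V => (f ⁻¹' (V.1 : Set Y)) ∩ (N : Set X)ᶜ
  have htc : ∀ i, IsClosed[constructibleTopology X] (t i) := by
    intro i
    apply @IsClosed.inter _ _ _ (constructibleTopology X)
    · exact SpecPatch.isClosed_constructible_of_isCompact_isOpen
        (i.1.isOpen.preimage f.hom.continuous) (hf.isCompact_preimage_of_isOpen i.1.isOpen i.2.2)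
    · exact SpecPatch.isClosed_constructible_of_isClosed N.isOpen.isClosed_compl
  have hst : Set.univ ∩ ⋂ i, t i = ∅ := by
    rw [Set.univ_inter, Set.eq_empty_iff_forall_notMem]
    intro x hx
    rw [Set.mem_iInter] at hx
    have hxW : x ∈ Wf f y := by
      show y ∈ closure {f x}
      rw [mem_closure_iff]
      intro O hO hyO
      obtain ⟨V₀, ⟨hV₀o, hV₀c⟩, hyV₀, hV₀O⟩ :=
        PrespectralSpace.isTopologicalBasis.exists_subset_of_mem_open hyO hO
      exact ⟨f x, hV₀O (hx ⟨⟨V₀, hV₀o⟩, hyV₀, hV₀c⟩).1, rfl⟩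
    exact (hx ⟨⊤, trivial, by rw [Opens.coe_top]; exact isCompact_univ⟩).2 (hN hxW)
  have hdir : Directed (· ⊇ ·) t := by
    intro i j
    refine ⟨⟨i.1 ⊓ j.1, ⟨i.2.1, j.2.1⟩,
      IsCompact.inter_of_isOpen i.2.2 j.2.2 i.1.isOpen j.1.isOpen⟩, ?_, ?_⟩
    · rintro x ⟨⟨hxi, -⟩, hxN⟩
      exact ⟨hxi, hxN⟩
    · rintro x ⟨⟨-, hxj⟩, hxN⟩
      exact ⟨hxj, hxN⟩
  have hcpt : @IsCompact X (constructibleTopology X) Set.univ :=
    @isCompact_univ X (constructibleTopology X) SpecPatch.compactSpace_constructible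
  obtain ⟨i, hi⟩ := @IsCompact.elim_directed_family_closed X (constructibleTopology X) _ ι _ hcpt t
    htc hst hdir
  refine ⟨i.1, i.2.1, i.2.2, ?_⟩
  intro x hx
  by_contra hxN
  have : x ∈ Set.univ ∩ t i := ⟨trivial, hx, hxN⟩
  rw [hi] at this
  exact this

include hf in
lemma isCompact_Wf : IsCompact (Wf f y) := by
  apply isCompact_of_finite_subcover
  intro κ U hUo hcov
  obtain ⟨V, hyV, hVc, hVN⟩ := exists_nhd f y hf ⟨⋃ i, U i, isOpen_iUnion hUo⟩ hcov
  obtain ⟨u, hu⟩ := (hf.isCompact_preimage_of_isOpen V.isOpen hVc).elim_finite_subcover U hUo hVN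
  exact ⟨u, (Wf_subset f y V hyV).trans hu⟩

/-- `V ↦ f⁻¹ V` from neighbourhoods of `y` to neighbourhoods of `Wf` -/
def Φ : (OpenNhds y)ᵒᵖ ⥤ CptColim.Nb (Wf f y) where
  obj V := ⟨op ((Opens.map f).obj V.unop.1), Wf_subset f y V.unop.1 V.unop.2⟩
  map {V W} i := ObjectProperty.homMk ((Opens.map f).op.map ((OpenNhds.inclusion y).op.map i))

include hf in
lemma final_Φ : (Φ f y).Final := by
  apply Functor.final_of_exists_of_isFiltered
  · intro d
    obtain ⟨V, hyV, -, hVN⟩ := exists_nhd f y hf d.obj.unop d.property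
    exact ⟨op ⟨V, hyV⟩, ⟨ObjectProperty.homMk (homOfLE hVN).op⟩⟩
  · intro d c s s'
    refine ⟨c, 𝟙 c, ?_⟩
    apply ObjectProperty.hom_ext
    apply Quiver.Hom.unop_inj
    exact Subsingleton.elim _ _

include hf in
/-- the stalk of `R^p f_* F` at `y` is the cohomology of `f⁻¹` of the generalizations of `y` -/
theorem nonempty_stalk_addEquiv (F : CohTop.Ab X) (p : ℕ) :
    Nonempty (CohTop.stalk ((CohTop.Rpush f p).obj F) y ≃+
      CohTop.H ((CohTop.pull (CptColim.incl (Wf f y))).obj F) p) := by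
  obtain ⟨e₁⟩ := Groth.Agent.S0461.result f F p
  let Q : (Opens Y)ᵒᵖ ⥤ AddCommGrpCat.{u} := (Opens.map f).op ⋙ Sheaf.cohomologyPresheaf.{u} F p
  let i₁ : CohTop.stalk ((CohTop.Rpush f p).obj F) y ≅
      CohTop.stalk ((presheafToSheaf (Opens.grothendieckTopology Y) AddCommGrpCat.{u}).obj Q) y :=
    (TopCat.Sheaf.forget AddCommGrpCat.{u} Y ⋙
      TopCat.Presheaf.stalkFunctor AddCommGrpCat.{u} y).mapIso e₁
  let i₂ : CohTop.stalk ((presheafToSheaf (Opens.grothendieckTopology Y) AddCommGrpCat.{u}).obj Q) y ≅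
      TopCat.Presheaf.stalk Q y := (FiberStalk.stalkSheafifyIso y).app Q
  let H : (Opens X)ᵒᵖ ⥤ AddCommGrpCat.{u} :=
    (Sheaf.cohomologyPresheafFunctor (Opens.grothendieckTopology X) p).obj F
  have : (Φ f y).Final := final_Φ f y hf
  let i₃ : colimit (Φ f y ⋙ ((CptColim.P (Wf f y)).ι ⋙ H)) ≅
      colimit ((CptColim.P (Wf f y)).ι ⋙ H) := Functor.Final.colimitIso (Φ f y) _
  let i₄ : TopCat.Presheaf.stalk Q y ≅ colimit (Φ f y ⋙ ((CptColim.P (Wf f y)).ι ⋙ H)) :=
    HasColimit.isoOfNatIso (NatIso.ofComponents (fun V => Iso.refl _) (fun {V W} i => by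
      exact (Category.comp_id _).trans (Category.id_comp _).symm))
  have hW := isCompact_Wf f y hf
  have hgen := genStable_Wf f y
  obtain ⟨e₅⟩ := NbColim.nonempty_addEquiv (Wf f y) (SpecColim.hsec (Wf f y) hW hgen)
    (SpecColim.hacyc (Wf f y) hW hgen) F p
  exact ⟨(i₁ ≪≫ i₂ ≪≫ i₄ ≪≫ i₃).addCommGroupIsoToAddEquiv.trans e₅⟩

end Groth.Agent.Lib.Helper68.SpecStalk
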