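import Groth.Agent.Lib.Helper68.SpecColim
import Groth.Agent.Lib.Helper68.MVGlue
import Mathlib.CategoryTheory.Limits.ConcreteCategory.Filtered

/-! The key step of the induction on dimension for spectral spaces: top-degree restriction to a
quasi-compact open is surjective once the cohomology of the "boundary" vanishes (helper68). -/

set_option autoImplicit false
universe u

open CategoryTheory TopologicalSpace Opposite CategoryTheory.Limits TopCat

namespace Groth.Agent.Lib.Helper68.SpecStep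

open Groth.Agent.Lib.Helper68.SpecPatch
open Groth.Agent.Lib.Helper68 Groth.Agent.Lib.Helper26

variable {X : TopCat.{u}} [SpectralSpace X]

/-- the "punctured neighbourhood of the complement" of an open `U`: points of `U` specializing to
a point outside `U` -/
def bdry (U : Opens X) : Set X := gens ((U : Set X)ᶜ) ∩ (U : Set X)

lemma isCompact_bdry (U : Opens X) (hU : IsCompact (U : Set X)) : IsCompact (bdry U) :=
  isCompact_inter (isCompact_gens U.isOpen.isClosed_compl.isCompact) (genStable_gens _)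
    U.isOpen hU

lemma genStable_bdry (U : Opens X) : GenStable (bdry U) :=
  (genStable_gens _).inter_isOpen U.isOpen

omit [SpectralSpace X] in
lemma exists_map_eq (Q : ObjectProperty (Opens X)ᵒᵖ) [IsFiltered Q.FullSubcategory]
    (H : (Opens X)ᵒᵖ ⥤ AddCommGrpCat.{u}) (Uq : Q.FullSubcategory)
    (ξ : ToType ((Q.ι ⋙ H).obj Uq))
    (hsub : Subsingleton (ToType (colimit (Q.ι ⋙ H)))) :
    ∃ (V' : Q.FullSubcategory) (f : Uq ⟶ V'), H.map f.hom ξ = 0 := by
  have h0 : colimit.ι (Q.ι ⋙ H) Uq ξ = colimit.ι (Q.ι ⋙ H) Uq 0 := Subsingleton.elim _ _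
  obtain ⟨V', f, hf⟩ := (IsColimit.eq_iff' (colimit.isColimit (Q.ι ⋙ H)) ξ 0).1 h0
  exact ⟨V', f, hf.trans (map_zero _)⟩

theorem surjective_res (F : CohTop.Ab X) (d : ℕ) (U : Opens X) (hU : IsCompact (U : Set X))
    (h : Subsingleton (CohTop.H ((CohTop.pull (CptColim.incl (bdry U))).obj F) d)) :
    Function.Surjective (CohTop.res F d (le_top : U ≤ ⊤)) := by
  let Z : Set X := (U : Set X)ᶜ
  have hW : IsCompact (gens Z) := isCompact_gens U.isOpen.isClosed_compl.isCompact
  have hgen : GenStable (gens Z) := genStable_gens Z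
  have hW' := isCompact_bdry U hU
  have hgen' := genStable_bdry U
  let Q : ObjectProperty (Opens X)ᵒᵖ :=
    fun V => bdry U ⊆ (V.unop : Set X) ∧ IsCompact (V.unop : Set X)
  let H : (Opens X)ᵒᵖ ⥤ AddCommGrpCat.{u} :=
    (Sheaf.cohomologyPresheafFunctor (Opens.grothendieckTopology X) d).obj F
  obtain ⟨e⟩ := SpecColim.nonempty_addEquiv (bdry U) hW' hgen' Q (fun _ => Iff.rfl) F d
  have hsub : Subsingleton (ToType (colimit (Q.ι ⋙ H))) := e.toEquiv.subsingleton
  have hfil : IsFiltered Q.FullSubcategory := by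
    refine NbColim.isFiltered_Q (bdry U) Q ?_ ?_
    · intro N hN
      obtain ⟨U₀, hU₀c, hU₀o, hWU₀, hU₀N⟩ :=
        PrespectralSpace.exists_isCompact_and_isOpen_between hW' N.isOpen hN
      exact ⟨⟨U₀, hU₀o⟩, ⟨hWU₀, hU₀c⟩, hU₀N⟩
    · rintro U₁ V₁ ⟨hWU, hUc⟩ ⟨hWV, hVc⟩
      exact ⟨Set.subset_inter hWU hWV, IsCompact.inter_of_isOpen hUc hVc U₁.isOpen V₁.isOpen⟩
  intro ξ
  let Uq : Q.FullSubcategory := ⟨op U, Set.inter_subset_right, hU⟩
  obtain ⟨V', f, hf⟩ := exists_map_eq Q H Uq ξ hsub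
  have hV'U : V'.obj.unop ≤ U := leOfHom f.hom.unop
  have hξV' : CohTop.res F d hV'U ξ = 0 := hf
  obtain ⟨O, hOo, hOc, hWO, hOUV⟩ := exists_nhd_inter_subset hW hgen U.isOpen hU
    V'.obj.unop.isOpen V'.property.1
  let O' : Opens X := ⟨O, hOo⟩
  have hsup : (⊤ : Opens X) = U ⊔ O' := by
    apply le_antisymm _ le_top
    intro x _
    by_cases hx : x ∈ U
    · exact Or.inl hx
    · exact Or.inr (hWO (subset_gens Z hx))
  have hUO : U ⊓ O' ≤ V'.obj.unop := fun x hx => hOUV ⟨hx.2, hx.1⟩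
  have hz : CohTop.res F d (inf_le_left : U ⊓ O' ≤ U) ξ =
      CohTop.res F d (inf_le_right : U ⊓ O' ≤ O') 0 := by
    rw [← MVTop.res_res F d hV'U hUO ξ, hξV', map_zero, map_zero]
  obtain ⟨α, hα, -⟩ := MVGlue.mv_glue_of_eq F ⊤ U O' hsup d ξ 0 hz
  exact ⟨α, hα⟩

end Groth.Agent.Lib.Helper68.SpecStep
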