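import Groth.Prelude.Def_SpSeq
import Mathlib.Algebra.Homology.ShortComplex.HomologicalComplex
import Mathlib.CategoryTheory.Limits.Shapes.BinaryBiproducts
import Mathlib.CategoryTheory.Abelian.Basic
import Mathlib.Data.Int.Interval
import Mathlib.Order.Interval.Finset.Defs

/-!
# A split-exact first-quadrant `E₁` spectral sequence (helper68)

For `Z : ℕ → ℕ → C` (`Z q p`) we build a cohomological spectral sequence starting on page one with
`E₁^{p,q} = Z q p ⊞ Z q (p+1)` in the first quadrant (zero elsewhere), `d₁ = snd ≫ inl` (split exact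
except in column `p = 0`), pages `r ≥ 2` concentrated in the column `p = 0` with value `Z q 0` and
zero differentials, and abutment data for any `H` with `H q ≅ Z q 0`.
-/

set_option autoImplicit false
universe v u
open CategoryTheory CategoryTheory.Limits
open scoped ZeroObject

namespace Groth.Agent.Lib.Helper68.SplitSS

variable {C : Type u} [Category.{v} C] [Abelian C] (Z : ℕ → ℕ → C)

/-- `Z q p` extended by zero outside the first quadrant. -/
noncomputable def Zt (pq : ℤ × ℤ) : C :=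
  if 0 ≤ pq.1 ∧ 0 ≤ pq.2 then Z pq.2.toNat pq.1.toNat else 0

/-- `Z q (p+1)` extended by zero outside the first quadrant. -/
noncomputable def Zs (pq : ℤ × ℤ) : C :=
  if 0 ≤ pq.1 ∧ 0 ≤ pq.2 then Z pq.2.toNat (pq.1.toNat + 1) else 0

lemma isZero_Zt (pq : ℤ × ℤ) (h : ¬ (0 ≤ pq.1 ∧ 0 ≤ pq.2)) : IsZero (Zt Z pq) := by
  unfold Zt; rw [if_neg h]; exact isZero_zero C

lemma isZero_Zs (pq : ℤ × ℤ) (h : ¬ (0 ≤ pq.1 ∧ 0 ≤ pq.2)) : IsZero (Zs Z pq) := by
  unfold Zs; rw [if_neg h]; exact isZero_zero C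

/-- the shift vector of page one -/
abbrev a1 : ℤ × ℤ := ⟨1, 1 - 1⟩

lemma Zs_eq_Zt (pq : ℤ × ℤ) (h : 0 ≤ pq.1 ∧ 0 ≤ pq.2) : Zs Z pq = Zt Z (pq + a1) := by
  obtain ⟨p, q⟩ := pq
  obtain ⟨hp, hq⟩ := h
  simp only at hp hq
  have h1 : (0 : ℤ) ≤ p + 1 ∧ (0 : ℤ) ≤ q + (1 - 1) := ⟨by omega, by omega⟩
  have h2 : (p + 1).toNat = p.toNat + 1 := by omega
  have h3 : (q + (1 - 1)).toNat = q.toNat := by simp
  show Zs Z (p, q) = Zt Z (p + 1, q + (1 - 1))
  unfold Zs Zt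
  rw [if_pos ⟨hp, hq⟩, if_pos h1]
  simp only [h2, h3]

/-- the comparison `Zs pq ⟶ Zt (pq + (1,0))` -/
noncomputable def τ (pq : ℤ × ℤ) : Zs Z pq ⟶ Zt Z (pq + a1) :=
  if h : 0 ≤ pq.1 ∧ 0 ≤ pq.2 then eqToHom (Zs_eq_Zt Z pq h) else 0

lemma isIso_τ (pq : ℤ × ℤ) (h : 0 ≤ pq.1 ∧ 0 ≤ pq.2) : IsIso (τ Z pq) := by
  unfold τ; rw [dif_pos h]; infer_instance

/-- the objects of page one -/
noncomputable abbrev X1 (pq : ℤ × ℤ) : C := Zt Z pq ⊞ Zs Z pq

lemma isZero_X1 (pq : ℤ × ℤ) (h : ¬ (0 ≤ pq.1 ∧ 0 ≤ pq.2)) : IsZero (X1 Z pq) := by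
  have h1 := isZero_Zt Z pq h
  have h2 := isZero_Zs Z pq h
  rw [IsZero.iff_id_eq_zero]
  apply biprod.hom_ext <;> [apply h1.eq_of_tgt; apply h2.eq_of_tgt]

/-- the tail `Zs pq ⟶ X1 pq'` of the differential, for `pq + a1 = pq'` -/
noncomputable def tail (pq pq' : ℤ × ℤ) (h : pq + a1 = pq') : Zs Z pq ⟶ X1 Z pq' :=
  τ Z pq ≫ eqToHom (by rw [h]) ≫ biprod.inl

lemma mono_tail (pq pq' : ℤ × ℤ) (h : pq + a1 = pq') (hq : 0 ≤ pq.1 ∧ 0 ≤ pq.2) :
    Mono (tail Z pq pq' h) := by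
  have := isIso_τ Z pq hq
  unfold tail
  infer_instance

/-- the differential of page one -/
noncomputable def d1 (pq pq' : ℤ × ℤ) : X1 Z pq ⟶ X1 Z pq' :=
  if h : pq + a1 = pq' then biprod.snd ≫ tail Z pq pq' h else 0

/-- page one -/
noncomputable def P1 : HomologicalComplex C (ComplexShape.up' a1) where
  X := X1 Z
  d := d1 Z
  shape i j hij := by
    have hij' : ¬ (i + a1 = j) := hij
    unfold d1; rw [dif_neg hij']
  d_comp_d' i j k hij hjk := by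
    change i + a1 = j at hij
    change j + a1 = k at hjk
    unfold d1
    rw [dif_pos hij, dif_pos hjk]
    unfold tail
    simp


lemma prev_eq (pq : ℤ × ℤ) : (ComplexShape.up' a1).prev pq = pq - a1 :=
  (ComplexShape.up' a1).prev_eq' (show (pq - a1) + a1 = pq by simp)

lemma next_eq (pq : ℤ × ℤ) : (ComplexShape.up' a1).next pq = pq + a1 :=
  (ComplexShape.up' a1).next_eq' rfl

/-- `inl` is a kernel of `snd ≫ m` for `m` mono. -/
noncomputable def isLimitInl {A B X₂ : C} (m : B ⟶ X₂) [Mono m] :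
    IsLimit (KernelFork.ofι (biprod.inl : A ⟶ A ⊞ B) (show biprod.inl ≫ biprod.snd ≫ m = 0 by simp)) :=
  isKernelCompMono (biprod.isKernelSndKernelFork A B) m rfl

lemma exact_aux {A B X₀ X₂ : C} (a : X₀ ⟶ A) [Epi a] (m : B ⟶ X₂) [Mono m] :
    (ShortComplex.mk (a ≫ (biprod.inl : A ⟶ A ⊞ B)) (biprod.snd ≫ m) (by simp)).Exact := by
  let S' : ShortComplex C := ShortComplex.mk (biprod.inl : A ⟶ A ⊞ B) (biprod.snd ≫ m) (by simp)
  have hS' : S'.Exact := ShortComplex.exact_of_f_is_kernel _ (isLimitInl m)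
  let φ : ShortComplex.mk (a ≫ (biprod.inl : A ⟶ A ⊞ B)) (biprod.snd ≫ m) (by simp) ⟶ S' :=
    { τ₁ := a, τ₂ := 𝟙 _, τ₃ := 𝟙 _ }
  exact (ShortComplex.exact_iff_of_epi_of_isIso_of_mono φ).2 hS'

/-- the objects of the pages `r ≥ 2` -/
noncomputable def X2 (pq : ℤ × ℤ) : C :=
  if pq.1 = 0 ∧ 0 ≤ pq.2 then Z pq.2.toNat 0 else 0

lemma isZero_X2 (pq : ℤ × ℤ) (h : ¬ (pq.1 = 0 ∧ 0 ≤ pq.2)) : IsZero (X2 Z pq) := by
  unfold X2; rw [if_neg h]; exact isZero_zero C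

lemma Zt_eq_X2 (pq : ℤ × ℤ) (h : pq.1 = 0 ∧ 0 ≤ pq.2) : Zt Z pq = X2 Z pq := by
  obtain ⟨p, q⟩ := pq
  obtain ⟨hp, hq⟩ := h
  simp only at hp hq
  subst hp
  unfold Zt X2
  rw [if_pos ⟨le_rfl, hq⟩, if_pos ⟨rfl, hq⟩]
  rfl

lemma exact_sc' (pq : ℤ × ℤ) (hq : 0 ≤ pq.1 ∧ 0 ≤ pq.2) (hp : pq.1 ≠ 0) :
    ((P1 Z).sc' (pq - a1) pq (pq + a1)).Exact := by
  have hq' : 0 ≤ (pq - a1).1 ∧ 0 ≤ (pq - a1).2 := by
    obtain ⟨p, q⟩ := pq
    simp only at hq hp
    show 0 ≤ p - 1 ∧ 0 ≤ q - (1 - 1)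
    omega
  have h1 : (pq - a1) + a1 = pq := by simp
  have := isIso_τ Z (pq - a1) hq'
  have := mono_tail Z pq (pq + a1) rfl hq
  have hf : (P1 Z).d (pq - a1) pq =
      (biprod.snd ≫ τ Z (pq - a1) ≫ eqToHom (by rw [h1])) ≫ biprod.inl := by
    show d1 Z (pq - a1) pq = _
    unfold d1; rw [dif_pos h1]; unfold tail; simp
  have hg : (P1 Z).d pq (pq + a1) = biprod.snd ≫ tail Z pq (pq + a1) rfl := by
    show d1 Z pq (pq + a1) = _
    unfold d1; rw [dif_pos rfl]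
  let S₂ : ShortComplex C := ShortComplex.mk
    ((biprod.snd ≫ τ Z (pq - a1) ≫ eqToHom (by rw [h1]) : X1 Z (pq - a1) ⟶ Zt Z pq) ≫ biprod.inl)
    (biprod.snd ≫ tail Z pq (pq + a1) rfl) (by simp)
  have key : S₂.Exact := exact_aux _ _
  let e : (P1 Z).sc' (pq - a1) pq (pq + a1) ≅ S₂ :=
    ShortComplex.isoMk (Iso.refl _) (Iso.refl _) (Iso.refl _)
      (by
        show 𝟙 _ ≫ S₂.f = (P1 Z).d (pq - a1) pq ≫ 𝟙 _
        rw [Category.id_comp, Category.comp_id, hf])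
      (by
        show 𝟙 _ ≫ S₂.g = (P1 Z).d pq (pq + a1) ≫ 𝟙 _
        rw [Category.id_comp, Category.comp_id, hg])
  exact (ShortComplex.exact_iff_of_iso e).2 key


lemma nonempty_homology_P1_iso (pq : ℤ × ℤ) : Nonempty ((P1 Z).homology pq ≅ X2 Z pq) := by
  have hi := prev_eq pq
  have hk := next_eq pq
  by_cases hq : 0 ≤ pq.1 ∧ 0 ≤ pq.2
  · by_cases hp : pq.1 = 0
    · -- column zero
      have hneg : ¬ (0 ≤ (pq - a1).1 ∧ 0 ≤ (pq - a1).2) := by
        obtain ⟨p, q⟩ := pq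
        simp only at hp
        subst hp
        show ¬ (0 ≤ (0 : ℤ) - 1 ∧ 0 ≤ q - (1 - 1))
        omega
      have hf : (P1 Z).d (pq - a1) pq = 0 := (isZero_X1 Z _ hneg).eq_of_src _ _
      have := mono_tail Z pq (pq + a1) rfl hq
      have hg : (P1 Z).d pq (pq + a1) = biprod.snd ≫ tail Z pq (pq + a1) rfl := by
        show d1 Z pq (pq + a1) = _
        unfold d1; rw [dif_pos rfl]
      let S₂ : ShortComplex C := ShortComplex.mk
        (0 : X1 Z (pq - a1) ⟶ Zt Z pq ⊞ Zs Z pq)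
        (biprod.snd ≫ tail Z pq (pq + a1) rfl) (by simp)
      let e : (P1 Z).sc' (pq - a1) pq (pq + a1) ≅ S₂ :=
        ShortComplex.isoMk (Iso.refl _) (Iso.refl _) (Iso.refl _)
          (by
            show 𝟙 _ ≫ S₂.f = (P1 Z).d (pq - a1) pq ≫ 𝟙 _
            rw [Category.id_comp, Category.comp_id, hf]; rfl)
          (by
            show 𝟙 _ ≫ S₂.g = (P1 Z).d pq (pq + a1) ≫ 𝟙 _
            rw [Category.id_comp, Category.comp_id, hg])
      let hd : S₂.HomologyData := ShortComplex.HomologyData.ofIsLimitKernelFork S₂ rfl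
        (KernelFork.ofι (biprod.inl : Zt Z pq ⟶ Zt Z pq ⊞ Zs Z pq) (by simp [S₂]))
        (isLimitInl (A := Zt Z pq) (tail Z pq (pq + a1) rfl))
      have e2 : S₂.homology ≅ Zt Z pq := hd.left.homologyIso
      exact ⟨ShortComplex.homologyMapIso ((P1 Z).isoSc' (pq - a1) pq (pq + a1) hi hk) ≪≫
        ShortComplex.homologyMapIso e ≪≫ e2 ≪≫ eqToIso (Zt_eq_X2 Z pq ⟨hp, hq.2⟩)⟩
    · have hex := exact_sc' Z pq hq hp
      have h0 : IsZero ((P1 Z).homology pq) :=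
        ((HomologicalComplex.exactAt_iff' (P1 Z) (pq - a1) pq (pq + a1) hi hk).2 hex).isZero_homology
      exact ⟨h0.iso (isZero_X2 Z pq (fun h => hp h.1))⟩
  · have hex : ((P1 Z).sc' (pq - a1) pq (pq + a1)).Exact :=
      ShortComplex.exact_of_isZero_X₂ _ (isZero_X1 Z pq hq)
    have h0 : IsZero ((P1 Z).homology pq) :=
      ((HomologicalComplex.exactAt_iff' (P1 Z) (pq - a1) pq (pq + a1) hi hk).2 hex).isZero_homology
    exact ⟨h0.iso (isZero_X2 Z pq (fun h => hq ⟨h.1.ge, h.2⟩))⟩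


/-- the pages `r ≥ 2`: zero differentials -/
noncomputable def P2 (r : ℤ) : HomologicalComplex C (ComplexShape.up' (⟨r, 1 - r⟩ : ℤ × ℤ)) where
  X := X2 Z
  d _ _ := 0
  shape _ _ _ := rfl
  d_comp_d' _ _ _ _ _ := by simp

lemma nonempty_homology_P2_iso (r : ℤ) (pq : ℤ × ℤ) :
    Nonempty ((P2 Z r).homology pq ≅ X2 Z pq) :=
  ⟨(ShortComplex.HomologyData.ofZeros ((P2 Z r).sc pq) rfl rfl).left.homologyIso⟩

/-- the pages -/
noncomputable def page (r : ℤ) : HomologicalComplex C (ComplexShape.up' (⟨r, 1 - r⟩ : ℤ × ℤ)) :=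
  if h : r = 1 then (by subst h; exact P1 Z) else P2 Z r

lemma page_one : page Z 1 = P1 Z := by
  unfold page; rw [dif_pos rfl]

lemma page_of_ne (r : ℤ) (h : r ≠ 1) : page Z r = P2 Z r := by
  unfold page; rw [dif_neg h]

lemma nonempty_page_iso (r : ℤ) (hr : 1 ≤ r) (pq : ℤ × ℤ) :
    Nonempty ((page Z r).homology pq ≅ (page Z (r + 1)).X pq) := by
  rw [page_of_ne Z (r + 1) (by omega)]
  by_cases h : r = 1
  · subst h
    rw [page_one]
    exact nonempty_homology_P1_iso Z pq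
  · rw [page_of_ne Z r h]
    exact nonempty_homology_P2_iso Z r pq

/-- the spectral sequence -/
noncomputable def E : CohomologicalSpectralSequence C 1 where
  page r _ := page Z r
  iso r r' pq hrr' hr := by
    subst hrr'
    exact (nonempty_page_iso Z r hr pq).some


section Abut

variable (H : ℤ → C)

/-- the two-step filtration -/
noncomputable def fil (n : ℤ) (p : ℤ) : Subobject (H n) := if p ≤ 0 then ⊤ else ⊥

lemma fil_anti (n : ℤ) : Antitone (fil H n) := by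
  intro p p' h
  unfold fil
  by_cases hp' : p' ≤ 0
  · rw [if_pos hp', if_pos (by omega)]
  · rw [if_neg hp']; exact bot_le

lemma isZero_subquot_of_eq {X : C} (Zs Bs : Subobject X) (h : Bs ≤ Zs) (he : Bs = Zs) :
    IsZero (SpSeq.subquot Zs Bs h) := by
  subst he
  unfold SpSeq.subquot
  have : IsIso (Bs.ofLE Bs h) := by rw [Subobject.ofLE_refl]; infer_instance
  exact isZero_cokernel_of_epi _

lemma nonempty_subquot_top_bot_iso {X : C} (Zs Bs : Subobject X) (h : Bs ≤ Zs)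
    (hZ : Zs = ⊤) (hB : Bs = ⊥) : Nonempty (SpSeq.subquot Zs Bs h ≅ X) := by
  subst hZ hB
  unfold SpSeq.subquot
  have h0 : (⊥ : Subobject X).ofLE ⊤ h = 0 :=
    zero_of_source_iso_zero _ Subobject.botCoeIsoZero
  exact ⟨cokernelIsoOfEq h0 ≪≫ cokernelZeroIsoTarget ≪≫ asIso (⊤ : Subobject X).arrow⟩

variable {H}

lemma nonempty_β (eH : ∀ q : ℕ, Nonempty (H q ≅ Z q 0)) (hH : ∀ n : ℤ, n < 0 → IsZero (H n))
    (pq : ℤ × ℤ) :
    Nonempty (X2 Z pq ≅
      SpSeq.grPiece (fil H (pq.1 + pq.2)) (fil_anti H (pq.1 + pq.2)) pq.1) := by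
  obtain ⟨p, q⟩ := pq
  show Nonempty (X2 Z (p, q) ≅ SpSeq.subquot (fil H (p + q) p) (fil H (p + q) (p + 1)) _)
  rcases lt_trichotomy p 0 with hp | hp | hp
  · have h1 : fil H (p + q) p = ⊤ := by unfold fil; rw [if_pos (by omega)]
    have h2 : fil H (p + q) (p + 1) = ⊤ := by unfold fil; rw [if_pos (by omega)]
    exact ⟨(isZero_X2 Z (p, q) (fun h => by simp at h; omega)).iso
      (isZero_subquot_of_eq _ _ _ (h2.trans h1.symm))⟩
  · subst hp
    have h1 : fil H (0 + q) 0 = ⊤ := by unfold fil; rw [if_pos le_rfl]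
    have h2 : fil H (0 + q) (0 + 1) = ⊥ := by unfold fil; rw [if_neg (by omega)]
    obtain ⟨e⟩ := nonempty_subquot_top_bot_iso (fil H (0 + q) 0) (fil H (0 + q) (0 + 1))
      ((fil_anti H (0 + q)) (Int.le_add_one le_rfl)) h1 h2
    by_cases hq : 0 ≤ q
    · obtain ⟨e'⟩ := eH q.toNat
      have hqq : (0 + q) = (q.toNat : ℤ) := by omega
      have hX : X2 Z (0, q) = Z q.toNat 0 := by unfold X2; rw [if_pos ⟨rfl, hq⟩]
      exact ⟨eqToIso hX ≪≫ e'.symm ≪≫ eqToIso (by rw [hqq]) ≪≫ e.symm⟩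
    · have hz : IsZero (H (0 + q)) := hH _ (by omega)
      exact ⟨(isZero_X2 Z (0, q) (fun h => hq h.2)).iso (hz.of_iso e)⟩
  · have h1 : fil H (p + q) p = ⊥ := by unfold fil; rw [if_neg (by omega)]
    have h2 : fil H (p + q) (p + 1) = ⊥ := by unfold fil; rw [if_neg (by omega)]
    exact ⟨(isZero_X2 Z (p, q) (fun h => by simp at h; omega)).iso
      (isZero_subquot_of_eq _ _ _ (h2.trans h1.symm))⟩

/-- the abutment -/
noncomputable def abut (eH : ∀ q : ℕ, Nonempty (H q ≅ Z q 0))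
    (hH : ∀ n : ℤ, n < 0 → IsZero (H n)) : SpSeq.Abutment (E Z) H where
  fil := fil H
  anti := fil_anti H
  rk _ := 2
  stat pq := ⟨by norm_num, fun r' h₀ hr' => by
    have h : page Z r' = P2 Z r' := page_of_ne Z r' (by omega)
    constructor
    · show (page Z r').d _ _ = 0
      rw [h]; rfl
    · show (page Z r').d _ _ = 0
      rw [h]; rfl⟩
  β pq := by
    have h : page Z 2 = P2 Z 2 := page_of_ne Z 2 (by norm_num)
    show (page Z 2).X pq ≅ _
    rw [h]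
    exact (nonempty_β Z eH hH pq).some

theorem exists_splitSS (eH : ∀ q : ℕ, Nonempty (H q ≅ Z q 0))
    (hH : ∀ n : ℤ, n < 0 → IsZero (H n)) :
    ∃ (E : CohomologicalSpectralSequence C 1) (a : SpSeq.Abutment E H),
      (∀ n, a.IsFinite n) ∧ SpSeq.IsBounded E ∧
      ∀ p q : ℤ, Nonempty ((E.page 1 le_rfl).X (p, q) ≅
        (if 0 ≤ p ∧ 0 ≤ q then Z q.toNat p.toNat ⊞ Z q.toNat (p.toNat + 1) else 0)) := by
  refine ⟨E Z, abut Z eH hH, ?_, ?_, ?_⟩
  · intro n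
    refine ⟨⟨0, ?_⟩, ⟨1, ?_⟩⟩
    · show fil H n 0 = ⊤
      unfold fil; rw [if_pos le_rfl]
    · show fil H n 1 = ⊥
      unfold fil; rw [if_neg (by norm_num)]
  · intro n
    refine (Set.finite_Icc (0 : ℤ) n).subset ?_
    intro p hp
    by_contra hcon
    apply hp
    show IsZero ((page Z 1).X (p, n - p))
    rw [page_one]
    refine isZero_X1 Z (p, n - p) ?_
    intro h
    apply hcon
    simp only at h
    exact ⟨h.1, by omega⟩
  · intro p q
    show Nonempty ((page Z 1).X (p, q) ≅ _)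
    rw [page_one]
    by_cases h : 0 ≤ p ∧ 0 ≤ q
    · rw [if_pos h]
      refine ⟨biprod.mapIso (eqToIso ?_) (eqToIso ?_)⟩
      · unfold Zt; rw [if_pos h]
      · unfold Zs; rw [if_pos h]
    · rw [if_neg h]
      exact ⟨(isZero_X1 Z (p, q) h).iso (isZero_zero C)⟩

end Abut

end Groth.Agent.Lib.Helper68.SplitSS
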