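import Mathlib.CategoryTheory.Limits.Shapes.BinaryBiproducts
import Mathlib.CategoryTheory.Preadditive.Biproducts
import Mathlib.CategoryTheory.Abelian.Basic

/-!
# Towers of split monomorphisms (helper68)

If `A (n+1) ≅ A n ⊞ B n` for all `n`, there are `Z n` with `Z 0 = A 0` and
`A (n+1) ≅ Z n ⊞ Z (n+1)`.
-/

set_option autoImplicit false
universe v u
open CategoryTheory CategoryTheory.Limits

namespace Groth.Agent.Lib.Helper68.SplitTower

variable {C : Type u} [Category.{v} C] [Preadditive C] [HasBinaryBiproducts C]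

/-- `(X ⊞ Y) ⊞ W ≅ Y ⊞ (X ⊞ W)` -/
noncomputable def shuffle (X Y W : C) : (X ⊞ Y) ⊞ W ≅ Y ⊞ (X ⊞ W) where
  hom := biprod.lift (biprod.fst ≫ biprod.snd) (biprod.lift (biprod.fst ≫ biprod.fst) biprod.snd)
  inv := biprod.lift (biprod.lift (biprod.snd ≫ biprod.fst) biprod.fst) (biprod.snd ≫ biprod.snd)
  hom_inv_id := by
    apply biprod.hom_ext
    · apply biprod.hom_ext <;> simp
    · simp
  inv_hom_id := by
    apply biprod.hom_ext
    · simp
    · apply biprod.hom_ext <;> simp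

/-- the sequence `Z` -/
noncomputable def Zseq (A0 : C) (B : ℕ → C) : ℕ → C
  | 0 => A0
  | 1 => B 0
  | (n + 2) => Zseq A0 B n ⊞ B (n + 1)

theorem exists_Z (A : ℕ → C) (h : ∀ n, ∃ B : C, Nonempty (A (n + 1) ≅ A n ⊞ B)) :
    ∃ Z : ℕ → C, Z 0 = A 0 ∧ ∀ n, Nonempty (A (n + 1) ≅ Z n ⊞ Z (n + 1)) := by
  choose B hB using h
  refine ⟨Zseq (A 0) B, rfl, ?_⟩
  intro n
  induction n with
  | zero => exact hB 0
  | succ n ih =>
    obtain ⟨e⟩ := ih
    obtain ⟨e'⟩ := hB (n + 1)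
    exact ⟨e' ≪≫ biprod.mapIso e (Iso.refl _) ≪≫ shuffle _ _ _⟩

end Groth.Agent.Lib.Helper68.SplitTower
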