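import Mathlib

/-!
# helper68: a finitely presented algebra over a localization descends to a finitely presented
algebra over the base (clearing denominators)
-/

set_option autoImplicit false
universe u

open TensorProduct

namespace Groth.Agent.Lib.Helper68.SpreadFPD

attribute [local instance] Algebra.TensorProduct.rightAlgebra

/-- rescale the relations of a presentation by a unit of the base. -/
noncomputable def rescale {R S ι σ : Type*} [CommRing R] [CommRing S] [Algebra R S]
    (P : Algebra.Presentation R S ι σ) (u : R) (hu : IsUnit u) : Algebra.Presentation R S ι σ :=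
  { P.toGenerators with
    relation := fun i => MvPolynomial.C u * P.relation i
    span_range_relation_eq_ker := by
      rw [← P.span_range_relation_eq_ker]
      obtain ⟨v, hv⟩ := hu.exists_left_inv
      apply le_antisymm
      · rw [Ideal.span_le]
        rintro _ ⟨i, rfl⟩
        exact Ideal.mul_mem_left _ _ (Ideal.subset_span ⟨i, rfl⟩)
      · rw [Ideal.span_le]
        rintro _ ⟨i, rfl⟩
        have : P.relation i = MvPolynomial.C v * (MvPolynomial.C u * P.relation i) := by
          rw [← mul_assoc, ← MvPolynomial.C_mul, hv, MvPolynomial.C_1, one_mul]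
        rw [SetLike.mem_coe, this]
        exact Ideal.mul_mem_left _ _ (Ideal.subset_span ⟨i, rfl⟩) }

theorem aux {R : Type u} [CommRing R] (M : Submonoid R) (Rp : Type u) [CommRing Rp]
    [Algebra R Rp] [IsLocalization M Rp] (R'' : Type u) [CommRing R''] [Algebra Rp R'']
    [Algebra R R''] [IsScalarTower R Rp R''] (C : Type u) [CommRing C] [Algebra R C]
    (e : Rp ⊗[R] C ≃ₐ[Rp] R'') :
    ∃ (_ : Algebra C R'') (_ : IsScalarTower R C R''),
      IsLocalization (Algebra.algebraMapSubmonoid C M) R'' := by
  letI algC : Algebra C R'' :=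
    (e.toRingEquiv.toRingHom.comp (algebraMap C (Rp ⊗[R] C))).toAlgebra
  have htower : IsScalarTower R C R'' := by
    refine IsScalarTower.of_algebraMap_eq fun r => ?_
    change algebraMap R R'' r = e ((1 : Rp) ⊗ₜ[R] algebraMap R C r)
    have h1 : ((1 : Rp) ⊗ₜ[R] algebraMap R C r) =
        algebraMap Rp (Rp ⊗[R] C) (algebraMap R Rp r) := by
      rw [Algebra.TensorProduct.algebraMap_apply, Algebra.algebraMap_self, RingHom.id_apply,
        Algebra.algebraMap_eq_smul_one, Algebra.algebraMap_eq_smul_one, TensorProduct.tmul_smul,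
        TensorProduct.smul_tmul']
    rw [h1, e.commutes, ← IsScalarTower.algebraMap_apply]
  refine ⟨algC, htower, ?_⟩
  have hloc : IsLocalization (Algebra.algebraMapSubmonoid C M) (Rp ⊗[R] C) :=
    IsLocalization.tensorRight (S := C) Rp M
  exact (IsLocalization.isLocalization_iff_of_ringEquiv _ e.toRingEquiv).mp hloc

theorem exists_fp_model {R : Type u} [CommRing R] (M : Submonoid R) (Rp : Type u) [CommRing Rp]
    [Algebra R Rp] [IsLocalization M Rp] (R'' : Type u) [CommRing R''] [Algebra Rp R'']
    [Algebra R R''] [IsScalarTower R Rp R''] [Algebra.FinitePresentation Rp R''] :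
    ∃ (C : Type u) (_ : CommRing C) (_ : Algebra R C) (_ : Algebra.FinitePresentation R C)
      (_ : Algebra C R'') (_ : IsScalarTower R C R''),
      IsLocalization (Algebra.algebraMapSubmonoid C M) R'' := by
  classical
  let P₀ := Algebra.Presentation.ofFinitePresentation Rp R''
  obtain ⟨b, hb⟩ := IsLocalization.exist_integer_multiples_of_finset M
    (P₀.finite_coeffs.toFinset)
  have hu : IsUnit (algebraMap R Rp b) := IsLocalization.map_units Rp b
  let P := rescale P₀ (algebraMap R Rp b) hu
  haveI : P.HasCoeffs R := by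
    refine ⟨?_⟩
    intro c hc
    simp only [Algebra.Presentation.coeffs, Set.mem_iUnion, Finset.mem_coe] at hc
    obtain ⟨i, hc⟩ := hc
    rw [MvPolynomial.mem_coeffs_iff] at hc
    obtain ⟨n, hn, rfl⟩ := hc
    have h1 : (P.relation i).coeff n = algebraMap R Rp b * (P₀.relation i).coeff n := by
      change (MvPolynomial.C (algebraMap R Rp b) * P₀.relation i).coeff n = _
      rw [MvPolynomial.coeff_C_mul]
    rw [h1]
    by_cases h0 : (P₀.relation i).coeff n = 0
    · rw [h0, mul_zero]
      exact ⟨0, map_zero _⟩
    · have hmem : (P₀.relation i).coeff n ∈ P₀.finite_coeffs.toFinset := by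
        rw [Set.Finite.mem_toFinset]
        simp only [Algebra.Presentation.coeffs, Set.mem_iUnion, Finset.mem_coe]
        exact ⟨i, MvPolynomial.mem_coeffs_iff.mpr ⟨n, MvPolynomial.mem_support_iff.mpr h0, rfl⟩⟩
      obtain ⟨r, hr⟩ := hb _ hmem
      exact ⟨r, by rw [hr, Algebra.smul_def]⟩
  let C := P.ModelOfHasCoeffs R
  let e : Rp ⊗[R] C ≃ₐ[Rp] R'' := P.tensorModelOfHasCoeffsEquiv R
  obtain ⟨i1, i2, h⟩ := aux M Rp R'' C e
  exact ⟨C, inferInstance, inferInstance, inferInstance, i1, i2, h⟩

end Groth.Agent.Lib.Helper68.SpreadFPD
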