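import Mathlib.Topology.LocallyClosed
import Mathlib.Topology.Constructible
import Mathlib.Data.Fintype.Powerset
import Mathlib.Data.Fintype.Sum
import Mathlib.Data.Fintype.Sigma

set_option autoImplicit false
universe u

namespace Groth.Agent.Lib.Helper68

/-- the atom of the finite family `W` with membership pattern `A` -/
def atom {X : Type u} {J : Type} (W : J → Set X) (A : Finset J) : Set X :=
  {x | ∀ a, a ∈ A ↔ x ∈ W a}

theorem atom_eq {X : Type u} {J : Type} [Fintype J] [DecidableEq J] (W : J → Set X)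
    (A : Finset J) : atom W A = (⋂ a ∈ A, W a) ∩ (⋂ a ∈ Aᶜ, (W a)ᶜ) := by
  ext x
  simp only [atom, Set.mem_setOf_eq, Set.mem_inter_iff, Set.mem_iInter, Finset.mem_compl,
    Set.mem_compl_iff]
  constructor
  · intro h
    exact ⟨fun a ha => (h a).mp ha, fun a ha hx => ha ((h a).mpr hx)⟩
  · rintro ⟨h1, h2⟩ a
    exact ⟨h1 a, fun hx => by_contra (fun ha => h2 a ha hx)⟩

theorem atom_isLocallyClosed {X : Type u} [TopologicalSpace X] {J : Type} [Fintype J]
    [DecidableEq J] (W : J → Set X) (hW : ∀ a, IsOpen (W a)) (A : Finset J) :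
    IsLocallyClosed (atom W A) := by
  rw [atom_eq]
  refine ⟨⋂ a ∈ A, W a, ⋂ a ∈ Aᶜ, (W a)ᶜ, ?_, ?_, rfl⟩
  · exact isOpen_biInter_finset (fun a _ => hW a)
  · exact isClosed_biInter (fun a _ => (hW a).isClosed_compl)

theorem atom_isConstructible {X : Type u} [TopologicalSpace X] {J : Type} [Fintype J]
    [DecidableEq J] (W : J → Set X) (hW : ∀ a, Topology.IsConstructible (W a)) (A : Finset J) :
    Topology.IsConstructible (atom W A) := by
  rw [atom_eq]
  refine Topology.IsConstructible.inter ?_ ?_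
  · exact Topology.IsConstructible.biInter (Finset.finite_toSet A) (fun a _ => hW a)
  · exact Topology.IsConstructible.biInter (Finset.finite_toSet Aᶜ) (fun a _ => (hW a).compl)

theorem atom_cover {X : Type u} {J : Type} [Fintype J] (W : J → Set X) :
    ⋃ A, atom W A = Set.univ := by
  classical
  rw [Set.eq_univ_iff_forall]
  intro x
  refine Set.mem_iUnion.mpr ⟨Finset.univ.filter (fun a => x ∈ W a), ?_⟩
  intro a
  simp

theorem atom_disjoint {X : Type u} {J : Type} (W : J → Set X) (A B : Finset J) (hAB : A ≠ B) :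
    Disjoint (atom W A) (atom W B) := by
  rw [Set.disjoint_left]
  intro x hxA hxB
  apply hAB
  ext a
  rw [hxA a, hxB a]

theorem atom_closure {X : Type u} [TopologicalSpace X] {J : Type} [Fintype J]
    (W : J → Set X) (hW : ∀ a, IsOpen (W a)) (B : Finset J) :
    closure (atom W B) ⊆ ⋃ A ∈ Set.Iic B, atom W A := by
  classical
  have h1 : closure (atom W B) ⊆ ⋂ a ∈ (Bᶜ : Finset J), (W a)ᶜ := by
    apply closure_minimal
    · intro x hx
      simp only [Set.mem_iInter, Finset.mem_compl, Set.mem_compl_iff]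
      intro a ha hxa
      exact ha ((hx a).mpr hxa)
    · exact isClosed_biInter (fun a _ => (hW a).isClosed_compl)
  intro y hy
  have hy' := h1 hy
  simp only [Set.mem_iInter, Finset.mem_compl, Set.mem_compl_iff] at hy'
  refine Set.mem_biUnion (x := Finset.univ.filter (fun a => y ∈ W a)) ?_ ?_
  · rw [Set.mem_Iic]
    intro a ha
    rw [Finset.mem_filter] at ha
    by_contra hab
    exact hy' a hab ha.2
  · intro a
    simp

theorem atom_subset_of_determined {X : Type u} {J : Type} (W : J → Set X) (T : Set X)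
    (hT : ∀ x y, (∀ a, x ∈ W a ↔ y ∈ W a) → x ∈ T → y ∈ T) (A : Finset J)
    (hne : (atom W A ∩ T).Nonempty) : atom W A ⊆ T := by
  obtain ⟨x, hxA, hxT⟩ := hne
  intro y hyA
  apply hT x y _ hxT
  intro a
  rw [← hxA a, ← hyA a]

end Groth.Agent.Lib.Helper68
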