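import Groth.Agent.Lib.Helper68.SuppSS
import Groth.Agent.Lib.Helper68.ExtFreeHK

set_option autoImplicit false
universe u

open CategoryTheory Category Limits Opposite Abelian ModSite

namespace Groth.Agent.Lib.Helper68.SuppFlasque

open Groth.Agent.Lib.Helper42.TensorSheaf Groth.Agent.Lib.Helper42.RestrTensor
open Groth.Agent.Lib.Helper68.HomFree (LZ)

variable {C : Type u} [SmallCategory C] {J : GrothendieckTopology C}

section Prod

variable (U : C) (L : Cᵒᵖ ⥤ Type u)

/-- the presheaf of sets `L × h_U` -/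
def prodU : Cᵒᵖ ⥤ Type u where
  obj W := L.obj W × (W.unop ⟶ U)
  map f := ↾(fun x => (L.map f x.1, f.unop ≫ x.2))
  map_id W := by
    ext x
    · simp
    · simp
  map_comp f g := by
    ext x
    · simp
    · simp

/-- the projection `L × h_U ⟶ L` -/
def fstU : prodU U L ⟶ L where
  app W := ↾(fun x => x.1)

end Prod

section Star

variable {O : Sheaf J CommRingCat.{u}} (U : C) [HasPushOver O U] (L : Cᵒᵖ ⥤ Type u)
  (F : Mod O)

open Groth.Agent.Lib.Helper68.FreeModR (OL UL adjOL adjR shfR el)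

/-- the adjunct of a map out of the free module, evaluated on a generator -/
lemma adjunct_app (g : (OL (ringSh O)).obj L ⟶ F) (W : Cᵒᵖ) (l : L.obj W) :
    el (ringSh O) F (((adjOL (ringSh O)).homEquiv L F g).app W l) =
      (g.val.app W).hom (el (ringSh O) _ (((adjOL (ringSh O)).unit.app L).app W l)) := by
  rw [Adjunction.homEquiv_unit]
  rfl

lemma adjunct_zero_app (W : Cᵒᵖ) (l : L.obj W) :
    el (ringSh O) F (((adjOL (ringSh O)).homEquiv L F 0).app W l) = 0 := by
  rw [adjunct_app]
  rfl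

lemma comp_unit_eq_zero_of_fst (g : (OL (ringSh O)).obj L ⟶ F)
    (h : g ≫ (restrPushOverAdj O U).unit.app F = 0) :
    (OL (ringSh O)).map (fstU U L) ≫ g = 0 := by
  rw [Groth.Agent.Lib.Helper42.LocRestr.comp_unit_eq_zero_iff_restr,
    Groth.Agent.Lib.Helper42.LocRestr.restr_map_eq_zero_iff] at h
  apply ((adjOL (ringSh O)).homEquiv _ F).injective
  rw [Adjunction.homEquiv_naturality_left]
  ext W ⟨l, b⟩
  have h1 := adjunct_app L F g W l
  have h2 := adjunct_zero_app (prodU U L) F W (l, b)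
  have h3 : g.val.app W = 0 := h (Over.mk b)
  rw [h3] at h1
  exact h1.trans h2.symm

lemma comp_unit_eq_zero_of_fst' (g : (OL (ringSh O)).obj L ⟶ F)
    (h : (OL (ringSh O)).map (fstU U L) ≫ g = 0) :
    g ≫ (restrPushOverAdj O U).unit.app F = 0 := by
  rw [Groth.Agent.Lib.Helper42.LocRestr.comp_unit_eq_zero_iff_restr]
  let P₀ : PMod O := (PresheafOfModules.free _).obj L
  let g' : (shf O).obj P₀ ⟶ F := g
  change (restr O U).map g' = 0
  let g₀ : P₀ ⟶ (fgt O).obj F := (adjS O).homEquiv P₀ F g'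
  have hgen : ∀ (W : Cᵒᵖ) (l : L.obj W) (b : W.unop ⟶ U),
      (g₀.app W).hom (ModuleCat.freeMk l) = 0 := by
    intro W l b
    have h1 : ((adjOL (ringSh O)).homEquiv _ F ((OL (ringSh O)).map (fstU U L) ≫ g)).app W (l, b) =
        ((adjOL (ringSh O)).homEquiv (prodU U L) F 0).app W (l, b) := by rw [h]
    rw [Adjunction.homEquiv_naturality_left] at h1
    have h2 := adjunct_zero_app (prodU U L) F W (l, b)
    have h3 : el (ringSh O) F (((adjOL (ringSh O)).homEquiv L F g).app W l) = 0 := h1.trans h2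
    rw [FreeModR.adjOL_eq] at h3
    erw [FreeModR.freeAdj_homEquiv_app] at h3
    exact h3
  have h0 : ∀ W : Over U, g₀.app (op W.left) = 0 := by
    intro W
    apply ModuleCat.free_hom_ext
    intro l
    exact hgen (op W.left) l W.hom
  have h1 : (pushPre O U).map g₀ = 0 := PresheafOfModules.hom_ext (fun W => h0 W.unop)
  have h2 : (pushPre O U).map ((adjS O).unit.app P₀) ≫
      (fgt (O.over U)).map ((restr O U).map g') = 0 := by
    change (pushPre O U).map ((adjS O).unit.app P₀) ≫ (pushPre O U).map ((fgt O).map g') = 0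
    have h4 : (adjS O).unit.app P₀ ≫ (fgt O).map g' = g₀ :=
      (Adjunction.homEquiv_unit (adjS O) P₀ F g').symm
    rw [← Functor.map_comp, h4]
    exact h1
  have h3 := Groth.Agent.Lib.Helper42.LocRestr.eq_zero_of_W_comp _
    (pushPre_W O U _ (W_unit _)) _ h2
  apply SheafOfModules.hom_ext
  exact h3

/-- the vanishing criterion -/
lemma comp_unit_eq_zero_iff_fst (g : (OL (ringSh O)).obj L ⟶ F) :
    g ≫ (restrPushOverAdj O U).unit.app F = 0 ↔ (OL (ringSh O)).map (fstU U L) ≫ g = 0 :=
  ⟨comp_unit_eq_zero_of_fst U L F g, comp_unit_eq_zero_of_fst' U L F g⟩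

end Star

end Groth.Agent.Lib.Helper68.SuppFlasque
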