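import Groth.Agent.Lib.Helper68.SuppFlasqueA
import Groth.Agent.Lib.Helper68.AcycTransfer

set_option autoImplicit false
universe u

open CategoryTheory Category Limits Opposite Abelian ModSite

namespace Groth.Agent.Lib.Helper68.SuppFlasque

open Groth.Agent.Lib.Helper42.TensorSheaf Groth.Agent.Lib.Helper42.RestrTensor
open Groth.Agent.Lib.Helper68.HomFree (LZ)
open Groth.Agent.Lib.Helper68.SuppGlob

variable {C : Type u} [SmallCategory C] {J : GrothendieckTopology C}

/-- `Ext^{p+1}(coker(ℤ[K'] ⟶ ℤ[K]), A) = 0` for a totally acyclic abelian sheaf `A` -/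
theorem subsingleton_ext_cokernel_freeAb {K' K : Sheaf J (Type u)} (f : K' ⟶ K)
    (A : Sheaf J AddCommGrpCat.{u}) (hA : CohCx.IsTotallyAcyclic A) (p : ℕ) :
    Subsingleton (Ext.{u} (cokernel ((ToposFin.freeAb J).map f)) A (p + 1)) := by
  let π := Sheaf.toImage f
  let ι := Sheaf.imageι f
  have hf : π ≫ ι = f := Sheaf.toImage_ι f
  let F := ToposFin.freeAb J
  have hepi : Epi (F.map π) := inferInstance
  have hmono : Mono (F.map ι) := Groth.Agent.S3089.mono_G_map J ι
  let S : ShortComplex (Sheaf J AddCommGrpCat.{u}) :=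
    ShortComplex.mk (F.map ι) (cokernel.π (F.map ι)) (cokernel.condition _)
  have hS : S.ShortExact :=
    { exact := ShortComplex.exact_cokernel (F.map ι)
      mono_f := hmono
      epi_g := inferInstanceAs (Epi (cokernel.π (F.map ι))) }
  have e : cokernel (F.map ι) ≅ cokernel (F.map f) :=
    (cokernelEpiComp (F.map π) (F.map ι)).symm ≪≫
      cokernelIsoOfEq (by rw [← F.map_comp, hf])
  have key : Subsingleton (Ext.{u} S.X₃ A (p + 1)) := by
    refine ⟨fun x y => ?_⟩
    have h0 : ∀ x : Ext.{u} S.X₃ A (p + 1), x = 0 := by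
      intro x
      have h1 : (Ext.mk₀ S.g).comp x (zero_add (p + 1)) = 0 := by
        have hsub : Subsingleton (Ext.{u} (F.obj K) A (p + 1)) := hA K p
        exact hsub.elim _ _
      obtain ⟨x₁, hx₁⟩ := Ext.contravariant_sequence_exact₃ hS A x h1 (n₀ := p) (by lia)
      rw [← hx₁]
      rcases p with _ | p
      · obtain ⟨φ, rfl⟩ := Ext.addEquiv₀.symm.surjective x₁
        obtain ⟨ψ, hψ⟩ := Groth.Agent.S3089.result A hA ι φ
        have hψ' : F.map ι ≫ ψ = φ := hψ
        change hS.extClass.comp (Ext.mk₀ φ) _ = 0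
        rw [← hψ', ← Ext.mk₀_comp_mk₀]
        exact hS.extClass_comp_assoc _
      · have hsub : Subsingleton (Ext.{u} (F.obj (Sheaf.image f)) A (p + 1)) :=
          hA (Sheaf.image f) p
        have h2 : x₁ = 0 := hsub.elim _ _
        rw [h2, Ext.comp_zero]
    rw [h0 x, h0 y]
  exact Groth.Agent.Lib.Helper68.InjModAcyclic.subsingleton_ext_of_iso_left e (p + 1)

/-- the presheaf version -/
theorem subsingleton_ext_cokernel_LZ {L' L : Cᵒᵖ ⥤ Type u} (f : L' ⟶ L)
    (A : Sheaf J AddCommGrpCat.{u}) (hA : CohCx.IsTotallyAcyclic A) (p : ℕ) :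
    Subsingleton (Ext.{u} (cokernel ((LZ (J := J)).map f)) A (p + 1)) := by
  have h1 := isIso_LZ_toSheafify (J := J) L'
  have h2 := isIso_LZ_toSheafify (J := J) L
  let fs := (presheafToSheaf J (Type u)).map f
  have hsq : (LZ (J := J)).map f ≫ LZ.map (toSheafify J L) =
      LZ.map (toSheafify J L') ≫ (ToposFin.freeAb J).map fs := by
    change _ = LZ.map (toSheafify J L') ≫ LZ.map fs.hom
    rw [← Functor.map_comp, ← Functor.map_comp]
    congr 1
    exact toSheafify_naturality J f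
  have e : cokernel ((ToposFin.freeAb J).map fs) ≅ cokernel ((LZ (J := J)).map f) :=
    (cokernel.mapIso _ _ (asIso (LZ.map (toSheafify J L'))) (asIso (LZ.map (toSheafify J L)))
      hsq).symm
  have := subsingleton_ext_cokernel_freeAb fs A hA p
  exact Groth.Agent.Lib.Helper68.InjModAcyclic.subsingleton_ext_of_iso_left e (p + 1)

section E0

variable (O : Sheaf J CommRingCat.{u}) (U : C) [HasPushOver O U] (L : Cᵒᵖ ⥤ Type u)

open Groth.Agent.Lib.Helper42 Groth.Agent.Lib.Helper42.QuotExact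

/-- `ℤ[L]/ℤ[L × h_U]` -/
noncomputable abbrev QL : Sheaf J AddCommGrpCat.{u} := cokernel ((LZ (J := J)).map (fstU U L))

/-- `O[L]/O[L]_U` -/
noncomputable abbrev PL : Mod O := (quotOn O U).obj ((FreeModR.OL (ringSh O)).obj L)

/-- `Hom(O[L]_Z, -) ⟶ Hom(O[L], -)` -/
noncomputable def αL : preadditiveCoyoneda.obj (op (PL O U L)) ⟶
    preadditiveCoyoneda.obj (op ((FreeModR.OL (ringSh O)).obj L)) :=
  preadditiveCoyoneda.map ((quotOnπ O U).app ((FreeModR.OL (ringSh O)).obj L)).op

/-- `Hom(ℤ[L]/ℤ[L × h_U], -) ⟶ Hom(O[L], -)` -/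
noncomputable def βL : SheafOfModules.toSheaf (ringSh O) ⋙
      preadditiveCoyoneda.obj (op (QL (J := J) U L)) ⟶
    preadditiveCoyoneda.obj (op ((FreeModR.OL (ringSh O)).obj L)) :=
  Functor.whiskerLeft (SheafOfModules.toSheaf (ringSh O))
    (preadditiveCoyoneda.map (cokernel.π ((LZ (J := J)).map (fstU U L))).op) ≫
    (ExtFreeHK.freeHomIso O L).inv

lemma αL_app (F : Mod O) (a : PL O U L ⟶ F) :
    (αL O U L).app F a = (quotOnπ O U).app ((FreeModR.OL (ringSh O)).obj L) ≫ a := rfl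

lemma βL_app (F : Mod O) (b : QL (J := J) U L ⟶ toAb F) :
    (βL O U L).app F b =
      FreeModR.e (ringSh O) F L (cokernel.π ((LZ (J := J)).map (fstU U L)) ≫ b) := rfl

lemma e_eq_zero_iff (F : Mod O) (L' : Cᵒᵖ ⥤ Type u)
    (t : (LZ (J := J)).obj L' ⟶ (SheafOfModules.toSheaf (ringSh O)).obj F) :
    FreeModR.e (ringSh O) F L' t = 0 ↔ t = 0 := by
  constructor
  · intro h
    have h1 : (FreeModR.eAdd (ringSh O) F L') t = 0 := h
    rwa [AddEquiv.map_eq_zero_iff] at h1
  · intro h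
    rw [h]
    exact (FreeModR.eAdd (ringSh O) F L').map_zero

lemma mem_range_αL_iff (F : Mod O) (g : (FreeModR.OL (ringSh O)).obj L ⟶ F) :
    (∃ a, (αL O U L).app F a = g) ↔ (FreeModR.OL (ringSh O)).map (fstU U L) ≫ g = 0 := by
  rw [← comp_unit_eq_zero_iff_fst, comp_unit_eq_zero_iff]
  constructor
  · rintro ⟨a, rfl⟩
    rw [αL_app, ← Category.assoc, QuotSectAdj.counit_π, zero_comp]
  · intro h
    exact ⟨QuotSectAdj.quotDesc O U g h, QuotSectAdj.π_quotDesc O U g h⟩

lemma mem_range_βL_iff (F : Mod O) (g : (FreeModR.OL (ringSh O)).obj L ⟶ F) :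
    (∃ b, (βL O U L).app F b = g) ↔ (FreeModR.OL (ringSh O)).map (fstU U L) ≫ g = 0 := by
  obtain ⟨t, rfl⟩ := (FreeModR.e (ringSh O) F L).surjective g
  rw [← FreeModR.e_naturality, e_eq_zero_iff]
  constructor
  · rintro ⟨b, hb⟩
    rw [βL_app] at hb
    have hb' := (FreeModR.e (ringSh O) F L).injective hb
    rw [← hb', ← Category.assoc, cokernel.condition, zero_comp]
  · intro h
    refine ⟨cokernel.desc _ t h, ?_⟩
    rw [βL_app, cokernel.π_desc]

/-- `Hom_O(O[L]_Z, -) ≅ Hom(ℤ[L]/ℤ[L × h_U], -)` -/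
noncomputable def e0 : preadditiveCoyoneda.obj (op (PL O U L)) ≅
    SheafOfModules.toSheaf (ringSh O) ⋙ preadditiveCoyoneda.obj (op (QL (J := J) U L)) :=
  natIsoOfRange (αL O U L) (βL O U L)
    (by
      intro F a a' h
      have h' : (quotOnπ O U).app ((FreeModR.OL (ringSh O)).obj L) ≫ a =
          (quotOnπ O U).app ((FreeModR.OL (ringSh O)).obj L) ≫ a' := h
      exact (cancel_epi _).1 h')
    (by
      intro F b b' h
      have h' : FreeModR.e (ringSh O) F L (cokernel.π ((LZ (J := J)).map (fstU U L)) ≫ b) =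
          FreeModR.e (ringSh O) F L (cokernel.π ((LZ (J := J)).map (fstU U L)) ≫ b') := h
      exact (cancel_epi _).1 ((FreeModR.e (ringSh O) F L).injective h'))
    (by
      intro F
      ext g
      rw [AddMonoidHom.mem_range, AddMonoidHom.mem_range]
      exact (mem_range_αL_iff O U L F g).trans (mem_range_βL_iff O U L F g).symm)

end E0

end Groth.Agent.Lib.Helper68.SuppFlasque
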