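import Groth.Agent.Lib.Helper68.LocGlobExt
import Groth.Agent.Lib.Helper68.FreeModR
import Groth.Agent.Lib.Helper42.QuotTensor
import Groth.Agent.Lib.Helper42.LocRestr
import Groth.Agent.Lib.Helper42.QuotExact
import Groth.Prelude.Def_ToposFin2

set_option autoImplicit false
universe u

open CategoryTheory Category Limits Opposite Abelian ModSite

namespace Groth.Agent.Lib.Helper68.SuppGlob

open Groth.Agent.Lib.Helper42.TensorSheaf Groth.Agent.Lib.Helper42.Flat2
open Groth.Agent.Lib.Helper42.ModSiteLib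
open Groth.Agent.Lib.Helper68.LocGlobExt

variable {C : Type u} [SmallCategory C] {J : GrothendieckTopology C}

section Corep

universe v₁ u₁ w₁
variable {D : Type u₁} [Category.{v₁} D] {F : D ⥤ Type w₁} {X X' : D}

lemma corep_uniqueUpToIso_homEquiv (e : F.CorepresentableBy X) (e' : F.CorepresentableBy X')
    {Y : D} (h : X' ⟶ Y) :
    e.homEquiv ((e.uniqueUpToIso e').hom ≫ h) = e'.homEquiv h := by
  rw [e.homEquiv_comp, e'.homEquiv_eq h]
  congr 1
  change e.homEquiv (e.homEquiv.symm (e'.homEquiv (𝟙 X'))) = _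
  rw [Equiv.apply_symm_apply]

end Corep

variable (O : Sheaf J CommRingCat.{u})

section

variable {O} (M : Mod O)

lemma freePtHomEquiv_iso_comp (g' : ModSite.unit O ⟶ M) :
    freePtHomEquiv O M ((freePtIso O).hom ≫ g') = M.unitHomEquiv g' :=
  corep_uniqueUpToIso_homEquiv (F := SheafOfModules.sectionsFunctor (ringSh O))
    { homEquiv := fun {X} => freePtHomEquiv O X
      homEquiv_comp := fun f h => freePtHomEquiv_comp O h f }
    { homEquiv := fun {X} => X.unitHomEquiv
      homEquiv_comp := fun f h => SheafOfModules.unitHomEquiv_comp_apply h f } g'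

lemma unit_app_eq_zero (g' : ModSite.unit O ⟶ M) (V : Cᵒᵖ)
    (h : (M.unitHomEquiv g').val V = 0) : g'.val.app V = 0 := by
  rw [SheafOfModules.unitHomEquiv_apply_coe] at h
  ext
  exact h

lemma app_eq_zero_iff (g : freePt O ⟶ M) (V : Cᵒᵖ) :
    g.val.app V = 0 ↔ (freePtHomEquiv O M g).val V = 0 := by
  let g' := (freePtIso O).inv ≫ g
  have hg : g = (freePtIso O).hom ≫ g' := by simp [g']
  have hsec : freePtHomEquiv O M g = M.unitHomEquiv g' := by
    rw [hg]
    exact freePtHomEquiv_iso_comp M g'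
  constructor
  · intro h
    rw [hsec, SheafOfModules.unitHomEquiv_apply_coe]
    have h' : g'.val.app V = 0 := by
      change (freePtIso O).inv.val.app V ≫ g.val.app V = 0
      rw [h, comp_zero]
    rw [h']
    rfl
  · intro h
    rw [hsec] at h
    have h' := unit_app_eq_zero M g' V h
    rw [hg]
    change (freePtIso O).hom.val.app V ≫ g'.val.app V = 0
    rw [h', comp_zero]

lemma sections_eq_zero_iff (U : C) (s : M.sections) :
    (∀ W : Over U, s.val (op W.left) = 0) ↔ s.val (op U) = 0 := by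
  constructor
  · intro h
    exact h (Over.mk (𝟙 U))
  · intro h W
    have := PresheafOfModules.sections_property s W.hom.op
    rw [← this]
    erw [h]
    exact map_zero _

variable (U : C) [HasPushOver O U]

lemma comp_unit_eq_zero_iff_sec (g : freePt O ⟶ M) :
    g ≫ (restrPushOverAdj O U).unit.app M = 0 ↔ (freePtHomEquiv O M g).val (op U) = 0 := by
  rw [Groth.Agent.Lib.Helper42.LocRestr.comp_unit_eq_zero_iff_restr,
    Groth.Agent.Lib.Helper42.LocRestr.restr_map_eq_zero_iff, ← sections_eq_zero_iff]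
  exact forall_congr' (fun W => app_eq_zero_iff M g (op W.left))

/-- the unique map from the representable presheaf to the terminal presheaf -/
def cU : yoneda.obj U ⟶ pt (C := C) where
  app _ := ↾(fun _ => PUnit.unit)

variable (O) in
/-- `O[h_U] ⟶ O[*]` -/
noncomputable def shfC : (shf O).obj (pfree O U) ⟶ freePt O :=
  (shf O).map ((PresheafOfModules.free _).map (cU U))

omit [HasPushOver O U] in
lemma pfreeHomEquiv_shfC_comp (g : freePt O ⟶ M) :
    pfreeHomEquiv O U M (shfC O U ≫ g) = (freePtHomEquiv O M g).val (op U) := by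
  unfold pfreeHomEquiv freePtHomEquiv shfC
  simp only [Equiv.trans_apply]
  rw [Adjunction.homEquiv_naturality_left]
  change yonedaEquiv ((PresheafOfModules.freeAdjunction _).homEquiv _ _
    ((PresheafOfModules.free _).map (cU U) ≫ (adjS O).homEquiv _ M g)) = _
  rw [Adjunction.homEquiv_naturality_left]
  rfl

omit [HasPushOver O U] in
lemma pfreeHomEquiv_zero : pfreeHomEquiv O U M 0 = 0 := by
  have h := pfreeHomEquiv_comp O U (𝟙 ((shf O).obj (pfree O U))) (0 : _ ⟶ M)
  rw [comp_zero] at h
  rw [h]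
  rfl

omit [HasPushOver O U] in
lemma shfC_comp_eq_zero_iff (g : freePt O ⟶ M) :
    shfC O U ≫ g = 0 ↔ (freePtHomEquiv O M g).val (op U) = 0 := by
  rw [← pfreeHomEquiv_shfC_comp]
  constructor
  · intro h
    rw [h]
    exact pfreeHomEquiv_zero M U
  · intro h
    apply (pfreeHomEquiv O U M).injective
    rw [h]
    exact (pfreeHomEquiv_zero M U).symm

/-- the module-level criterion -/
lemma comp_unit_eq_zero_iff_shfC (g : freePt O ⟶ M) :
    g ≫ (restrPushOverAdj O U).unit.app M = 0 ↔ shfC O U ≫ g = 0 := by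
  rw [comp_unit_eq_zero_iff_sec, shfC_comp_eq_zero_iff]

open Groth.Agent.Lib.Helper68.HomFree (LZ)
open Groth.Agent.Lib.Helper68.InjModAcyclic (constIso termSh)

/-- the module map attached to a global section of the underlying abelian sheaf -/
noncomputable def gOf (t : Zc (J := J) ⟶ toAb M) : freePt O ⟶ M :=
  FreeModR.e (ringSh O) M pt ((constIso (J := J)).hom ≫ t)

omit [HasPushOver O U] in
lemma gOf_comp {M' : Mod O} (t : Zc (J := J) ⟶ toAb M) (f : M ⟶ M') :
    gOf M' (t ≫ (SheafOfModules.toSheaf (ringSh O)).map f) = gOf M t ≫ f := by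
  unfold gOf
  rw [← Category.assoc, FreeModR.e_naturality_right]
  rfl

omit [HasPushOver O U] in
lemma gOf_eq_zero_iff (t : Zc (J := J) ⟶ toAb M) : gOf M t = 0 ↔ t = 0 := by
  unfold gOf
  constructor
  · intro h
    have h1 : (FreeModR.eAdd (ringSh O) M pt) ((constIso (J := J)).hom ≫ t) = 0 := h
    rw [AddEquiv.map_eq_zero_iff] at h1
    rw [← cancel_epi (constIso (J := J)).hom, comp_zero]
    exact h1
  · intro h
    rw [h, comp_zero]
    exact (FreeModR.eAdd (ringSh O) M pt).map_zero

lemma comp_toAb_unit_eq_zero_iff (t : Zc (J := J) ⟶ toAb M) :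
    t ≫ (SheafOfModules.toSheaf (ringSh O)).map ((restrPushOverAdj O U).unit.app M) = 0 ↔
      LZ.map (cU U) ≫ (constIso (J := J)).hom ≫ t = 0 := by
  rw [← gOf_eq_zero_iff, gOf_comp, comp_unit_eq_zero_iff_shfC]
  have h : shfC O U ≫ gOf M t =
      FreeModR.e (ringSh O) M (yoneda.obj U) (LZ.map (cU U) ≫ (constIso (J := J)).hom ≫ t) :=
    (FreeModR.e_naturality (ringSh O) M (cU U) ((constIso (J := J)).hom ≫ t)).symm
  rw [h]
  constructor
  · intro h1
    have h2 : (FreeModR.eAdd (ringSh O) M (yoneda.obj U))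
        (LZ.map (cU U) ≫ (constIso (J := J)).hom ≫ t) = 0 := h1
    rwa [AddEquiv.map_eq_zero_iff] at h2
  · intro h1
    rw [h1]
    exact (FreeModR.eAdd (ringSh O) M (yoneda.obj U)).map_zero

end

section QuotZ

open Groth.Agent.Lib.Helper68.HomFree (LZ)
open Groth.Agent.Lib.Helper68.InjModAcyclic (constIso termSh)

/-- the terminal sheaf of sets is terminal -/
def termShIsTerminal : IsTerminal (termSh (J := J)) :=
  IsTerminal.ofUniqueHom (fun F => ⟨{ app := fun _ => ↾(fun _ => PUnit.unit) }⟩)
    (fun F m => by ext; rfl)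

noncomputable def topIso : (⊤_ (Sheaf J (Type u))) ≅ termSh (J := J) :=
  terminalIsTerminal.uniqueUpToIso termShIsTerminal

/-- `ℤ[⊤] ≅ ℤ` -/
noncomputable def cIso : (ToposFin.freeAb J).obj (⊤_ (Sheaf J (Type u))) ≅ Zc (J := J) :=
  (ToposFin.freeAb J).mapIso topIso ≪≫ constIso

variable (J) in
/-- the projection `ℤ ⟶ ℤ/ℤ_U` -/
noncomputable def πZ (U : C) : Zc (J := J) ⟶ ToposFin.quotZ (ToposFin.eps J U) :=
  cIso.inv ≫ cokernel.π _

instance (U : C) : Epi (πZ J U) := epi_comp _ _

lemma isIso_LZ_toSheafify (P : Cᵒᵖ ⥤ Type u) : IsIso ((LZ (J := J)).map (toSheafify J P)) := by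
  have hW : J.W (A := AddCommGrpCat.{u})
      (Functor.whiskerRight (toSheafify J P) AddCommGrpCat.free.{u}) := by
    intro Z hZ
    have h1 := (AddCommGrpCat.adj.{u}.whiskerRight Cᵒᵖ).map_comp_bijective_iff (toSheafify J P) Z
    refine h1.2 ?_
    exact (J.W_toSheafify P) (Z ⋙ forget AddCommGrpCat.{u})
      ((Presheaf.isSheaf_iff_isSheaf_forget J Z (forget AddCommGrpCat.{u})).1 hZ)
  exact (J.W_iff _).1 hW

lemma key_eq (U : C) :
    (LZ (J := J)).map (toSheafify J (yoneda.obj U)) ≫
        (ToposFin.freeAb J).map (terminal.from (ToposFin.eps J U)) ≫ (cIso (J := J)).hom =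
      LZ.map (cU U) ≫ (constIso (J := J)).hom := by
  let a : yoneda.obj U ⟶ pt (C := C) := toSheafify J (yoneda.obj U) ≫
    (terminal.from (ToposFin.eps J U)).hom ≫ (topIso (J := J)).hom.hom
  have h : a = cU U := by
    ext V x
    rfl
  have h2 : (LZ (J := J)).map a = (LZ (J := J)).map (toSheafify J (yoneda.obj U)) ≫
      (ToposFin.freeAb J).map (terminal.from (ToposFin.eps J U)) ≫
      (ToposFin.freeAb J).map (topIso (J := J)).hom :=
    ((LZ (J := J)).map_comp _ _).trans (congrArg (fun x => _ ≫ x) ((LZ (J := J)).map_comp _ _))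
  calc (LZ (J := J)).map (toSheafify J (yoneda.obj U)) ≫
        (ToposFin.freeAb J).map (terminal.from (ToposFin.eps J U)) ≫ (cIso (J := J)).hom
      = ((LZ (J := J)).map (toSheafify J (yoneda.obj U)) ≫
          (ToposFin.freeAb J).map (terminal.from (ToposFin.eps J U)) ≫
          (ToposFin.freeAb J).map (topIso (J := J)).hom) ≫ (constIso (J := J)).hom := by
        simp only [cIso, Iso.trans_hom, Functor.mapIso_hom, Category.assoc]
    _ = (LZ (J := J)).map a ≫ (constIso (J := J)).hom :=
        congrArg (fun x => x ≫ (constIso (J := J)).hom) h2.symm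
    _ = LZ.map (cU U) ≫ (constIso (J := J)).hom := by rw [h]

lemma exists_πZ_comp_iff (U : C) (A : Sheaf J AddCommGrpCat.{u}) (t : Zc (J := J) ⟶ A) :
    (∃ b : ToposFin.quotZ (ToposFin.eps J U) ⟶ A, πZ J U ≫ b = t) ↔
      LZ.map (cU U) ≫ (constIso (J := J)).hom ≫ t = 0 := by
  have hiso := isIso_LZ_toSheafify (J := J) (yoneda.obj U)
  have hk : LZ.map (cU U) ≫ (constIso (J := J)).hom ≫ t =
      (LZ (J := J)).map (toSheafify J (yoneda.obj U)) ≫
        (ToposFin.freeAb J).map (terminal.from (ToposFin.eps J U)) ≫ (cIso (J := J)).hom ≫ t := by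
    have := congrArg (fun x => x ≫ t) (key_eq (J := J) U)
    simpa only [Category.assoc] using this.symm
  rw [hk]
  constructor
  · rintro ⟨b, rfl⟩
    unfold πZ
    simp
  · intro h
    have h' : (ToposFin.freeAb J).map (terminal.from (ToposFin.eps J U)) ≫
        ((cIso (J := J)).hom ≫ t) = 0 := by
      rw [← cancel_epi ((LZ (J := J)).map (toSheafify J (yoneda.obj U))), comp_zero]
      exact h
    refine ⟨cokernel.desc _ ((cIso (J := J)).hom ≫ t) h', ?_⟩
    unfold πZ
    simp

end QuotZ

section Range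

variable {A B S : AddCommGrpCat.{u}}

/-- two subgroups (given by injective maps) with the same range are isomorphic -/
noncomputable def isoOfRange (α : A ⟶ S) (β : B ⟶ S) (hα : Function.Injective α.hom)
    (hβ : Function.Injective β.hom) (h : α.hom.range = β.hom.range) : A ≅ B :=
  ((AddMonoidHom.ofInjective hα).trans
    ((AddEquiv.addSubgroupCongr h).trans (AddMonoidHom.ofInjective hβ).symm)).toAddCommGrpIso

lemma isoOfRange_hom_comp (α : A ⟶ S) (β : B ⟶ S) (hα : Function.Injective α.hom)
    (hβ : Function.Injective β.hom) (h : α.hom.range = β.hom.range) :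
    (isoOfRange α β hα hβ h).hom ≫ β = α := by
  ext a
  exact AddMonoidHom.apply_ofInjective_symm hβ _

universe v₁ u₁

/-- two subfunctors with the same ranges are isomorphic -/
noncomputable def natIsoOfRange {D : Type u₁} [Category.{v₁} D] {A B S : D ⥤ AddCommGrpCat.{u}}
    (α : A ⟶ S) (β : B ⟶ S)
    (hα : ∀ X, Function.Injective (α.app X).hom) (hβ : ∀ X, Function.Injective (β.app X).hom)
    (h : ∀ X, (α.app X).hom.range = (β.app X).hom.range) : A ≅ B :=
  NatIso.ofComponents (fun X => isoOfRange (α.app X) (β.app X) (hα X) (hβ X) (h X)) (by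
    intro X Y f
    have : Mono (β.app Y) := (AddCommGrpCat.mono_iff_injective _).2 (hβ Y)
    rw [← cancel_mono (β.app Y), Category.assoc, Category.assoc, isoOfRange_hom_comp,
      β.naturality, ← Category.assoc, isoOfRange_hom_comp, α.naturality])

end Range

section Zero

variable (O : Sheaf J CommRingCat.{u}) (U : C) [HasPushOver O U]

lemma exists_comp_ι_iff (M : Mod O) (t : Zc (J := J) ⟶ toAb M) :
    (∃ a : Zc (J := J) ⟶ toAb ((sectOn O U).obj M),
        a ≫ (SheafOfModules.toSheaf (ringSh O)).map ((sectOnι O U).app M) = t) ↔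
      t ≫ (SheafOfModules.toSheaf (ringSh O)).map ((restrPushOverAdj O U).unit.app M) = 0 := by
  constructor
  · rintro ⟨a, rfl⟩
    rw [Category.assoc, ← Functor.map_comp, Groth.Agent.Lib.Helper42.QuotSectAdj.ι_unit,
      Functor.map_zero, comp_zero]
  · intro h
    let c := KernelFork.ofι (kernel.ι ((restrPushOverAdj O U).unit.app M)) (kernel.condition _)
    have hc : IsLimit (c.map (SheafOfModules.toSheaf (ringSh O))) :=
      KernelFork.mapIsLimit c (kernelIsKernel _) _
    obtain ⟨l, hl⟩ := KernelFork.IsLimit.lift' hc t h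
    exact ⟨l, hl⟩

/-- the inclusion of sections with support into all sections -/
noncomputable def αNat : sectOn O U ⋙ S O ⟶ S O :=
  Functor.whiskerRight (sectOnι O U) (S O) ≫ (Functor.leftUnitor _).hom

/-- the inclusion of `Hom(ℤ/ℤ_U, -)` into global sections -/
noncomputable def βNat :
    SheafOfModules.toSheaf (ringSh O) ⋙
        preadditiveCoyoneda.obj (op (ToposFin.quotZ (ToposFin.eps J U))) ⟶ S O :=
  Functor.whiskerLeft (SheafOfModules.toSheaf (ringSh O)) (preadditiveCoyoneda.map (πZ J U).op)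

/-- `Γ(C, Γ_Z(M)) ≅ Hom(ℤ/ℤ_U, M)`, naturally in `M` -/
noncomputable def zeroIso :
    sectOn O U ⋙ S O ≅ SheafOfModules.toSheaf (ringSh O) ⋙
        preadditiveCoyoneda.obj (op (ToposFin.quotZ (ToposFin.eps J U))) :=
  natIsoOfRange (αNat O U) (βNat O U)
    (by
      intro M a a' h
      have hm : Mono ((SheafOfModules.toSheaf (ringSh O)).map ((sectOnι O U).app M)) :=
        inferInstance
      have h' : a ≫ (SheafOfModules.toSheaf (ringSh O)).map ((sectOnι O U).app M) =
          a' ≫ (SheafOfModules.toSheaf (ringSh O)).map ((sectOnι O U).app M) := h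
      exact (cancel_mono _).1 h')
    (by
      intro M b b' h
      have h' : πZ J U ≫ b = πZ J U ≫ b' := h
      exact (cancel_epi _).1 h')
    (by
      intro M
      ext t
      rw [AddMonoidHom.mem_range, AddMonoidHom.mem_range]
      exact ((exists_comp_ι_iff O U M t).trans (comp_toAb_unit_eq_zero_iff M U t)).trans
        (exists_πZ_comp_iff U (toAb M) t).symm)

end Zero

end Groth.Agent.Lib.Helper68.SuppGlob
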