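import Groth.Agent.Lib.Helper68.LocGlobExt
import Groth.Agent.S3089
import Groth.Prelude.Def_ToposFin2
import Mathlib.CategoryTheory.Sites.Subsheaf

set_option autoImplicit false
universe u

open CategoryTheory Category Limits Opposite Abelian

namespace Groth.Agent.Lib.Helper68.SuppGlob

variable {C : Type u} [SmallCategory C] {J : GrothendieckTopology C}

instance : (ToposFin.freeAb J).IsLeftAdjoint :=
  (Sheaf.adjunction J AddCommGrpCat.adj.{u}).isLeftAdjoint

/-- `Ext^{p+1}(ℤ/ℤ_K, A) = 0` for a totally acyclic abelian sheaf `A` -/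
theorem subsingleton_ext_quotZ (K : Sheaf J (Type u)) (A : Sheaf J AddCommGrpCat.{u})
    (hA : CohCx.IsTotallyAcyclic A) (p : ℕ) :
    Subsingleton (Ext.{u} (ToposFin.quotZ K) A (p + 1)) := by
  let f := terminal.from K
  let π := Sheaf.toImage f
  let ι := Sheaf.imageι f
  have hf : π ≫ ι = f := Sheaf.toImage_ι f
  let F := ToposFin.freeAb J
  have hepi : Epi (F.map π) := inferInstance
  have hmono : Mono (F.map ι) := Groth.Agent.S3089.mono_G_map J ι
  let S : ShortComplex (Sheaf J AddCommGrpCat.{u}) :=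
    ShortComplex.mk (F.map ι) (cokernel.π (F.map ι)) (cokernel.condition _)
  have hS : S.ShortExact :=
    { exact := ShortComplex.exact_cokernel (F.map ι)
      mono_f := hmono
      epi_g := inferInstanceAs (Epi (cokernel.π (F.map ι))) }
  have e : cokernel (F.map ι) ≅ ToposFin.quotZ K :=
    (cokernelEpiComp (F.map π) (F.map ι)).symm ≪≫
      cokernelIsoOfEq (by rw [← F.map_comp, hf])
  have key : Subsingleton (Ext.{u} S.X₃ A (p + 1)) := by
    refine ⟨fun x y => ?_⟩
    have h0 : ∀ x : Ext.{u} S.X₃ A (p + 1), x = 0 := by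
      intro x
      have h1 : (Ext.mk₀ S.g).comp x (zero_add (p + 1)) = 0 := by
        have hsub : Subsingleton (Ext.{u} (F.obj (⊤_ (Sheaf J (Type u)))) A (p + 1)) :=
          hA (⊤_ (Sheaf J (Type u))) p
        exact hsub.elim _ _
      obtain ⟨x₁, hx₁⟩ := Ext.contravariant_sequence_exact₃ hS A x h1 (n₀ := p) (by lia)
      rw [← hx₁]
      rcases p with _ | p
      · obtain ⟨φ, rfl⟩ := Ext.addEquiv₀.symm.surjective x₁
        obtain ⟨ψ, hψ⟩ := Groth.Agent.S3089.result A hA ι φ
        have hψ' : F.map ι ≫ ψ = φ := hψ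
        change hS.extClass.comp (Ext.mk₀ φ) _ = 0
        rw [← hψ', ← Ext.mk₀_comp_mk₀]
        exact hS.extClass_comp_assoc _
      · have hsub : Subsingleton (Ext.{u} (F.obj (Sheaf.image f)) A (p + 1)) :=
          hA (Sheaf.image f) p
        have h2 : x₁ = 0 := hsub.elim _ _
        rw [h2, Ext.comp_zero]
    rw [h0 x, h0 y]
  exact Groth.Agent.Lib.Helper68.InjModAcyclic.subsingleton_ext_of_iso_left e (p + 1)

end Groth.Agent.Lib.Helper68.SuppGlob
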