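import Groth.Agent.Lib.Helper68.SuppGlob
import Groth.Agent.Lib.Helper68.SuppGlobA
import Groth.Prelude.Def_ExtSupp

/-! Spectral sequences for cohomology with supports on a ringed site. -/

set_option autoImplicit false
universe u

open CategoryTheory Category Limits Opposite Abelian ModSite
open scoped ZeroObject

namespace Groth.Agent.Lib.Helper68.SuppSS

open Groth.Agent.Lib.Helper42.TensorSheaf Groth.Agent.Lib.Helper42.TensorColim
open Groth.Agent.Lib.Helper42.DeltaFun Groth.Agent.Lib.Helper42.DeltaExt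
open Groth.Agent.Lib.Helper42.DeltaRDer
open Groth.Agent.Lib.Helper68.InjModAcyclic
open Groth.Agent.Lib.Helper68.LocGlobExt Groth.Agent.Lib.Helper68.SuppGlob

variable {C : Type u} [SmallCategory C] {J : GrothendieckTopology C}
  (O : Sheaf J CommRingCat.{u}) (U : C) [HasPushOver O U]

instance : (sectOn O U ⋙ S O).Additive := inferInstance

instance : PreservesFiniteLimits (sectOn O U ⋙ S O) :=
  haveI := Groth.Agent.Lib.Helper42.QuotSectAdj.sectOn_preservesFiniteLimits O U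
  comp_preservesFiniteLimits _ _

variable [HasInjectiveResolutions (Mod O)]

/-- `R^n (Γ(C, Γ_Z -)) ≅ H^n_Z(C, -)`, the derived functors being taken on `O`-modules -/
noncomputable def RΓZIso (n : ℕ) :
    (sectOn O U ⋙ S O).rightDerived n ≅
      SheafOfModules.toSheaf (ringSh O) ⋙
        extFunctorObj.{u} (ToposFin.quotZ (ToposFin.eps J U)) n :=
  haveI : EnoughInjectives (Mod O) :=
    Groth.Agent.Lib.Helper68.GSSDer.enoughInjectives_of_hasInjectiveResolutions
  DeltaFunctor.isoOfZero (A := ofRightDerived (sectOn O U ⋙ S O))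
    (B := (ofExt (ToposFin.quotZ (ToposFin.eps J U))).precomp
      (SheafOfModules.toSheaf (ringSh O)))
    (ofRightDerived_eff _)
    (by
      intro I _ n
      have := subsingleton_ext_quotZ (ToposFin.eps J U) (toAb I)
        (isTotallyAcyclic_toAb_of_injective O I) n
      exact AddCommGrpCat.isZero_of_subsingleton
        (AddCommGrpCat.of (Ext.{u} (ToposFin.quotZ (ToposFin.eps J U)) (toAb I) (n + 1))))
    ((sectOn O U ⋙ S O).rightDerivedZeroIsoSelf ≪≫ zeroIso O U ≪≫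
      Functor.isoWhiskerLeft (SheafOfModules.toSheaf (ringSh O))
        (ext0Iso (ToposFin.quotZ (ToposFin.eps J U)))) n

/-- `H^p(C, ℋ^q_Z(M)) ⇒ H^{p+q}_Z(C, M)` -/
theorem ss_HC_HZsh (M : Mod O) :
    ∃ (E : E₂CohomologicalSpectralSequence AddCommGrpCat.{u})
      (a : SpSeq.Abutment E (fun n : ℤ =>
        if 0 ≤ n then AddCommGrpCat.of (ModSite.HZ U M n.toNat)
        else AddCommGrpCat.of PUnit.{u + 1})),
      (∀ n : ℤ, a.IsFinite n) ∧ SpSeq.IsBounded E ∧
      ∀ p q : ℤ, Nonempty ((E.page 2 le_rfl).X (p, q) ≅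
        (if 0 ≤ p ∧ 0 ≤ q then
          AddCommGrpCat.of (ModSite.HC O ((ModSite.HZsh O U q.toNat).obj M) p.toNat)
          else AddCommGrpCat.of PUnit.{u + 1})) := by
  have hT : ∀ Q : Mod O, Injective Q → ∀ q : ℕ, 0 < q →
      IsZero (((S O).rightDerived q).obj ((sectOn O U).obj Q)) := by
    intro Q hQ q hq
    obtain ⟨q, rfl⟩ : ∃ q', q = q' + 1 := ⟨q - 1, by lia⟩
    haveI := Groth.Agent.Lib.Helper42.QuotExact.sectOn_injective O U Q
    exact Functor.isZero_rightDerived_obj_injective_succ (S O) q _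
  obtain ⟨E, a, ha, hb, hE⟩ := Groth.Agent.Lib.Helper68.GSSDer.exists_spectralSequence_of_iso
    (sectOn O U) (S O) hT M
    (fun n : ℤ => if 0 ≤ n then AddCommGrpCat.of (ModSite.HZ U M n.toNat)
      else AddCommGrpCat.of PUnit.{u + 1})
    (fun n hn => (RΓZIso O U n.toNat).app M ≪≫ eqToIso (by rw [if_pos hn]; rfl))
    (fun n hn => by
      rw [if_neg (by lia)]
      exact AddCommGrpCat.isZero_of_subsingleton _)
  refine ⟨E, a, ha, hb, fun p q => ?_⟩
  obtain ⟨e⟩ := hE p q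
  by_cases hpq : 0 ≤ p ∧ 0 ≤ q
  · rw [if_pos hpq] at e ⊢
    exact ⟨e ≪≫ (RSIso O p.toNat).app ((ModSite.HZsh O U q.toNat).obj M)⟩
  · rw [if_neg hpq] at e ⊢
    exact ⟨e ≪≫ (isZero_zero _).iso
      (AddCommGrpCat.isZero_of_subsingleton (AddCommGrpCat.of PUnit.{u + 1}))⟩

section ExtSS

variable {O}
variable (M : Mod O) [HasSheafHom M]

/-- `Γ(C, Γ_Z ℋom(M, X)) ≃ Hom(M/M_U, X)` -/
noncomputable def θZ [HasSheafHom ((quotOn O U).obj M)] (X : Mod O) :
    (sheafHom M ⋙ sectOn O U ⋙ S O).obj X ≃+ ((quotOn O U).obj M ⟶ X) :=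
  (((S O).mapIso
    ((Groth.Agent.Lib.Helper42.QuotTensor.sectHomQuotIso U M).app X)).addCommGroupIsoToAddEquiv).trans
    (θ O ((quotOn O U).obj M) X)

lemma θZ_naturality [HasSheafHom ((quotOn O U).obj M)] {X X' : Mod O} (f : X ⟶ X')
    (x : (sheafHom M ⋙ sectOn O U ⋙ S O).obj X) :
    θZ U M X' ((sheafHom M ⋙ sectOn O U ⋙ S O).map f x) = θZ U M X x ≫ f := by
  have h := θ_naturality O ((quotOn O U).obj M) f
    ((S O).map ((Groth.Agent.Lib.Helper42.QuotTensor.sectHomQuotIso U M).hom.app X) x)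
  have hn := (Groth.Agent.Lib.Helper42.QuotTensor.sectHomQuotIso U M).hom.naturality f
  have h2 := congrArg (fun φ => ((S O).map φ) x) hn
  simp only [Functor.map_comp] at h2
  change θ O ((quotOn O U).obj M) X'
      ((S O).map ((Groth.Agent.Lib.Helper42.QuotTensor.sectHomQuotIso U M).hom.app X')
        ((S O).map ((sheafHom M ⋙ sectOn O U).map f) x)) =
    θ O ((quotOn O U).obj M) X
      ((S O).map ((Groth.Agent.Lib.Helper42.QuotTensor.sectHomQuotIso U M).hom.app X) x) ≫ f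
  rw [← h]
  exact congrArg (θ O ((quotOn O U).obj M) X') h2

instance : PreservesFiniteLimits (sheafHom M ⋙ sectOn O U ⋙ S O) := by
  haveI : (sheafHom M).IsRightAdjoint := (sheafHomAdj M).isRightAdjoint
  haveI : PreservesFiniteLimits (sheafHom M) := inferInstance
  exact comp_preservesFiniteLimits _ _

/-- `H^p_Z(C, ℰxt^q(M, N)) ⇒ Ext^{p+q}_Z(M, N)` -/
theorem ss_HZ_extSh [HasExt.{u} (Mod O)] (N : Mod O) :
    ∃ (E : E₂CohomologicalSpectralSequence AddCommGrpCat.{u})
      (a : SpSeq.Abutment E (fun n : ℤ =>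
        if 0 ≤ n then AddCommGrpCat.of (ExtSupp.ExtZ U M N n.toNat)
        else AddCommGrpCat.of PUnit.{u + 1})),
      (∀ n, a.IsFinite n) ∧ SpSeq.IsBounded E ∧
      ∀ p q : ℤ, Nonempty ((E.page 2 le_rfl).X (p, q) ≅
        (if 0 ≤ p ∧ 0 ≤ q then
          AddCommGrpCat.of (ModSite.HZ U ((ModSite.extSh M q.toNat).obj N) p.toNat)
         else AddCommGrpCat.of PUnit.{u + 1})) := by
  haveI : HasSheafHom ((quotOn O U).obj M) := hasSheafHom O ((quotOn O U).obj M)
  have hT : ∀ Q : Mod O, Injective Q → ∀ q : ℕ, 0 < q →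
      IsZero (((sectOn O U ⋙ S O).rightDerived q).obj ((sheafHom M).obj Q)) := by
    intro Q hQ q hq
    obtain ⟨q, rfl⟩ : ∃ q', q = q' + 1 := ⟨q - 1, by lia⟩
    refine IsZero.of_iso ?_ ((RΓZIso O U (q + 1)).app ((sheafHom M).obj Q))
    have := subsingleton_ext_quotZ (ToposFin.eps J U) (toAb ((sheafHom M).obj Q))
      (Groth.Agent.Lib.Helper68.SheafHomFlasque.isTotallyAcyclic_sheafHom O M Q) q
    exact AddCommGrpCat.isZero_of_subsingleton
      (AddCommGrpCat.of (Ext.{u} (ToposFin.quotZ (ToposFin.eps J U))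
        (toAb ((sheafHom M).obj Q)) (q + 1)))
  obtain ⟨E, a, ha, hb, hE⟩ := Groth.Agent.Lib.Helper68.GSSDer.exists_spectralSequence_of_iso
    (sheafHom M) (sectOn O U ⋙ S O) hT N
    (fun n : ℤ => if 0 ≤ n then AddCommGrpCat.of (ExtSupp.ExtZ U M N n.toNat)
      else AddCommGrpCat.of PUnit.{u + 1})
    (fun n hn => (ExtRD.nonempty_iso (sheafHom M ⋙ sectOn O U ⋙ S O) ((quotOn O U).obj M)
      (θZ U M) (fun f x => θZ_naturality U M f x) N n.toNat).some ≪≫
        eqToIso (by rw [if_pos hn]))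
    (fun n hn => by
      rw [if_neg (by lia)]
      exact AddCommGrpCat.isZero_of_subsingleton _)
  refine ⟨E, a, ha, hb, fun p q => ?_⟩
  obtain ⟨e⟩ := hE p q
  by_cases hpq : 0 ≤ p ∧ 0 ≤ q
  · rw [if_pos hpq] at e ⊢
    exact ⟨e ≪≫ (RΓZIso O U p.toNat).app ((ModSite.extSh M q.toNat).obj N)⟩
  · rw [if_neg hpq] at e ⊢
    exact ⟨e ≪≫ (isZero_zero _).iso
      (AddCommGrpCat.isZero_of_subsingleton (AddCommGrpCat.of PUnit.{u + 1}))⟩

end ExtSS

end Groth.Agent.Lib.Helper68.SuppSS
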