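import Groth.Agent.Lib.Helper68.ColimLoc

/-! Global sections of abelian sheaves on a topological space `X` commute with directed colimits,
when every open cover of `X` can be refined by a finite open cover with quasi-compact pairwise
intersections. -/

set_option autoImplicit false
universe u

open CategoryTheory Category Limits Opposite TopologicalSpace

namespace Groth.Agent.Lib.Helper68.TopColim

open Groth.Agent.Lib.Helper68.ColimLoc

variable {X : TopCat.{u}}

local notation "JX" => Opens.grothendieckTopology X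

/-- sections -/
abbrev sec (F : Sheaf (Opens.grothendieckTopology X) AddCommGrpCat.{u}) (U : Opens X) : Type u :=
  F.obj.obj (op U)

/-- restriction -/
def res (F : Sheaf (Opens.grothendieckTopology X) AddCommGrpCat.{u}) {U V : Opens X} (h : U ≤ V)
    (s : sec F V) : sec F U := F.obj.map (homOfLE h).op s

lemma res_res (F : Sheaf (Opens.grothendieckTopology X) AddCommGrpCat.{u}) {U V W : Opens X}
    (h : U ≤ V) (h' : V ≤ W) (s : sec F W) : res F h (res F h' s) = res F (h.trans h') s := by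
  unfold res
  rw [← ConcreteCategory.comp_apply, ← F.obj.map_comp]
  rfl

lemma res_self (F : Sheaf (Opens.grothendieckTopology X) AddCommGrpCat.{u}) {U : Opens X}
    (h : U ≤ U) (s : sec F U) : res F h s = s := by
  unfold res
  have : (homOfLE h).op = 𝟙 (op U) := rfl
  rw [this, F.obj.map_id]
  rfl

lemma map_eq_res (F : Sheaf (Opens.grothendieckTopology X) AddCommGrpCat.{u}) {U V : Opens X}
    (g : U ⟶ V) (s : sec F V) : F.obj.map g.op s = res F g.le s := rfl

lemma hom_res {F G : Sheaf (Opens.grothendieckTopology X) AddCommGrpCat.{u}} (φ : F ⟶ G)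
    {U V : Opens X} (h : U ≤ V) (s : sec F V) :
    φ.hom.app (op U) (res F h s) = res G h (φ.hom.app (op V) s) :=
  NatTrans.naturality_apply φ.hom (homOfLE h).op s

/-- separatedness -/
lemma eq_of_res_eq (F : Sheaf (Opens.grothendieckTopology X) AddCommGrpCat.{u}) {ι : Type*}
    (U : ι → Opens X) (V : Opens X) (hU : ∀ a, U a ≤ V) (hcover : V ≤ iSup U) (s t : sec F V)
    (h : ∀ a, res F (hU a) s = res F (hU a) t) : s = t := by
  let F' : TopCat.Sheaf AddCommGrpCat.{u} X := F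
  exact TopCat.Sheaf.eq_of_locally_eq' F' U V (fun a => homOfLE (hU a)) hcover s t h

/-- gluing -/
lemma exists_glue (F : Sheaf (Opens.grothendieckTopology X) AddCommGrpCat.{u}) {ι : Type*}
    (U : ι → Opens X) (V : Opens X) (hU : ∀ a, U a ≤ V) (hcover : V ≤ iSup U)
    (sf : ∀ a, sec F (U a))
    (h : ∀ a b, res F (inf_le_left : U a ⊓ U b ≤ U a) (sf a) =
      res F (inf_le_right : U a ⊓ U b ≤ U b) (sf b)) :
    ∃ s : sec F V, ∀ a, res F (hU a) s = sf a := by
  let F' : TopCat.Sheaf AddCommGrpCat.{u} X := F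
  obtain ⟨s, hs, -⟩ := TopCat.Sheaf.existsUnique_gluing' F' U V (fun a => homOfLE (hU a)) hcover sf
    (fun a b => h a b)
  exact ⟨s, hs⟩


/-! ### Directed systems -/

section Directed

variable {I : Type u} [Preorder I]
  (E : I ⥤ Sheaf (Opens.grothendieckTopology X) AddCommGrpCat.{u})

/-- transition maps on sections -/
def tr {i k : I} (h : i ≤ k) (U : Opens X) (s : sec (E.obj i) U) : sec (E.obj k) U :=
  (E.map (homOfLE h)).hom.app (op U) s

lemma tr_res {i k : I} (h : i ≤ k) {U V : Opens X} (hUV : U ≤ V) (s : sec (E.obj i) V) :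
    tr E h U (res _ hUV s) = res _ hUV (tr E h V s) :=
  hom_res (E.map (homOfLE h)) hUV s

lemma tr_tr {i k l : I} (h : i ≤ k) (h' : k ≤ l) (U : Opens X) (s : sec (E.obj i) U) :
    tr E h' U (tr E h U s) = tr E (h.trans h') U s := by
  unfold tr
  have : homOfLE (h.trans h') = homOfLE h ≫ homOfLE h' := rfl
  rw [this, E.map_comp]
  rfl

lemma map_eq_tr {i k : I} (f : i ⟶ k) (U : Opens X) (s : sec (E.obj i) U) :
    (E.map f).hom.app (op U) s = tr E f.le U s := rfl

variable {E}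

/-- the cocone maps on sections -/
def inc (c : Cocone E) (i : I) (U : Opens X) (s : sec (E.obj i) U) : sec c.pt U :=
  (c.ι.app i).hom.app (op U) s

lemma inc_res (c : Cocone E) (i : I) {U V : Opens X} (hUV : U ≤ V) (s : sec (E.obj i) V) :
    inc c i U (res _ hUV s) = res _ hUV (inc c i V s) :=
  hom_res (c.ι.app i) hUV s

lemma inc_tr (c : Cocone E) {i k : I} (h : i ≤ k) (U : Opens X) (s : sec (E.obj i) U) :
    inc c k U (tr E h U s) = inc c i U s := by
  have hw := c.w (homOfLE h)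
  unfold inc tr
  rw [← hw]
  rfl

/-- every open cover of `V` (indexed in `Type u`) is refined by a finite open cover -/
def FinRef (V : Opens X) : Prop :=
  ∀ (ι : Type u) (W : ι → Opens X), V ≤ iSup W →
    ∃ (J : Type u) (_ : Finite J) (U : J → Opens X), V ≤ iSup U ∧ ∀ j, ∃ a, U j ≤ W a

lemma finRef_of_isCompact (V : Opens X) (hV : IsCompact (V : Set X)) : FinRef V := by
  intro ι W hW
  obtain ⟨t, ht⟩ := hV.elim_finite_subcover (fun a => (W a : Set X)) (fun a => (W a).isOpen) (by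
    intro x hx
    have h1 : x ∈ iSup W := hW hx
    obtain ⟨a, ha⟩ := Opens.mem_iSup.1 h1
    exact Set.mem_iUnion.2 ⟨a, ha⟩)
  refine ⟨t, inferInstance, fun j => W j.1, ?_, fun j => ⟨j.1, le_rfl⟩⟩
  intro x hx
  have h1 := ht hx
  simp only [Set.mem_iUnion] at h1
  obtain ⟨a, ha, hxa⟩ := h1
  exact Opens.mem_iSup.2 ⟨⟨a, ha⟩, hxa⟩

variable [Nonempty I] [IsDirected I (· ≤ ·)]

/-- injectivity over an open with the finite refinement property -/
theorem exists_tr_eq {c : Cocone E} (hc : IsColimit c) (V : Opens X) (hV : FinRef V) (i : I)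
    (s s' : sec (E.obj i) V) (h : inc c i V s = inc c i V s') :
    ∃ (k : I) (hk : i ≤ k), tr E hk V s = tr E hk V s' := by
  obtain ⟨S, hS, hSg⟩ := exists_local_eq hc V i s s' h
  let ι : Type u := {W : Opens X // ∃ g : W ⟶ V, S g}
  have hcov : V ≤ iSup (fun a : ι => a.1) := by
    intro x hx
    obtain ⟨U, f, hf, hxU⟩ := (Opens.mem_grothendieckTopology _).1 hS x hx
    exact Opens.mem_iSup.2 ⟨⟨U, f, hf⟩, hxU⟩
  obtain ⟨J, hJ, U, hU, href⟩ := hV ι (fun a => a.1) hcov
  choose a ha using href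
  have hUV : ∀ j, U j ≤ V := fun j => (ha j).trans (a j).2.choose.le
  have hloc : ∀ j, ∃ (k : I) (hk : i ≤ k),
      tr E hk (U j) (res _ (hUV j) s) = tr E hk (U j) (res _ (hUV j) s') := by
    intro j
    obtain ⟨g, hg⟩ := (a j).2
    obtain ⟨k, f, hf⟩ := hSg g hg
    refine ⟨k, f.le, ?_⟩
    have hf' : tr E f.le (a j).1 (res _ g.le s) = tr E f.le (a j).1 (res _ g.le s') := hf
    have h2 := congrArg (res (E.obj k) (ha j)) hf'
    rw [← tr_res, ← tr_res, res_res, res_res] at h2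
    exact h2
  choose k hk hkeq using hloc
  obtain ⟨K, hK⟩ := Finite.exists_le k
  obtain ⟨K', hiK', hKK'⟩ := exists_ge_ge i K
  refine ⟨K', hiK', ?_⟩
  apply eq_of_res_eq (E.obj K') U V hUV hU
  intro j
  rw [← tr_res, ← tr_res, ← tr_tr E (hk j) ((hK j).trans hKK'),
    ← tr_tr E (hk j) ((hK j).trans hKK'), hkeq j]

/-- surjectivity of global sections -/
theorem exists_inc_eq
    (hX : ∀ (ι : Type u) (V : ι → Opens X), iSup V = ⊤ →
      ∃ (J : Type u) (_ : Finite J) (U : J → Opens X), iSup U = ⊤ ∧ (∀ j, ∃ i, U j ≤ V i) ∧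
        ∀ j j', IsCompact ((U j ⊓ U j' : Opens X) : Set X))
    {c : Cocone E} (hc : IsColimit c) (t : sec c.pt ⊤) :
    ∃ (i : I) (s : sec (E.obj i) ⊤), inc c i ⊤ s = t := by
  obtain ⟨S, hS, hSg⟩ := exists_local_rep hc (⊤ : Opens X) t
  let ι : Type u := {W : Opens X // ∃ g : W ⟶ (⊤ : Opens X), S g}
  have hcov : iSup (fun a : ι => a.1) = ⊤ := by
    refine top_le_iff.1 ?_
    intro x hx
    obtain ⟨U, f, hf, hxU⟩ := (Opens.mem_grothendieckTopology _).1 hS x hx
    exact Opens.mem_iSup.2 ⟨⟨U, f, hf⟩, hxU⟩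
  obtain ⟨J, hJ, U, hU, href, hcomp⟩ := hX ι (fun a => a.1) hcov
  choose a ha using href
  -- local representatives on `U j`
  have hloc : ∀ j, ∃ (i : I) (s : sec (E.obj i) (U j)), inc c i (U j) s = res c.pt le_top t := by
    intro j
    obtain ⟨g, hg⟩ := (a j).2
    obtain ⟨i, s, hs⟩ := hSg g hg
    refine ⟨i, res _ (ha j) s, ?_⟩
    have hs' : inc c i (a j).1 s = res c.pt g.le t := hs
    rw [inc_res, hs', res_res]
  choose i₀ s₀ hs₀ using hloc
  obtain ⟨K₀, hK₀⟩ := Finite.exists_le i₀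
  let s₁ : ∀ j, sec (E.obj K₀) (U j) := fun j => tr E (hK₀ j) (U j) (s₀ j)
  have hs₁ : ∀ j, inc c K₀ (U j) (s₁ j) = res c.pt le_top t := fun j => by
    rw [← hs₀ j]; exact inc_tr c (hK₀ j) (U j) (s₀ j)
  -- agreement on overlaps at a later stage
  have hov : ∀ p : J × J, ∃ (k : I) (hk : K₀ ≤ k),
      tr E hk (U p.1 ⊓ U p.2) (res _ inf_le_left (s₁ p.1)) =
        tr E hk (U p.1 ⊓ U p.2) (res _ inf_le_right (s₁ p.2)) := by
    intro p
    apply exists_tr_eq hc (U p.1 ⊓ U p.2) (finRef_of_isCompact _ (hcomp p.1 p.2)) K₀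
    rw [inc_res, inc_res, hs₁, hs₁, res_res, res_res]
  choose k hk hkeq using hov
  obtain ⟨K, hK⟩ := Finite.exists_le k
  obtain ⟨K', hKK', hK'⟩ := exists_ge_ge K₀ K
  let s₂ : ∀ j, sec (E.obj K') (U j) := fun j => tr E hKK' (U j) (s₁ j)
  have hs₂ : ∀ j j', res (E.obj K') (inf_le_left : U j ⊓ U j' ≤ U j) (s₂ j) =
      res (E.obj K') (inf_le_right : U j ⊓ U j' ≤ U j') (s₂ j') := by
    intro j j'
    have e1 : res (E.obj K') (inf_le_left : U j ⊓ U j' ≤ U j) (s₂ j) =
        tr E hKK' (U j ⊓ U j') (res _ inf_le_left (s₁ j)) := (tr_res E hKK' _ (s₁ j)).symm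
    have e2 : res (E.obj K') (inf_le_right : U j ⊓ U j' ≤ U j') (s₂ j') =
        tr E hKK' (U j ⊓ U j') (res _ inf_le_right (s₁ j')) := (tr_res E hKK' _ (s₁ j')).symm
    rw [e1, e2, ← tr_tr E (hk (j, j')) ((hK (j, j')).trans hK') (U j ⊓ U j') (res _ _ (s₁ j)),
      ← tr_tr E (hk (j, j')) ((hK (j, j')).trans hK') (U j ⊓ U j') (res _ _ (s₁ j'))]
    exact congrArg _ (hkeq (j, j'))
  obtain ⟨σ, hσ⟩ := exists_glue (E.obj K') U ⊤ (fun _ => le_top) hU.ge s₂ hs₂
  refine ⟨K', σ, ?_⟩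
  apply eq_of_res_eq c.pt U ⊤ (fun _ => le_top) hU.ge
  intro j
  rw [← inc_res, hσ j]
  show inc c K' (U j) (tr E hKK' (U j) (s₁ j)) = _
  rw [inc_tr, hs₁]

/-- injectivity of global sections -/
theorem exists_tr_eq_top
    (hX : ∀ (ι : Type u) (V : ι → Opens X), iSup V = ⊤ →
      ∃ (J : Type u) (_ : Finite J) (U : J → Opens X), iSup U = ⊤ ∧ (∀ j, ∃ i, U j ≤ V i) ∧
        ∀ j j', IsCompact ((U j ⊓ U j' : Opens X) : Set X))
    {c : Cocone E} (hc : IsColimit c) (i : I)
    (s s' : sec (E.obj i) ⊤) (h : inc c i ⊤ s = inc c i ⊤ s') :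
    ∃ (k : I) (hk : i ≤ k), tr E hk ⊤ s = tr E hk ⊤ s' := by
  apply exists_tr_eq hc ⊤ _ i s s' h
  intro ι W hW
  obtain ⟨J, hJ, U, hU, href, -⟩ := hX ι W (top_le_iff.1 hW)
  exact ⟨J, hJ, U, hU.ge, href⟩

end Directed

end Groth.Agent.Lib.Helper68.TopColim
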