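import Mathlib.Topology.Irreducible
import Mathlib.Topology.LocallyClosed

set_option autoImplicit false
universe u

namespace Groth.Agent.Lib.Helper68

theorem irreducible_subset_of_finite_iUnion {X : Type u} [TopologicalSpace X] {Z : Set X}
    (hZ : IsIrreducible Z) {ι : Type*} [Finite ι] (C : ι → Set X) (hC : ∀ i, IsClosed (C i))
    (hsub : Z ⊆ ⋃ i, C i) : ∃ i, Z ⊆ C i := by
  classical
  cases nonempty_fintype ι
  obtain ⟨z, hz, hZz⟩ := isIrreducible_iff_sUnion_isClosed.mp hZ (Finset.univ.image C)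
    (by
      intro z hz
      obtain ⟨i, _, rfl⟩ := Finset.mem_image.mp hz
      exact hC i)
    (by
      intro x hx
      obtain ⟨i, hi⟩ := Set.mem_iUnion.mp (hsub hx)
      exact Set.mem_sUnion.mpr ⟨C i, by simp, hi⟩)
  obtain ⟨i, _, rfl⟩ := Finset.mem_image.mp hz
  exact ⟨i, hZz⟩

theorem exists_open_of_dense_finite_locallyClosed {X : Type u} [TopologicalSpace X] {Z : Set X}
    (hZ : IsIrreducible Z) {ι : Type*} [Finite ι] (L : ι → Set X)
    (hL : ∀ i, IsLocallyClosed (L i)) (hdense : Z ⊆ closure ((⋃ i, L i) ∩ Z)) :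
    ∃ U : Set X, IsOpen U ∧ U ∩ Z ⊆ ⋃ i, L i ∧ Z ⊆ closure (U ∩ Z) := by
  have h1 : closure ((⋃ i, L i) ∩ Z) = ⋃ i, closure (L i ∩ Z) := by
    rw [Set.iUnion_inter, closure_iUnion_of_finite]
  rw [h1] at hdense
  obtain ⟨i, hi⟩ := irreducible_subset_of_finite_iUnion hZ _ (fun i => isClosed_closure) hdense
  obtain ⟨U, C, hU, hC, hLi⟩ := hL i
  have hZC : Z ⊆ C := by
    refine hi.trans (closure_minimal ?_ hC)
    rw [hLi]
    exact fun x hx => hx.1.2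
  refine ⟨U, hU, ?_, ?_⟩
  · intro x hx
    refine Set.mem_iUnion.mpr ⟨i, ?_⟩
    rw [hLi]
    exact ⟨hx.1, hZC hx.2⟩
  · refine hi.trans (closure_mono ?_)
    rw [hLi]
    exact fun x hx => ⟨hx.1.1, hx.2⟩

theorem generic_mem_of_dense_finite_locallyClosed {X : Type u} [TopologicalSpace X] {Z : Set X}
    (hZ : IsIrreducible Z) {ι : Type*} [Finite ι] (L : ι → Set X)
    (hL : ∀ i, IsLocallyClosed (L i)) (hdense : Z ⊆ closure ((⋃ i, L i) ∩ Z))
    (ξ : X) (hξ : ξ ∈ Z) (hgen : Z ⊆ closure {ξ}) : ξ ∈ ⋃ i, L i := by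
  obtain ⟨U, hU, hUE, hUd⟩ := exists_open_of_dense_finite_locallyClosed hZ L hL hdense
  obtain ⟨z, hz⟩ := hZ.1
  have hne : (U ∩ Z).Nonempty := by
    rw [← closure_nonempty_iff]
    exact ⟨z, hUd hz⟩
  obtain ⟨y, hyU, hyZ⟩ := hne
  have : (U ∩ {ξ}).Nonempty := mem_closure_iff.mp (hgen hyZ) U hU hyU
  obtain ⟨w, hwU, hw⟩ := this
  rw [Set.mem_singleton_iff.mp hw] at hwU
  exact hUE ⟨hwU, hξ⟩

end Groth.Agent.Lib.Helper68
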