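import Mathlib.Topology.NoetherianSpace
import Mathlib.Topology.Sober
import Mathlib.Topology.Inseparable

set_option autoImplicit false
universe u

namespace Groth.Agent.Lib.Helper68

open TopologicalSpace

theorem exists_irreducible_closed_dense {X : Type u} [TopologicalSpace X] [NoetherianSpace X]
    (F : Set X) (x : X) (hx : x ∈ closure F) :
    ∃ T : Set X, IsClosed T ∧ IsIrreducible T ∧ x ∈ T ∧ T = closure (F ∩ T) := by
  have wf : WellFoundedLT (Closeds X) := ((noetherianSpace_TFAE X).out 0 1).mp ‹NoetherianSpace X›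
  have hne : {T : Closeds X | x ∈ closure (F ∩ (T : Set X))}.Nonempty :=
    ⟨⊤, by simpa using hx⟩
  obtain ⟨T, hTP, hTmin⟩ := wf.wf.has_min _ hne
  have hTP' : x ∈ closure (F ∩ (T : Set X)) := hTP
  have hsubT : closure (F ∩ (T : Set X)) ⊆ (T : Set X) :=
    closure_minimal Set.inter_subset_right T.isClosed
  have hmin : ∀ T' : Set X, IsClosed T' → T' ⊆ (T : Set X) → x ∈ closure (F ∩ T') →
      T' = (T : Set X) := by
    intro T' hT' hsub hx'
    by_contra hne'
    apply hTmin (⟨T', hT'⟩ : Closeds X) hx'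
    refine lt_of_le_of_ne hsub ?_
    intro heq
    apply hne'
    exact congrArg (fun t : Closeds X => (t : Set X)) heq
  have hdense : (T : Set X) = closure (F ∩ (T : Set X)) := by
    symm
    apply hmin _ isClosed_closure hsubT
    have hsub2 : F ∩ (T : Set X) ⊆ F ∩ closure (F ∩ (T : Set X)) :=
      fun y hy => ⟨hy.1, subset_closure hy⟩
    exact closure_mono hsub2 hTP'
  refine ⟨(T : Set X), T.isClosed, ⟨⟨x, hsubT hTP'⟩, ?_⟩, hsubT hTP', hdense⟩
  rw [isPreirreducible_iff_isClosed_union_isClosed]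
  intro z₁ z₂ hz₁ hz₂ hsub
  have hx2 : x ∈ closure (F ∩ ((T : Set X) ∩ z₁)) ∪ closure (F ∩ ((T : Set X) ∩ z₂)) := by
    rw [← closure_union]
    refine closure_mono ?_ hTP'
    intro y hy
    rcases hsub hy.2 with h | h
    · exact Or.inl ⟨hy.1, hy.2, h⟩
    · exact Or.inr ⟨hy.1, hy.2, h⟩
  rcases hx2 with h | h
  · left
    have := hmin _ (T.isClosed.inter hz₁) Set.inter_subset_left h
    rw [← this]
    exact Set.inter_subset_right
  · right
    have := hmin _ (T.isClosed.inter hz₂) Set.inter_subset_left h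
    rw [← this]
    exact Set.inter_subset_right

end Groth.Agent.Lib.Helper68
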