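import Mathlib.Topology.Constructible
import Mathlib.Data.Finite.Sum
import Groth.Agent.Lib.Helper68.Topo
import Groth.Agent.Lib.Helper68.Topo2

set_option autoImplicit false
universe u

namespace Groth.Agent.Lib.Helper68

open TopologicalSpace Topology

theorem constructible_finite_locallyClosed {X : Type u} [TopologicalSpace X] {s : Set X}
    (hs : IsConstructible s) :
    ∃ (ι : Type) (_ : Finite ι) (L : ι → Set X), (∀ i, IsLocallyClosed (L i)) ∧ s = ⋃ i, L i := by
  induction s, hs using BooleanSubalgebra.closure_sdiff_sup_induction with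
  | isSublattice =>
    exact ⟨fun s hs t ht ↦ ⟨hs.1.union ht.1, hs.2.union ht.2⟩,
      fun s hs t ht ↦ ⟨hs.1.inter ht.1, hs.2.inter_isOpen ht.2 ht.1⟩⟩
  | bot_mem => exact ⟨isOpen_empty, .empty⟩
  | top_mem => exact ⟨isOpen_univ, .univ⟩
  | sdiff U hU V hV =>
    refine ⟨Unit, inferInstance, fun _ => U \ V, fun _ => ?_, ?_⟩
    · exact hU.1.isLocallyClosed.inter hV.1.isClosed_compl.isLocallyClosed
    · exact (Set.iUnion_const (U \ V)).symm
  | sup s _ t _ hs' ht' =>
    obtain ⟨ι, hι, L, hL, rfl⟩ := hs'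
    obtain ⟨ι', hι', L', hL', rfl⟩ := ht'
    haveI := hι
    haveI := hι'
    refine ⟨ι ⊕ ι', inferInstance, Sum.elim L L', ?_, ?_⟩
    · rintro (i | i)
      · exact hL i
      · exact hL' i
    · rw [Set.iUnion_sum]
      rfl

theorem closure_subset_of_constructible_of_stableUnderSpecialization {X : Type u}
    [TopologicalSpace X] [NoetherianSpace X] [QuasiSober X] {E : Set X}
    (hE : IsConstructible E) (hsp : StableUnderSpecialization E) : IsClosed E := by
  rw [← closure_subset_iff_isClosed]
  intro x hx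
  obtain ⟨T, hTc, hTi, hxT, hTd⟩ := exists_irreducible_closed_dense E x hx
  obtain ⟨η, hη⟩ := QuasiSober.sober hTi hTc
  have hη' : closure ({η} : Set X) = T := hη
  obtain ⟨ι, hι, L, hL, rfl⟩ := constructible_finite_locallyClosed hE
  have hηT : η ∈ T := by
    rw [← hη']
    exact subset_closure rfl
  have hηE : η ∈ ⋃ i, L i :=
    generic_mem_of_dense_finite_locallyClosed hTi L hL (by rw [← hTd]) η hηT (by rw [hη'])
  refine hsp ?_ hηE
  rw [specializes_iff_mem_closure, hη']
  exact hxT

end Groth.Agent.Lib.Helper68
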