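import Groth.Agent.Lib.Helper68.ColimLoc
import Groth.Prelude.Def_CohCx

/-! Global sections of abelian sheaves on a small site commute with filtered colimits, when the topos
has enough quasi-compact objects `K` covering the final object with `K × K` quasi-compact. -/

set_option autoImplicit false
universe u

open CategoryTheory Category Limits Opposite

namespace Groth.Agent.Lib.Helper68.TopoColim

open Groth.Agent.Lib.Helper68.ColimLoc

variable {C : Type u} [SmallCategory C] {J : GrothendieckTopology C}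

/-- underlying presheaf of sets of an abelian sheaf -/
abbrev uly (A : Sheaf J AddCommGrpCat.{u}) : Cᵒᵖ ⥤ Type u := A.obj ⋙ forget AddCommGrpCat.{u}

lemma uly_isSheaf (A : Sheaf J AddCommGrpCat.{u}) : Presheaf.IsSheaf J (uly A) :=
  (Presheaf.isSheaf_iff_isSheaf_forget J A.obj (forget AddCommGrpCat.{u})).1 A.property

lemma uly_isSheaf' (A : Sheaf J AddCommGrpCat.{u}) : Presieve.IsSheaf J (uly A) :=
  (isSheaf_iff_isSheaf_of_type J _).1 (uly_isSheaf A)

/-- separatedness of abelian sheaves -/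
lemma sep (A : Sheaf J AddCommGrpCat.{u}) {U : C} (S : Sieve U) (hS : S ∈ J U)
    (x y : A.obj.obj (op U))
    (h : ∀ ⦃V : C⦄ (g : V ⟶ U), S g → A.obj.map g.op x = A.obj.map g.op y) : x = y :=
  ((uly_isSheaf' A).isSeparated S hS).ext (t₁ := x) (t₂ := y) (fun _ g hg => h g hg)

/-- the sheaf of sets attached to a locally closed subfunctor of a sheaf of sets -/
def subSheaf (Q : Sheaf J (Type u)) (G : Subfunctor Q.obj)
    (hG : ∀ (U : Cᵒᵖ) (s : Q.obj.obj U), G.sieveOfSection s ∈ J (unop U) → s ∈ G.obj U) :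
    Sheaf J (Type u) :=
  ⟨G.toFunctor, (isSheaf_iff_isSheaf_of_type J _).2
    ((Subfunctor.isSheaf_iff G ((isSheaf_iff_isSheaf_of_type J _).1 Q.property)).2 hG)⟩

/-- the inclusion -/
def subSheafι (Q : Sheaf J (Type u)) (G : Subfunctor Q.obj)
    (hG : ∀ (U : Cᵒᵖ) (s : Q.obj.obj U), G.sieveOfSection s ∈ J (unop U) → s ∈ G.obj U) :
    subSheaf Q G hG ⟶ Q := ⟨G.ι⟩

variable {Λ : Type u} [SmallCategory Λ] [IsFiltered Λ] {E : Λ ⥤ Sheaf J AddCommGrpCat.{u}}

omit [IsFiltered Λ] in
lemma tr_map {i k : Λ} (f : i ⟶ k) {U V : Cᵒᵖ} (g : U ⟶ V) (x : (E.obj i).obj.obj U) :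
    (E.map f).hom.app V ((E.obj i).obj.map g x) = (E.obj k).obj.map g ((E.map f).hom.app U x) :=
  NatTrans.naturality_apply (E.map f).hom g x

omit [IsFiltered Λ] in
lemma tr_comp {i k l : Λ} (f : i ⟶ k) (g : k ⟶ l) (U : Cᵒᵖ) (x : (E.obj i).obj.obj U) :
    (E.map (f ≫ g)).hom.app U x = (E.map g).hom.app U ((E.map f).hom.app U x) := by
  rw [E.map_comp]; rfl

lemma exists_dominating (i : Λ) (t : Finset (Σ k : Λ, (i ⟶ k))) :
    ∃ (k₀ : Λ) (f₀ : i ⟶ k₀), ∀ a ∈ t, ∃ g : a.1 ⟶ k₀, a.2 ≫ g = f₀ := by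
  classical
  induction t using Finset.induction_on with
  | empty => exact ⟨i, 𝟙 i, by simp⟩
  | insert a t ha ih =>
    obtain ⟨k₀, f₀, h⟩ := ih
    obtain ⟨k', g, g', hg⟩ := IsFiltered.span a.2 f₀
    refine ⟨k', f₀ ≫ g', ?_⟩
    intro b hb
    rcases Finset.mem_insert.1 hb with rfl | hb
    · exact ⟨g, hg⟩
    · obtain ⟨gb, hgb⟩ := h b hb
      exact ⟨gb ≫ g', by rw [← assoc, hgb]⟩

/-- the locus where two sections over `Q` agree at a later stage -/
def eqSub (Q : Sheaf J (Type u)) {i : Λ} (α β : Q.obj ⟶ uly (E.obj i)) {k : Λ} (f : i ⟶ k) :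
    Subfunctor Q.obj where
  obj U := {q | (E.map f).hom.app U (α.app U q) = (E.map f).hom.app U (β.app U q)}
  map := by
    intro U V g q hq
    have h1 : α.app V (Q.obj.map g q) = (E.obj i).obj.map g (α.app U q) :=
      NatTrans.naturality_apply α g q
    have h2 : β.app V (Q.obj.map g q) = (E.obj i).obj.map g (β.app U q) :=
      NatTrans.naturality_apply β g q
    show (E.map f).hom.app V (α.app V (Q.obj.map g q)) =
      (E.map f).hom.app V (β.app V (Q.obj.map g q))
    rw [h1, h2, tr_map, tr_map]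
    exact congrArg _ hq

omit [IsFiltered Λ] in
lemma eqSub_closed (Q : Sheaf J (Type u)) {i : Λ} (α β : Q.obj ⟶ uly (E.obj i)) {k : Λ}
    (f : i ⟶ k) (U : Cᵒᵖ) (s : Q.obj.obj U)
    (hs : (eqSub Q α β f).sieveOfSection s ∈ J (unop U)) : s ∈ (eqSub Q α β f).obj U := by
  show (E.map f).hom.app U (α.app U s) = (E.map f).hom.app U (β.app U s)
  refine sep (E.obj k) _ hs _ _ ?_
  intro V g hg
  have h1 : α.app (op V) (Q.obj.map g.op s) = (E.obj i).obj.map g.op (α.app U s) :=
    NatTrans.naturality_apply α g.op s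
  have h2 : β.app (op V) (Q.obj.map g.op s) = (E.obj i).obj.map g.op (β.app U s) :=
    NatTrans.naturality_apply β g.op s
  have h3 : (E.map f).hom.app (op V) (α.app (op V) (Q.obj.map g.op s)) =
      (E.map f).hom.app (op V) (β.app (op V) (Q.obj.map g.op s)) := hg
  rw [h1, h2, tr_map, tr_map] at h3
  exact h3

/-- injectivity over a quasi-compact object -/
theorem exists_map_eq_of_qc {c : Cocone E} (hc : IsColimit c) (Q : Sheaf J (Type u))
    (hQ : CohCx.IsQcObject Q) (i : Λ) (α β : Q.obj ⟶ uly (E.obj i))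
    (h : ∀ (U : Cᵒᵖ) (q : Q.obj.obj U),
      (c.ι.app i).hom.app U (α.app U q) = (c.ι.app i).hom.app U (β.app U q)) :
    ∃ (k : Λ) (f : i ⟶ k), ∀ (U : Cᵒᵖ) (q : Q.obj.obj U),
      (E.map f).hom.app U (α.app U q) = (E.map f).hom.app U (β.app U q) := by
  classical
  let A : Type u := Σ k : Λ, (i ⟶ k)
  let L : A → Sheaf J (Type u) := fun a => subSheaf Q (eqSub Q α β a.2) (eqSub_closed Q α β a.2)
  let fL : ∀ a, L a ⟶ Q := fun a => subSheafι Q (eqSub Q α β a.2) (eqSub_closed Q α β a.2)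
  have hjs : CohCx.JointlySurjective fL := by
    intro U q
    obtain ⟨S, hS, hSg⟩ := exists_local_eq hc U i (α.app (op U) q) (β.app (op U) q) (h (op U) q)
    refine ⟨S, hS, ?_⟩
    intro V g hg
    obtain ⟨k, f, hf⟩ := hSg g hg
    have h1 : α.app (op V) (Q.obj.map g.op q) = (E.obj i).obj.map g.op (α.app (op U) q) :=
      NatTrans.naturality_apply α g.op q
    have h2 : β.app (op V) (Q.obj.map g.op q) = (E.obj i).obj.map g.op (β.app (op U) q) :=
      NatTrans.naturality_apply β g.op q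
    refine ⟨⟨k, f⟩, ⟨Q.obj.map g.op q, ?_⟩, rfl⟩
    show (E.map f).hom.app (op V) (α.app (op V) (Q.obj.map g.op q)) =
      (E.map f).hom.app (op V) (β.app (op V) (Q.obj.map g.op q))
    rw [h1, h2]
    exact hf
  obtain ⟨t, ht⟩ := hQ A L fL hjs
  obtain ⟨k₀, f₀, hdom⟩ := exists_dominating i t
  refine ⟨k₀, f₀, ?_⟩
  intro U q
  obtain ⟨S, hS, hSg⟩ := ht (unop U) q
  refine sep (E.obj k₀) S hS _ _ ?_
  intro V g hg
  obtain ⟨a, x, hx⟩ := hSg V g hg
  obtain ⟨ga, hga⟩ := hdom a.1 a.2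
  have hx1 : (x.1 : Q.obj.obj (op V)) = Q.obj.map g.op q := hx
  have hx2 : (E.map a.1.2).hom.app (op V) (α.app (op V) x.1) =
      (E.map a.1.2).hom.app (op V) (β.app (op V) x.1) := x.2
  have h1 : α.app (op V) (Q.obj.map g.op q) = (E.obj i).obj.map g.op (α.app U q) :=
    NatTrans.naturality_apply α g.op q
  have h2 : β.app (op V) (Q.obj.map g.op q) = (E.obj i).obj.map g.op (β.app U q) :=
    NatTrans.naturality_apply β g.op q
  rw [hx1, h1, h2] at hx2
  rw [← tr_map, ← tr_map, ← hga, tr_comp, tr_comp, hx2]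


/-! ### The terminal sheaf, covering the final object -/

/-- the terminal sheaf of sets -/
def termSh : Sheaf J (Type u) :=
  ⟨(Functor.const Cᵒᵖ).obj PUnit.{u + 1}, Presheaf.isSheaf_of_isTerminal J Types.isTerminalPUnit⟩

/-- `termSh` is terminal -/
def termShIsTerminal : IsTerminal (termSh (J := J)) :=
  IsTerminal.ofUniqueHom (fun X => ⟨{ app := fun _ => ↾fun _ => PUnit.unit }⟩) (by
    intro X m
    ext U x
    rfl)

/-- a sheaf of sets covers the final object iff it is locally inhabited -/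
lemma locally_nonempty_of_epi (K : Sheaf J (Type u)) (hK : Epi (terminal.from K)) (U : C) :
    ∃ S ∈ J U, ∀ ⦃V : C⦄ (g : V ⟶ U), S g → Nonempty (K.obj.obj (op V)) := by
  have h1 : terminal.from K =
      termShIsTerminal.from K ≫ (terminalIsoIsTerminal termShIsTerminal).inv :=
    Subsingleton.elim _ _
  have h2 : Epi (termShIsTerminal.from K) := by
    have h3 : termShIsTerminal.from K =
        terminal.from K ≫ (terminalIsoIsTerminal termShIsTerminal).hom := by
      rw [h1, assoc, Iso.inv_hom_id, comp_id]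
    rw [h3]
    infer_instance
  have h4 : Sheaf.IsLocallySurjective (termShIsTerminal.from K) :=
    (Sheaf.isLocallySurjective_iff_epi _).2 h2
  refine ⟨_, Presheaf.imageSieve_mem J (termShIsTerminal.from K).hom (U := op U) PUnit.unit, ?_⟩
  intro V g hg
  obtain ⟨x, -⟩ := hg
  exact ⟨x⟩

lemma epi_of_locally_nonempty (K : Sheaf J (Type u))
    (h : ∀ U : C, ∃ S ∈ J U, ∀ ⦃V : C⦄ (g : V ⟶ U), S g → Nonempty (K.obj.obj (op V))) :
    Epi (terminal.from K) := by
  have h1 : terminal.from K =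
      termShIsTerminal.from K ≫ (terminalIsoIsTerminal termShIsTerminal).inv :=
    Subsingleton.elim _ _
  have h4 : Sheaf.IsLocallySurjective (termShIsTerminal.from K) := by
    constructor
    intro U s
    obtain ⟨S, hS, hSg⟩ := h U
    refine J.superset_covering ?_ hS
    intro V g hg
    obtain ⟨x⟩ := hSg g hg
    exact ⟨x, rfl⟩
  have h2 : Epi (termShIsTerminal.from K) := (Sheaf.isLocallySurjective_iff_epi _).1 h4
  rw [h1]
  infer_instance

/-- pairing of sections of `K × K` -/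
noncomputable def pairK (K : Sheaf J (Type u)) (U : Cᵒᵖ) (x y : K.obj.obj U) :
    (K ⨯ K).obj.obj U :=
  (PreservesLimitPair.iso (sheafToPresheaf J (Type u) ⋙ (evaluation Cᵒᵖ (Type u)).obj U) K K).inv
    ((Types.binaryProductIso (K.obj.obj U) (K.obj.obj U)).inv (x, y))

lemma pairK_fst (K : Sheaf J (Type u)) (U : Cᵒᵖ) (x y : K.obj.obj U) :
    (prod.fst : K ⨯ K ⟶ K).hom.app U (pairK K U x y) = x := by
  have h1 := PreservesLimitPair.iso_inv_fst
    (sheafToPresheaf J (Type u) ⋙ (evaluation Cᵒᵖ (Type u)).obj U) K K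
  have h2 := Types.binaryProductIso_inv_comp_fst (K.obj.obj U) (K.obj.obj U)
  have h3 := ConcreteCategory.congr_hom h1 ((Types.binaryProductIso _ _).inv (x, y))
  have h4 := ConcreteCategory.congr_hom h2 ((x, y) : K.obj.obj U × K.obj.obj U)
  exact h3.trans h4

lemma pairK_snd (K : Sheaf J (Type u)) (U : Cᵒᵖ) (x y : K.obj.obj U) :
    (prod.snd : K ⨯ K ⟶ K).hom.app U (pairK K U x y) = y := by
  have h1 := PreservesLimitPair.iso_inv_snd
    (sheafToPresheaf J (Type u) ⋙ (evaluation Cᵒᵖ (Type u)).obj U) K K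
  have h2 := Types.binaryProductIso_inv_comp_snd (K.obj.obj U) (K.obj.obj U)
  have h3 := ConcreteCategory.congr_hom h1 ((Types.binaryProductIso _ _).inv (x, y))
  have h4 := ConcreteCategory.congr_hom h2 ((x, y) : K.obj.obj U × K.obj.obj U)
  exact h3.trans h4

/-- the image of `K → *` as a subfunctor of the terminal presheaf -/
def imSub (K : Sheaf J (Type u)) : Subfunctor (termSh (J := J)).obj where
  obj U := {_p | Nonempty (K.obj.obj U)}
  map := by
    intro U V g p hp
    obtain ⟨x⟩ := hp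
    exact ⟨K.obj.map g x⟩

/-- descent of a section over `K` along `K → *` -/
theorem exists_descent (K : Sheaf J (Type u)) (hK : Epi (terminal.from K))
    (A : Sheaf J AddCommGrpCat.{u}) (τ : K.obj ⟶ uly A)
    (hτ : ∀ (U : Cᵒᵖ) (x y : K.obj.obj U), τ.app U x = τ.app U y) :
    ∃ s : (uly A).sections, ∀ (U : Cᵒᵖ) (x : K.obj.obj U), τ.app U x = s.1 U := by
  classical
  let ρ : (imSub K).toFunctor ⟶ uly A :=
    { app := fun U => ↾fun p => τ.app U (Classical.choice p.2)
      naturality := by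
        intro U V g
        ext p
        have h1 : τ.app V (K.obj.map g (Classical.choice p.2)) =
            (uly A).map g (τ.app U (Classical.choice p.2)) :=
          NatTrans.naturality_apply τ g _
        show τ.app V (Classical.choice _) = (uly A).map g (τ.app U (Classical.choice p.2))
        rw [← h1]
        exact hτ V _ _ }
  have hli : Presheaf.IsLocallyInjective J (imSub K).ι :=
    Presheaf.isLocallyInjective_of_injective J _ (fun U x y _ => Subtype.ext rfl)
  have hls : Presheaf.IsLocallySurjective J (imSub K).ι := by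
    constructor
    intro U s
    obtain ⟨S, hS, hSg⟩ := locally_nonempty_of_epi K hK U
    refine J.superset_covering ?_ hS
    intro V g hg
    exact ⟨⟨PUnit.unit, hSg g hg⟩, rfl⟩
  have hW : J.W (imSub K).ι := J.W_of_isLocallyBijective _
  obtain ⟨γ, hγ⟩ := (hW (uly A) (uly_isSheaf A)).2 ρ
  have hγ' : (imSub K).ι ≫ γ = ρ := hγ
  refine ⟨⟨fun U => γ.app U PUnit.unit, ?_⟩, ?_⟩
  · intro U V g
    exact (NatTrans.naturality_apply γ g PUnit.unit).symm
  · intro U x
    have h1 := ConcreteCategory.congr_hom (congr_app hγ' U) ⟨PUnit.unit, ⟨x⟩⟩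
    have h2 : γ.app U PUnit.unit = τ.app U (Classical.choice ⟨x⟩) := h1
    show τ.app U x = γ.app U PUnit.unit
    rw [h2]
    exact hτ U _ _


/-! ### Lifting a global section of the colimit over a quasi-compact object -/

/-- local lifts of `t` at stage `i` -/
def liftSub (c : Cocone E) (t : (uly c.pt).sections) (i : Λ) : Subfunctor (uly (E.obj i)) where
  obj U := {s | (c.ι.app i).hom.app U s = t.1 U}
  map := by
    intro U V g s hs
    have hs' : (c.ι.app i).hom.app U s = t.1 U := hs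
    show (c.ι.app i).hom.app V ((E.obj i).obj.map g s) = t.1 V
    rw [NatTrans.naturality_apply (c.ι.app i).hom g s, hs']
    exact t.2 g

/-- the presheaf of local lifts at all stages -/
def liftP (c : Cocone E) (t : (uly c.pt).sections) : Cᵒᵖ ⥤ Type u where
  obj U := Σ i : Λ, (liftSub c t i).toFunctor.obj U
  map g := ↾fun p => ⟨p.1, (liftSub c t p.1).toFunctor.map g p.2⟩
  map_id := by
    intro U
    refine ConcreteCategory.hom_ext _ _ fun p => ?_
    obtain ⟨i, s⟩ := p
    show (⟨i, (liftSub c t i).toFunctor.map (𝟙 U) s⟩ : Σ i : Λ, (liftSub c t i).toFunctor.obj U) =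
      ⟨i, s⟩
    rw [(liftSub c t i).toFunctor.map_id]
    rfl
  map_comp := by
    intro U V W g h
    refine ConcreteCategory.hom_ext _ _ fun p => ?_
    obtain ⟨i, s⟩ := p
    show (⟨i, (liftSub c t i).toFunctor.map (g ≫ h) s⟩ :
      Σ i : Λ, (liftSub c t i).toFunctor.obj W) =
      ⟨i, (liftSub c t i).toFunctor.map h ((liftSub c t i).toFunctor.map g s)⟩
    rw [(liftSub c t i).toFunctor.map_comp]
    rfl

/-- the sheaf of local lifts -/
noncomputable def liftSh (c : Cocone E) (t : (uly c.pt).sections) : Sheaf J (Type u) :=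
  (presheafToSheaf J (Type u)).obj (liftP c t)

/-- the sheaf of local lifts covers the final object -/
lemma epi_liftSh {c : Cocone E} (hc : IsColimit c) (t : (uly c.pt).sections) :
    Epi (terminal.from (liftSh c t)) := by
  apply epi_of_locally_nonempty
  intro U
  obtain ⟨S, hS, hSg⟩ := exists_local_rep hc U (t.1 (op U))
  refine ⟨S, hS, ?_⟩
  intro V g hg
  obtain ⟨i, s, hs⟩ := hSg g hg
  have hs' : (c.ι.app i).hom.app (op V) s = t.1 (op V) := by
    rw [hs]; exact t.2 g.op
  exact ⟨(toSheafify J (liftP c t)).app (op V) ⟨i, ⟨s, hs'⟩⟩⟩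

omit [IsFiltered Λ] in
lemma inc_map (c : Cocone E) (k : Λ) {U V : Cᵒᵖ} (g : U ⟶ V) (x : (E.obj k).obj.obj U) :
    (c.ι.app k).hom.app V ((E.obj k).obj.map g x) =
      c.pt.obj.map g ((c.ι.app k).hom.app U x) :=
  NatTrans.naturality_apply (c.ι.app k).hom g x

omit [IsFiltered Λ] in
lemma inc_tr_apply (c : Cocone E) {i k : Λ} (f : i ⟶ k) (U : Cᵒᵖ) (x : (E.obj i).obj.obj U) :
    (c.ι.app k).hom.app U ((E.map f).hom.app U x) = (c.ι.app i).hom.app U x := by
  have hw := c.w f
  rw [← hw]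
  rfl

set_option maxHeartbeats 1600000 in
/-- a section of the sheaf of local lifts over a quasi-compact object gives a lift at some stage -/
theorem exists_lift_of_qc (c : Cocone E) (t : (uly c.pt).sections)
    (Q : Sheaf J (Type u)) (hQ : CohCx.IsQcObject Q) (ψ : Q ⟶ liftSh c t) :
    ∃ (i₀ : Λ) (σ : Q.obj ⟶ uly (E.obj i₀)), ∀ (U : Cᵒᵖ) (q : Q.obj.obj U),
      (c.ι.app i₀).hom.app U (σ.app U q) = t.1 U := by
  classical
  let η : liftP c t ⟶ (liftSh c t).obj := toSheafify J (liftP c t)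
  have hηs : Presheaf.IsLocallySurjective J η :=
    Presheaf.isLocallySurjective_toSheafify' J (liftP c t)
  have hηi : Presheaf.IsLocallyInjective J η :=
    Presheaf.isLocallyInjective_toSheafify' J (liftP c t)
  let G : Λ → Subfunctor Q.obj := fun i =>
    { obj := fun U => {q | ∃ s : (liftSub c t i).toFunctor.obj U,
        η.app U ⟨i, s⟩ = ψ.hom.app U q}
      map := by
        intro U V g q hq
        obtain ⟨s, hs⟩ := hq
        refine ⟨(liftSub c t i).toFunctor.map g s, ?_⟩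
        have h1 : η.app V ((liftP c t).map g ⟨i, s⟩) =
            (liftSh c t).obj.map g (η.app U ⟨i, s⟩) := NatTrans.naturality_apply η g _
        have h2 : ψ.hom.app V (Q.obj.map g q) = (liftSh c t).obj.map g (ψ.hom.app U q) :=
          NatTrans.naturality_apply ψ.hom g q
        show η.app V ⟨i, _⟩ = ψ.hom.app V (Q.obj.map g q)
        rw [h2, ← hs]
        exact h1 }
  let L : Λ → Sheaf J (Type u) := fun i =>
    ⟨((G i).sheafify J).toFunctor, (isSheaf_iff_isSheaf_of_type J _).2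
      (Subfunctor.sheafify_isSheaf _ ((isSheaf_iff_isSheaf_of_type J _).1 Q.property))⟩
  let fL : ∀ i, L i ⟶ Q := fun i => ⟨((G i).sheafify J).ι⟩
  have hjs : CohCx.JointlySurjective fL := by
    intro U q
    refine ⟨_, Presheaf.imageSieve_mem J η (ψ.hom.app (op U) q), ?_⟩
    intro V g hg
    obtain ⟨p, hp⟩ := hg
    have h2 : ψ.hom.app (op V) (Q.obj.map g.op q) =
        (liftSh c t).obj.map g.op (ψ.hom.app (op U) q) := NatTrans.naturality_apply ψ.hom g.op q
    refine ⟨p.1, ⟨Q.obj.map g.op q, (G p.1).le_sheafify J _ ⟨p.2, ?_⟩⟩, rfl⟩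
    rw [h2]
    exact hp
  obtain ⟨tf, htf⟩ := hQ Λ L fL hjs
  obtain ⟨i₀, hi₀⟩ := IsFiltered.sup_objs_exists tf
  let gi : ∀ i, i ∈ tf → (i ⟶ i₀) := fun i hi => (hi₀ hi).some
  let Qt : Subfunctor (FunctorToTypes.prod Q.obj (liftP c t)) :=
    { obj := fun U => {x | x.2.1 ∈ tf ∧ η.app U x.2 = ψ.hom.app U x.1}
      map := by
        intro U V g x hx
        obtain ⟨hx1, hx2⟩ := hx
        refine ⟨hx1, ?_⟩
        have h1 : η.app V ((liftP c t).map g x.2) =
            (liftSh c t).obj.map g (η.app U x.2) := NatTrans.naturality_apply η g _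
        have h2 : ψ.hom.app V (Q.obj.map g x.1) = (liftSh c t).obj.map g (ψ.hom.app U x.1) :=
          NatTrans.naturality_apply ψ.hom g x.1
        show η.app V ((liftP c t).map g x.2) = ψ.hom.app V (Q.obj.map g x.1)
        rw [h2, ← hx2]
        exact h1 }
  let π : Qt.toFunctor ⟶ Q.obj := Qt.ι ≫ FunctorToTypes.prod.fst
  have hli : Presheaf.IsLocallyInjective J π := by
    constructor
    intro U x y hxy
    have hxy' : x.1.1 = y.1.1 := hxy
    have h1 : η.app U x.1.2 = η.app U y.1.2 := by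
      rw [x.2.2, y.2.2, hxy']
    refine J.superset_covering ?_ (Presheaf.equalizerSieve_mem J η _ _ h1)
    intro V g hg
    have hg' : (liftP c t).map g.op x.1.2 = (liftP c t).map g.op y.1.2 := hg
    show Qt.toFunctor.map g.op x = Qt.toFunctor.map g.op y
    apply Subtype.ext
    show (Q.obj.map g.op x.1.1, (liftP c t).map g.op x.1.2) =
      (Q.obj.map g.op y.1.1, (liftP c t).map g.op y.1.2)
    rw [hg', hxy']
  have hls : Presheaf.IsLocallySurjective J π := by
    constructor
    intro U q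
    obtain ⟨S, hS, hSg⟩ := htf U q
    refine J.transitive hS _ ?_
    intro V g hg
    rw [Presheaf.pullback_imageSieve]
    obtain ⟨i, x, hx⟩ := hSg V g hg
    have hx1 : (x.1 : Q.obj.obj (op V)) = Q.obj.map g.op q := hx
    have hx2 : (G i.1).sieveOfSection x.1 ∈ J V := x.2
    rw [← hx1]
    refine J.superset_covering ?_ hx2
    intro W h hh
    obtain ⟨s, hs⟩ := hh
    exact ⟨⟨(Q.obj.map h.op x.1, ⟨i.1, s⟩), i.2, hs⟩, rfl⟩
  have hW : J.W π := J.W_of_isLocallyBijective _
  let ρ : Qt.toFunctor ⟶ uly (E.obj i₀) :=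
    { app := fun U => ↾fun x => (E.map (gi x.1.2.1 x.2.1)).hom.app U x.1.2.2.1
      naturality := by
        intro U V g
        ext x
        exact tr_map (gi x.1.2.1 x.2.1) g x.1.2.2.1 }
  obtain ⟨σ, hσ⟩ := (hW _ (uly_isSheaf (E.obj i₀))).2 ρ
  have hσ' : π ≫ σ = ρ := hσ
  refine ⟨i₀, σ, ?_⟩
  let constT : Q.obj ⟶ uly c.pt :=
    { app := fun U => ↾fun _ => t.1 U
      naturality := by
        intro U V g
        ext x
        exact (t.2 g).symm }
  let incσ : Q.obj ⟶ uly c.pt :=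
    σ ≫ Functor.whiskerRight (c.ι.app i₀).hom (forget AddCommGrpCat.{u})
  have heq : incσ = constT := by
    apply (hW _ (uly_isSheaf c.pt)).1
    show π ≫ incσ = π ≫ constT
    show π ≫ σ ≫ _ = _
    rw [← assoc, hσ']
    ext U x
    show (c.ι.app i₀).hom.app U ((E.map (gi x.1.2.1 x.2.1)).hom.app U x.1.2.2.1) = t.1 U
    rw [inc_tr_apply]
    exact x.1.2.2.2
  intro U q
  exact ConcreteCategory.congr_hom (congr_app heq U) q


/-! ### Global sections commute with filtered colimits -/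

section Main

variable (S : Set (Sheaf J (Type u)))
  (hSa : ∀ F : Sheaf J (Type u), Epi (terminal.from F) →
    ∃ K ∈ S, Epi (terminal.from K) ∧ Nonempty (K ⟶ F))
  (hSb : ∀ K ∈ S, CohCx.IsQcObject (K ⨯ K))

include hSa hSb

/-- surjectivity -/
theorem exists_global_lift {c : Cocone E} (hc : IsColimit c) (t : (uly c.pt).sections) :
    ∃ (k : Λ) (s : (uly (E.obj k)).sections),
      ∀ U, (c.ι.app k).hom.app U (s.1 U) = t.1 U := by
  obtain ⟨K, hKS, hKepi, ⟨φ⟩⟩ := hSa (liftSh c t) (epi_liftSh hc t)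
  have hQ := hSb K hKS
  obtain ⟨i₀, σQ, hσQ⟩ := exists_lift_of_qc c t (K ⨯ K) hQ (prod.fst ≫ φ)
  let σK : K.obj ⟶ uly (E.obj i₀) := (diag K).hom ≫ σQ
  have hσK : ∀ U (x : K.obj.obj U), (c.ι.app i₀).hom.app U (σK.app U x) = t.1 U :=
    fun U x => hσQ U _
  let α : (K ⨯ K).obj ⟶ uly (E.obj i₀) := (prod.fst : K ⨯ K ⟶ K).hom ≫ σK
  let β : (K ⨯ K).obj ⟶ uly (E.obj i₀) := (prod.snd : K ⨯ K ⟶ K).hom ≫ σK
  obtain ⟨k, f, hf⟩ := exists_map_eq_of_qc hc (K ⨯ K) hQ i₀ α β (fun U q => by
    show (c.ι.app i₀).hom.app U (σK.app U _) = (c.ι.app i₀).hom.app U (σK.app U _)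
    rw [hσK, hσK])
  let τ : K.obj ⟶ uly (E.obj k) :=
    σK ≫ Functor.whiskerRight (E.map f).hom (forget AddCommGrpCat.{u})
  have hτ : ∀ (U : Cᵒᵖ) (x y : K.obj.obj U), τ.app U x = τ.app U y := by
    intro U x y
    have h0 := hf U (pairK K U x y)
    have h1 : α.app U (pairK K U x y) = σK.app U x := congrArg (σK.app U) (pairK_fst K U x y)
    have h2 : β.app U (pairK K U x y) = σK.app U y := congrArg (σK.app U) (pairK_snd K U x y)
    rw [h1, h2] at h0
    exact h0
  obtain ⟨s, hs⟩ := exists_descent K hKepi (E.obj k) τ hτ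
  refine ⟨k, s, ?_⟩
  intro U
  obtain ⟨R, hR, hRg⟩ := locally_nonempty_of_epi K hKepi (unop U)
  refine sep c.pt R hR _ _ ?_
  intro V g hg
  obtain ⟨x⟩ := hRg g hg
  have e1 : c.pt.obj.map g.op ((c.ι.app k).hom.app U (s.1 U)) =
      (c.ι.app k).hom.app (op V) ((E.obj k).obj.map g.op (s.1 U)) :=
    (inc_map c k g.op (s.1 U)).symm
  have h1 : (E.obj k).obj.map g.op (s.1 U) = s.1 (op V) := s.2 g.op
  rw [e1, h1, ← hs (op V) x]
  show (c.ι.app k).hom.app (op V) ((E.map f).hom.app (op V) (σK.app (op V) x)) = _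
  rw [inc_tr_apply, hσK]
  exact (t.2 g.op).symm

/-- injectivity -/
theorem exists_global_eq {c : Cocone E} (hc : IsColimit c) (i : Λ)
    (s s' : (uly (E.obj i)).sections)
    (h : ∀ U, (c.ι.app i).hom.app U (s.1 U) = (c.ι.app i).hom.app U (s'.1 U)) :
    ∃ (k : Λ) (f : i ⟶ k), ∀ U, (E.map f).hom.app U (s.1 U) = (E.map f).hom.app U (s'.1 U) := by
  have hepi : Epi (terminal.from (⊤_ (Sheaf J (Type u)))) := by
    have h1 : terminal.from (⊤_ (Sheaf J (Type u))) = 𝟙 _ := Subsingleton.elim _ _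
    rw [h1]
    infer_instance
  obtain ⟨K, hKS, hKepi, -⟩ := hSa (⊤_ _) hepi
  have hQ := hSb K hKS
  let constS : ∀ (r : (uly (E.obj i)).sections), (K ⨯ K).obj ⟶ uly (E.obj i) := fun r =>
    { app := fun U => ↾fun _ => r.1 U
      naturality := by
        intro U V g
        ext x
        exact (r.2 g).symm }
  obtain ⟨k, f, hf⟩ := exists_map_eq_of_qc hc (K ⨯ K) hQ i (constS s) (constS s')
    (fun U q => h U)
  refine ⟨k, f, ?_⟩
  intro U
  obtain ⟨R, hR, hRg⟩ := locally_nonempty_of_epi K hKepi (unop U)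
  refine sep (E.obj k) R hR _ _ ?_
  intro V g hg
  obtain ⟨x⟩ := hRg g hg
  rw [← tr_map, ← tr_map]
  have h1 : (E.obj i).obj.map g.op (s.1 U) = s.1 (op V) := s.2 g.op
  have h2 : (E.obj i).obj.map g.op (s'.1 U) = s'.1 (op V) := s'.2 g.op
  rw [h1, h2]
  exact hf (op V) (pairK K (op V) x x)

end Main

end Groth.Agent.Lib.Helper68.TopoColim
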