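import Groth.Agent.Lib.Helper68.TopoColim
import Groth.Agent.Lib.Helper68.ShHomColim3
import Groth.Agent.Lib.Helper68.InjModAcyclic
import Groth.Agent.Lib.Helper42.ModSheaf

/-! On a ringed site whose topos has enough quasi-compact objects: global sections of `O`-modules
commute with filtered colimits, and `Hom(F, -)` commutes with filtered colimits for `F` of finite
presentation. -/

set_option autoImplicit false
universe u

open CategoryTheory Category Limits Opposite ModSite

namespace Groth.Agent.Lib.Helper68.TopoGamma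

open Groth.Agent.Lib.Helper42.TensorColim Groth.Agent.Lib.Helper42.Proj
open Groth.Agent.Lib.Helper42.TensorSheaf
open Groth.Agent.Lib.Helper68.TopoColim

variable {C : Type u} [SmallCategory C] {J : GrothendieckTopology C} (O : Sheaf J CommRingCat.{u})

/-- global sections commute with filtered colimits -/
theorem preservesColimit_sections (S : Set (Sheaf J (Type u)))
    (hSa : ∀ F : Sheaf J (Type u), Epi (terminal.from F) →
      ∃ K ∈ S, Epi (terminal.from K) ∧ Nonempty (K ⟶ F))
    (hSb : ∀ K ∈ S, CohCx.IsQcObject (K ⨯ K))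
    {Λ : Type u} [SmallCategory Λ] [IsFiltered Λ] (D : Λ ⥤ Mod O) :
    PreservesColimit D (coyoneda.obj (op (ModSite.unit O))) := by
  constructor
  intro c hc
  have hc' : IsColimit ((SheafOfModules.toSheaf (ringSh O)).mapCocone c) :=
    isColimitOfPreserves (SheafOfModules.toSheaf (ringSh O)) hc
  refine ⟨Types.FilteredColimit.isColimitOf' _ _ ?_ ?_⟩
  · intro x
    obtain ⟨k, s, hs⟩ := exists_global_lift (E := D ⋙ SheafOfModules.toSheaf (ringSh O))
      S hSa hSb hc' (c.pt.unitHomEquiv x)
    obtain ⟨s', hs'⟩ : ∃ s' : (D.obj k).sections, s' = s := ⟨s, rfl⟩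
    refine ⟨k, (D.obj k).unitHomEquiv.symm s', ?_⟩
    apply c.pt.unitHomEquiv.injective
    show c.pt.unitHomEquiv x = c.pt.unitHomEquiv ((D.obj k).unitHomEquiv.symm s' ≫ c.ι.app k)
    have key : (D.obj k).unitHomEquiv ((D.obj k).unitHomEquiv.symm s') = s' :=
      Equiv.apply_symm_apply _ _
    rw [SheafOfModules.unitHomEquiv_comp_apply, key, hs']
    apply PresheafOfModules.sections_ext
    intro U
    exact (hs U).symm
  · intro i x y h
    have h' : ∀ U, (((SheafOfModules.toSheaf (ringSh O)).mapCocone c).ι.app i).hom.app U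
        (((D.obj i).unitHomEquiv x).1 U) =
        (((SheafOfModules.toSheaf (ringSh O)).mapCocone c).ι.app i).hom.app U
        (((D.obj i).unitHomEquiv y).1 U) := by
      intro U
      exact congrArg (fun z => (c.pt.unitHomEquiv z).val U) h
    obtain ⟨k, f, hf⟩ := exists_global_eq (E := D ⋙ SheafOfModules.toSheaf (ringSh O))
      S hSa hSb hc' i ((D.obj i).unitHomEquiv x) ((D.obj i).unitHomEquiv y) h'
    refine ⟨k, f, ?_⟩
    apply (D.obj k).unitHomEquiv.injective
    show (D.obj k).unitHomEquiv (x ≫ D.map f) = (D.obj k).unitHomEquiv (y ≫ D.map f)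
    rw [SheafOfModules.unitHomEquiv_comp_apply, SheafOfModules.unitHomEquiv_comp_apply]
    apply PresheafOfModules.sections_ext
    intro U
    exact hf U

/-- `Hom(G, -) = Γ(ℋom(G, -))` -/
noncomputable def homIso (G : Mod O) [HasSheafHom G] :
    coyoneda.obj (op G) ≅ sheafHom G ⋙ coyoneda.obj (op (ModSite.unit O)) :=
  NatIso.ofComponents (fun M => Equiv.toIso
    ((Iso.homCongr (((tensLUnitIso O).app G).symm :
        G ≅ ((tensorBi O).flip.obj G).obj (ModSite.unit O)) (Iso.refl M)).trans
      ((sheafHomAdj G).homEquiv (ModSite.unit O) M))) (by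
    intro M M' f
    ext g
    show (sheafHomAdj G).homEquiv (ModSite.unit O) M'
        ((((tensLUnitIso O).app G).symm :
          G ≅ ((tensorBi O).flip.obj G).obj (ModSite.unit O)).inv ≫ (g ≫ f) ≫ 𝟙 M') =
      (sheafHomAdj G).homEquiv (ModSite.unit O) M
        ((((tensLUnitIso O).app G).symm :
          G ≅ ((tensorBi O).flip.obj G).obj (ModSite.unit O)).inv ≫ g ≫ 𝟙 M) ≫
        (sheafHom G).map f
    rw [← Adjunction.homEquiv_naturality_right]
    congr 1)

/-- **`Hom(F, -)` commutes with filtered colimits** for `F` of finite presentation -/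
theorem preservesColimit_coyoneda_of_isFinitePresentation (S : Set (Sheaf J (Type u)))
    (hSa : ∀ F : Sheaf J (Type u), Epi (terminal.from F) →
      ∃ K ∈ S, Epi (terminal.from K) ∧ Nonempty (K ⟶ F))
    (hSb : ∀ K ∈ S, CohCx.IsQcObject (K ⨯ K))
    (F : Mod O) [SheafOfModules.IsFinitePresentation (R := ringSh O) F]
    {Λ : Type u} [SmallCategory Λ] [IsFiltered Λ] (D : Λ ⥤ Mod O) :
    PreservesColimit D (coyoneda.obj (op F)) := by
  have : HasSheafHom F := hasSheafHom O F
  have : PreservesColimit D (sheafHom F) :=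
    Groth.Agent.Lib.Helper68.ShHomColim.preservesColimit_sheafHom_of_isFinitePresentation O F D
  have : PreservesColimit (D ⋙ sheafHom F) (coyoneda.obj (op (ModSite.unit O))) :=
    preservesColimit_sections O S hSa hSb _
  exact preservesColimit_of_natIso D (homIso O F).symm

end Groth.Agent.Lib.Helper68.TopoGamma
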