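import Groth.Agent.Lib.Helper68.TorFirst
import Groth.Agent.Lib.Helper68.TorMod3
import Groth.Agent.Lib.Helper68.ARTensor2

/-! Uniform Artin–Rees for `Tor`: for a finite module `M` over a Noetherian ring and `i > 0` there
is `c` with `Tor_i(M, R/I^a) → Tor_i(M, R/I^b)` zero whenever `a ≥ b + c`. -/

set_option autoImplicit false
universe u

open CategoryTheory Limits MonoidalCategory

namespace Groth.Agent.Lib.Helper68.TorAR

open Groth.Agent.Lib.Helper68 Groth.Agent.Lib.Helper68.TorMod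

variable {R : Type u} [CommRing R] (I : Ideal R)

/-- the projection `R/I^a → R/I^b` -/
noncomputable abbrev qmap {a b : ℕ} (h : I ^ a ≤ I ^ b) : (R ⧸ I ^ a) →ₗ[R] (R ⧸ I ^ b) :=
  Submodule.mapQ (I ^ a) (I ^ b) LinearMap.id h

lemma qmap_comp {a b c : ℕ} (h₁ : I ^ a ≤ I ^ b) (h₂ : I ^ b ≤ I ^ c) :
    qmap I h₂ ∘ₗ qmap I h₁ = qmap I (h₁.trans h₂) := by
  apply Submodule.linearMap_qext
  ext
  rfl

/-- `Tor_i(M, R/I^a) → Tor_i(M, R/I^b)` vanishes whenever `a ≥ b + c` -/
def Unif (i : ℕ) (M : ModuleCat.{u} R) (c : ℕ) : Prop :=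
  ∀ (a b : ℕ) (h : I ^ a ≤ I ^ b), b + c ≤ a →
    ((Tor (ModuleCat.{u} R) i).obj M).map (ModuleCat.ofHom (qmap I h)) = 0

variable {I}

lemma tor_map_qmap_comp (i : ℕ) (M : ModuleCat.{u} R) {a b c : ℕ} (h₁ : I ^ a ≤ I ^ b)
    (h₂ : I ^ b ≤ I ^ c) :
    ((Tor (ModuleCat.{u} R) i).obj M).map (ModuleCat.ofHom (qmap I (h₁.trans h₂))) =
      ((Tor (ModuleCat.{u} R) i).obj M).map (ModuleCat.ofHom (qmap I h₁)) ≫
        ((Tor (ModuleCat.{u} R) i).obj M).map (ModuleCat.ofHom (qmap I h₂)) := by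
  rw [← Functor.map_comp, ← ModuleCat.ofHom_comp, qmap_comp]

/-- the base case from a tensor-level statement -/
theorem tor_one_qmap_eq_zero (M : Type u) [AddCommGroup M] [Module R M] {a b : ℕ}
    (h : I ^ a ≤ I ^ b)
    (hker : ∀ y : TensorProduct R M (I ^ a : Ideal R),
      (I ^ a).subtype.lTensor M y = 0 → (Submodule.inclusion h).lTensor M y = 0) :
    ((Tor (ModuleCat.{u} R) 1).obj (ModuleCat.of R M)).map (ModuleCat.ofHom (qmap I h)) = 0 :=
  tor_one_map_eq_zero (ModuleCat.of R M)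
    (I ^ a).subtype (I ^ a).mkQ (LinearMap.exact_subtype_mkQ _)
    (Submodule.subtype_injective _) (Submodule.mkQ_surjective _)
    (I ^ b).subtype (I ^ b).mkQ (LinearMap.exact_subtype_mkQ _)
    (Submodule.subtype_injective _) (Submodule.mkQ_surjective _)
    (Submodule.inclusion h) LinearMap.id (qmap I h)
    (by ext x; rfl) (by ext; rfl)
    (isZero_tor_succ_of_projective (ModuleCat.of R M) R 0)
    (fun y hy => hker y hy)

/-- modules killed by `I^m`: `c = m` works in degree one -/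
theorem unif_one_of_killed (m : ℕ) (M : Type u) [AddCommGroup M] [Module R M]
    (hM : ∀ s ∈ I ^ m, ∀ x : M, s • x = 0) : Unif I 1 (ModuleCat.of R M) m := by
  intro a b h hab
  exact tor_one_qmap_eq_zero M h
    (fun y _ => ARTensor.lTensor_inclusion_eq_zero_of_killed I m hM a b hab h y)

/-- dimension shifting for `Unif` along a presentation with flat middle term -/
theorem unif_succ_of_shortExact {S : ShortComplex (ModuleCat.{u} R)} (hS : S.ShortExact)
    [Module.Flat R S.X₂] (j c : ℕ) (hK : Unif I (j + 1) S.X₁ c) : Unif I (j + 2) S.X₃ c := by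
  intro a b h hab
  have hnat := TorFirst.δ_natural hS (ModuleCat.ofHom (qmap I h)) (j + 1)
  have hmono : Mono (TorFirst.δ hS (ModuleCat.of R (R ⧸ I ^ b)) (j + 1)) :=
    TorFirst.mono_δ hS _ _ (TorFirst.isZero_tor_succ_of_flat_left _ _ S.X₂)
  rw [← cancel_mono (TorFirst.δ hS (ModuleCat.of R (R ⧸ I ^ b)) (j + 1)), zero_comp]
  have h1 := hK a b h hab
  have h2 : ((Tor (ModuleCat.{u} R) (j + 1 + 1)).obj S.X₃).map (ModuleCat.ofHom (qmap I h)) ≫
      TorFirst.δ hS (ModuleCat.of R (R ⧸ I ^ b)) (j + 1) = 0 := by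
    rw [hnat, h1, comp_zero]
  exact h2

/-- uniform Artin–Rees for `Tor_i(M, -)`, `M` finite over a Noetherian ring, `i > 0` -/
theorem exists_unif_of_finite [IsNoetherianRing R] (j : ℕ) :
    ∀ (M : Type u) [AddCommGroup M] [Module R M] [Module.Finite R M],
      ∃ c : ℕ, Unif I (j + 1) (ModuleCat.of R M) c := by
  induction j with
  | zero =>
    intro M _ _ _
    obtain ⟨c, hc⟩ := ARTensor.artin_rees_tensor_uniform (M := M) I
    exact ⟨c, fun a b h hab => tor_one_qmap_eq_zero M h (hc a b hab h)⟩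
  | succ j ih =>
    intro M _ _ _
    obtain ⟨k, p, hp⟩ := Module.Finite.exists_fin' R M
    obtain ⟨c, hc⟩ := ih (LinearMap.ker p)
    refine ⟨c, ?_⟩
    have hS := sc_shortExact (LinearMap.ker p).subtype p (LinearMap.exact_subtype_ker_map p)
      (Submodule.subtype_injective _) hp
    have : Module.Flat R (sc (LinearMap.ker p).subtype p (LinearMap.exact_subtype_ker_map p)).X₂ :=
      inferInstanceAs (Module.Flat R (Fin k → R))
    exact unif_succ_of_shortExact hS j c hc

end Groth.Agent.Lib.Helper68.TorAR
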