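import Groth.Agent.Lib.Helper68.TorColimLeft

/-! If `Tor_p(X, g) = 0` for a morphism `g : N ⟶ N'` then `Tor_p(ι →₀ X, g) = 0`
(first-variable additivity of `Tor` plus commutation with filtered colimits). -/

set_option autoImplicit false
universe u

open CategoryTheory Limits MonoidalCategory

namespace Groth.Agent.Lib.Helper68.TorFreeLeft

open Groth.Agent.Lib.Helper68 Groth.Agent.Lib.Helper68.TorMod
  Groth.Agent.Lib.Helper68.TorColimLeft

variable {R : Type u} [CommRing R]

instance (Q : ChainComplex (ModuleCat.{u} R) ℕ) : (cxF Q).Additive where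
  map_add {M M' f g} := by
    ext i : 1
    rw [HomologicalComplex.add_f_apply]
    exact MonoidalPreadditive.add_whiskerRight (f := f) (g := g) (X := Q.X i)

instance (N : ModuleCat.{u} R) (p : ℕ) : ((Tor (ModuleCat.{u} R) p).flip.obj N).Additive :=
  Functor.additive_of_iso (torFlipIso N (projectiveResolution N) p).symm

variable (R) (X : Type u) [AddCommGroup X] [Module R X] (ι : Type u)

/-- finitely supported functions supported in a finite set -/
noncomputable abbrev sub (T : Finset ι) : ModuleCat.{u} R :=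
  ModuleCat.of R (Finsupp.supported X R (T : Set ι))

/-- the diagram of finite sub-sums -/
noncomputable def diag : Finset ι ⥤ ModuleCat.{u} R where
  obj T := sub R X ι T
  map {T T'} f := ModuleCat.ofHom (Submodule.inclusion
    (Finsupp.supported_mono (by exact_mod_cast (leOfHom f))))
  map_id T := by
    ext x
    rfl
  map_comp f g := by
    ext x
    rfl

/-- the cocone of inclusions -/
noncomputable def cocone : Cocone (diag R X ι) where
  pt := ModuleCat.of R (ι →₀ X)
  ι :=
    { app := fun T => ModuleCat.ofHom (Finsupp.supported X R (T : Set ι)).subtype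
      naturality := by
        intro T T' f
        ext x
        rfl }

theorem nonempty_isColimit_cocone : Nonempty (IsColimit (cocone R X ι)) := by
  classical
  apply FilteredMod.nonempty_isColimit
  · intro x
    refine ⟨(x : ι →₀ X).support, ⟨x, ?_⟩, rfl⟩
    rw [Finsupp.mem_supported]
  · intro T (y : Finsupp.supported X R (T : Set ι)) hy
    refine ⟨T, 𝟙 T, ?_⟩
    have : (y : ι →₀ X) = 0 := hy
    have hy0 : y = 0 := Subtype.ext this
    rw [hy0]
    exact map_zero _

end Groth.Agent.Lib.Helper68.TorFreeLeft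

namespace Groth.Agent.Lib.Helper68.TorFreeLeft

open Groth.Agent.Lib.Helper68 Groth.Agent.Lib.Helper68.TorMod
  Groth.Agent.Lib.Helper68.TorColimLeft

variable {R : Type u} [CommRing R] {X : Type u} [AddCommGroup X] [Module R X] {ι : Type u}

open Classical in
/-- evaluation at `t` -/
noncomputable def ev (T : Finset ι) (t : ι) : sub R X ι T ⟶ ModuleCat.of R X :=
  ModuleCat.ofHom ((Finsupp.lapply t) ∘ₗ (Finsupp.supported X R (T : Set ι)).subtype)

open Classical in
/-- the inclusion of the `t`-th summand (zero if `t ∉ T`) -/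
noncomputable def inc (T : Finset ι) (t : ι) : ModuleCat.of R X ⟶ sub R X ι T :=
  ModuleCat.ofHom ((Finsupp.restrictDom X R (T : Set ι)) ∘ₗ (Finsupp.lsingle t))

lemma sum_ev_inc (T : Finset ι) : ∑ t ∈ T, ev T t ≫ inc (R := R) (X := X) T t = 𝟙 _ := by
  classical
  ext y a
  have h1 : (∑ t ∈ T, ev T t ≫ inc (R := R) (X := X) T t : sub R X ι T ⟶ sub R X ι T).hom y =
      ∑ t ∈ T, (ev T t ≫ inc (R := R) (X := X) T t).hom y := by
    rw [ModuleCat.hom_sum, LinearMap.sum_apply]
  rw [h1, Submodule.coe_sum, Finsupp.finsetSum_apply]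
  have h2 : ∀ t ∈ T, (((ev T t ≫ inc (R := R) (X := X) T t).hom y :
      Finsupp.supported X R (T : Set ι)) : ι →₀ X) a = if t = a then (y : ι →₀ X) a else 0 := by
    intro t ht
    show ((Finsupp.restrictDom X R (T : Set ι)) (Finsupp.single t ((y : ι →₀ X) t)) : ι →₀ X) a = _
    rw [Finsupp.restrictDom_apply, Finsupp.filter_apply]
    by_cases hta : t = a
    · subst hta
      simp [ht]
    · simp [hta]
  rw [Finset.sum_congr rfl h2, Finset.sum_ite_eq']
  show _ = (y : ι →₀ X) a
  split_ifs with haT
  · rfl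
  · have := y.2
    rw [Finsupp.mem_supported'] at this
    exact (this a (by simpa using haT)).symm

variable {N N' : ModuleCat.{u} R} (g : N ⟶ N') (p : ℕ)

/-- the natural transformation `Tor_p(-, N) ⟶ Tor_p(-, N')` induced by `g` -/
noncomputable abbrev θ : (Tor (ModuleCat.{u} R) p).flip.obj N ⟶ (Tor (ModuleCat.{u} R) p).flip.obj N' :=
  (Tor (ModuleCat.{u} R) p).flip.map g

lemma θ_app (M : ModuleCat.{u} R) : (θ g p).app M = ((Tor (ModuleCat.{u} R) p).obj M).map g := rfl

variable (hX : ((Tor (ModuleCat.{u} R) p).obj (ModuleCat.of R X)).map g = 0)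

include hX in
lemma θ_app_sub (T : Finset ι) : (θ g p).app (sub R X ι T) = 0 := by
  have h1 : ((Tor (ModuleCat.{u} R) p).flip.obj N).map (𝟙 (sub R X ι T)) ≫
      (θ g p).app (sub R X ι T) = 0 := by
    rw [← sum_ev_inc T, Functor.map_sum, Preadditive.sum_comp]
    apply Finset.sum_eq_zero
    intro t _
    rw [Functor.map_comp, Category.assoc, (θ g p).naturality (inc T t),
      ← Category.assoc ]
    have : (θ g p).app (ModuleCat.of R X) = 0 := hX
    rw [this, comp_zero, zero_comp]
  rw [CategoryTheory.Functor.map_id, Category.id_comp] at h1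
  exact h1

include hX in
/-- the free step: `Tor_p(ι →₀ X, g) = 0` if `Tor_p(X, g) = 0` -/
theorem tor_map_eq_zero_finsupp :
    ((Tor (ModuleCat.{u} R) p).obj (ModuleCat.of R (ι →₀ X))).map g = 0 := by
  obtain ⟨hc⟩ := nonempty_isColimit_cocone R X ι
  have : PreservesColimitsOfShape (Finset ι) ((Tor (ModuleCat.{u} R) p).flip.obj N) :=
    preserves_tor_flip N p
  have hc' : IsColimit (((Tor (ModuleCat.{u} R) p).flip.obj N).mapCocone (cocone R X ι)) :=
    isColimitOfPreserves _ hc
  show (θ g p).app (cocone R X ι).pt = 0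
  apply hc'.hom_ext
  intro T
  rw [comp_zero]
  have hn := (θ g p).naturality
    (show sub R X ι T ⟶ ModuleCat.of R (ι →₀ X) from (cocone R X ι).ι.app T)
  rw [θ_app_sub g p hX T, zero_comp] at hn
  exact hn

end Groth.Agent.Lib.Helper68.TorFreeLeft
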