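import Groth.Agent.Lib.Helper68.TorAR
import Groth.Agent.Lib.Helper68.TorFreeLeft

/-! Uniform vanishing of `Tor_i(M, R/I^a) → Tor_i(M, R/I^b)` for all modules `M` killed by `I^m`. -/

set_option autoImplicit false
universe u

open CategoryTheory Limits MonoidalCategory

namespace Groth.Agent.Lib.Helper68.TorAR

open Groth.Agent.Lib.Helper68 Groth.Agent.Lib.Helper68.TorMod

variable {R : Type u} [CommRing R] {I : Ideal R}

section Cover

variable (I) (m : ℕ) (M : Type u) [AddCommGroup M] [Module R M]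
  (hM : ∀ s ∈ I ^ m, ∀ x : M, s • x = 0)

/-- the canonical surjection from a free `R/I^m`-module -/
noncomputable def cover : (M →₀ (R ⧸ I ^ m)) →ₗ[R] M :=
  Finsupp.lsum ℕ (fun x => Submodule.liftQ (I ^ m) (LinearMap.toSpanSingleton R M x) (by
    intro s hs
    rw [LinearMap.mem_ker, LinearMap.toSpanSingleton_apply]
    exact hM s hs x))

lemma cover_single (x : M) (r : R) :
    cover I m M hM (Finsupp.single x (Submodule.Quotient.mk r)) = r • x := by
  rw [cover, Finsupp.lsum_single, Submodule.liftQ_apply, LinearMap.toSpanSingleton_apply]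

lemma cover_surjective : Function.Surjective (cover I m M hM) := fun x =>
  ⟨Finsupp.single x (Submodule.Quotient.mk 1), by rw [cover_single, one_smul]⟩

omit hM [AddCommGroup M] [Module R M] in
lemma smul_finsupp_eq_zero (s : R) (hs : s ∈ I ^ m) (f : M →₀ (R ⧸ I ^ m)) : s • f = 0 := by
  ext x
  rw [Finsupp.smul_apply, Finsupp.zero_apply]
  obtain ⟨r, hr⟩ := Submodule.Quotient.mk_surjective _ (f x)
  rw [← hr, ← Submodule.Quotient.mk_smul, Submodule.Quotient.mk_eq_zero, smul_eq_mul]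
  exact Ideal.mul_mem_right _ _ hs

end Cover

/-- for every `i > 0` there is `c` such that `Tor_i(M, R/I^a) → Tor_i(M, R/I^b)` vanishes for all
`a ≥ b + c` and all `M` killed by `I^m` -/
theorem exists_unif_of_killed [IsNoetherianRing R] (I : Ideal R) (m j : ℕ) :
    ∃ c : ℕ, ∀ (M : Type u) [AddCommGroup M] [Module R M],
      (∀ s ∈ I ^ m, ∀ x : M, s • x = 0) → Unif I (j + 1) (ModuleCat.of R M) c := by
  induction j with
  | zero => exact ⟨m, fun M _ _ hM => unif_one_of_killed m M hM⟩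
  | succ j ih =>
    obtain ⟨c₁, hc₁⟩ := ih
    obtain ⟨c₂, hc₂⟩ := exists_unif_of_finite (I := I) (j + 1) (R ⧸ I ^ m)
    refine ⟨c₁ + c₂, fun M _ _ hM => ?_⟩
    intro a b h hab
    -- the presentation
    obtain ⟨π, hπ⟩ : ∃ π : (M →₀ (R ⧸ I ^ m)) →ₗ[R] M, π = cover I m M hM := ⟨_, rfl⟩
    have hπs : Function.Surjective π := hπ ▸ cover_surjective I m M hM
    have hS := sc_shortExact (A := LinearMap.ker π) (B := M →₀ (R ⧸ I ^ m)) (C := M)
      (LinearMap.ker π).subtype π (LinearMap.exact_subtype_ker_map π)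
      (Submodule.subtype_injective _) hπs
    have hK : ∀ s ∈ I ^ m, ∀ k : LinearMap.ker π, s • k = 0 := by
      intro s hs k
      apply Subtype.ext
      exact smul_finsupp_eq_zero I m M s hs k.1
    have hK' := hc₁ (LinearMap.ker π) hK
    -- factor the projection
    have h₁ : I ^ a ≤ I ^ (b + c₂) := Ideal.pow_le_pow_right (by omega)
    have h₂ : I ^ (b + c₂) ≤ I ^ b := Ideal.pow_le_pow_right (by omega)
    have hfac := tor_map_qmap_comp (j + 1 + 1) (ModuleCat.of R M) h₁ h₂
    have e1 := hK' a (b + c₂) h₁ (by omega)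
    have e2 : ((Tor (ModuleCat.{u} R) (j + 1 + 1)).obj
        (ModuleCat.of R (M →₀ (R ⧸ I ^ m)))).map (ModuleCat.ofHom (qmap I h₂)) = 0 :=
      TorFreeLeft.tor_map_eq_zero_finsupp _ _ (hc₂ (b + c₂) b h₂ le_rfl)
    rw [show h = h₁.trans h₂ from rfl, hfac]
    ext x
    -- image of `x` in `Tor(M, R/I^(b+c₂))` is killed by `δ`
    have hn := TorFirst.δ_natural hS (ModuleCat.ofHom (qmap I h₁)) (j + 1)
    rw [e1, comp_zero] at hn
    have hx' := ConcreteCategory.congr_hom hn x
    have hex := TorFirst.exact₃ hS (ModuleCat.of R (R ⧸ I ^ (b + c₂))) (j + 1)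
    rw [ShortComplex.moduleCat_exact_iff] at hex
    obtain ⟨y, hy⟩ := hex _ hx'
    -- push forward to `R/I^b`
    have hn2 := ((Tor (ModuleCat.{u} R) (j + 1 + 1)).map (ModuleCat.ofHom π)).naturality
      (ModuleCat.ofHom (qmap I h₂))
    rw [e2, zero_comp] at hn2
    have hy2 := ConcreteCategory.congr_hom hn2 y
    change ((Tor (ModuleCat.{u} R) (j + 1 + 1)).obj (ModuleCat.of R M)).map
      (ModuleCat.ofHom (qmap I h₂))
      (((Tor (ModuleCat.{u} R) (j + 1 + 1)).obj (ModuleCat.of R M)).map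
        (ModuleCat.ofHom (qmap I h₁)) x) = 0
    have hy' : ((Tor (ModuleCat.{u} R) (j + 1 + 1)).map (ModuleCat.ofHom π)).app
        (ModuleCat.of R (R ⧸ I ^ (b + c₂))) y =
        ((Tor (ModuleCat.{u} R) (j + 1 + 1)).obj (ModuleCat.of R M)).map
          (ModuleCat.ofHom (qmap I h₁)) x := hy
    rw [← hy']
    exact hy2.symm

end Groth.Agent.Lib.Helper68.TorAR
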