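import Groth.Agent.Lib.Helper68.HomologyColim
import Groth.Agent.Lib.Helper68.TorMod

/-! `M ↦ Tor_p(M, N)` preserves filtered colimits. -/

set_option autoImplicit false
universe u

open CategoryTheory Limits MonoidalCategory

namespace Groth.Agent.Lib.Helper68.TorColimLeft

open Groth.Agent.Lib.Helper68 Groth.Agent.Lib.Helper68.TorMod

variable {R : Type u} [CommRing R]

/-- `M ↦ M ⊗ Q` for a complex `Q` -/
noncomputable def cxF (Q : ChainComplex (ModuleCat.{u} R) ℕ) :
    ModuleCat.{u} R ⥤ ChainComplex (ModuleCat.{u} R) ℕ where
  obj M := ((tF M).mapHomologicalComplex _).obj Q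
  map f := (NatTrans.mapHomologicalComplex ((tensoringLeft (ModuleCat.{u} R)).map f) _).app Q
  map_id M := by
    ext i : 2
    simp
  map_comp f g := by
    ext i : 2
    simp

/-- `Tor_p(-, N)` computed on a resolution of `N` -/
noncomputable def torFlipIso (N : ModuleCat.{u} R) (P : ProjectiveResolution N) (p : ℕ) :
    (Tor (ModuleCat.{u} R) p).flip.obj N ≅
      cxF P.complex ⋙ HomologicalComplex.homologyFunctor _ _ p :=
  NatIso.ofComponents (fun M => P.isoLeftDerivedObj (tF M) p) (by
    intro M M' f
    have h := P.leftDerived_app_eq ((tensoringLeft (ModuleCat.{u} R)).map f) p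
    show (NatTrans.leftDerived ((tensoringLeft (ModuleCat.{u} R)).map f) p).app N ≫ _ = _
    rw [h, Category.assoc, Category.assoc]
    erw [Iso.inv_hom_id, Category.comp_id]
    rfl)

instance (X : ModuleCat.{u} R) {J : Type u} [SmallCategory J] :
    PreservesColimitsOfShape J (tensorRight X) :=
  preservesColimitsOfShape_of_natIso (BraidedCategory.tensorLeftIsoTensorRight X)

/-- evaluation of `cxF` in one degree -/
noncomputable def cxFEvalIso (Q : ChainComplex (ModuleCat.{u} R) ℕ) (i : ℕ) :
    cxF Q ⋙ HomologicalComplex.eval _ _ i ≅ tensorRight (Q.X i) :=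
  NatIso.ofComponents (fun _ => Iso.refl _) (by
    intro M M' f
    exact (Category.comp_id _).trans (Category.id_comp _).symm)

variable {J : Type u} [SmallCategory J] [IsFiltered J]

instance (Q : ChainComplex (ModuleCat.{u} R) ℕ) (i : ℕ) :
    PreservesColimitsOfShape J (cxF Q ⋙ HomologicalComplex.eval _ _ i) :=
  preservesColimitsOfShape_of_natIso (cxFEvalIso Q i).symm

theorem preserves_tor_flip (N : ModuleCat.{u} R) (p : ℕ) :
    PreservesColimitsOfShape J ((Tor (ModuleCat.{u} R) p).flip.obj N) := by
  have : PreservesColimitsOfShape J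
      (cxF (projectiveResolution N).complex ⋙ HomologicalComplex.homologyFunctor _ _ p) := by
    constructor
    intro D
    exact HomologyColim.preservesColimit_homology _ D p
  exact preservesColimitsOfShape_of_natIso (torFlipIso N (projectiveResolution N) p).symm

end Groth.Agent.Lib.Helper68.TorColimLeft
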