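import Groth.Agent.Lib.Helper68.Devissage
import Groth.Agent.Lib.Helper68.FGColim
import Groth.Agent.Lib.Helper68.TorFirst
import Groth.Agent.Lib.Helper68.TorColimLeft
import Groth.Agent.Lib.Helper68.TorFreeLeft

/-! Tor-dimension over a Noetherian ring is detected by residue fields. -/

set_option autoImplicit false
universe u

open CategoryTheory Limits

namespace Groth.Agent.Lib.Helper68.TorDev

open Groth.Agent.Lib.Helper68

variable {A : Type u} [CommRing A] [IsNoetherianRing A]

theorem isZero_tor_of_residueField (M : ModuleCat.{u} A) (n : ℕ)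
    (h : ∀ (x : Ideal A) [x.IsPrime] (i : ℕ), n < i →
      IsZero (((Tor (ModuleCat.{u} A) i).obj (ModuleCat.of A x.ResidueField)).obj M))
    (N : ModuleCat.{u} A) (i : ℕ) (hi : n < i) :
    IsZero (((Tor (ModuleCat.{u} A) i).obj N).obj M) := by
  refine Devissage.devissage
    (fun L => ∀ i : ℕ, n < i → IsZero (((Tor (ModuleCat.{u} A) i).obj L).obj M))
    ?_ ?_ ?_ ?_ ?_ ?_ N i hi
  · -- h₁
    intro S hS h2 h3 i hi
    exact (TorFirst.exact₁ hS M i).isZero_of_both_zeros
      ((h3 (i + 1) (by omega)).eq_of_src _ _) ((h2 i hi).eq_of_tgt _ _)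
  · -- hcolim
    intro L hL i hi
    have : PreservesColimitsOfShape (FGColim.J L) ((Tor (ModuleCat.{u} A) i).flip.obj M) :=
      TorColimLeft.preserves_tor_flip M i
    exact FGColim.isZero_obj L ((Tor (ModuleCat.{u} A) i).flip.obj M) (fun L' hL' => hL L' hL' i hi)
  · -- hres
    intro p _ i hi
    exact h p i hi
  · -- hiso
    intro L L' e hL i hi
    exact (hL i hi).of_iso (((Tor (ModuleCat.{u} A) i).mapIso e.symm).app M)
  · -- hzero
    intro L hL i hi
    exact ((Tor (ModuleCat.{u} A) i).flip.obj M).map_isZero hL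
  · -- h₂
    intro S hS h1 h3 i hi
    exact (TorFirst.exact₂ hS M i).isZero_of_both_zeros
      ((h1 i hi).eq_of_src _ _) ((h3 i hi).eq_of_tgt _ _)

end Groth.Agent.Lib.Helper68.TorDev
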