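import Groth.Agent.Lib.Helper68.TorFirst2
import Groth.Agent.Lib.Helper68.LeftDerivedNatTrans
import Groth.Agent.Lib.Helper68.FreeCover
import Groth.Agent.Lib.Helper68.TorMod3

/-! Natural balancing of `Tor` on `ModuleCat R`: `Tor i ≅ (Tor i).flip` as bifunctors. -/

set_option autoImplicit false
universe u

open CategoryTheory Limits MonoidalCategory Category

namespace Groth.Agent.Lib.Helper68.TorSymm

open Groth.Agent.Lib.Helper68 Groth.Agent.Lib.Helper68.TorMod Groth.Agent.Lib.Helper68.FreeCover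

variable {R : Type u} [CommRing R]

/-- abbreviation -/
noncomputable abbrev T (i : ℕ) : ModuleCat.{u} R ⥤ ModuleCat.{u} R ⥤ ModuleCat.{u} R :=
  Tor (ModuleCat.{u} R) i

instance (N : ModuleCat.{u} R) : Projective (FreeCover.sc N).X₂ :=
  inferInstanceAs (Projective ((Ff R).obj N))

instance (N : ModuleCat.{u} R) : Module.Flat R (FreeCover.sc N).X₂ :=
  inferInstanceAs (Module.Flat R ((Ff R).obj N))

section SecondVariable

variable (i : ℕ) (M N : ModuleCat.{u} R)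

/-- `Tor_{i+1}(M, N) ⟶ Tor_i(M, K N)` -/
noncomputable def d₁ : ((T (i + 1)).obj M).obj N ⟶ ((T i).obj M).obj ((Kf R).obj N) :=
  LeftDerivedLES.δ (tF M) (sc_shortExact N) i

instance : Mono (d₁ i M N) :=
  LeftDerivedLES.mono_δ (tF M) (sc_shortExact N) i
    (Functor.isZero_leftDerived_obj_projective_succ _ _ _)

lemma d₁_a₁ : d₁ i M N ≫ ((T i).obj M).map ((Kι R).app N) = 0 :=
  LeftDerivedLES.δ_map_f (tF M) (sc_shortExact N) i

lemma d₁_exact : (ShortComplex.mk (d₁ i M N) (((T i).obj M).map ((Kι R).app N))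
    (d₁_a₁ i M N)).Exact :=
  LeftDerivedLES.exact₁ (tF M) (sc_shortExact N) i

variable {M N}

@[reassoc]
lemma d₁_natural_right {N' : ModuleCat.{u} R} (g : N ⟶ N') :
    ((T (i + 1)).obj M).map g ≫ d₁ i M N' = d₁ i M N ≫ ((T i).obj M).map ((Kf R).map g) :=
  LeftDerivedLES.δ_natural (tF M) (sc_shortExact N) (sc_shortExact N') (scMap g) i

@[reassoc]
lemma d₁_natural_left {M' : ModuleCat.{u} R} (f : M ⟶ M') :
    ((T (i + 1)).map f).app N ≫ d₁ i M' N = d₁ i M N ≫ ((T i).map f).app ((Kf R).obj N) :=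
  LeftDerivedLES.δ_natTrans ((tensoringLeft (ModuleCat.{u} R)).map f) (sc_shortExact N) i

end SecondVariable

section FirstVariable

variable (i : ℕ) (M N : ModuleCat.{u} R)

/-- `Tor_{i+1}(N, M) ⟶ Tor_i(K N, M)` -/
noncomputable def d₂ : ((T (i + 1)).obj N).obj M ⟶ ((T i).obj ((Kf R).obj N)).obj M :=
  TorFirst.δ (sc_shortExact N) M i

instance : Mono (d₂ i M N) :=
  TorFirst.mono_δ (sc_shortExact N) M i
    (TorFirst.isZero_tor_succ_of_flat_left M i (FreeCover.sc N).X₂)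

lemma d₂_a₂ : d₂ i M N ≫ ((T i).map ((Kι R).app N)).app M = 0 :=
  TorFirst.δ_map_f (sc_shortExact N) M i

lemma d₂_exact : (ShortComplex.mk (d₂ i M N) (((T i).map ((Kι R).app N)).app M)
    (d₂_a₂ i M N)).Exact :=
  TorFirst.exact₁ (sc_shortExact N) M i

variable {M N}

@[reassoc]
lemma d₂_natural_right {N' : ModuleCat.{u} R} (g : N ⟶ N') :
    ((T (i + 1)).map g).app M ≫ d₂ i M N' = d₂ i M N ≫ ((T i).map ((Kf R).map g)).app M :=
  TorFirst.δ_natural_left (sc_shortExact N) (sc_shortExact N') (scMap g) M i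

@[reassoc]
lemma d₂_natural_left {M' : ModuleCat.{u} R} (f : M ⟶ M') :
    ((T (i + 1)).obj N).map f ≫ d₂ i M' N = d₂ i M N ≫ ((T i).obj ((Kf R).obj N)).map f :=
  TorFirst.δ_natural (sc_shortExact N) f i

end FirstVariable


section Step

variable {i : ℕ} (Φ : T (R := R) i ≅ (T i).flip)

/-- component of `Φ` -/
noncomputable def φ (M X : ModuleCat.{u} R) : ((T i).obj M).obj X ⟶ ((T i).obj X).obj M :=
  (Φ.hom.app M).app X

/-- component of `Φ⁻¹` -/
noncomputable def φinv (M X : ModuleCat.{u} R) : ((T i).obj X).obj M ⟶ ((T i).obj M).obj X :=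
  (Φ.inv.app M).app X

@[reassoc (attr := simp)]
lemma φ_φinv (M X : ModuleCat.{u} R) : φ Φ M X ≫ φinv Φ M X = 𝟙 _ := by
  dsimp only [φ, φinv]
  rw [← NatTrans.comp_app, ← NatTrans.comp_app, Iso.hom_inv_id]
  rfl

@[reassoc (attr := simp)]
lemma φinv_φ (M X : ModuleCat.{u} R) : φinv Φ M X ≫ φ Φ M X = 𝟙 _ := by
  dsimp only [φ, φinv]
  rw [← NatTrans.comp_app, ← NatTrans.comp_app, Iso.inv_hom_id]
  rfl

@[reassoc]
lemma φ_natural_right (M : ModuleCat.{u} R) {X Y : ModuleCat.{u} R} (g : X ⟶ Y) :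
    ((T i).obj M).map g ≫ φ Φ M Y = φ Φ M X ≫ ((T i).map g).app M :=
  (Φ.hom.app M).naturality g

@[reassoc]
lemma φ_natural_left {M M' : ModuleCat.{u} R} (f : M ⟶ M') (X : ModuleCat.{u} R) :
    ((T i).map f).app X ≫ φ Φ M' X = φ Φ M X ≫ ((T i).obj X).map f :=
  congr_app (Φ.hom.naturality f) X

@[reassoc]
lemma φinv_natural_right (M : ModuleCat.{u} R) {X Y : ModuleCat.{u} R} (g : X ⟶ Y) :
    ((T i).map g).app M ≫ φinv Φ M Y = φinv Φ M X ≫ ((T i).obj M).map g :=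
  (Φ.inv.app M).naturality g

variable (M N : ModuleCat.{u} R)

lemma e_aux : (d₁ i M N ≫ φ Φ M ((Kf R).obj N)) ≫ ((T i).map ((Kι R).app N)).app M = 0 := by
  rw [assoc, ← φ_natural_right, ← assoc, d₁_a₁, zero_comp]

lemma e'_aux : (d₂ i M N ≫ φinv Φ M ((Kf R).obj N)) ≫ ((T i).obj M).map ((Kι R).app N) = 0 := by
  rw [assoc, ← φinv_natural_right, ← assoc, d₂_a₂, zero_comp]

/-- the step morphism `Tor_{i+1}(M, N) ⟶ Tor_{i+1}(N, M)` -/
noncomputable def e : ((T (i + 1)).obj M).obj N ⟶ ((T (i + 1)).obj N).obj M :=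
  (d₂_exact i M N).lift (d₁ i M N ≫ φ Φ M ((Kf R).obj N)) (e_aux Φ M N)

/-- the inverse step morphism -/
noncomputable def e' : ((T (i + 1)).obj N).obj M ⟶ ((T (i + 1)).obj M).obj N :=
  (d₁_exact i M N).lift (d₂ i M N ≫ φinv Φ M ((Kf R).obj N)) (e'_aux Φ M N)

@[reassoc (attr := simp)]
lemma e_d₂ : e Φ M N ≫ d₂ i M N = d₁ i M N ≫ φ Φ M ((Kf R).obj N) :=
  (d₂_exact i M N).lift_f _ _

@[reassoc (attr := simp)]
lemma e'_d₁ : e' Φ M N ≫ d₁ i M N = d₂ i M N ≫ φinv Φ M ((Kf R).obj N) :=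
  (d₁_exact i M N).lift_f _ _

@[reassoc (attr := simp)]
lemma e_e' : e Φ M N ≫ e' Φ M N = 𝟙 _ := by
  rw [← cancel_mono (d₁ i M N), assoc, e'_d₁, e_d₂_assoc, φ_φinv, comp_id, id_comp]

@[reassoc (attr := simp)]
lemma e'_e : e' Φ M N ≫ e Φ M N = 𝟙 _ := by
  rw [← cancel_mono (d₂ i M N), assoc, e_d₂, e'_d₁_assoc, φinv_φ, comp_id, id_comp]

variable {M N}

lemma e_natural_right {N' : ModuleCat.{u} R} (g : N ⟶ N') :
    ((T (i + 1)).obj M).map g ≫ e Φ M N' = e Φ M N ≫ ((T (i + 1)).map g).app M := by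
  rw [← cancel_mono (d₂ i M N'), assoc, assoc, e_d₂, d₂_natural_right, e_d₂_assoc,
    d₁_natural_right_assoc, φ_natural_right]

lemma e_natural_left {M' : ModuleCat.{u} R} (f : M ⟶ M') :
    ((T (i + 1)).map f).app N ≫ e Φ M' N = e Φ M N ≫ ((T (i + 1)).obj N).map f := by
  rw [← cancel_mono (d₂ i M' N), assoc, assoc, e_d₂, d₂_natural_left, e_d₂_assoc,
    d₁_natural_left_assoc, φ_natural_left]

/-- the inductive step of the balancing isomorphism -/
noncomputable def step : T (R := R) (i + 1) ≅ (T (i + 1)).flip :=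
  NatIso.ofComponents
    (fun M => NatIso.ofComponents
      (fun N => { hom := e Φ M N, inv := e' Φ M N, hom_inv_id := e_e' Φ M N,
                  inv_hom_id := e'_e Φ M N })
      (fun g => e_natural_right Φ g))
    (fun f => by
      ext N : 2
      exact e_natural_left Φ f)

end Step


section Base

/-- `Tor_0(M, N) ≅ M ⊗ N` -/
noncomputable def z (M N : ModuleCat.{u} R) : ((T 0).obj M).obj N ≅ M ⊗ N :=
  (tF M).leftDerivedZeroIsoSelf.app N

@[reassoc]
lemma z_natural_right (M : ModuleCat.{u} R) {N N' : ModuleCat.{u} R} (g : N ⟶ N') :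
    ((T 0).obj M).map g ≫ (z M N').hom = (z M N).hom ≫ (M ◁ g) :=
  (tF M).leftDerivedZeroIsoSelf.hom.naturality g

@[reassoc]
lemma z_natural_left {M M' : ModuleCat.{u} R} (f : M ⟶ M') (N : ModuleCat.{u} R) :
    ((T 0).map f).app N ≫ (z M' N).hom = (z M N).hom ≫ (f ▷ N) :=
  congr_app (LeftDerivedLES.fromLeftDerivedZero_natTrans
    ((tensoringLeft (ModuleCat.{u} R)).map f)) N

@[reassoc]
lemma z_inv_natural_right (M : ModuleCat.{u} R) {N N' : ModuleCat.{u} R} (g : N ⟶ N') :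
    (z M N).inv ≫ ((T 0).obj M).map g = (M ◁ g) ≫ (z M N').inv := by
  rw [Iso.inv_comp_eq, ← assoc, Iso.eq_comp_inv, z_natural_right]

@[reassoc]
lemma z_inv_natural_left {M M' : ModuleCat.{u} R} (f : M ⟶ M') (N : ModuleCat.{u} R) :
    (z M N).inv ≫ ((T 0).map f).app N = (f ▷ N) ≫ (z M' N).inv := by
  rw [Iso.inv_comp_eq, ← assoc, Iso.eq_comp_inv, z_natural_left]

/-- `Tor_0(M, N) ≅ Tor_0(N, M)` -/
noncomputable def ψ (M N : ModuleCat.{u} R) : ((T 0).obj M).obj N ≅ ((T 0).obj N).obj M :=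
  z M N ≪≫ β_ M N ≪≫ (z N M).symm

lemma ψ_natural_right (M : ModuleCat.{u} R) {N N' : ModuleCat.{u} R} (g : N ⟶ N') :
    ((T 0).obj M).map g ≫ (ψ M N').hom = (ψ M N).hom ≫ ((T 0).map g).app M := by
  dsimp only [ψ, Iso.trans_hom, Iso.symm_hom]
  rw [z_natural_right_assoc, BraidedCategory.braiding_naturality_right_assoc, assoc, assoc,
    z_inv_natural_left]

lemma ψ_natural_left {M M' : ModuleCat.{u} R} (f : M ⟶ M') (N : ModuleCat.{u} R) :
    ((T 0).map f).app N ≫ (ψ M' N).hom = (ψ M N).hom ≫ ((T 0).obj N).map f := by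
  dsimp only [ψ, Iso.trans_hom, Iso.symm_hom]
  rw [z_natural_left_assoc, BraidedCategory.braiding_naturality_left_assoc, assoc, assoc,
    z_inv_natural_right]

/-- the base case of the balancing isomorphism -/
noncomputable def base : T (R := R) 0 ≅ (T 0).flip :=
  NatIso.ofComponents
    (fun M => NatIso.ofComponents (fun N => ψ M N) (fun g => ψ_natural_right M g))
    (fun f => by
      ext N : 2
      exact ψ_natural_left f N)

end Base

/-- **Natural balancing of Tor**: `Tor_i(M, N) ≅ Tor_i(N, M)` as bifunctors. -/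
noncomputable def torIsoFlip : ∀ i : ℕ, (T (R := R) i ≅ (T i).flip)
  | 0 => base
  | i + 1 => step (torIsoFlip i)

end Groth.Agent.Lib.Helper68.TorSymm
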