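import Groth.Agent.Lib.Helper68.TorDev
import Groth.Agent.Lib.Helper68.Five
import Groth.Agent.Lib.Helper68.TorSymm

/-! A morphism of modules over a Noetherian ring inducing isomorphisms on all
`Tor_i(κ(x), -)` induces isomorphisms on all `Tor_i(L, -)`; in particular it is an isomorphism. -/

set_option autoImplicit false
universe u

open CategoryTheory Limits MonoidalCategory ZeroObject

namespace Groth.Agent.Lib.Helper68.TorDev

open Groth.Agent.Lib.Helper68

variable {A : Type u} [CommRing A]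

lemma epi_map_g_zero {S : ShortComplex (ModuleCat.{u} A)} (hS : S.ShortExact)
    (N : ModuleCat.{u} A) : Epi (((Tor (ModuleCat.{u} A) 0).map S.g).app N) :=
  FunctorSES.epi_app_zero (TorFirst.exactOnProj hS) N

variable {M N : ModuleCat.{u} A} (u : M ⟶ N)

/-- the property: `Tor_i(L, u)` is an isomorphism for all `i` -/
def Pr (L : ModuleCat.{u} A) : Prop :=
  ∀ i : ℕ, IsIso (((Tor (ModuleCat.{u} A) i).obj L).map u)

variable {S : ShortComplex (ModuleCat.{u} A)} (hS : S.ShortExact)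

include hS in
lemma pr_X₁ (h2 : Pr u S.X₂) (h3 : Pr u S.X₃) : Pr u S.X₁ := by
  intro i
  have := h2 i
  have := h2 (i + 1)
  have := h3 i
  have := h3 (i + 1)
  exact five_lemma
    (((Tor (ModuleCat.{u} A) (i + 1)).map S.g).app M) (TorFirst.δ hS M i)
    (((Tor (ModuleCat.{u} A) i).map S.f).app M) (((Tor (ModuleCat.{u} A) i).map S.g).app M)
    (((Tor (ModuleCat.{u} A) (i + 1)).map S.g).app N) (TorFirst.δ hS N i)
    (((Tor (ModuleCat.{u} A) i).map S.f).app N) (((Tor (ModuleCat.{u} A) i).map S.g).app N)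
    (TorFirst.map_g_δ hS M i) (TorFirst.δ_map_f hS M i) (TorFirst.map_f_map_g hS M i)
    (TorFirst.map_g_δ hS N i) (TorFirst.δ_map_f hS N i) (TorFirst.map_f_map_g hS N i)
    (TorFirst.exact₃ hS M i) (TorFirst.exact₁ hS M i) (TorFirst.exact₂ hS M i)
    (TorFirst.exact₃ hS N i) (TorFirst.exact₁ hS N i) (TorFirst.exact₂ hS N i)
    (((Tor (ModuleCat.{u} A) (i + 1)).obj S.X₂).map u)
    (((Tor (ModuleCat.{u} A) (i + 1)).obj S.X₃).map u)
    (((Tor (ModuleCat.{u} A) i).obj S.X₁).map u)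
    (((Tor (ModuleCat.{u} A) i).obj S.X₂).map u)
    (((Tor (ModuleCat.{u} A) i).obj S.X₃).map u)
    (((Tor (ModuleCat.{u} A) (i + 1)).map S.g).naturality u).symm
    (TorFirst.δ_natural hS u i).symm
    (((Tor (ModuleCat.{u} A) i).map S.f).naturality u).symm
    (((Tor (ModuleCat.{u} A) i).map S.g).naturality u).symm
    inferInstance inferInstance inferInstance inferInstance

include hS in
lemma pr_X₂ (h1 : Pr u S.X₁) (h3 : Pr u S.X₃) : Pr u S.X₂ := by
  intro i
  cases i with
  | zero =>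
    have := h1 0
    have := h3 0
    have := h3 1
    have hM : Epi (((Tor (ModuleCat.{u} A) 0).map S.g).app M) := epi_map_g_zero hS M
    have hN : Epi (((Tor (ModuleCat.{u} A) 0).map S.g).app N) := epi_map_g_zero hS N
    exact five_lemma
      (TorFirst.δ hS M 0) (((Tor (ModuleCat.{u} A) 0).map S.f).app M)
      (((Tor (ModuleCat.{u} A) 0).map S.g).app M)
      (0 : ((Tor (ModuleCat.{u} A) 0).obj S.X₃).obj M ⟶ (0 : ModuleCat.{u} A))
      (TorFirst.δ hS N 0) (((Tor (ModuleCat.{u} A) 0).map S.f).app N)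
      (((Tor (ModuleCat.{u} A) 0).map S.g).app N)
      (0 : ((Tor (ModuleCat.{u} A) 0).obj S.X₃).obj N ⟶ (0 : ModuleCat.{u} A))
      (TorFirst.δ_map_f hS M 0) (TorFirst.map_f_map_g hS M 0) comp_zero
      (TorFirst.δ_map_f hS N 0) (TorFirst.map_f_map_g hS N 0) comp_zero
      (TorFirst.exact₁ hS M 0) (TorFirst.exact₂ hS M 0)
      ((ShortComplex.exact_iff_epi _ rfl).mpr hM)
      (TorFirst.exact₁ hS N 0) (TorFirst.exact₂ hS N 0)
      ((ShortComplex.exact_iff_epi _ rfl).mpr hN)
      (((Tor (ModuleCat.{u} A) 1).obj S.X₃).map u)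
      (((Tor (ModuleCat.{u} A) 0).obj S.X₁).map u)
      (((Tor (ModuleCat.{u} A) 0).obj S.X₂).map u)
      (((Tor (ModuleCat.{u} A) 0).obj S.X₃).map u)
      (𝟙 (0 : ModuleCat.{u} A))
      (TorFirst.δ_natural hS u 0).symm
      (((Tor (ModuleCat.{u} A) 0).map S.f).naturality u).symm
      (((Tor (ModuleCat.{u} A) 0).map S.g).naturality u).symm
      (by rw [zero_comp, comp_zero])
      inferInstance inferInstance inferInstance inferInstance
  | succ j =>
    have := h1 (j + 1)
    have := h1 j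
    have := h3 (j + 1)
    have := h3 (j + 2)
    exact five_lemma
      (TorFirst.δ hS M (j + 1)) (((Tor (ModuleCat.{u} A) (j + 1)).map S.f).app M)
      (((Tor (ModuleCat.{u} A) (j + 1)).map S.g).app M) (TorFirst.δ hS M j)
      (TorFirst.δ hS N (j + 1)) (((Tor (ModuleCat.{u} A) (j + 1)).map S.f).app N)
      (((Tor (ModuleCat.{u} A) (j + 1)).map S.g).app N) (TorFirst.δ hS N j)
      (TorFirst.δ_map_f hS M (j + 1)) (TorFirst.map_f_map_g hS M (j + 1)) (TorFirst.map_g_δ hS M j)
      (TorFirst.δ_map_f hS N (j + 1)) (TorFirst.map_f_map_g hS N (j + 1)) (TorFirst.map_g_δ hS N j)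
      (TorFirst.exact₁ hS M (j + 1)) (TorFirst.exact₂ hS M (j + 1)) (TorFirst.exact₃ hS M j)
      (TorFirst.exact₁ hS N (j + 1)) (TorFirst.exact₂ hS N (j + 1)) (TorFirst.exact₃ hS N j)
      (((Tor (ModuleCat.{u} A) (j + 2)).obj S.X₃).map u)
      (((Tor (ModuleCat.{u} A) (j + 1)).obj S.X₁).map u)
      (((Tor (ModuleCat.{u} A) (j + 1)).obj S.X₂).map u)
      (((Tor (ModuleCat.{u} A) (j + 1)).obj S.X₃).map u)
      (((Tor (ModuleCat.{u} A) j).obj S.X₁).map u)
      (TorFirst.δ_natural hS u (j + 1)).symm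
      (((Tor (ModuleCat.{u} A) (j + 1)).map S.f).naturality u).symm
      (((Tor (ModuleCat.{u} A) (j + 1)).map S.g).naturality u).symm
      (TorFirst.δ_natural hS u j).symm
      inferInstance inferInstance inferInstance inferInstance

variable [IsNoetherianRing A]

/-- dévissage for `Pr` -/
theorem pr_all
    (h : ∀ (x : Ideal A) [x.IsPrime], Pr u (ModuleCat.of A x.ResidueField))
    (L : ModuleCat.{u} A) : Pr u L := by
  refine Devissage.devissage (Pr u) ?_ ?_ ?_ ?_ ?_ ?_ L
  · intro S hS h2 h3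
    exact pr_X₁ u hS h2 h3
  · intro L hL i
    have : PreservesColimitsOfShape (FGColim.J L) ((Tor (ModuleCat.{u} A) i).flip.obj M) :=
      TorColimLeft.preserves_tor_flip M i
    have : PreservesColimitsOfShape (FGColim.J L) ((Tor (ModuleCat.{u} A) i).flip.obj N) :=
      TorColimLeft.preserves_tor_flip N i
    exact FGColim.isIso_app L ((Tor (ModuleCat.{u} A) i).flip.map u) (fun L' hL' => hL L' hL' i)
  · intro p _
    exact h p
  · intro L L' e hL i
    have := hL i
    have nat := ((Tor (ModuleCat.{u} A) i).map e.hom).naturality u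
    have h1 : IsIso (((Tor (ModuleCat.{u} A) i).map e.hom).app M) :=
      inferInstanceAs (IsIso ((((Tor (ModuleCat.{u} A) i).mapIso e).app M).hom))
    have h2 : IsIso (((Tor (ModuleCat.{u} A) i).map e.hom).app N) :=
      inferInstanceAs (IsIso ((((Tor (ModuleCat.{u} A) i).mapIso e).app N).hom))
    have h3 : ((Tor (ModuleCat.{u} A) i).obj L').map u =
        inv (((Tor (ModuleCat.{u} A) i).map e.hom).app M) ≫
          ((Tor (ModuleCat.{u} A) i).obj L).map u ≫ ((Tor (ModuleCat.{u} A) i).map e.hom).app N := by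
      rw [IsIso.eq_inv_comp]
      exact nat.symm
    rw [h3]
    infer_instance
  · intro L hL i
    have hz1 : IsZero (((Tor (ModuleCat.{u} A) i).obj L).obj M) :=
      ((Tor (ModuleCat.{u} A) i).flip.obj M).map_isZero hL
    have hz2 : IsZero (((Tor (ModuleCat.{u} A) i).obj L).obj N) :=
      ((Tor (ModuleCat.{u} A) i).flip.obj N).map_isZero hL
    exact ⟨⟨0, hz1.eq_of_src _ _, hz2.eq_of_src _ _⟩⟩
  · intro S hS h1 h3
    exact pr_X₂ u hS h1 h3

omit [IsNoetherianRing A] in
/-- `Tor_0(A, u)` is conjugate to `u` -/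
lemma isIso_of_pr_unit (h : Pr u (𝟙_ (ModuleCat.{u} A))) : IsIso u := by
  have h0 := h 0
  have h1 := TorSymm.z_natural_right (𝟙_ (ModuleCat.{u} A)) u
  have h2 := leftUnitor_naturality u
  have h3 : u = (λ_ M).inv ≫ (TorSymm.z (𝟙_ (ModuleCat.{u} A)) M).inv ≫
      ((Tor (ModuleCat.{u} A) 0).obj (𝟙_ (ModuleCat.{u} A))).map u ≫
      (TorSymm.z (𝟙_ (ModuleCat.{u} A)) N).hom ≫ (λ_ N).hom := by
    rw [Iso.eq_inv_comp, Iso.eq_inv_comp]
    erw [reassoc_of% h1]
    rw [h2]
  rw [h3]
  infer_instance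

theorem isIso_of_tor_residueField_isIso
    (h : ∀ (x : Ideal A) [x.IsPrime] (i : ℕ),
      IsIso (((Tor (ModuleCat.{u} A) i).obj (ModuleCat.of A x.ResidueField)).map u)) :
    IsIso u :=
  isIso_of_pr_unit u (pr_all u (fun x _ i => h x i) _)

end Groth.Agent.Lib.Helper68.TorDev
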