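import Groth.Agent.Lib.Helper68.TorSymm
import Mathlib.LinearAlgebra.TensorProduct.Pi
import Mathlib.LinearAlgebra.TensorProduct.RightExactness
import Mathlib.LinearAlgebra.Matrix.ToLin
import Mathlib.Algebra.Module.FinitePresentation

/-! If `Tor_1(α, N) = 0` for a morphism of short exact sequences, then elements of the kernel of
`X₁ ⊗ N → X₂ ⊗ N` are killed by `τ₁ ⊗ N`. Application: a map `α : M → M'` from a finitely
presented module with `Tor_1(α, N) = 0` for all `N` factors through a free module. -/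

set_option autoImplicit false
universe u

open CategoryTheory Limits MonoidalCategory Category

namespace Groth.Agent.Lib.Helper68.TorFactor

open Groth.Agent.Lib.Helper68 Groth.Agent.Lib.Helper68.TorSymm

variable {R : Type u} [CommRing R]

theorem whiskerRight_eq_zero_of_tor_one_map_eq_zero {S S' : ShortComplex (ModuleCat.{u} R)}
    (hS : S.ShortExact) (hS' : S'.ShortExact) (φ : S ⟶ S') (N : ModuleCat.{u} R)
    (h : ((Tor (ModuleCat.{u} R) 1).map φ.τ₃).app N = 0)
    (x : ↑(S.X₁ ⊗ N)) (hx : (S.f ▷ N).hom x = 0) : (φ.τ₁ ▷ N).hom x = 0 := by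
  have hnat := TorFirst.δ_natural_left hS hS' φ N 0
  rw [h, zero_comp] at hnat
  have hex := TorFirst.exact₁ hS N 0
  rw [ShortComplex.moduleCat_exact_iff] at hex
  have h1 : (((T 0).map S.f).app N).hom ((z S.X₁ N).inv.hom x) = 0 := by
    have := z_inv_natural_left S.f N
    have h2 := congrArg (fun k => k.hom x) this
    simp only [ModuleCat.hom_comp, LinearMap.comp_apply] at h2
    rw [h2, hx, map_zero]
  obtain ⟨y, hy⟩ := hex _ h1
  have h3 : (((T 0).map φ.τ₁).app N).hom ((z S.X₁ N).inv.hom x) = 0 := by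
    have h4 := congrArg (fun k => k.hom y) hnat
    simp only [ModuleCat.hom_comp, LinearMap.comp_apply, ModuleCat.hom_zero,
      LinearMap.zero_apply] at h4
    have h4' : (((T 0).map φ.τ₁).app N).hom ((TorFirst.δ hS N 0).hom y) = 0 := h4.symm
    have hy' : (TorFirst.δ hS N 0).hom y = (z S.X₁ N).inv.hom x := hy
    rw [hy'] at h4'
    exact h4'
  have h5 := congrArg (fun k => k.hom x) (z_inv_natural_left φ.τ₁ N)
  simp only [ModuleCat.hom_comp, LinearMap.comp_apply] at h5
  rw [h3] at h5
  have h6 := congrArg (z S'.X₁ N).hom.hom h5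
  rw [map_zero] at h6
  rw [h6]
  have h7 : ((z S'.X₁ N).inv ≫ (z S'.X₁ N).hom).hom ((φ.τ₁ ▷ N).hom x) = (φ.τ₁ ▷ N).hom x := by
    rw [Iso.inv_hom_id]
    rfl
  exact h7.symm

end Groth.Agent.Lib.Helper68.TorFactor

namespace Groth.Agent.Lib.Helper68.TorFactor

open TensorProduct

section LinAlg

variable {R : Type u} [CommRing R] {n m : ℕ} (g : (Fin m → R) →ₗ[R] (Fin n → R))

/-- the transpose of `g` -/
noncomputable def gt : (Fin n → R) →ₗ[R] (Fin m → R) :=
  LinearMap.pi (fun j => ∑ i, (g (Pi.single j 1) i) • LinearMap.proj i)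

lemma gt_apply (v : Fin n → R) (j : Fin m) : gt g v j = ∑ i, g (Pi.single j 1) i * v i := by
  simp [gt, LinearMap.sum_apply]

/-- the universal test module -/
abbrev N₀ : Type u := (Fin m → R) ⧸ LinearMap.range (gt g)

/-- the quotient map -/
noncomputable abbrev q : (Fin m → R) →ₗ[R] N₀ g := (LinearMap.range (gt g)).mkQ

lemma exact_gt_q : Function.Exact (gt g) (q g) := by
  rw [LinearMap.exact_iff]
  simp [q]

lemma gt_single (i : Fin n) :
    gt g (Pi.single i 1) = ∑ j, g (Pi.single j 1) i • (Pi.single j 1 : Fin m → R) := by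
  ext j'
  rw [gt_apply, Finset.sum_apply]
  simp [Pi.single_apply, Finset.sum_ite_eq, Finset.sum_ite_eq']

lemma sum_smul_q (i : Fin n) : ∑ j, g (Pi.single j 1) i • q g (Pi.single j 1) = 0 := by
  have h1 : ∑ j, g (Pi.single j 1) i • q g (Pi.single j 1) = q g (gt g (Pi.single i 1)) := by
    rw [gt_single, map_sum]
    simp only [map_smul]
  rw [h1]
  exact (exact_gt_q g).apply_apply_eq_zero _

section B

variable (K' : Type u) [AddCommGroup K'] [Module R K']

/-- (B1) the universal element dies in `F ⊗ N₀` -/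
lemma sum_tmul_eq_zero :
    ∑ j, (g (Pi.single j 1)) ⊗ₜ[R] (q g (Pi.single j 1)) = 0 := by
  apply (TensorProduct.comm R (Fin n → R) (N₀ g)).injective
  apply (TensorProduct.piScalarRight R R (N₀ g) (Fin n)).injective
  rw [map_zero, map_zero, map_sum, map_sum]
  ext i
  simp only [TensorProduct.comm_tmul, piScalarRight_apply, piScalarRightHom_tmul,
    Finset.sum_apply, Pi.zero_apply]
  exact sum_smul_q g i

/-- (B2) -/
lemma exists_extension (c : Fin m → K')
    (hc : ∑ j, (c j) ⊗ₜ[R] (q g (Pi.single j 1)) = 0) :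
    ∃ ψ : (Fin n → R) →ₗ[R] K', ∀ j, ψ (g (Pi.single j 1)) = c j := by
  classical
  let w : K' ⊗[R] (Fin m → R) := ∑ j, (c j) ⊗ₜ[R] (Pi.single j 1)
  have hw : (q g).lTensor K' w = 0 := by
    simp only [w, map_sum, LinearMap.lTensor_tmul]
    exact hc
  have hex := lTensor_exact K' (exact_gt_q g) (Submodule.mkQ_surjective _)
  obtain ⟨Y, hY⟩ := (hex w).mp hw
  let y : Fin n → K' := TensorProduct.piScalarRight R R K' (Fin n) Y
  have key : ∀ Y' : K' ⊗[R] (Fin n → R), ∀ j,
      TensorProduct.piScalarRight R R K' (Fin m) ((gt g).lTensor K' Y') j =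
        ∑ i, g (Pi.single j 1) i • (TensorProduct.piScalarRight R R K' (Fin n) Y') i := by
    intro Y' j
    induction Y' using TensorProduct.induction_on with
    | zero => simp
    | tmul a v =>
      simp only [LinearMap.lTensor_tmul, piScalarRight_apply, piScalarRightHom_tmul, gt_apply]
      rw [Finset.sum_smul]
      simp only [mul_smul]
    | add a b ha hb =>
      simp only [map_add, Pi.add_apply, ha, hb, smul_add, Finset.sum_add_distrib]
  have hwj : ∀ j, TensorProduct.piScalarRight R R K' (Fin m) w j = c j := by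
    intro j
    simp only [w, map_sum, piScalarRight_apply, piScalarRightHom_tmul, Finset.sum_apply]
    simp [Pi.single_apply, Finset.sum_ite_eq]
  refine ⟨∑ i, (LinearMap.proj i : (Fin n → R) →ₗ[R] R).smulRight (y i), ?_⟩
  intro j
  rw [LinearMap.sum_apply]
  simp only [LinearMap.smulRight_apply, LinearMap.proj_apply]
  rw [← hwj j, ← hY, key Y j]

end B


end LinAlg

open Groth.Agent.Lib.Helper68 Groth.Agent.Lib.Helper68.TorMod

variable {R : Type u} [CommRing R]

/-- the linear algebra step -/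
lemma factor_of_sum_eq_zero {n m : ℕ} {M M' F' : Type u} [AddCommGroup M] [Module R M]
    [AddCommGroup M'] [Module R M'] [AddCommGroup F'] [Module R F']
    (f : (Fin n → R) →ₗ[R] M) (g : (Fin m → R) →ₗ[R] (Fin n → R))
    (hf : Function.Surjective f) (hgf : Function.Exact g f)
    (π' : F' →ₗ[R] M') (αt : (Fin n → R) →ₗ[R] F') (α : M →ₗ[R] M')
    (hαt : π' ∘ₗ αt = α ∘ₗ f)
    (c : Fin m → LinearMap.ker π') (hc : ∀ j, ((c j : LinearMap.ker π') : F') = αt (g (Pi.single j 1)))
    (h0 : ∑ j, (c j) ⊗ₜ[R] (q g (Pi.single j 1)) = 0) :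
    ∃ h₀ : M →ₗ[R] F', α = π' ∘ₗ h₀ := by
  classical
  obtain ⟨ψ, hψ⟩ := exists_extension g (LinearMap.ker π') c h0
  let γ : (Fin n → R) →ₗ[R] F' := αt - (LinearMap.ker π').subtype ∘ₗ ψ
  have hγg : γ ∘ₗ g = 0 := by
    apply (Pi.basisFun R (Fin m)).ext
    intro j
    simp only [Pi.basisFun_apply, LinearMap.comp_apply, LinearMap.zero_apply, γ,
      LinearMap.sub_apply, Submodule.subtype_apply]
    rw [hψ j, hc j, sub_self]
  have hγ : ∀ x ∈ LinearMap.ker f, γ x = 0 := by
    intro x hx
    obtain ⟨v, rfl⟩ := (hgf x).mp hx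
    exact LinearMap.congr_fun hγg v
  let h₀ : M →ₗ[R] F' :=
    ((LinearMap.ker f).liftQ γ (fun x hx => by rw [LinearMap.mem_ker]; exact hγ x hx)) ∘ₗ
      (f.quotKerEquivOfSurjective hf).symm.toLinearMap
  have hh₀ : ∀ v, h₀ (f v) = γ v := by
    intro v
    have h1 : (f.quotKerEquivOfSurjective hf).symm (f v) = (LinearMap.ker f).mkQ v := by
      rw [LinearEquiv.symm_apply_eq]
      rfl
    simp only [h₀, LinearMap.comp_apply, LinearEquiv.coe_coe, h1]
    rfl
  refine ⟨h₀, ?_⟩
  ext y
  obtain ⟨v, rfl⟩ := hf y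
  rw [LinearMap.comp_apply, hh₀]
  have h2 : π' (αt v) = α (f v) := LinearMap.congr_fun hαt v
  have h3 : π' ((ψ v : LinearMap.ker π') : F') = 0 := (ψ v).2
  simp only [γ, LinearMap.sub_apply, LinearMap.comp_apply, Submodule.subtype_apply, map_sub,
    h2, h3, sub_zero]

theorem factors_through_free (M M' : Type u) [AddCommGroup M] [Module R M]
    [Module.FinitePresentation R M] [AddCommGroup M'] [Module R M'] (α : M →ₗ[R] M')
    (h : ∀ (N : Type u) [AddCommGroup N] [Module R N],
      ((Tor (ModuleCat.{u} R) 1).map (ModuleCat.ofHom α)).app (ModuleCat.of R N) = 0) :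
    ∃ (ι : Type u) (g : M →ₗ[R] (ι →₀ R)) (h : (ι →₀ R) →ₗ[R] M'), α = h ∘ₗ g := by
  classical
  obtain ⟨n, m, f, g, hf, hgf⟩ := Module.FinitePresentation.exists_fin' R M
  let π' : (M' →₀ R) →ₗ[R] M' := Finsupp.linearCombination R (id : M' → M')
  have hπ' : Function.Surjective π' := Finsupp.linearCombination_id_surjective R M'
  let αt : (Fin n → R) →ₗ[R] (M' →₀ R) :=
    (Pi.basisFun R (Fin n)).constr R (fun i => Finsupp.single (α (f (Pi.single i 1))) 1)
  have hαt : π' ∘ₗ αt = α ∘ₗ f := by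
    apply (Pi.basisFun R (Fin n)).ext
    intro i
    simp [αt, π']
  let K : Submodule R (Fin n → R) := LinearMap.ker f
  let K' : Submodule R (M' →₀ R) := LinearMap.ker π'
  have hmaps : ∀ x ∈ K, αt x ∈ K' := by
    intro x hx
    rw [LinearMap.mem_ker] at hx ⊢
    have := LinearMap.congr_fun hαt x
    simp only [LinearMap.comp_apply] at this
    rw [this, hx, map_zero]
  let β : K →ₗ[R] K' := αt.restrict hmaps
  have hk : ∀ j, g (Pi.single j 1) ∈ K := fun j => by
    rw [LinearMap.mem_ker]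
    exact hgf.apply_apply_eq_zero _
  let kk : Fin m → K := fun j => ⟨g (Pi.single j 1), hk j⟩
  have h0' : ∑ j, ((β (kk j)) ⊗ₜ[R] (q g (Pi.single j 1)) : ↥K' ⊗[R] N₀ g) = 0 := by
    have hexS : Function.Exact K.subtype f := by
      rw [LinearMap.exact_iff]
      simp [K]
    have hexS' : Function.Exact K'.subtype π' := by
      rw [LinearMap.exact_iff]
      simp [K']
    let S := TorMod.sc K.subtype f hexS
    let S' := TorMod.sc (A := ↥K') (B := (M' →₀ R)) (C := M') K'.subtype π' hexS'
    have hS : S.ShortExact := TorMod.sc_shortExact _ _ hexS K.injective_subtype hf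
    have hS' : S'.ShortExact := TorMod.sc_shortExact _ _ hexS' K'.injective_subtype hπ'
    let φ : S ⟶ S' :=
      { τ₁ := ModuleCat.ofHom β
        τ₂ := ModuleCat.ofHom αt
        τ₃ := ModuleCat.ofHom α
        comm₁₂ := by
          apply ModuleCat.hom_ext
          apply LinearMap.ext
          intro x
          rfl
        comm₂₃ := by
          apply ModuleCat.hom_ext
          exact hαt }
    let x : ↑(MonoidalCategory.tensorObj S.X₁ (ModuleCat.of R (N₀ g))) :=
      ∑ j, (kk j) ⊗ₜ[R] (q g (Pi.single j 1))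
    have hx : (S.f ▷ ModuleCat.of R (N₀ g)).hom x = 0 := by
      have h1 : (S.f ▷ ModuleCat.of R (N₀ g)).hom x = (K.subtype.rTensor (N₀ g)) x := rfl
      rw [h1]
      simp only [x, map_sum, LinearMap.rTensor_tmul]
      exact sum_tmul_eq_zero g
    have h0 := whiskerRight_eq_zero_of_tor_one_map_eq_zero hS hS' φ (ModuleCat.of R (N₀ g))
      (h (N₀ g)) x hx
    have h1 : (β.rTensor (N₀ g)) x = 0 := h0
    simpa [x, map_sum] using h1
  obtain ⟨h₀, hh₀⟩ := factor_of_sum_eq_zero f g hf hgf π' αt α hαt (fun j => β (kk j))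
    (fun j => rfl) h0'
  exact ⟨M', h₀, π', hh₀⟩

end Groth.Agent.Lib.Helper68.TorFactor
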