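import Groth.Agent.Lib.Helper68.TorFirst
import Groth.Agent.Lib.Helper68.FunctorSES3

/-! Naturality of the first-variable connecting morphism of `Tor` with respect to morphisms of
short exact sequences. -/

set_option autoImplicit false
universe u

open CategoryTheory Limits MonoidalCategory

namespace Groth.Agent.Lib.Helper68.TorFirst

variable {R : Type u} [CommRing R]
variable {S S' : ShortComplex (ModuleCat.{u} R)} (hS : S.ShortExact) (hS' : S'.ShortExact)

/-- naturality of the first-variable connecting morphism in the short exact sequence -/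
theorem δ_natural_left (φ : S ⟶ S') (N : ModuleCat.{u} R) (n : ℕ) :
    ((Tor (ModuleCat.{u} R) (n + 1)).map φ.τ₃).app N ≫ δ hS' N n =
      δ hS N n ≫ ((Tor (ModuleCat.{u} R) n).map φ.τ₁).app N :=
  FunctorSES.δ_natTrans (exactOnProj hS) (exactOnProj hS')
    ((tensoringLeft (ModuleCat.{u} R)).map φ.τ₁) ((tensoringLeft (ModuleCat.{u} R)).map φ.τ₂)
    ((tensoringLeft (ModuleCat.{u} R)).map φ.τ₃)
    (by rw [← Functor.map_comp, ← Functor.map_comp, φ.comm₁₂])
    (by rw [← Functor.map_comp, ← Functor.map_comp, φ.comm₂₃]) N n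

end Groth.Agent.Lib.Helper68.TorFirst
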