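import Mathlib
import Groth.Agent.Lib.Helper9.HenselSplit
import Groth.Agent.Lib.Helper69.HensFinite

set_option autoImplicit false
set_option linter.style.haveILetI false
universe u

/-!
# K1 for S15870 (helper68, for helper87)

`exists_retraction_of_etale_of_finite`: for `H` strictly henselian local, `B` a finite `H`-algebra and
`C` an étale `B`-algebra with `Spec C → Spec B` surjective, there is a `B`-algebra retraction `C → B`.
-/

namespace Groth.Agent.Lib.Helper68.TorsFinK1

open IsLocalRing TensorProduct

/-- lift an algebra map along a surjective structure map -/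
noncomputable def liftSurj {B k L : Type*} [CommRing B] [CommRing k] [CommRing L] [Algebra B k]
    [Algebra B L] (hs : Function.Surjective (algebraMap B k))
    (hker : RingHom.ker (algebraMap B k) ≤ RingHom.ker (algebraMap B L)) : k →ₐ[B] L :=
  { RingHom.liftOfSurjective (algebraMap B k) hs ⟨algebraMap B L, hker⟩ with
    commutes' := fun b => RingHom.liftOfRightInverse_comp_apply _ _ _ _ b }

/-- the local case: a `B`-algebra map `C → T` into a local quotient `T` of `B`, finite over `H`. -/
theorem exists_algHom_local {H : Type u} [CommRing H] [HenselianLocalRing H]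
    [IsSepClosed (ResidueField H)]
    (B : Type u) [CommRing B]
    (T : Type u) [CommRing T] [IsLocalRing T] [Algebra H T] [Module.Finite H T] [Algebra B T]
    (hBT : Function.Surjective (algebraMap B T))
    (C : Type u) [CommRing C] [Algebra B C] [Algebra.Etale B C]
    (hsurj : Function.Surjective (PrimeSpectrum.comap (algebraMap B C))) :
    Nonempty (C →ₐ[B] T) := by
  haveI : Algebra.IsIntegral H T := inferInstance
  haveI hT : HenselianLocalRing T :=
    Groth.Agent.Lib.Helper69.HensFinite.henselianLocalRing_of_isIntegral H T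
  haveI : IsLocalHom (algebraMap H T) := Groth.Agent.Lib.Helper9.isLocalHom_of_isIntegral
  -- the residue field of `T` is separably closed
  haveI : Module.Finite H (ResidueField T) :=
    Module.Finite.of_surjective (IsScalarTower.toAlgHom H T (ResidueField T)).toLinearMap
      residue_surjective
  haveI : Module.Finite (ResidueField H) (ResidueField T) :=
    Module.Finite.of_restrictScalars_finite H (ResidueField H) (ResidueField T)
  haveI : Algebra.IsAlgebraic (ResidueField H) (ResidueField T) := Algebra.IsAlgebraic.of_finite _ _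
  haveI : IsSepClosed (ResidueField T) :=
    Algebra.IsAlgebraic.isSepClosed (F := ResidueField H) (E := ResidueField T)
  -- the fibre `D = k ⊗ C` is a nontrivial étale algebra over `k`
  have hBk : Function.Surjective (algebraMap B (ResidueField T)) := by
    rw [IsScalarTower.algebraMap_eq B T (ResidueField T)]
    exact residue_surjective.comp hBT
  obtain ⟨p, hpdef⟩ : ∃ p : PrimeSpectrum B,
      p.asIdeal = RingHom.ker (algebraMap B (ResidueField T)) :=
    ⟨⟨RingHom.ker (algebraMap B (ResidueField T)), RingHom.ker_isPrime _⟩, rfl⟩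
  have hp : p ∈ Set.range (PrimeSpectrum.comap (algebraMap B C)) := hsurj p
  haveI hnt : Nontrivial (p.asIdeal.ResidueField ⊗[B] C) :=
    (PrimeSpectrum.nontrivial_iff_mem_rangeComap p).2 hp
  let g : ResidueField T →ₐ[B] p.asIdeal.ResidueField := liftSurj hBk (by
    intro x hx
    rw [RingHom.mem_ker]
    exact (Ideal.algebraMap_residueField_eq_zero (I := p.asIdeal)).2 (hpdef ▸ hx))
  haveI : Nontrivial (ResidueField T ⊗[B] C) :=
    RingHom.domain_nontrivial (Algebra.TensorProduct.map g (AlgHom.id B C)).toRingHom
  let e : (ResidueField T ⊗[B] C) ≃ₐ[ResidueField T]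
      (PrimeSpectrum (ResidueField T ⊗[B] C) → ResidueField T) :=
    Algebra.FormallyEtale.equivPiOfIsSepClosed (ResidueField T) (ResidueField T ⊗[B] C)
  let x : PrimeSpectrum (ResidueField T ⊗[B] C) := Classical.arbitrary _
  let evx : (PrimeSpectrum (ResidueField T ⊗[B] C) → ResidueField T) →ₐ[ResidueField T]
      ResidueField T := Pi.evalAlgHom (ResidueField T) _ x
  let ψ₀ : C →ₐ[B] ResidueField T :=
    ((evx.comp e.toAlgHom).restrictScalars B).comp
      (Algebra.TensorProduct.includeRight : C →ₐ[B] ResidueField T ⊗[B] C)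
  obtain ⟨φ, -⟩ := Groth.Agent.Lib.Helper9.exists_lift_of_etale_of_algebra (R := B) (T := T)
    (A := C) ψ₀
  exact ⟨φ⟩

theorem exists_retraction_of_etale_of_finite {H : Type u} [CommRing H] [HenselianLocalRing H]
    [IsSepClosed (IsLocalRing.ResidueField H)] (B : Type u) [CommRing B] [Algebra H B]
    [Module.Finite H B] (C : Type u) [CommRing C] [Algebra B C] [Algebra.Etale B C]
    (hsurj : Function.Surjective (PrimeSpectrum.comap (algebraMap B C))) :
    Nonempty (C →ₐ[B] B) := by
  obtain ⟨n, e, he, hloc⟩ :=
    Groth.Agent.Lib.Helper9.exists_completeOrthogonalIdempotents_of_finite (R := H) B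
  have hφ : ∀ i : Fin n, Nonempty (C →ₐ[B] (B ⧸ Ideal.span {1 - e i})) := fun i => by
    haveI := hloc i
    exact exists_algHom_local (H := H) B (B ⧸ Ideal.span {1 - e i})
      Ideal.Quotient.mk_surjective C hsurj
  let φ : ∀ i : Fin n, C →ₐ[B] (B ⧸ Ideal.span {1 - e i}) := fun i => (hφ i).some
  let Φ : C →ₐ[B] (∀ i : Fin n, B ⧸ Ideal.span {1 - e i}) := AlgHom.pi φ
  let E₀ : B →ₐ[B] (∀ i : Fin n, B ⧸ Ideal.span {1 - e i}) :=
    AlgHom.pi (fun i => Ideal.Quotient.mkₐ B (Ideal.span {1 - e i}))
  have hE₀ : Function.Bijective E₀ := he.bijective_pi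
  let E : B ≃ₐ[B] (∀ i : Fin n, B ⧸ Ideal.span {1 - e i}) := AlgEquiv.ofBijective E₀ hE₀
  exact ⟨E.symm.toAlgHom.comp Φ⟩

end Groth.Agent.Lib.Helper68.TorsFinK1
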