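import Mathlib.LinearAlgebra.LinearIndependent.Lemmas
import Mathlib.LinearAlgebra.Basis.Basic
import Mathlib.LinearAlgebra.Basis.Submodule
import Mathlib.RingTheory.Finiteness.Basic
import Mathlib.RingTheory.Finiteness.Cardinality
import Mathlib.Algebra.BigOperators.Ring.Finset
import Mathlib.LinearAlgebra.Pi

set_option autoImplicit false
universe u v

namespace Groth.Agent.Lib.Helper68

open Submodule Set in
theorem exists_injective_to_free (R : Type u) (M : Type v) [CommRing R] [IsDomain R]
    [AddCommGroup M] [Module R M] [Module.Finite R M] [NoZeroSMulDivisors R M] :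
    ∃ (n : ℕ) (f : M →ₗ[R] (Fin n → R)), Function.Injective f := by
  classical
  obtain ⟨r, s, hs⟩ := Module.Finite.exists_fin (R := R) (M := M)
  obtain ⟨I, indepI, hI⟩ := exists_maximal_linearIndepOn R s
  have indepI' : LinearIndependent R (fun x : I => s x) := indepI
  let N := span R (range (fun x : I => s x))
  let b : Module.Basis I R N := Module.Basis.span indepI'
  have exists_a : ∀ i, ∃ a : R, a ≠ 0 ∧ a • s i ∈ N := by
    intro i
    by_cases hi : i ∈ I
    · refine ⟨1, one_ne_zero, ?_⟩
      rw [one_smul]
      exact subset_span (mem_range_self (⟨i, hi⟩ : I))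
    · obtain ⟨a, ha0, ha⟩ := hI i hi
      refine ⟨a, ha0, ?_⟩
      have e : s '' I = range (fun x : I => s x) := by
        ext y
        simp
      rw [e] at ha
      exact ha
  choose a ha ha' using exists_a
  have hA : (∏ i, a i) ≠ 0 := Finset.prod_ne_zero_iff.mpr (fun i _ => ha i)
  have hAN : ∀ m : M, (∏ i, a i) • m ∈ N := by
    intro m
    have hm : m ∈ span R (range s) := by
      rw [hs]
      trivial
    induction hm using Submodule.span_induction with
    | mem x hx =>
      obtain ⟨i, rfl⟩ := hx
      rw [Fintype.prod_eq_prod_compl_mul i, mul_smul]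
      exact N.smul_mem _ (ha' i)
    | zero =>
      rw [smul_zero]
      exact N.zero_mem
    | add x y _ _ hx hy =>
      rw [smul_add]
      exact N.add_mem hx hy
    | smul c x _ hx =>
      rw [smul_comm]
      exact N.smul_mem c hx
  let φ : M →ₗ[R] N := (LinearMap.lsmul R M (∏ i, a i)).codRestrict N hAN
  have hφ : Function.Injective φ := by
    intro x y hxy
    have h1 : (∏ i, a i) • x = (∏ i, a i) • y := congrArg Subtype.val hxy
    have h2 : (∏ i, a i) • (x - y) = 0 := by
      rw [smul_sub, h1, sub_self]
    rcases (smul_eq_zero.mp h2) with h3 | h3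
    · exact absurd h3 hA
    · exact sub_eq_zero.mp h3
  let e1 : N ≃ₗ[R] (I → R) := b.equivFun
  let e2 : (I → R) ≃ₗ[R] (Fin (Fintype.card I) → R) :=
    LinearEquiv.funCongrLeft R R (Fintype.equivFin I).symm
  refine ⟨Fintype.card I, e2.toLinearMap ∘ₗ e1.toLinearMap ∘ₗ φ, ?_⟩
  intro x y hxy
  apply hφ
  apply e1.injective
  apply e2.injective
  exact hxy

end Groth.Agent.Lib.Helper68
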