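import Groth.Agent.Lib.Helper68.SuppFlasqueB

/-! A totally acyclic abelian sheaf on a small site has surjective restriction maps along
monomorphisms of the site. -/

set_option autoImplicit false
universe u

open CategoryTheory Category Limits Opposite Abelian

namespace Groth.Agent.Lib.Helper68.TotAcycFlasque

open Groth.Agent.Lib.Helper68.HomFree (LZ RZ adjZ)
open Groth.Agent.Lib.Helper68.SuppGlob

variable {C : Type u} [SmallCategory C] {J : GrothendieckTopology C}

/-- extension of maps out of free abelian sheaves along a mono of presheaves of sets -/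
theorem exists_extension_LZ {L' L : Cᵒᵖ ⥤ Type u} (f : L' ⟶ L) [Mono f]
    (A : Sheaf J AddCommGrpCat.{u}) (hA : CohCx.IsTotallyAcyclic A)
    (φ : (LZ (J := J)).obj L' ⟶ A) : ∃ ψ : (LZ (J := J)).obj L ⟶ A, LZ.map f ≫ ψ = φ := by
  have h1 := isIso_LZ_toSheafify (J := J) L'
  have h2 := isIso_LZ_toSheafify (J := J) L
  let fs : (presheafToSheaf J (Type u)).obj L' ⟶ (presheafToSheaf J (Type u)).obj L :=
    (presheafToSheaf J (Type u)).map f
  have : Mono fs := inferInstanceAs (Mono ((presheafToSheaf J (Type u)).map f))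
  have hsq : (LZ (J := J)).map f ≫ LZ.map (toSheafify J L) =
      LZ.map (toSheafify J L') ≫ (ToposFin.freeAb J).map fs := by
    change _ = LZ.map (toSheafify J L') ≫ LZ.map fs.hom
    rw [← Functor.map_comp, ← Functor.map_comp]
    congr 1
    exact toSheafify_naturality J f
  obtain ⟨ψ₀, hψ₀⟩ := Groth.Agent.S3089.result A hA fs (inv (LZ.map (toSheafify J L')) ≫ φ)
  obtain ⟨ψ', hψ'⟩ : ∃ ψ' : (ToposFin.freeAb J).obj ((presheafToSheaf J (Type u)).obj L) ⟶ A,
      (ToposFin.freeAb J).map fs ≫ ψ' = inv (LZ.map (toSheafify J L')) ≫ φ := ⟨ψ₀, hψ₀⟩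
  refine ⟨LZ.map (toSheafify J L) ≫ ψ', ?_⟩
  have e1 : LZ.map f ≫ LZ.map (toSheafify J L) ≫ ψ' =
      (LZ.map f ≫ LZ.map (toSheafify J L)) ≫ ψ' := (assoc _ _ _).symm
  rw [e1, hsq, assoc, hψ', IsIso.hom_inv_id_assoc]


/-- a totally acyclic abelian sheaf has surjective restriction maps along monomorphisms -/
theorem surjective_map_of_mono (A : Sheaf J AddCommGrpCat.{u}) (hA : CohCx.IsTotallyAcyclic A)
    {U V : C} (g : U ⟶ V) [Mono g] : Function.Surjective (A.obj.map g.op) := by
  intro s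
  let s' : ((RZ (J := J)).obj A).obj (op U) := s
  let φ : (LZ (J := J)).obj (yoneda.obj U) ⟶ A :=
    ((adjZ (J := J)).homEquiv _ _).symm (yonedaEquiv.symm s')
  have hm : Mono (yoneda.map g) := inferInstance
  obtain ⟨ψ, hψ⟩ := exists_extension_LZ (yoneda.map g) A hA φ
  let t' : ((RZ (J := J)).obj A).obj (op V) := yonedaEquiv ((adjZ (J := J)).homEquiv _ _ ψ)
  refine ⟨t', ?_⟩
  have h1 : yoneda.map g ≫ (adjZ (J := J)).homEquiv _ _ ψ =
      (adjZ (J := J)).homEquiv _ _ (LZ.map (yoneda.map g) ≫ ψ) :=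
    (Adjunction.homEquiv_naturality_left _ _ _).symm
  rw [hψ] at h1
  have h2 : ((RZ (J := J)).obj A).map g.op t' =
      yonedaEquiv (yoneda.map g ≫ (adjZ (J := J)).homEquiv _ _ ψ) :=
    yonedaEquiv_naturality _ _
  rw [h1] at h2
  have h3 : yonedaEquiv ((adjZ (J := J)).homEquiv _ _ φ) = s' := by
    show yonedaEquiv ((adjZ (J := J)).homEquiv _ _
      (((adjZ (J := J)).homEquiv _ _).symm (yonedaEquiv.symm s'))) = s'
    rw [Equiv.apply_symm_apply, Equiv.apply_symm_apply]
  rw [h3] at h2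
  exact h2

end Groth.Agent.Lib.Helper68.TotAcycFlasque
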