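import Mathlib.Algebra.Category.Grp.Limits
import Mathlib.Algebra.Category.Grp.Abelian
import Mathlib.CategoryTheory.Abelian.FunctorCategory
import Mathlib.CategoryTheory.CofilteredSystem
import Mathlib.Algebra.Homology.ShortComplex.Ab
import Groth.Agent.S6786
import Groth.Agent.Lib.Helper68.Adapted

/-! Derived limits of towers of abelian groups: towers with surjective transition maps are
`lim`-acyclic, and `lim^i = 0` for `i ≥ 2`. Uses S6786 (Mittag-Leffler exactness, helper13) and the
`Adapted` criterion. -/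

set_option autoImplicit false
universe u

open CategoryTheory Limits Opposite

namespace Groth.Agent.Lib.Helper68.TowerLim

/-- towers of abelian groups -/
abbrev Tow := ℕᵒᵖ ⥤ AddCommGrpCat.{u}

/-- towers with surjective transition maps -/
def Surj : ObjectProperty Tow.{u} :=
  fun A => ∀ ⦃i j : ℕᵒᵖ⦄ (f : i ⟶ j), Function.Surjective (A.map f).hom

/-- The tower `n ↦ Π_{m ≤ n} A_m`. -/
def big (A : Tow.{u}) : Tow.{u} where
  obj n := AddCommGrpCat.of (∀ m : {m : ℕ // m ≤ n.unop}, A.obj (op m.1))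
  map {n n'} f := AddCommGrpCat.ofHom
    { toFun := fun g m => g ⟨m.1, m.2.trans (leOfHom f.unop)⟩
      map_zero' := rfl
      map_add' := fun _ _ => rfl }
  map_id _ := rfl
  map_comp _ _ := rfl

lemma surj_big (A : Tow.{u}) : Surj (big A) := by
  intro n n' f g
  classical
  refine ⟨fun m => if h : m.1 ≤ n'.unop then g ⟨m.1, h⟩ else 0, ?_⟩
  funext m
  change (if h : m.1 ≤ n'.unop then g ⟨m.1, h⟩ else 0) = g m
  rw [dif_pos m.2]

/-- The embedding `A ⟶ big A`. -/
def toBig (A : Tow.{u}) : A ⟶ big A where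
  app n := AddCommGrpCat.ofHom
    { toFun := fun a m => (A.map (homOfLE m.2).op).hom a
      map_zero' := by funext m; exact map_zero _
      map_add' := fun a b => by funext m; exact map_add _ _ _ }
  naturality n n' f := by
    apply AddCommGrpCat.hom_ext
    apply AddMonoidHom.ext
    intro a
    funext m
    change (A.map (homOfLE m.2).op).hom ((A.map f).hom a) = (A.map (homOfLE _).op).hom a
    rw [← AddCommGrpCat.comp_apply, ← A.map_comp]
    rfl

lemma mono_toBig (A : Tow.{u}) : Mono (toBig A) := by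
  have : ∀ n, Mono ((toBig A).app n) := by
    intro n
    rw [AddCommGrpCat.mono_iff_injective]
    intro a b hab
    have h := congr_fun hab ⟨n.unop, le_rfl⟩
    change (A.map (homOfLE le_rfl).op).hom a = (A.map (homOfLE le_rfl).op).hom b at h
    have e : (homOfLE (le_refl n.unop)).op = 𝟙 n := rfl
    rw [e, A.map_id] at h
    exact h
  exact NatTrans.mono_of_mono_app _

/-- pointwise short exactness -/
lemma shortExact_app {S : ShortComplex Tow.{u}} (hS : S.ShortExact) (i : ℕᵒᵖ) :
    (S.map ((evaluation ℕᵒᵖ AddCommGrpCat.{u}).obj i)).ShortExact :=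
  hS.map_of_exact _

lemma surj_X₃ (S : ShortComplex Tow.{u}) (hS : S.ShortExact) (h₂ : Surj S.X₂) : Surj S.X₃ := by
  intro i j f z
  have hg : Function.Surjective (S.g.app i).hom := (shortExact_app hS i).ab_surjective_g
  have hg' : Function.Surjective (S.g.app j).hom := (shortExact_app hS j).ab_surjective_g
  obtain ⟨y, rfl⟩ := hg' z
  obtain ⟨x, rfl⟩ := h₂ f y
  refine ⟨(S.g.app i).hom x, ?_⟩
  have := ConcreteCategory.congr_hom (S.g.naturality f) x
  exact this.symm

lemma limMap_surjective (S : ShortComplex Tow.{u}) (hS : S.ShortExact) (h₁ : Surj S.X₁) :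
    Function.Surjective (limMap S.g).hom := by
  have hA : (S.X₁ ⋙ forget AddCommGrpCat).IsMittagLeffler :=
    Functor.isMittagLeffler_of_surjective _ (fun i j f => h₁ f)
  have hB : ∀ i, (S.g.app i).hom.ker = (S.f.app i).hom.range := fun i =>
    (ShortComplex.ab_exact_iff_range_eq_ker.1 (shortExact_app hS i).exact).symm
  have hC : ∀ i, ((0 : S.X₃ ⟶ S.X₃).app i).hom.ker = (S.g.app i).hom.range := by
    intro i
    have hg : Function.Surjective (S.g.app i).hom := (shortExact_app hS i).ab_surjective_g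
    rw [AddMonoidHom.range_eq_top.2 hg]
    ext x
    simp
  have key := Groth.Agent.S6786.result S.f S.g (0 : S.X₃ ⟶ S.X₃) hB hC hA
  intro z
  have hz : z ∈ (limMap (0 : S.X₃ ⟶ S.X₃)).hom.ker := by
    rw [AddMonoidHom.mem_ker]
    have h0 : limMap (0 : S.X₃ ⟶ S.X₃) = 0 := by
      apply limit.hom_ext
      intro j
      rw [limMap_π, zero_comp, NatTrans.app_zero, comp_zero]
    rw [h0]
    rfl
  rw [key] at hz
  exact hz

variable [(lim : Tow.{u} ⥤ AddCommGrpCat.{u}).Additive]

lemma shortExact_map_lim (S : ShortComplex Tow.{u}) (hS : S.ShortExact) (h₁ : Surj S.X₁) :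
    (S.map (lim : Tow.{u} ⥤ AddCommGrpCat.{u})).ShortExact := by
  have := hS.mono_f
  have hmono : Mono ((lim : Tow.{u} ⥤ AddCommGrpCat.{u}).map S.f) := inferInstance
  have hepi : Epi ((lim : Tow.{u} ⥤ AddCommGrpCat.{u}).map S.g) := by
    rw [AddCommGrpCat.epi_iff_surjective]
    exact limMap_surjective S hS h₁
  exact
    { exact := hS.exact.map_of_mono_of_preservesKernel _ hS.mono_f inferInstance
      mono_f := hmono
      epi_g := hepi }

variable [EnoughInjectives Tow.{u}]

theorem surj_acyclic (X : Tow.{u}) (hX : Surj X) (i : ℕ) (hi : 0 < i) :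
    IsZero (((lim : Tow.{u} ⥤ AddCommGrpCat.{u}).rightDerived i).obj X) := by
  refine (Adapted.acyclic (lim : Tow.{u} ⥤ AddCommGrpCat.{u}) Surj
    (fun X => ⟨big X, toBig X, surj_big X, mono_toBig X⟩)
    (fun S hS h₁ h₂ => ⟨surj_X₃ S hS h₂, shortExact_map_lim S hS h₁⟩) hX).2 i hi

/-- `lim^i = 0` for `i ≥ 2` on towers of abelian groups. -/
theorem isZero_rightDerived_lim (A : Tow.{u}) (i : ℕ) (hi : 2 ≤ i) :
    IsZero (((lim : Tow.{u} ⥤ AddCommGrpCat.{u}).rightDerived i).obj A) := by
  have := mono_toBig A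
  let S : ShortComplex Tow.{u} := ShortComplex.cokernelSequence (toBig A)
  have hS : S.ShortExact :=
    ShortComplex.ShortExact.mk' (ShortComplex.cokernelSequence_exact _)
      (show Mono (toBig A) from inferInstance)
      (show Epi (cokernel.π (toBig A)) from inferInstance)
  have hB : Surj S.X₂ := surj_big A
  have hC : Surj S.X₃ := surj_X₃ S hS hB
  obtain ⟨j, rfl⟩ : ∃ j, i = j + 1 + 1 := ⟨i - 2, by omega⟩
  have h2 : IsZero (((lim : Tow.{u} ⥤ AddCommGrpCat.{u}).rightDerived (j + 1 + 1)).obj S.X₂) :=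
    surj_acyclic S.X₂ hB _ (by omega)
  have h3 : IsZero (((lim : Tow.{u} ⥤ AddCommGrpCat.{u}).rightDerived (j + 1)).obj S.X₃) :=
    surj_acyclic S.X₃ hC _ (by omega)
  have hδe : Epi (RightDerivedLES.δ (lim : Tow.{u} ⥤ AddCommGrpCat.{u}) hS (j + 1)) :=
    RightDerivedLES.epi_δ _ hS (j + 1) h2
  exact @IsZero.of_epi_eq_zero _ _ _ _ _ _ hδe (h3.eq_of_src _ 0)

end Groth.Agent.Lib.Helper68.TowerLim
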