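import Mathlib
import Groth.Prelude.Def_CohB1
import Groth.Prelude.Def_Flat
import Groth.Agent.Lib.Helper5.WidePB

/-!
# helper68: the base map of a finite wide pullback of proper morphisms is proper (WP1, S19040)
-/

set_option autoImplicit false
universe u

open CategoryTheory CategoryTheory.Limits AlgebraicGeometry

namespace Groth.Agent.Lib.Helper68.WidePBWP1

open Groth.Agent.Lib.Helper5.WidePB

/-- Mathlib's chosen wide pullback is a wide pullback in the sense of `IsWidePB`. -/
theorem isWidePB_widePullback {C : Type*} [Category C] {ι : Type*} {B : C} {objs : ι → C}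
    (arrows : ∀ k, objs k ⟶ B) [HasWidePullback B objs arrows] :
    IsWidePB arrows (WidePullback.base arrows) (WidePullback.π arrows) := by
  refine ⟨fun k => WidePullback.π_arrow arrows k, ?_, ?_⟩
  · intro Z z zk hz
    exact ⟨WidePullback.lift z zk hz, WidePullback.lift_base _ _ _ _,
      fun k => WidePullback.lift_π _ _ _ _ _⟩
  · intro Z l l' h1 h2
    exact WidePullback.hom_ext _ _ _ h2 h1

theorem isIso_base_of_isEmpty {C : Type*} [Category C] {ι : Type*} [IsEmpty ι] {B : C}
    {objs : ι → C} (arrows : ∀ k, objs k ⟶ B) [HasWidePullback B objs arrows] :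
    IsIso (WidePullback.base arrows) := by
  refine ⟨WidePullback.lift (𝟙 B) (fun k => isEmptyElim k) (fun k => isEmptyElim k), ?_, ?_⟩
  · apply WidePullback.hom_ext
    · intro k
      exact isEmptyElim k
    · rw [Category.assoc, WidePullback.lift_base, Category.comp_id, Category.id_comp]
  · exact WidePullback.lift_base arrows _ _ _

theorem isProper_wideBase {n : ℕ} {B : Scheme.{u}} (objs : Fin n → Scheme.{u})
    (arrows : ∀ k, objs k ⟶ B) [∀ k, IsProper (arrows k)] :
    IsProper (WidePullback.base arrows) := by
  induction n with
  | zero =>
    haveI := isIso_base_of_isEmpty arrows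
    infer_instance
  | succ n ih =>
    let objs' : Fin n → Scheme.{u} := fun k => objs k.castSucc
    let arrows' : ∀ k, objs' k ⟶ B := fun k => arrows k.castSucc
    haveI : IsProper (WidePullback.base arrows') := ih objs' arrows'
    have h' := isWidePB_widePullback arrows'
    have sq := IsPullback.of_hasPullback (arrows (Fin.last n)) (WidePullback.base arrows')
    have h := isWidePB_succ arrows (WidePullback.base arrows') (WidePullback.π arrows') h'
      (pullback.snd _ _) (pullback.fst _ _) sq
    obtain ⟨e, he, -⟩ := h.exists_iso
    rw [← he]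
    infer_instance

end Groth.Agent.Lib.Helper68.WidePBWP1
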